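import Cfsg.Agent.H4.Feit3
import Cfsg.Agent.S1509

set_option linter.all false
set_option autoImplicit false

/-! Frobenius partitions of groups of odd order: the data attached to one TI Frobenius subgroup. -/

namespace Cfsg.Agent.H4

open Module
open scoped ComplexConjugate Pointwise commutatorElement

universe u v w

section odd
variable {G : Type u} [Group G] [Fintype G]

theorem inner_conj_left (a b : G → ℂ) : classInner (conjFun a) b = conj (classInner a (conjFun b)) := by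
  rw [← inner_conj_conj, conj_conj_fun]

theorem odd_even_inner (hodd : Odd (Nat.card G)) {D D' : G → ℂ} (hD : IsGeneralizedCharacter G D) (hD' : IsGeneralizedCharacter G D')
    (hr : conjFun D = D) (hr' : conjFun D' = D') (h0 : classInner D (fun _ => 1) = 0) : ∃ n : ℤ, classInner D D' = 2 * n := by
  classical
  obtain ⟨m, hm, _⟩ := IsGenChar.exists_mult hD
  obtain ⟨m', hm', hx'⟩ := IsGenChar.exists_mult hD'
  let c : IrrCharacter G → IrrCharacter G := fun ψ => ⟨conjFun (ψ : G → ℂ), conj_irr ψ.2⟩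
  have hcc : ∀ ψ, c (c ψ) = ψ := fun ψ => Subtype.ext (conj_conj_fun _)
  have hfix : ∀ ψ, c ψ = ψ → (ψ : G → ℂ) = fun _ => 1 := fun ψ h => odd_real_one hodd ψ.2 (congrArg Subtype.val h)
  have hconj : ∀ {E : G → ℂ} (e : IrrCharacter G → ℤ), (∀ ψ : IrrCharacter G, classInner E (ψ : G → ℂ) = e ψ) → conjFun E = E → ∀ ψ, e (c ψ) = e ψ := by
    intro E e he hE ψ
    have h1 : classInner E (conjFun (ψ : G → ℂ)) = e (c ψ) := he (c ψ)
    have h2 : classInner (conjFun E) (conjFun (ψ : G → ℂ)) = conj (classInner E ψ) := inner_conj_conj _ _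
    rw [hE, h1, he] at h2
    have h3 : ((e (c ψ) : ℤ) : ℂ) = (e ψ : ℂ) := by rw [h2]; simp
    exact_mod_cast h3
  have hmc := hconj m hm hr
  have hmc' := hconj m' hm' hr'
  have key : ((∑ ψ : IrrCharacter G, m ψ * m' ψ : ℤ) : ZMod 2) = 0 := by
    push_cast
    apply Finset.sum_involution (fun ψ _ => c ψ)
    · intro ψ _
      rw [hmc, hmc', ← two_mul]
      have : (2 : ZMod 2) = 0 := rfl
      rw [this, zero_mul]
    · intro ψ _ hne heq
      apply hne
      have h1 := hfix ψ heq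
      have h2 := hm ψ
      rw [h1, h0] at h2
      have h3 : m ψ = 0 := by exact_mod_cast h2.symm
      rw [h3]; simp
    · intro ψ _; exact Finset.mem_univ _
    · intro ψ _; exact hcc ψ
  obtain ⟨n, hn⟩ := (ZMod.intCast_zmod_eq_zero_iff_dvd _ 2).mp key
  refine ⟨n, ?_⟩
  have hDD : D' = ∑ ψ : IrrCharacter G, (m' ψ : ℂ) • (ψ : G → ℂ) := by
    funext g
    rw [hx' g, Finset.sum_apply]
    apply Finset.sum_congr rfl
    intro ψ _
    rw [Pi.smul_apply, smul_eq_mul]
  rw [hDD, H5.classInner_sum_right]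
  have h4 : ∀ ψ : IrrCharacter G, classInner D ((m' ψ : ℂ) • (ψ : G → ℂ)) = ((m ψ * m' ψ : ℤ) : ℂ) := by
    intro ψ
    rw [H5.classInner_smul_right, hm]
    simp [mul_comm]
  rw [Finset.sum_congr rfl (fun ψ _ => h4 ψ), ← Int.cast_sum, hn]
  push_cast; rfl

/-- signed irreducible characters in odd order: the conjugate is different. -/
theorem signed_conj_perp (hodd : Odd (Nat.card G)) {X : G → ℂ} (hX : IsIrrCharacter G X ∨ IsIrrCharacter G (-X))
    (h1 : classInner X (fun _ => 1) = 0) : classInner (conjFun X) X = 0 := by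
  have hneg : ∀ Y : G → ℂ, conjFun (-Y) = - conjFun Y := by
    intro Y; funext g; simp [conjFun]
  have key : ∀ Y : G → ℂ, IsIrrCharacter G Y → classInner Y (fun _ => 1) = 0 → classInner (conjFun Y) Y = 0 := by
    intro Y hY hY1
    apply ii_ne (conj_irr hY) hY
    intro h
    have := odd_real_one hodd hY h
    rw [this] at hY1
    have h2 : classInner (fun _ : G => (1 : ℂ)) (fun _ => 1) = 1 := by
      rw [← this]; exact ii_self hY
    rw [hY1] at h2
    exact zero_ne_one h2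
  rcases hX with h | h
  · exact key X h h1
  · have h2 := key (-X) h (by rw [inner_neg_left, h1, neg_zero])
    rw [hneg, inner_neg_left, inner_neg_right, neg_neg] at h2
    exact h2

end odd

section gen
variable {L : Type u} [Group L] [Fintype L] {K : Subgroup L}

theorem const_of_prop {S : Set (L → ℂ)} (hS : S = {χ | IsIrrCharacter L χ ∧ ∃ z ∈ K, χ z ≠ χ 1}) {δ : L → ℂ} (hδ : IsClassFunction L δ) {c : ℂ}
    (h1 : ∀ χ ∈ S, classInner δ χ = c * χ 1) {z : L} (hz : z ∈ K) (hz1 : z ≠ 1) : δ 1 - δ z = c * Nat.card L := by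
  classical
  have e1 := H5.classFun_expansion_apply hδ 1
  have e2 := H5.classFun_expansion_apply hδ z
  rw [e1, e2, ← Finset.sum_sub_distrib]
  have h2 : ∀ χ : IrrCharacter L, classInner δ (χ : L → ℂ) * (χ : L → ℂ) 1 - classInner δ (χ : L → ℂ) * (χ : L → ℂ) z =
      c * ((χ : L → ℂ) 1 * (χ : L → ℂ) 1) - c * ((χ : L → ℂ) 1 * (χ : L → ℂ) z) := by
    intro χ
    by_cases hχ : (χ : L → ℂ) ∈ S
    · rw [h1 _ hχ]; ring
    · have h3 : (χ : L → ℂ) z = (χ : L → ℂ) 1 := by
        by_contra hne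
        apply hχ
        rw [hS]
        exact ⟨χ.2, z, hz, hne⟩
      rw [h3]; ring
  rw [Finset.sum_congr rfl (fun χ _ => h2 χ), Finset.sum_sub_distrib, ← Finset.mul_sum, ← Finset.mul_sum]
  have h4 := H5.sum_irr_one_mul (1 : L)
  have h5 := H5.sum_irr_one_mul z
  rw [if_pos rfl] at h4
  rw [if_neg hz1] at h5
  rw [h4, h5]; ring

theorem prop_of_perp {S : Set (L → ℂ)} (hirr : ∀ χ ∈ S, IsIrrCharacter L χ) {χ₀ : L → ℂ} (hχ₀ : χ₀ ∈ S) {δ : L → ℂ}
    (h : ∀ α ∈ zspanOn S {1}ᶜ, classInner δ α = 0) : ∀ χ ∈ S, classInner δ χ = classInner δ χ₀ / χ₀ 1 * χ 1 := by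
  intro χ hχ
  obtain ⟨d, hd, hd1⟩ := IsIrr.exists_degree (hirr χ hχ)
  obtain ⟨d₀, hd₀, hd₀1⟩ := IsIrr.exists_degree (hirr χ₀ hχ₀)
  have hd₀c : (d₀ : ℂ) ≠ 0 := by exact_mod_cast hd₀.ne'
  have hb : (d₀ : ℤ) • χ - (d : ℤ) • χ₀ ∈ zspanOn S {1}ᶜ := by
    rw [mem_zspanOn_one]
    refine ⟨zspan_sub (zspan_smul _ (zspan_mem hχ)) (zspan_smul _ (zspan_mem hχ₀)), ?_⟩
    rw [Pi.sub_apply, zs_apply, zs_apply, hd1, hd₀1]; push_cast; ring
  have e1 := h _ hb
  rw [H5.classInner_sub_right, zs_eq, zs_eq, H5.classInner_smul_right, H5.classInner_smul_right] at e1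
  simp only [Int.cast_natCast, map_natCast] at e1
  rw [hd1, hd₀1]
  field_simp
  linear_combination e1

/-- the permutation character of a normal subgroup. -/
theorem ind_one_normal (hK : K.Normal) (x : L) (hx : x ∈ K) : indFun K (fun _ => (1 : ℂ)) x = K.index := by
  have h : ∀ y : L, extendByZero K (fun _ => (1 : ℂ)) (y⁻¹ * x * y) = 1 := by
    intro y
    have : y⁻¹ * x * y ∈ K := by
      have := hK.conj_mem x hx y⁻¹
      rwa [inv_inv] at this
    rw [extendByZero_mem K _ this]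
  show (Nat.card K : ℂ)⁻¹ * ∑ y : L, extendByZero K (fun _ => (1 : ℂ)) (y⁻¹ * x * y) = _
  rw [Finset.sum_congr rfl (fun y _ => h y), Finset.sum_const, Finset.card_univ, nsmul_eq_mul, mul_one, ← Nat.card_eq_fintype_card,
    ← K.index_mul_card]
  push_cast
  have := card_ne_zero' K
  field_simp

end gen

end Cfsg.Agent.H4
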