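import Cfsg.Agent.H4.Feit3

set_option linter.all false
set_option autoImplicit false

/-! Feit's coherence theorem: the trivial-intersection versions. -/

namespace Cfsg.Agent.H4

open Module
open scoped ComplexConjugate Pointwise commutatorElement

universe u v w

section grp
variable {L : Type u} [Group L] [Fintype L] {K : Subgroup L}

theorem S_eq (hK : K.Normal) (hC : ∀ k ∈ K, k ≠ 1 → Subgroup.centralizer ({k} : Set L) ≤ K) :
    inducedIrrAbove K ⊥ = {χ | IsIrrCharacter L χ ∧ ∃ z ∈ K, χ z ≠ χ 1} := by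
  have hirrS : ∀ χ ∈ inducedIrrAbove K ⊥, IsIrrCharacter L χ := by
    rintro χ ⟨θ, h1, h2, _, rfl⟩
    exact induced_irr_of_cent hK hC θ h1 h2
  have h1 := diff_eq_XZ hK hK
  have h2 : inducedIrrAbove K K = ∅ := by
    rw [Set.eq_empty_iff_forall_notMem]
    rintro χ ⟨θ, h1, h2, h3, rfl⟩
    apply h2
    -- θ is constant on K
    have h4 : ∀ k : K, θ k = θ 1 := fun k => h3 k k.2
    obtain ⟨lam, hl⟩ := linear_of_comm_ker h1 (fun x y => h4 _)
    funext k
    rw [h4 k, hl]
    simp
  rw [h2, Set.diff_empty] at h1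
  rw [h1]
  exact XZ_eq_irr hK hK le_rfl (by rw [← h1]; exact hirrS)

theorem one_of_card (hK : K.Normal) (hC : ∀ k ∈ K, k ≠ 1 → Subgroup.centralizer ({k} : Set L) ≤ K) (hKt : K ≠ ⊤)
    (hab : ⁅K, K⁆ = ⊥) (hcard : Nat.card K = K.index + 1) : Nat.card (inducedIrrAbove K ⊥) = 1 := by
  classical
  haveI := hK
  have hirrS : ∀ χ ∈ inducedIrrAbove K ⊥, IsIrrCharacter L χ := by
    rintro χ ⟨θ, h1, h2, _, rfl⟩
    exact induced_irr_of_cent hK hC θ h1 h2
  have hfA : (inducedIrrAbove K ⊥).Finite := finite_irr_set _ hirrS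
  have h1 := above_card hK hC (A := ⊥) inferInstance (fun x hx y hy => by
    rw [← hab]; exact Subgroup.commutator_mem_commutator hx hy) hfA.toFinset hfA.coe_toFinset
  rw [Subgroup.relIndex_bot_left, hcard, Nat.add_sub_cancel] at h1
  have he : 0 < K.index := Nat.pos_of_ne_zero Subgroup.index_ne_zero_of_finite
  have h2 : hfA.toFinset.card = 1 := Nat.eq_of_mul_eq_mul_left he (by rw [h1, mul_one])
  rw [Nat.card_coe_set_eq, Set.ncard_eq_toFinset_card _ hfA, h2]

theorem elem_of_card (hK : K.Normal) (hC : ∀ k ∈ K, k ≠ 1 → Subgroup.centralizer ({k} : Set L) ≤ K) (hK1 : K ≠ ⊥)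
    (hab : ⁅K, K⁆ = ⊥) (hcard : Nat.card K = K.index + 1) : ∃ q : ℕ, q.Prime ∧ (∀ a ∈ K, ∀ b ∈ K, a * b = b * a) ∧ ∀ k ∈ K, k ^ q = 1 := by
  classical
  have hcomm : ∀ a ∈ K, ∀ b ∈ K, a * b = b * a := by
    intro a ha b hb
    have h1 : ⁅a, b⁆ ∈ (⊥ : Subgroup L) := by rw [← hab]; exact Subgroup.commutator_mem_commutator ha hb
    rw [Subgroup.mem_bot, commutatorElement_def] at h1
    have : a * b = (a * b * a⁻¹ * b⁻¹) * (b * a) := by group
    rw [this, h1, one_mul]
  have h2 : 1 < Nat.card K := Subgroup.one_lt_card_iff_ne_bot K |>.mpr hK1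
  obtain ⟨q, hq, hqd⟩ := Nat.exists_prime_and_dvd h2.ne'
  haveI : Fact q.Prime := ⟨hq⟩
  obtain ⟨x, hx⟩ := exists_prime_orderOf_dvd_card' (G := K) q hqd
  refine ⟨q, hq, hcomm, ?_⟩
  have hx1 : (x : L) ≠ 1 := by
    intro h0
    have : x = 1 := Subtype.ext h0
    rw [this, orderOf_one] at hx
    exact hq.one_lt.ne hx
  have hcx : Subgroup.centralizer ({(x : L)} : Set L) = K := by
    apply le_antisymm (hC x x.2 hx1)
    intro k hk
    rw [Subgroup.mem_centralizer_singleton_iff]
    exact hcomm k hk x x.2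
  -- the conjugacy class of x
  have hsub : (MulAction.orbit (ConjAct L) (x : L)) ⊆ (K : Set L) \ {1} := by
    rintro _ ⟨g, rfl⟩
    refine ⟨?_, ?_⟩
    · show g • (x : L) ∈ K
      rw [ConjAct.smul_def]
      exact hK.conj_mem _ x.2 _
    · intro h
      apply hx1
      have h3 : g • (x : L) = 1 := h
      rw [ConjAct.smul_def] at h3
      have h4 : (x : L) = (ConjAct.ofConjAct g)⁻¹ * (ConjAct.ofConjAct g * x * (ConjAct.ofConjAct g)⁻¹) * ConjAct.ofConjAct g := by group
      rw [h4, h3]; group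
  have hcard1 : Nat.card (MulAction.orbit (ConjAct L) (x : L)) = K.index := by
    have h0 : Nat.card (MulAction.orbit (ConjAct L) (x : L)) = (Subgroup.centralizer ({(x : L)} : Set L)).index := by
      rw [← Nat.card_congr (MulAction.orbitEquivQuotientStabilizer (ConjAct L) (x : L)).symm, ← Subgroup.index_eq_card]
      have h5 : MulAction.stabilizer (ConjAct L) (x : L) = Subgroup.centralizer {ConjAct.toConjAct (x : L)} := ConjAct.stabilizer_eq_centralizer _
      rw [h5]
      rfl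
    rw [h0, hcx]
  have hcard2 : Nat.card ((K : Set L) \ {1} : Set L) = K.index := by
    rw [Nat.card_coe_set_eq, Set.ncard_diff_singleton_of_mem K.one_mem, ← Nat.card_coe_set_eq]
    have : Nat.card (K : Set L) = Nat.card K := rfl
    rw [this, hcard]; rfl
  have heq : MulAction.orbit (ConjAct L) (x : L) = (K : Set L) \ {1} := by
    apply Set.eq_of_subset_of_ncard_le hsub _ (Set.toFinite _)
    rw [← Nat.card_coe_set_eq, ← Nat.card_coe_set_eq, hcard1, hcard2]
  intro k hk
  by_cases hk1 : k = 1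
  · rw [hk1, one_pow]
  have h6 : k ∈ MulAction.orbit (ConjAct L) (x : L) := by rw [heq]; exact ⟨hk, hk1⟩
  obtain ⟨g, hg⟩ := h6
  have hg' : g • (x : L) = k := hg
  rw [← hg', ← smul_pow']
  have h7 : (x : L) ^ q = 1 := by
    have := congrArg Subtype.val (pow_orderOf_eq_one x)
    rw [hx] at this
    exact this
  rw [h7, smul_one]

end grp

section ti
variable {G : Type u} [Group G] [Fintype G]

theorem feit_ti (H L : Subgroup G) [Fintype L] (hL : Subgroup.normalizer (H : Set G) = L)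
    (hTI : IsTISubset (H : Set G)) (K : Subgroup L) (hKdef : K = H.subgroupOf L)
    (hC : ∀ k ∈ K, k ≠ 1 → Subgroup.centralizer ({k} : Set L) ≤ K) (hK1 : K ≠ ⊥) (hKt : K ≠ ⊤) (hnil : Group.IsNilpotent K) :
    (Nat.card K = K.index + 1 ∧ ⁅K, K⁆ = ⊥) ∨ (IsPGroup 2 K ∧ (⁅K, K⁆).relIndex K < 4 * K.index ^ 2) ∨
    IsCoherent (inducedIrrAbove K ⊥) {1}ᶜ (fun α : L → ℂ => indFun L α) := by
  classical
  have hHL : H ≤ L := by rw [← hL]; exact Subgroup.le_normalizer
  have hmK : ∀ x : L, x ∈ K ↔ (x : G) ∈ H := fun x => by rw [hKdef]; exact Subgroup.mem_subgroupOf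
  have hK : K.Normal := by
    refine ⟨fun k hk x => ?_⟩
    rw [hmK] at hk ⊢
    have hx : (x : G) ∈ Subgroup.normalizer (H : Set G) := by rw [hL]; exact x.2
    exact (Subgroup.mem_normalizer_iff.mp hx _).mp hk
  haveI := hK
  have hirrS : ∀ χ ∈ inducedIrrAbove K ⊥, IsIrrCharacter L χ := by
    rintro χ ⟨θ, h1, h2, _, rfl⟩
    exact induced_irr_of_cent hK hC θ h1 h2
  obtain ⟨hiso, hvan⟩ := ti_iso H L hL hTI (inducedIrrAbove K ⊥) (fun χ hχ => IsIrr.isCharacter (hirrS χ hχ))
    (by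
      rintro χ ⟨θ, _, _, _, rfl⟩ x hx
      exact ind_vanish_off hK θ (fun h => hx ((hmK x).mp h)))
  rcases feit_nil hK hC hnil hK1 hKt hiso hvan with h | ⟨p, hp, hpK, hnab, hle⟩ | h
  · left; exact h
  · have hodd := odd_of_nonab hK hC hnab
    haveI : Fact p.Prime := ⟨hp⟩
    by_cases hp2 : p = 2
    · subst hp2
      right; left
      refine ⟨hpK, ?_⟩
      have he1 : K.index ≠ 1 := fun h => hKt (Subgroup.index_eq_one.mp h)
      obtain ⟨m, hm⟩ := hodd
      obtain ⟨n, hn⟩ := (hpK.to_quotient ((⁅K, K⁆).subgroupOf K)).exists_card_eq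
      have hidx : (⁅K, K⁆).relIndex K = 2 ^ n := by
        rw [← hn]; exact Subgroup.index_eq_card _
      rw [hidx] at hle ⊢
      have hm1 : 1 ≤ m := by omega
      rcases Nat.lt_or_ge (2 ^ n) (4 * K.index ^ 2) with h | h
      · exact h
      · exfalso
        have h2n : 2 ^ n = 4 * K.index ^ 2 ∨ 2 ^ n = 4 * K.index ^ 2 + 1 := by omega
        rcases n with _ | _ | n
        · rw [hm] at h2n; simp at h2n
          nlinarith
        · rw [hm] at h2n; simp at h2n
          nlinarith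
        · have hpow : 2 ^ (n + 2) = 4 * 2 ^ n := by ring
          have h4 : 2 ^ n = K.index ^ 2 := by omega
          have hodd2 : Odd (2 ^ n) := by
            rw [h4]; exact Odd.pow ⟨m, hm⟩
          rcases n with _ | n
          · rw [hm] at h4
            nlinarith
          · rw [Nat.odd_iff, pow_succ, Nat.mul_mod_left] at hodd2
            exact absurd hodd2 (by norm_num)
    · right; right
      apply sibley H L hL _ hTI K hKdef hC hK1 hnil
      rw [← K.index_mul_card]
      refine hodd.mul ?_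
      obtain ⟨n, hn⟩ := hpK.exists_card_eq
      rw [hn]
      exact (hp.odd_of_ne_two hp2).pow
  · right; right; exact h

end ti

end Cfsg.Agent.H4
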