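import Cfsg.Agent.H4.CN1
import Cfsg.Agent.H4.Feit4

set_option linter.all false
set_option autoImplicit false

/-! Frobenius partitions of groups of odd order: the data attached to one TI Frobenius subgroup. -/

namespace Cfsg.Agent.H4

open Module
open scoped ComplexConjugate Pointwise commutatorElement

universe u v w

/-- `f` vanishes off the conjugates of `H \ {1}` -/
def VanOff {G : Type u} [Group G] (H : Subgroup G) (f : G → ℂ) : Prop := ∀ g, (∀ x ∈ H, x ≠ 1 → ∀ y, y * x * y⁻¹ ≠ g) → f g = 0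

theorem vanOff_ind {G : Type u} [Group G] [Fintype G] {H L : Subgroup G} {α : L → ℂ} (h1 : ∀ x : L, (x : G) ∉ H → α x = 0) (h2 : α 1 = 0) :
    VanOff H (indFun L α) := by
  intro g hg
  show (Nat.card L : ℂ)⁻¹ * ∑ y : G, extendByZero L α (y⁻¹ * g * y) = _
  rw [Finset.sum_eq_zero, mul_zero]
  intro y _
  by_cases hy : y⁻¹ * g * y ∈ L
  · rw [extendByZero_mem L _ hy]
    by_cases hH : y⁻¹ * g * y ∈ H
    · by_cases h1' : y⁻¹ * g * y = 1
      · have : (⟨y⁻¹ * g * y, hy⟩ : L) = 1 := Subtype.ext h1'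
        rw [this, h2]
      · exfalso
        apply hg _ hH h1' y
        group
    · exact h1 _ hH
  · exact extendByZero_not_mem L _ hy

theorem vanOff_inner {G : Type u} [Group G] [Fintype G] {H H' : Subgroup G} (hc : Nat.Coprime (Nat.card H) (Nat.card H')) {f g : G → ℂ}
    (hf : VanOff H f) (hg : VanOff H' g) : classInner f g = 0 := by
  rw [H5.classInner_def, Finset.sum_eq_zero, mul_zero]
  intro z _
  by_contra hne
  have hfz : f z ≠ 0 := fun h => hne (by rw [h, zero_mul])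
  have hgz : g z ≠ 0 := fun h => hne (by rw [h, map_zero, mul_zero])
  have h1 : ∃ x ∈ H, x ≠ 1 ∧ ∃ y, y * x * y⁻¹ = z := by
    by_contra hcon
    push Not at hcon
    exact hfz (hf z (fun x hx hx1 y hy => (hcon x hx hx1 y hy)))
  have h2 : ∃ x ∈ H', x ≠ 1 ∧ ∃ y, y * x * y⁻¹ = z := by
    by_contra hcon
    push Not at hcon
    exact hgz (hg z (fun x hx hx1 y hy => (hcon x hx hx1 y hy)))
  obtain ⟨x, hx, hx1, y, hy⟩ := h1
  obtain ⟨x', hx', hx1', y', hy'⟩ := h2
  have hord : ∀ (x z : G), orderOf (x * z * x⁻¹) = orderOf z := by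
    intro x z
    have := MulEquiv.orderOf_eq (MulAut.conj x) z
    simpa [MulAut.conj_apply] using this
  have e1 : orderOf x = orderOf x' := by rw [← hord y x, hy, ← hy', hord]
  have h4 : orderOf x ∣ Nat.card H := Subgroup.orderOf_dvd_natCard _ hx
  have h5 : orderOf x ∣ Nat.card H' := by rw [e1]; exact Subgroup.orderOf_dvd_natCard _ hx'
  have h7 := Nat.eq_one_of_dvd_coprimes hc h4 h5
  exact hx1 (orderOf_eq_one_iff.mp h7)

/-- the sum over the nonidentity elements of a subgroup. -/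
noncomputable def sumS {G : Type u} [Group G] [Fintype G] (H : Subgroup G) (f : G → ℂ) : ℂ :=
  ∑ x : G, (open Classical in if x ∈ H ∧ x ≠ 1 then f x else 0)

theorem sumS_eq {G : Type u} [Group G] [Fintype G] {H L : Subgroup G} [Fintype L] (hHL : H ≤ L) {K : Subgroup L} [Fintype K] (hK : K = H.subgroupOf L) (f : G → ℂ) :
    sumS H f = ∑ k : K, f ((k : L) : G) - f 1 := by
  classical
  have h1 : ∑ k : K, f ((k : L) : G) = ∑ x : G, if x ∈ H then f x else 0 := by
    rw [sum_subgroup_eq K (fun l : L => f (l : G))]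
    have h2 := sum_subgroup_eq L (fun g : G => if g ∈ H then f g else 0)
    have h3 : ∑ g : L, (if g ∈ K then f (g : G) else 0) = ∑ h : L, (if (h : G) ∈ H then f (h : G) else 0) := by
      apply Finset.sum_congr rfl
      intro l _
      have : l ∈ K ↔ (l : G) ∈ H := by rw [hK]; exact Subgroup.mem_subgroupOf
      simp only [this]
    rw [h3, h2]
    apply Finset.sum_congr rfl
    intro g _
    by_cases hg : g ∈ H
    · rw [if_pos (hHL hg)]
    · rw [if_neg hg]; simp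
  rw [h1]
  have h4 : f 1 = ∑ x : G, if x = 1 then f x else 0 := by simp
  rw [h4, ← Finset.sum_sub_distrib]
  unfold sumS
  apply Finset.sum_congr rfl
  intro x _
  by_cases hx : x ∈ H
  · by_cases hx1 : x = 1
    · subst hx1; simp [H.one_mem]
    · simp [hx, hx1]
  · have : x ≠ 1 := fun h => hx (h ▸ H.one_mem)
    simp [hx, this]

/-- the data attached to one Frobenius subgroup. -/
structure FD (G : Type u) [Group G] [Fintype G] (H : Subgroup G) (e : ℕ) where
  T : Finset (G → ℂ)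
  r : (G → ℂ) → ℤ
  t₀ : G → ℂ
  β : G → ℂ
  a : ℤ
  mem : t₀ ∈ T
  r_one : r t₀ = 1
  signed : ∀ t ∈ T, IsIrrCharacter G t ∨ IsIrrCharacter G (-t)
  orth : ∀ t ∈ T, ∀ s ∈ T, t ≠ s → classInner t s = 0
  orth_one : ∀ t ∈ T, classInner t (fun _ => 1) = 0
  pair : ∀ t ∈ T, ∃ s ∈ T, t ≠ s ∧ t 1 = s 1 ∧ VanOff H (t - s)
  van : ∀ t ∈ T, VanOff H ((r t : ℂ) • t₀ - t)
  sum_sq : (∑ t ∈ T, (r t) ^ 2) * e = Nat.card H - 1
  gen : IsGeneralizedCharacter G β
  norm : classInner β β = e + 1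
  one : classInner β (fun _ => 1) = 1
  vanb : VanOff H β
  real : conjFun (β + t₀) = β + t₀
  inner : ∀ t ∈ T, classInner β t = (a : ℂ) * r t - (open Classical in if t = t₀ then 1 else 0)
  sumH : sumS H (fun x => t₀ x * conj (t₀ x)) = Nat.card H * ((e : ℂ) + (a : ℂ) ^ 2) - ((e : ℂ) + a) ^ 2
  const : ∀ μ : G → ℂ, (IsIrrCharacter G μ ∨ IsIrrCharacter G (-μ)) → (∀ t ∈ T, classInner μ t = 0) → ∀ x ∈ H, x ≠ 1 → μ x = classInner β μ

section main
variable {G : Type u} [Group G] [Fintype G]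

theorem frob_data (hodd : Odd (Nat.card G)) (H L : Subgroup G) [Fintype L] (hL : Subgroup.normalizer (H : Set G) = L)
    (hTI : IsTISubset (H : Set G)) (K : Subgroup L) (hKdef : K = H.subgroupOf L)
    (hC : ∀ k ∈ K, k ≠ 1 → Subgroup.centralizer ({k} : Set L) ≤ K) (hK1 : K ≠ ⊥) (hKt : K ≠ ⊤) : Nonempty (FD G H K.index) := by
  classical
  have hHL : H ≤ L := by rw [← hL]; exact Subgroup.le_normalizer
  have hmK : ∀ x : L, x ∈ K ↔ (x : G) ∈ H := fun x => by rw [hKdef]; exact Subgroup.mem_subgroupOf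
  have hK : K.Normal := by
    refine ⟨fun k hk x => ?_⟩
    rw [hmK] at hk ⊢
    have hx : (x : G) ∈ Subgroup.normalizer (H : Set G) := by rw [hL]; exact x.2
    exact (Subgroup.mem_normalizer_iff.mp hx _).mp hk
  haveI := hK
  have hnil := nil_of_cent hK hC hKt
  haveI : Group.IsNilpotent K := hnil
  have hsolv : Group.IsSolvable K := inferInstance
  have hcardK : Nat.card K = Nat.card H := by rw [hKdef]; exact card_subgroupOf_of_le hHL
  have hoddL : Odd (Nat.card L) := hodd.of_dvd_nat (Subgroup.card_subgroup_dvd_card L)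
  have heN : K.index ≠ 0 := Subgroup.index_ne_zero_of_finite
  have he0 : (K.index : ℂ) ≠ 0 := by exact_mod_cast heN
  set S := inducedIrrAbove K ⊥ with hSdef
  have hirrS : ∀ χ ∈ S, IsIrrCharacter L χ := by
    rintro χ ⟨θ, h1, h2, _, rfl⟩
    exact induced_irr_of_cent hK hC θ h1 h2
  have hSeq : S = {χ | IsIrrCharacter L χ ∧ ∃ z ∈ K, χ z ≠ χ 1} := S_eq hK hC
  have hfS : S.Finite := finite_irr_set S hirrS
  obtain ⟨_, τ₁, hτ₁, hag⟩ := sibley H L hL hoddL hTI K hKdef hC hK1 hnil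
  have hI := isoOn_span hτ₁
  -- the linear character
  obtain ⟨θ₀, hθ₀, hθ₀1, _, hθ₀d⟩ := exists_linear_above (A := (⊥ : Subgroup L)) hsolv (by rw [Subgroup.bot_subgroupOf]; infer_instance) (bot_lt_iff_ne_bot.mpr hK1)
  have hχ₀ : indFun K θ₀ ∈ S := ⟨θ₀, hθ₀, hθ₀1, fun a ha => by
    rw [Subgroup.mem_bot] at ha
    rw [show a = 1 from Subtype.ext ha], rfl⟩
  set χ₀ := indFun K θ₀ with hχ₀def
  have hχ₀1 : χ₀ 1 = K.index := by rw [hχ₀def, indFun_one, hθ₀d, mul_one]
  set π := indFun K (fun _ : K => (1 : ℂ)) with hπ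
  have hπ1 : π 1 = K.index := by rw [hπ, indFun_one, mul_one]
  have hone_char : IsCharacter K (fun _ => (1 : ℂ)) := isCharacter_one
  have hone_irr : IsIrrCharacter K (fun _ => (1 : ℂ)) := H5.isIrrCharacter_trivial
  have hone_cl : IsClassFunction K (fun _ => (1 : ℂ)) := IsChar.isClassFunction hone_char
  have hπchar : IsCharacter L π := IsChar.induce K _ hone_char
  -- the inner products with π
  have hπχ : ∀ χ ∈ S, classInner π χ = 0 := by
    rintro χ ⟨θ, h1, h2, _, rfl⟩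
    rw [frobenius_reciprocity' K _ _ (IsChar.isClassFunction hπchar)]
    have e1 : (fun k : K => π k) = (K.index : ℂ) • (fun _ : K => (1 : ℂ)) := by
      funext k
      rw [Pi.smul_apply, smul_eq_mul, mul_one]
      exact ind_one_normal hK k k.2
    rw [e1, H5.classInner_smul_left, ii_ne hone_irr h1 (Ne.symm h2), mul_zero]
  have hχπ : ∀ χ ∈ S, classInner χ π = 0 := by
    intro χ hχ
    rw [classInner_comm', hπχ χ hχ, map_zero]
  have hππ : classInner π π = K.index := by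
    rw [hπ, frobenius_reciprocity' K _ _ (IsChar.isClassFunction hπchar)]
    have e1 : (fun k : K => π k) = (K.index : ℂ) • (fun _ : K => (1 : ℂ)) := by
      funext k
      rw [Pi.smul_apply, smul_eq_mul, mul_one]
      exact ind_one_normal hK k k.2
    rw [e1, H5.classInner_smul_left, ii_self hone_irr, mul_one]
  have hπone : classInner π (fun _ : L => (1 : ℂ)) = 1 := by
    rw [hπ, frobenius_reciprocity K _ (fun _ : L => (1 : ℂ)) (fun _ _ => rfl)]
    exact ii_self hone_irr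
  have hone_irrL : IsIrrCharacter L (fun _ => (1 : ℂ)) := H5.isIrrCharacter_trivial
  have hone_irrG : IsIrrCharacter G (fun _ => (1 : ℂ)) := H5.isIrrCharacter_trivial
  have hSone : ∀ χ ∈ S, classInner χ (fun _ : L => (1 : ℂ)) = 0 := by
    intro χ hχ
    exact ii_ne (hirrS χ hχ) hone_irrL (above_ne_one hK hχ)
  -- isometry on the larger set
  obtain ⟨hiso, hvan⟩ := ti_iso H L hL hTI (S ∪ {π}) (by
      rintro χ (hχ | hχ)
      · exact IsIrr.isCharacter (hirrS χ hχ)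
      · rw [Set.mem_singleton_iff.mp hχ]; exact hπchar)
    (by
      rintro χ (⟨θ, _, _, _, rfl⟩ | hχ) x hx
      · exact ind_vanish_off hK θ (fun h => hx ((hmK x).mp h))
      · rw [Set.mem_singleton_iff.mp hχ]
        exact ind_vanish_off hK _ (fun h => hx ((hmK x).mp h)))
  have hvS : ∀ α ∈ zspan (S ∪ {π}), ∀ x : L, (x : G) ∉ H → α x = 0 := by
    intro α hα x hx
    apply zspan_vanish _ hα
    rintro χ (⟨θ, _, _, _, rfl⟩ | hχ)
    · exact ind_vanish_off hK θ (fun h => hx ((hmK x).mp h))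
    · rw [Set.mem_singleton_iff.mp hχ]
      exact ind_vanish_off hK _ (fun h => hx ((hmK x).mp h))
  have hsub : S ⊆ S ∪ {π} := Set.subset_union_left
  set ξ := π - χ₀ with hξ
  have hξm : ξ ∈ zspanOn (S ∪ {π}) {1}ᶜ := by
    rw [mem_zspanOn_one]
    refine ⟨zspan_sub (zspan_mem (Set.mem_union_right _ rfl)) (zspan_mem (hsub hχ₀)), ?_⟩
    rw [hξ, Pi.sub_apply, hπ1, hχ₀1, sub_self]
  set β := indFun L ξ with hβ
  have hβξ : ∀ α ∈ zspanOn S {1}ᶜ, classInner β (indFun L α) = - classInner χ₀ α := by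
    intro α hα
    rw [hβ]
    have h1 := hiso.2.2.1 ξ hξm α (zspanOn_mono hsub hα)
    have h2 : classInner (indFun L ξ) (indFun L α) = classInner ξ α := h1
    rw [h2, hξ, H5.classInner_sub_left]
    have h3 : classInner π α = 0 := by
      refine zspan_induction (S := S) (p := fun α => classInner π α = 0) hπχ (H5.classInner_zero_right _) ?_ ?_ ((mem_zspanOn_one _ _).mp hα).1
      · intro a b _ _ ha hb; rw [H5.classInner_add_right, ha, hb, add_zero]
      · intro n a _ ha; rw [zs_eq, H5.classInner_smul_right, ha, mul_zero]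
    rw [h3, zero_sub]
  have hξcl : IsClassFunction L ξ := by
    rw [hξ]
    intro g x
    rw [Pi.sub_apply, Pi.sub_apply, IsChar.isClassFunction hπchar, IsIrr.isClassFunction (hirrS _ hχ₀)]
  -- Frobenius reciprocity for β
  have hβμ : ∀ μ : G → ℂ, IsClassFunction G μ → classInner β μ = classInner ξ (fun l : L => μ l) := fun μ hμ => frobenius_reciprocity L ξ μ hμ
  -- signed characters
  have hsigned : ∀ χ ∈ S, IsIrrCharacter G (τ₁ χ) ∨ IsIrrCharacter G (-τ₁ χ) := fun χ hχ => iso_signed hI (zspan_mem hχ) (hirrS χ hχ)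
  have hττ : ∀ χ ∈ S, ∀ ψ ∈ S, classInner (τ₁ χ) (τ₁ ψ) = classInner χ ψ := fun χ hχ ψ hψ => hI.inner _ (zspan_mem hχ) _ (zspan_mem hψ)
  have hinj : ∀ χ ∈ S, ∀ ψ ∈ S, τ₁ χ = τ₁ ψ → χ = ψ := by
    intro χ hχ ψ hψ h
    by_contra hne
    have h1 := hττ χ hχ ψ hψ
    rw [ii_ne (hirrS χ hχ) (hirrS ψ hψ) hne, h, hττ ψ hψ ψ hψ, ii_self (hirrS ψ hψ)] at h1
    exact one_ne_zero h1
  have hconjS : ∀ χ ∈ S, conjFun χ ∈ S ∧ conjFun χ ≠ χ := by
    intro χ hχ
    exact ⟨above_conj hχ, fun h => above_ne_one hK hχ (odd_real_one hoddL (hirrS χ hχ) h)⟩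
  have hdiff : ∀ χ ∈ S, χ - conjFun χ ∈ zspanOn S {1}ᶜ := by
    intro χ hχ
    rw [mem_zspanOn_one]
    refine ⟨zspan_sub (zspan_mem hχ) (zspan_mem (hconjS χ hχ).1), ?_⟩
    rw [Pi.sub_apply, degree_char_conj (IsIrr.isCharacter (hirrS χ hχ)), sub_self]
  have hτdiff : ∀ χ ∈ S, τ₁ χ - τ₁ (conjFun χ) = indFun L (χ - conjFun χ) := by
    intro χ hχ
    rw [← hI.sub (zspan_mem hχ) (zspan_mem (hconjS χ hχ).1)]
    exact hag _ (hdiff χ hχ)
  have hind_one : ∀ α ∈ zspanOn S {1}ᶜ, classInner (indFun L α) (fun _ : G => (1 : ℂ)) = 0 := by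
    intro α hα
    rw [frobenius_reciprocity L _ (fun _ : G => (1 : ℂ)) (fun _ _ => rfl)]
    refine zspan_induction (S := S) (p := fun α => classInner α (fun _ : L => (1 : ℂ)) = 0) hSone (H5.classInner_zero_left _) ?_ ?_ ((mem_zspanOn_one _ _).mp hα).1
    · intro a b _ _ ha hb; rw [H5.classInner_add_left, ha, hb, add_zero]
    · intro n a _ ha; rw [zs_eq, H5.classInner_smul_left, ha, mul_zero]
  have hτone : ∀ χ ∈ S, classInner (τ₁ χ) (fun _ : G => (1 : ℂ)) = 0 := by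
    intro χ hχ
    by_contra hne
    have h1 := hind_one _ (hdiff χ hχ)
    rw [← hτdiff χ hχ, H5.classInner_sub_left, sub_eq_zero] at h1
    have h2 := signed_pair (hsigned χ hχ) (Or.inl hone_irrG) hne
    have h3 := signed_pair (hsigned _ (hconjS χ hχ).1) (Or.inl hone_irrG) (by rw [← h1]; exact hne)
    have h4 : classInner (τ₁ χ) (τ₁ (conjFun χ)) = 0 := by
      rw [hττ χ hχ _ (hconjS χ hχ).1]
      exact ii_ne (hirrS χ hχ) (hirrS _ (hconjS χ hχ).1) (Ne.symm (hconjS χ hχ).2)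
    have h5 : τ₁ χ = τ₁ (conjFun χ) := by
      rcases h2 with ⟨e1, i1⟩ | ⟨e1, i1⟩ <;> rcases h3 with ⟨e2, i2⟩ | ⟨e2, i2⟩
      · rw [e1, e2]
      · rw [h1, i2] at i1; norm_num at i1
      · rw [h1, i2] at i1; norm_num at i1
      · rw [e1, e2]
    rw [← h5, hττ χ hχ χ hχ, ii_self (hirrS χ hχ)] at h4
    exact one_ne_zero h4
  have hconjτ : ∀ χ ∈ S, conjFun (τ₁ χ) = τ₁ (conjFun χ) := by
    intro χ hχ
    have h1 := hτdiff χ hχ
    have h2 : conjFun (τ₁ χ) - conjFun (τ₁ (conjFun χ)) = τ₁ (conjFun χ) - τ₁ χ := by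
      have e1 : conjFun (τ₁ χ) - conjFun (τ₁ (conjFun χ)) = conjFun (τ₁ χ - τ₁ (conjFun χ)) := by
        funext g; simp [conjFun]
      have e2 : conjFun (χ - conjFun χ) = -(χ - conjFun χ) := by
        funext g; simp [conjFun]
      rw [e1, h1, ← ind_conjFun, e2, indFun_neg, ← h1]; abel
    have h3 : classInner (conjFun (τ₁ χ)) (τ₁ χ) = 0 := signed_conj_perp hodd (hsigned χ hχ) (hτone χ hχ)
    have h4 : classInner (conjFun (τ₁ χ)) (conjFun (τ₁ (conjFun χ))) = 0 := by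
      rw [inner_conj_conj, hττ χ hχ _ (hconjS χ hχ).1, ii_ne (hirrS χ hχ) (hirrS _ (hconjS χ hχ).1) (Ne.symm (hconjS χ hχ).2), map_zero]
    have h5 : classInner (conjFun (τ₁ χ)) (conjFun (τ₁ χ)) = 1 := by
      rw [inner_conj_conj, hττ χ hχ χ hχ, ii_self (hirrS χ hχ), map_one]
    have h6 : classInner (conjFun (τ₁ χ)) (τ₁ (conjFun χ)) = 1 := by
      have := congrArg (fun f => classInner (conjFun (τ₁ χ)) f) h2
      simp only [H5.classInner_sub_right] at this
      rw [h3, h4, h5] at this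
      linear_combination -this
    have hsc : IsIrrCharacter G (conjFun (τ₁ χ)) ∨ IsIrrCharacter G (-conjFun (τ₁ χ)) := by
      rcases hsigned χ hχ with h | h
      · left; exact conj_irr h
      · right
        have e1 : -conjFun (τ₁ χ) = conjFun (-τ₁ χ) := by funext g; simp [conjFun]
        rw [e1]; exact conj_irr h
    rcases signed_pair hsc (hsigned _ (hconjS χ hχ).1) (by rw [h6]; exact one_ne_zero) with ⟨e1, _⟩ | ⟨_, i1⟩
    · exact e1
    · rw [h6] at i1; norm_num at i1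
  have hξone : classInner ξ (fun _ : L => (1 : ℂ)) = 1 := by
    rw [hξ, H5.classInner_sub_left, hπone, hSone χ₀ hχ₀, sub_zero]
  have hξχ₀ : classInner ξ χ₀ = -1 := by
    rw [hξ, H5.classInner_sub_left, hπχ χ₀ hχ₀, ii_self (hirrS χ₀ hχ₀), zero_sub]
  have hξ1 : ξ 1 = 0 := ((mem_zspanOn_one _ _).mp hξm).2
  have hpc : ∀ (μ : G → ℂ) (φ : L → ℂ) (m : ℂ), IsClassFunction G μ → (∀ x ∈ K, x ≠ 1 → μ x = φ x + m) → classInner β μ = classInner ξ φ + conj m := by
    intro μ φ m hμ hx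
    rw [hβμ μ hμ]
    have e1 : classInner ξ φ + conj m = classInner ξ (φ + m • (fun _ : L => (1 : ℂ))) := by
      rw [H5.classInner_add_right, H5.classInner_smul_right, hξone, mul_one]
    rw [e1, H5.classInner_def, H5.classInner_def]
    congr 1
    apply Finset.sum_congr rfl
    intro x _
    by_cases hxK : x ∈ K
    · by_cases hx1 : x = 1
      · rw [hx1, hξ1]; simp
      · rw [hx x hxK hx1]; simp
    · rw [hvS ξ ((mem_zspanOn_one _ _).mp hξm).1 x (fun h => hxK ((hmK x).mpr h))]; simp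
  have hβgen : IsGeneralizedCharacter G β := hiso.2.2.2 ξ hξm
  have hreal_int : ∀ n : ℤ, conj (n : ℂ) = n := fun n => by simp
  -- the constant values
  have hconst : ∀ μ : G → ℂ, (IsIrrCharacter G μ ∨ IsIrrCharacter G (-μ)) → (∀ χ ∈ S, classInner μ (τ₁ χ) = 0) → ∀ x ∈ H, x ≠ 1 → μ x = classInner β μ := by
    intro μ hμ hperp x hx hx1
    have hμgen : IsGeneralizedCharacter G μ := by
      rcases hμ with h | h
      · exact ⟨μ, 0, IsIrr.isCharacter h, isCharacter_zero, by simp⟩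
      · exact ⟨0, -μ, isCharacter_zero, IsIrr.isCharacter h, by simp⟩
    have hμcl : IsClassFunction G μ := by
      rcases hμ with h | h
      · exact IsIrr.isClassFunction h
      · intro g y
        have := IsIrr.isClassFunction h g y
        simpa using this
    have hp : ∀ α ∈ zspan S, classInner μ (τ₁ α) = 0 := by
      intro α hα
      refine zspan_induction (S := S) (p := fun α => classInner μ (τ₁ α) = 0) hperp ?_ ?_ ?_ hα
      · rw [hI.zero]; exact H5.classInner_zero_right _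
      · intro a b ha' hb' ha hb; rw [hI.add _ ha' _ hb', H5.classInner_add_right, ha, hb, add_zero]
      · intro n a ha' ha; rw [hI.smul _ ha' n, zs_eq, H5.classInner_smul_right, ha, mul_zero]
    have hclL : IsClassFunction L (fun l : L => μ l) := fun g y => by
      show μ ((y * g * y⁻¹ : L) : G) = μ g
      rw [Subgroup.coe_mul, Subgroup.coe_mul, Subgroup.coe_inv]; exact hμcl _ _
    have h1 := prop_of_perp hirrS hχ₀ (δ := fun l : L => μ l) (by
      intro α hα
      rw [← frobenius_reciprocity' L α μ hμcl]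
      have := hag α hα
      rw [show indFun L α = τ₁ α from this.symm]
      exact hp α ((mem_zspanOn_one _ _).mp hα).1)
    set m := μ 1 - (classInner (fun l : L => μ l) χ₀ / χ₀ 1) * Nat.card L with hm
    have h2 : ∀ z ∈ K, z ≠ 1 → μ z = m := by
      intro z hz hz1
      have := const_of_prop hSeq hclL h1 hz hz1
      rw [hm, ← this]
      show μ z = μ 1 - (μ ((1 : L) : G) - μ z)
      rw [OneMemClass.coe_one]; ring
    have h3 := hpc μ 0 m hμcl (fun x hx hx1 => by rw [h2 x hx hx1]; simp)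
    rw [H5.classInner_zero_right, zero_add] at h3
    obtain ⟨n, hn⟩ := gen_gen_int hβgen hμgen
    have h4 : m = classInner β μ := by
      rw [hn] at h3 ⊢
      have := congrArg conj h3
      rw [Complex.conj_conj, hreal_int] at this
      exact this.symm
    rw [← h4]
    exact h2 ⟨x, hHL hx⟩ ((hmK _).mpr hx) (fun h => hx1 (congrArg Subtype.val h))
  -- the set T
  have hτone_van : ∀ α ∈ zspanOn S {1}ᶜ, VanOff H (indFun L α) := by
    intro α hα
    obtain ⟨h1, h2⟩ := (mem_zspanOn_one _ _).mp hα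
    exact vanOff_ind (hvS α (zspan_mono hsub h1)) h2
  set T := hfS.toFinset.image τ₁ with hT
  have hmT : ∀ t, t ∈ T ↔ ∃ χ ∈ S, τ₁ χ = t := by
    intro t
    rw [hT, Finset.mem_image]
    constructor
    · rintro ⟨χ, hχ, h⟩; exact ⟨χ, hfS.mem_toFinset.mp hχ, h⟩
    · rintro ⟨χ, hχ, h⟩; exact ⟨χ, hfS.mem_toFinset.mpr hχ, h⟩
  have hex : ∀ t ∈ T, ∃ χ ∈ S, ∃ n : ℤ, τ₁ χ = t ∧ χ 1 = K.index * n := by
    intro t ht
    obtain ⟨χ, hχ, h⟩ := (hmT t).mp ht
    obtain ⟨θ, hθ, _, _, hχe⟩ := id hχ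
    obtain ⟨d, hd, hd1⟩ := IsIrr.exists_degree hθ
    refine ⟨χ, hχ, (d : ℤ), h, ?_⟩
    rw [hχe, indFun_one, hd1]; push_cast; rfl
  choose! X hXS r hr using hex
  have hXτ : ∀ χ ∈ S, X (τ₁ χ) = χ := by
    intro χ hχ
    have ht : τ₁ χ ∈ T := (hmT _).mpr ⟨χ, hχ, rfl⟩
    exact hinj _ (hXS _ ht) _ hχ (hr _ ht).1
  have ht₀ : τ₁ χ₀ ∈ T := (hmT _).mpr ⟨χ₀, hχ₀, rfl⟩
  have hr1 : r (τ₁ χ₀) = 1 := by
    have h1 := (hr _ ht₀).2
    rw [hXτ χ₀ hχ₀, hχ₀1] at h1
    have h2 : (K.index : ℂ) * 1 = K.index * (r (τ₁ χ₀) : ℂ) := by rw [mul_one]; exact h1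
    have h3 := mul_left_cancel₀ he0 h2
    exact_mod_cast h3.symm
  obtain ⟨b, hb⟩ := gen_gen_int hβgen (show IsGeneralizedCharacter G (τ₁ χ₀) from hI.gen _ (zspan_mem hχ₀))
  have hαt : ∀ t ∈ T, (r t) • χ₀ - X t ∈ zspanOn S {1}ᶜ := by
    intro t ht
    rw [mem_zspanOn_one]
    refine ⟨zspan_sub (zspan_smul _ (zspan_mem hχ₀)) (zspan_mem (hXS t ht)), ?_⟩
    rw [Pi.sub_apply, zs_apply, hχ₀1, (hr t ht).2]; ring
  have hτα : ∀ t ∈ T, indFun L ((r t) • χ₀ - X t) = (r t : ℂ) • τ₁ χ₀ - t := by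
    intro t ht
    have h1 := hag _ (hαt t ht)
    rw [show indFun L ((r t) • χ₀ - X t) = τ₁ ((r t) • χ₀ - X t) from h1.symm,
      hI.sub (zspan_smul _ (zspan_mem hχ₀)) (zspan_mem (hXS t ht)), hI.smul _ (zspan_mem hχ₀), (hr t ht).1, zs_eq]
  have hinner : ∀ t ∈ T, classInner β t = ((b + 1 : ℤ) : ℂ) * r t - (if t = τ₁ χ₀ then 1 else 0) := by
    intro t ht
    have h1 := hβξ _ (hαt t ht)
    rw [hτα t ht, H5.classInner_sub_right, H5.classInner_smul_right, hb, H5.classInner_sub_right, zs_eq, H5.classInner_smul_right,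
      ii_self (hirrS χ₀ hχ₀), hreal_int] at h1
    have h2 : classInner χ₀ (X t) = if t = τ₁ χ₀ then 1 else 0 := by
      split_ifs with h
      · rw [h, hXτ χ₀ hχ₀]; exact ii_self (hirrS χ₀ hχ₀)
      · apply ii_ne (hirrS χ₀ hχ₀) (hirrS _ (hXS t ht))
        intro h3
        apply h
        rw [h3, (hr t ht).1]
    rw [h2] at h1
    push_cast
    linear_combination -h1
  -- the values of t₀ on H
  have hγgen : IsGeneralizedCharacter G (τ₁ χ₀) := hI.gen _ (zspan_mem hχ₀)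
  have hγcl : IsClassFunction G (τ₁ χ₀) := by
    obtain ⟨u, v, hu, hv, huv⟩ := hγgen
    intro g y
    rw [huv, Pi.sub_apply, Pi.sub_apply, IsChar.isClassFunction hu, IsChar.isClassFunction hv]
  have hγL : IsClassFunction L (fun l : L => τ₁ χ₀ l) := fun g y => by
    show τ₁ χ₀ ((y * g * y⁻¹ : L) : G) = τ₁ χ₀ g
    rw [Subgroup.coe_mul, Subgroup.coe_mul, Subgroup.coe_inv]; exact hγcl _ _
  have hδcl : IsClassFunction L ((fun l : L => τ₁ χ₀ l) - χ₀) := by
    intro g y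
    have e1 := hγL g y
    have e2 := IsIrr.isClassFunction (hirrS _ hχ₀) g y
    show τ₁ χ₀ ((y * g * y⁻¹ : L) : G) - χ₀ (y * g * y⁻¹) = τ₁ χ₀ g - χ₀ g
    rw [e2]
    exact congrArg (fun z => z - χ₀ g) e1
  have hδp := prop_of_perp hirrS hχ₀ (δ := (fun l : L => τ₁ χ₀ l) - χ₀) (by
    intro α hα
    rw [H5.classInner_sub_left, ← frobenius_reciprocity' L α (τ₁ χ₀) hγcl]
    have h1 := hag α hα
    have h2 := ((mem_zspanOn_one _ _).mp hα).1
    rw [show indFun L α = τ₁ α from h1.symm, hI.inner _ (zspan_mem hχ₀) _ h2, sub_self])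
  set c := classInner ((fun l : L => τ₁ χ₀ l) - χ₀) χ₀ / χ₀ 1
  set m := ((fun l : L => τ₁ χ₀ l) - χ₀) 1 - c * Nat.card L with hm
  have hγx : ∀ x ∈ K, x ≠ 1 → τ₁ χ₀ x = χ₀ x + m := by
    intro x hx hx1
    have h1 := const_of_prop hSeq hδcl hδp hx hx1
    rw [hm, ← h1, Pi.sub_apply]
    simp only [Pi.sub_apply]
    ring
  have hma : m = ((b + 1 : ℤ) : ℂ) := by
    have h1 := hpc (τ₁ χ₀) χ₀ m hγcl hγx
    rw [hb, hξχ₀] at h1
    have h2 : conj m = ((b + 1 : ℤ) : ℂ) := by push_cast; linear_combination -h1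
    rw [← Complex.conj_conj m, h2, hreal_int]
  have hχ₀χ₀ : classInner (fun k : K => χ₀ k) (fun k : K => χ₀ k) = K.index := by
    rw [← frobenius_reciprocity' K (fun k : K => χ₀ k) χ₀ (IsIrr.isClassFunction (hirrS _ hχ₀))]
    have h1 : indFun K (fun k : K => χ₀ k) = (K.index : ℂ) • χ₀ := by
      have h2 := indFun_mul_restrict K (fun _ => (1 : ℂ)) χ₀ (IsIrr.isClassFunction (hirrS _ hχ₀))
      simp only [one_mul] at h2
      rw [h2]
      funext x
      rw [Pi.mul_apply, Pi.smul_apply, smul_eq_mul]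
      by_cases hx : x ∈ K
      · rw [ind_one_normal hK x hx]
      · rw [hχ₀def, ind_vanish_off hK θ₀ hx, mul_zero, mul_zero]
    rw [h1, H5.classInner_smul_right, ii_self (hirrS χ₀ hχ₀)]
    simp
  have hχ₀K1 : classInner (fun k : K => χ₀ k) (fun _ : K => (1 : ℂ)) = 0 := by
    rw [← frobenius_reciprocity' K (fun _ => (1 : ℂ)) χ₀ (IsIrr.isClassFunction (hirrS _ hχ₀))]
    exact hχπ χ₀ hχ₀
  refine ⟨⟨T, r, τ₁ χ₀, β, b + 1, ht₀, hr1, ?_, ?_, ?_, ?_, ?_, ?_, hβgen, ?_, ?_, ?_, ?_, ?_, ?_, ?_⟩⟩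
  · intro t ht
    obtain ⟨χ, hχ, rfl⟩ := (hmT t).mp ht
    exact hsigned χ hχ
  · intro t ht s hs hts
    obtain ⟨χ, hχ, rfl⟩ := (hmT t).mp ht
    obtain ⟨ψ, hψ, rfl⟩ := (hmT s).mp hs
    rw [hττ χ hχ ψ hψ]
    exact ii_ne (hirrS χ hχ) (hirrS ψ hψ) (fun h => hts (by rw [h]))
  · intro t ht
    obtain ⟨χ, hχ, rfl⟩ := (hmT t).mp ht
    exact hτone χ hχ
  · intro t ht
    obtain ⟨χ, hχ, rfl⟩ := (hmT t).mp ht
    refine ⟨τ₁ (conjFun χ), (hmT _).mpr ⟨_, (hconjS χ hχ).1, rfl⟩, ?_, ?_, ?_⟩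
    · intro h
      exact (hconjS χ hχ).2 (hinj _ hχ _ (hconjS χ hχ).1 h).symm
    · have h1 := congrFun (hτdiff χ hχ) 1
      rw [Pi.sub_apply, indFun_one, ((mem_zspanOn_one _ _).mp (hdiff χ hχ)).2, mul_zero, sub_eq_zero] at h1
      exact h1
    · rw [hτdiff χ hχ]; exact hτone_van _ (hdiff χ hχ)
  · intro t ht
    rw [← hτα t ht]; exact hτone_van _ (hαt t ht)
  · -- the sum of squares
    have h1 := above_sum hK (A := ⊥) inferInstance hfS.toFinset hfS.coe_toFinset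
    rw [Subgroup.relIndex_bot_left, hcardK] at h1
    have h2 : ∑ φ ∈ hfS.toFinset, φ 1 ^ 2 / classInner φ φ = (K.index : ℂ) * ((∑ t ∈ T, (r t : ℂ) ^ 2) * K.index) := by
      rw [hT, Finset.sum_image (fun χ hχ ψ hψ h => hinj χ (hfS.mem_toFinset.mp hχ) ψ (hfS.mem_toFinset.mp hψ) h), Finset.sum_mul, Finset.mul_sum]
      apply Finset.sum_congr rfl
      intro χ hχ
      have hχ' := hfS.mem_toFinset.mp hχ
      have h3 := (hr _ ((hmT _).mpr ⟨χ, hχ', rfl⟩)).2
      rw [hXτ χ hχ'] at h3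
      rw [ii_self (hirrS χ hχ'), h3]; ring
    rw [h2] at h1
    have h3 := mul_left_cancel₀ he0 h1
    have h4 : 1 ≤ Nat.card H := Nat.card_pos
    have h5 : (((∑ t ∈ T, (r t) ^ 2) * K.index : ℤ) : ℂ) = ((Nat.card H - 1 : ℤ) : ℂ) := by
      push_cast; exact h3
    exact_mod_cast h5
  · have h1 := hiso.2.2.1 ξ hξm ξ hξm
    have h2 : classInner β β = classInner ξ ξ := h1
    rw [h2, hξ, H5.classInner_sub_left, H5.classInner_sub_right, H5.classInner_sub_right, hππ, hπχ χ₀ hχ₀, hχπ χ₀ hχ₀, ii_self (hirrS χ₀ hχ₀)]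
    ring
  · rw [hβμ (fun _ => 1) (fun _ _ => rfl)]
    exact hξone
  · exact vanOff_ind (hvS ξ ((mem_zspanOn_one _ _).mp hξm).1) hξ1
  · have h1 : conjFun (β + τ₁ χ₀) = conjFun β + conjFun (τ₁ χ₀) := by funext g; simp [conjFun]
    have h2 : conjFun β = indFun L (conjFun ξ) := (ind_conjFun ξ).symm
    have h3 : conjFun ξ = ξ + (χ₀ - conjFun χ₀) := by
      have e1 : conjFun π = π := by
        rw [hπ, ← ind_conjFun]
        congr 1
        funext k; simp [conjFun]
      have e2 : conjFun ξ = conjFun π - conjFun χ₀ := by funext g; simp [hξ, conjFun]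
      rw [e2, e1, hξ]; abel
    rw [h1, h2, h3, indFun_add, ← hτdiff χ₀ hχ₀, hconjτ χ₀ hχ₀]
    abel
  · intro t ht
    rw [hinner t ht]
  · rw [sumS_eq hHL hKdef, ← hcardK]
    have h1 : ∑ k : K, τ₁ χ₀ ((k : L) : G) * conj (τ₁ χ₀ ((k : L) : G)) - τ₁ χ₀ 1 * conj (τ₁ χ₀ 1) =
        ∑ k : K, (χ₀ k + m) * conj (χ₀ k + m) - (χ₀ 1 + m) * conj (χ₀ 1 + m) := by
      have h2 : ∀ k : K, τ₁ χ₀ ((k : L) : G) * conj (τ₁ χ₀ ((k : L) : G)) = (χ₀ k + m) * conj (χ₀ k + m) +
          (if k = 1 then τ₁ χ₀ 1 * conj (τ₁ χ₀ 1) - (χ₀ 1 + m) * conj (χ₀ 1 + m) else 0) := by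
        intro k
        by_cases hk : k = 1
        · subst hk
          rw [if_pos rfl]
          simp only [OneMemClass.coe_one]
          ring
        · rw [if_neg hk, hγx k k.2 (fun h => hk (Subtype.ext h)), add_zero]
      rw [Finset.sum_congr rfl (fun k _ => h2 k), Finset.sum_add_distrib, Finset.sum_ite_eq' Finset.univ (1 : K)]
      simp only [Finset.mem_univ, if_true]
      ring
    have h3 : ∑ k : K, (χ₀ k + m) * conj (χ₀ k + m) = (Nat.card K : ℂ) * ((K.index : ℂ) + m * conj m) := by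
      have h4 : classInner ((fun k : K => χ₀ k) + m • (fun _ : K => (1 : ℂ))) ((fun k : K => χ₀ k) + m • (fun _ : K => (1 : ℂ))) =
          (K.index : ℂ) + m * conj m := by
        have h5 : classInner (fun _ : K => (1 : ℂ)) (fun k : K => χ₀ k) = 0 := by
          rw [classInner_comm', hχ₀K1, map_zero]
        rw [H5.classInner_add_left, H5.classInner_add_right, H5.classInner_add_right, hχ₀χ₀, H5.classInner_smul_left, H5.classInner_smul_left,
          H5.classInner_smul_right, H5.classInner_smul_right, hχ₀K1, h5, ii_self hone_irr]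
        ring
      rw [← h4, H5.classInner_def, ← mul_assoc, mul_inv_cancel₀ (card_ne_zero' K), one_mul]
      apply Finset.sum_congr rfl
      intro k _
      simp
    have h6 : conj m = m := by rw [hma, hreal_int]
    have h7 : conj (χ₀ 1 + m) = χ₀ 1 + m := by
      rw [map_add, h6, hχ₀1]; simp
    show ∑ k : K, τ₁ χ₀ ((k : L) : G) * conj (τ₁ χ₀ ((k : L) : G)) - τ₁ χ₀ 1 * conj (τ₁ χ₀ 1) = _
    rw [h1, h3, h7, h6, hχ₀1, hma]
    ring
  · intro μ hμ hp
    exact hconst μ hμ (fun χ hχ => hp _ ((hmT _).mpr ⟨χ, hχ, rfl⟩))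

end main

end Cfsg.Agent.H4
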