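import Cfsg.Agent.H4.CN2

set_option linter.all false
set_option autoImplicit false

/-! Frobenius partitions of groups of odd order: class function sums. -/

namespace Cfsg.Agent.H4

open Module
open scoped ComplexConjugate Pointwise commutatorElement

universe u v w

section main
variable {G : Type u} [Group G] [Fintype G]

theorem sumS_subtype (H : Subgroup G) (f : G → ℂ) [Fintype {h : H // h ≠ 1}] : sumS H f = ∑ h : {h : H // h ≠ 1}, f ((h : H) : G) := by
  classical
  unfold sumS
  rw [← Finset.sum_filter]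
  symm
  refine Finset.sum_bij' (fun (h : {h : H // h ≠ 1}) _ => ((h : H) : G)) (fun g hg => ⟨⟨g, (Finset.mem_filter.mp hg).2.1⟩, fun h => (Finset.mem_filter.mp hg).2.2 (congrArg Subtype.val h)⟩) ?_ ?_ ?_ ?_ ?_
  · intro h _
    exact Finset.mem_filter.mpr ⟨Finset.mem_univ _, (h : H).2, fun h1 => h.2 (Subtype.ext h1)⟩
  · intro g hg; exact Finset.mem_univ _
  · intro h _; rfl
  · intro g hg; rfl
  · intro h _; rfl

theorem cover_sum {ι : Type v} [Fintype ι] (H : ι → Subgroup G) (hcop : ∀ i j, i ≠ j → Nat.Coprime (Nat.card (H i)) (Nat.card (H j)))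
    (hTI : ∀ i, IsTISubset (H i : Set G)) (hcover : ∀ g : G, g ≠ 1 → ∃ i, ∃ x : G, x * g * x⁻¹ ∈ H i) (f : G → ℂ) (hf : IsClassFunction G f) :
    ∑ g, f g = f 1 + ∑ i, ((Subgroup.normalizer (H i : Set G)).index : ℂ) * sumS (H i) f := by
  classical
  haveI : ∀ i, Fintype (H i) := fun i => Fintype.ofFinite _
  haveI : ∀ i, Fintype (G ⧸ Subgroup.normalizer (H i : Set G)) := fun i => Fintype.ofFinite _
  let F : (Σ i : ι, (G ⧸ Subgroup.normalizer (H i : Set G)) × {h : H i // h ≠ 1}) → {g : G // g ≠ 1} := fun w =>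
    ⟨w.2.1.out * ((w.2.2 : H w.1) : G) * (w.2.1.out)⁻¹, by
      intro h
      apply w.2.2.2
      apply Subtype.ext
      have : ((w.2.2 : H w.1) : G) = (w.2.1.out)⁻¹ * (w.2.1.out * ((w.2.2 : H w.1) : G) * (w.2.1.out)⁻¹) * w.2.1.out := by group
      rw [this, h]
      simp⟩
  have hord : ∀ (x z : G), orderOf (x * z * x⁻¹) = orderOf z := by
    intro x z
    have := MulEquiv.orderOf_eq (MulAut.conj x) z
    simpa [MulAut.conj_apply] using this
  have hF : Function.Bijective F := by
    refine ⟨?_, ?_⟩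
    · rintro ⟨i, q, h⟩ ⟨j, q', h'⟩ heq
      have heq' : q.out * ((h : H i) : G) * (q.out)⁻¹ = q'.out * ((h' : H j) : G) * (q'.out)⁻¹ := congrArg Subtype.val heq
      have hij : i = j := by
        by_contra hne
        have h4 : orderOf ((h : H i) : G) ∣ Nat.card (H i) := by
          have := orderOf_dvd_natCard (h : H i)
          rwa [← Subgroup.orderOf_coe] at this
        have h5 : orderOf ((h' : H j) : G) ∣ Nat.card (H j) := by
          have := orderOf_dvd_natCard (h' : H j)
          rwa [← Subgroup.orderOf_coe] at this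
        have h6 : orderOf ((h : H i) : G) = orderOf ((h' : H j) : G) := by
          rw [← hord q.out, heq', hord]
        rw [← h6] at h5
        have h7 := Nat.eq_one_of_dvd_coprimes (hcop i j hne) h4 h5
        rw [orderOf_eq_one_iff] at h7
        exact h.2 (Subtype.ext h7)
      subst hij
      have hq : q = q' := by
        by_contra hne
        have h4 : (q'.out)⁻¹ * q.out ∉ Subgroup.normalizer (H i : Set G) := by
          intro hmem
          apply hne
          rw [← QuotientGroup.out_eq' q, ← QuotientGroup.out_eq' q']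
          symm
          rw [QuotientGroup.eq]
          exact hmem
        have h5 : ((q'.out)⁻¹ * q.out) * ((h : H i) : G) * ((q'.out)⁻¹ * q.out)⁻¹ ∈ (H i : Set G) := by
          have : ((q'.out)⁻¹ * q.out) * ((h : H i) : G) * ((q'.out)⁻¹ * q.out)⁻¹ = ((h' : H i) : G) := by
            calc ((q'.out)⁻¹ * q.out) * ((h : H i) : G) * ((q'.out)⁻¹ * q.out)⁻¹ = (q'.out)⁻¹ * (q.out * ((h : H i) : G) * (q.out)⁻¹) * q'.out := by group
              _ = _ := by rw [heq']; group
          rw [this]; exact (h' : H i).2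
        have h6 := hTI i _ h4 _ (h : H i).2 h5
        exact h.2 (Subtype.ext h6)
      subst hq
      have h4 : ((h : H i) : G) = ((h' : H i) : G) := mul_left_cancel (mul_right_cancel heq')
      have h5 : h = h' := Subtype.ext (Subtype.ext h4)
      rw [h5]
    · rintro ⟨g, hg⟩
      obtain ⟨i, x, hx⟩ := hcover g hg
      let q : G ⧸ Subgroup.normalizer (H i : Set G) := QuotientGroup.mk x⁻¹
      have h4 : (q.out)⁻¹ * x⁻¹ ∈ Subgroup.normalizer (H i : Set G) := by
        rw [← QuotientGroup.eq, QuotientGroup.out_eq']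
      have h5 : (q.out)⁻¹ * g * q.out ∈ H i := by
        have h6 := (Subgroup.mem_normalizer_iff.mp h4 (x * g * x⁻¹)).mp hx
        have h7 : (q.out)⁻¹ * x⁻¹ * (x * g * x⁻¹) * ((q.out)⁻¹ * x⁻¹)⁻¹ = (q.out)⁻¹ * g * q.out := by group
        rwa [h7] at h6
      refine ⟨⟨i, q, ⟨⟨_, h5⟩, ?_⟩⟩, ?_⟩
      · intro h
        apply hg
        have h6 : (q.out)⁻¹ * g * q.out = 1 := congrArg Subtype.val h
        have h7 : g = q.out * ((q.out)⁻¹ * g * q.out) * (q.out)⁻¹ := by group
        rw [h7, h6]; simp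
      · apply Subtype.ext
        show q.out * ((q.out)⁻¹ * g * q.out) * (q.out)⁻¹ = g
        group
  have h1 : ∑ g, f g = f 1 + ∑ g : {g : G // g ≠ 1}, f g := by
    rw [← Finset.add_sum_erase Finset.univ f (Finset.mem_univ 1)]
    congr 1
    apply Finset.sum_subtype
    intro x; simp
  rw [h1]
  congr 1
  have h2 := Function.Bijective.sum_comp hF (fun g : {g : G // g ≠ 1} => f g)
  rw [← h2, Fintype.sum_sigma]
  apply Finset.sum_congr rfl
  intro i _
  rw [Fintype.sum_prod_type]
  have h3 : ∀ q : G ⧸ Subgroup.normalizer (H i : Set G), ∑ h : {h : H i // h ≠ 1}, f (F ⟨i, (q, h)⟩ : G) = sumS (H i) f := by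
    intro q
    rw [sumS_subtype]
    apply Finset.sum_congr rfl
    intro h _
    exact hf _ _
  rw [Finset.sum_congr rfl (fun q _ => h3 q), Finset.sum_const, Finset.card_univ, nsmul_eq_mul, ← Nat.card_eq_fintype_card]
  rfl

end main

end Cfsg.Agent.H4
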