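import Cfsg.Agent.H4.CN3

set_option linter.all false
set_option autoImplicit false

/-! Frobenius partitions of groups of odd order: the contradiction. -/

namespace Cfsg.Agent.H4

open Module
open scoped ComplexConjugate Pointwise commutatorElement

universe u v w

section main
variable {G : Type u} [Group G] [Fintype G] {ι : Type v} [Fintype ι]

theorem signed_gen {X : G → ℂ} (h : IsIrrCharacter G X ∨ IsIrrCharacter G (-X)) : IsGeneralizedCharacter G X := by
  rcases h with h | h
  · exact ⟨X, 0, IsIrr.isCharacter h, isCharacter_zero, by simp⟩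
  · exact ⟨0, -X, isCharacter_zero, IsIrr.isCharacter h, by simp⟩

theorem signed_self {X : G → ℂ} (h : IsIrrCharacter G X ∨ IsIrrCharacter G (-X)) : classInner X X = 1 := by
  rcases h with h | h
  · exact ii_self h
  · have := ii_self h
    rwa [inner_neg_left, inner_neg_right, neg_neg] at this

theorem no_partition (hodd : Odd (Nat.card G)) [Nonempty ι] (H : ι → Subgroup G) (e : ι → ℕ)
    (hcop : ∀ i j, i ≠ j → Nat.Coprime (Nat.card (H i)) (Nat.card (H j)))
    (hTI : ∀ i, IsTISubset (H i : Set G)) (hcover : ∀ g : G, g ≠ 1 → ∃ i, ∃ x : G, x * g * x⁻¹ ∈ H i)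
    (D : ∀ i, FD G (H i) (e i)) (hidx : ∀ i, (Subgroup.normalizer (H i : Set G)).index * (e i * Nat.card (H i)) = Nat.card G)
    (he : ∀ i, 3 ≤ e i) (heo : ∀ i, Odd (e i)) (hb : ∀ i, H i ≠ ⊥) : False := by
  classical
  have hone_irrG : IsIrrCharacter G (fun _ => (1 : ℂ)) := H5.isIrrCharacter_trivial
  -- cross orthogonality
  have hcross : ∀ i j, i ≠ j → ∀ t ∈ (D i).T, ∀ s ∈ (D j).T, classInner t s = 0 := by
    intro i j hij t ht s hs
    obtain ⟨t', ht', htt, ht1, htv⟩ := (D i).pair t ht
    obtain ⟨s', hs', hss, hs1, hsv⟩ := (D j).pair s hs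
    have h := Cfsg.Agent.S1509.result t t' s s' ((D i).signed t ht) ((D i).signed t' ht') ((D j).signed s hs) ((D j).signed s' hs')
      1 1 one_ne_zero one_ne_zero ((D i).orth t ht t' ht' htt) ((D j).orth s hs s' hs' hss)
      (by
        rw [Complex.ofReal_one, one_smul, one_smul]
        exact vanOff_inner (hcop i j hij) htv hsv) ht1 (by rw [hs1])
    exact h.1
  -- integers
  have hbex : ∀ i j, ∃ n : ℤ, classInner (D i).β (D j).t₀ = n := fun i j =>
    gen_gen_int (D i).gen (signed_gen ((D j).signed _ (D j).mem))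
  choose b hbb using hbex
  have hbs : ∀ i j, i ≠ j → ∀ s ∈ (D j).T, classInner (D i).β s = (b i j : ℂ) * (D j).r s := by
    intro i j hij s hs
    have h1 := vanOff_inner (hcop i j hij) (D i).vanb ((D j).van s hs)
    rw [H5.classInner_sub_right, H5.classInner_smul_right, hbb] at h1
    have h2 : conj (((D j).r s : ℤ) : ℂ) = ((D j).r s : ℂ) := by simp
    rw [h2] at h1
    linear_combination -h1
  have hval : ∀ i j, i ≠ j → ∀ x ∈ H j, x ≠ 1 → (D i).t₀ x = b j i := by
    intro i j hij x hx hx1
    rw [(D j).const (D i).t₀ ((D i).signed _ (D i).mem) (fun t ht => hcross i j hij _ (D i).mem t ht) x hx hx1, hbb]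
  have hbii : ∀ i, classInner (D i).β (D i).t₀ = (D i).a - 1 := by
    intro i
    rw [(D i).inner _ (D i).mem, (D i).r_one, if_pos rfl]; simp
  set q : ι → ℤ := fun i => ∑ t ∈ (D i).T, ((D i).r t) ^ 2 with hqdef
  have hq : ∀ i, q i * e i = Nat.card (H i) - 1 := fun i => (D i).sum_sq
  have hh1 : ∀ i, 1 < Nat.card (H i) := fun i => (Subgroup.one_lt_card_iff_ne_bot (H i)).mpr (hb i)
  have hq2 : ∀ i, 2 ≤ q i := by
    intro i
    have h1 : Even (q i) := by
      have h2 : Odd (Nat.card (H i)) := hodd.of_dvd_nat (Subgroup.card_subgroup_dvd_card _)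
      have h3 : Even (q i * e i) := by
        rw [hq i]
        obtain ⟨k, hk⟩ := h2
        rw [hk]; push_cast
        exact ⟨k, by ring⟩
      rcases Int.even_mul.mp h3 with h4 | h4
      · exact h4
      · exact absurd h4 (by
          rw [Int.even_coe_nat]
          exact Nat.not_even_iff_odd.mpr (heo i))
    have h2 : 0 < q i := by
      have h3 : 0 < q i * e i := by rw [hq i]; have := hh1 i; omega
      have h4 : (0 : ℤ) < e i := by have := he i; omega
      exact (mul_pos_iff_of_pos_right h4).mp h3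
    obtain ⟨k, hk⟩ := h1
    omega
  -- Bessel
  have hbessel : ∀ i, (D i).a ^ 2 * q i - 2 * (D i).a + ∑ j ∈ Finset.univ.erase i, b i j ^ 2 * q j ≤ (e i : ℤ) - 1 := by
    intro i
    have hTdisj : ∀ j k, j ≠ k → Disjoint (D j).T (D k).T := by
      intro j k hjk
      rw [Finset.disjoint_left]
      intro t ht ht'
      have h1 := hcross j k hjk t ht t ht'
      rw [signed_self ((D j).signed t ht)] at h1
      exact one_ne_zero h1
    have h1T : ∀ j, (fun _ : G => (1 : ℂ)) ∉ (D j).T := by
      intro j h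
      have h1 := (D j).orth_one _ h
      rw [ii_self hone_irrG] at h1
      exact one_ne_zero h1
    have h1N : (fun _ : G => (1 : ℂ)) ∉ Finset.univ.biUnion (fun j => (D j).T) := by
      rw [Finset.mem_biUnion]
      rintro ⟨j, _, h⟩
      exact h1T j h
    have hle := bessel_le (insert (fun _ : G => (1 : ℂ)) (Finset.univ.biUnion (fun j => (D j).T))) (by
      intro α hα γ hγ hne
      rw [Finset.mem_insert] at hα hγ
      rcases hα with rfl | hα
      · rcases hγ with rfl | hγ
        · exact absurd rfl hne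
        · obtain ⟨j, _, hj⟩ := Finset.mem_biUnion.mp hγ
          rw [classInner_comm', (D j).orth_one _ hj, map_zero]
      · obtain ⟨j, _, hj⟩ := Finset.mem_biUnion.mp hα
        rcases hγ with rfl | hγ
        · exact (D j).orth_one _ hj
        · obtain ⟨k, _, hk⟩ := Finset.mem_biUnion.mp hγ
          by_cases hjk : j = k
          · subst hjk; exact (D j).orth _ hj _ hk hne
          · exact hcross j k hjk _ hj _ hk) (by
      intro α hα
      rw [Finset.mem_insert] at hα
      rcases hα with rfl | hα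
      · exact ii_self hone_irrG
      · obtain ⟨j, _, hj⟩ := Finset.mem_biUnion.mp hα
        exact signed_self ((D j).signed _ hj)) (D i).β
    rw [Finset.sum_insert h1N, Finset.sum_biUnion (fun j _ k _ hjk => hTdisj j k hjk), (D i).norm, (D i).one,
      ← Finset.add_sum_erase Finset.univ _ (Finset.mem_univ i)] at hle
    have e1 : ∑ t ∈ (D i).T, ‖classInner (D i).β t‖ ^ 2 = (((D i).a ^ 2 * q i - 2 * (D i).a + 1 : ℤ) : ℝ) := by
      have h1 : ∀ t ∈ (D i).T, ‖classInner (D i).β t‖ ^ 2 = (((D i).a ^ 2 * ((D i).r t) ^ 2 + (if t = (D i).t₀ then (- 2 * (D i).a + 1) else 0) : ℤ) : ℝ) := by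
        intro t ht
        rw [(D i).inner t ht]
        split_ifs with h
        · rw [h, (D i).r_one]
          have : ((D i).a : ℂ) * ((1 : ℤ) : ℂ) - 1 = (((D i).a - 1 : ℤ) : ℂ) := by push_cast; ring
          rw [this, Complex.norm_intCast, sq_abs]
          push_cast; ring
        · have : ((D i).a : ℂ) * ((D i).r t : ℂ) - 0 = (((D i).a * (D i).r t : ℤ) : ℂ) := by push_cast; ring
          rw [this, Complex.norm_intCast, sq_abs]
          push_cast; ring
      rw [Finset.sum_congr rfl h1, ← Int.cast_sum, Finset.sum_add_distrib, ← Finset.mul_sum, Finset.sum_ite_eq' (D i).T (D i).t₀,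
        if_pos (D i).mem]
      congr 1
      rw [hqdef]; ring
    have e2 : ∀ j ∈ Finset.univ.erase i, ∑ t ∈ (D j).T, ‖classInner (D i).β t‖ ^ 2 = ((b i j ^ 2 * q j : ℤ) : ℝ) := by
      intro j hj
      have hij : i ≠ j := (Finset.ne_of_mem_erase hj).symm
      have h1 : ∀ t ∈ (D j).T, ‖classInner (D i).β t‖ ^ 2 = ((b i j ^ 2 * ((D j).r t) ^ 2 : ℤ) : ℝ) := by
        intro t ht
        rw [hbs i j hij t ht]
        have : (b i j : ℂ) * ((D j).r t : ℂ) = ((b i j * (D j).r t : ℤ) : ℂ) := by push_cast; ring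
        rw [this, Complex.norm_intCast, sq_abs]
        push_cast; ring
      rw [Finset.sum_congr rfl h1, ← Int.cast_sum, ← Finset.mul_sum]
    rw [e1, Finset.sum_congr rfl e2, ← Int.cast_sum] at hle
    have e3 : ((e i : ℂ) + 1).re = (((e i : ℤ) + 1 : ℤ) : ℝ) := by
      simp
    rw [e3, norm_one, one_pow] at hle
    have h5 : ((1 + (((D i).a ^ 2 * q i - 2 * (D i).a + 1) + ∑ j ∈ Finset.univ.erase i, b i j ^ 2 * q j) : ℤ) : ℝ) ≤ (((e i : ℤ) + 1 : ℤ) : ℝ) := by
      push_cast at hle ⊢
      linarith
    have h6 := Int.cast_le.mp h5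
    linarith
  -- parity
  have hpar : ∀ i j, i ≠ j → b i j ≠ 0 ∨ b j i ≠ 0 := by
    intro i j hij
    have hgen : ∀ k, IsGeneralizedCharacter G ((D k).β + (D k).t₀ - fun _ => (1 : ℂ)) := by
      intro k
      obtain ⟨u1, v1, hu1, hv1, huv1⟩ := (D k).gen
      obtain ⟨u2, v2, hu2, hv2, huv2⟩ := signed_gen ((D k).signed _ (D k).mem)
      refine ⟨u1 + u2, v1 + v2 + (fun _ => 1), IsChar.add hu1 hu2, IsChar.add (IsChar.add hv1 hv2) isCharacter_one, ?_⟩
      rw [huv1, huv2]; abel
    have hre : ∀ k, conjFun ((D k).β + (D k).t₀ - fun _ => (1 : ℂ)) = ((D k).β + (D k).t₀ - fun _ => (1 : ℂ)) := by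
      intro k
      have h1 := (D k).real
      funext g
      have h2 := congrFun h1 g
      simp only [conjFun, Pi.add_apply, Pi.sub_apply, map_sub, map_one] at h2 ⊢
      rw [h2]
    have h0 : classInner ((D i).β + (D i).t₀ - fun _ => (1 : ℂ)) (fun _ => 1) = 0 := by
      rw [H5.classInner_sub_left, H5.classInner_add_left, (D i).one, (D i).orth_one _ (D i).mem, ii_self hone_irrG]; ring
    obtain ⟨n, hn⟩ := odd_even_inner hodd (hgen i) (hgen j) (hre i) (hre j) h0
    have h1 : classInner (D i).β (D j).β = 0 := vanOff_inner (hcop i j hij) (D i).vanb (D j).vanb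
    have h2 : classInner (D i).t₀ (D j).β = b j i := by
      rw [classInner_comm', hbb]; simp
    have h3 : classInner (fun _ : G => (1 : ℂ)) (D j).β = 1 := by
      rw [classInner_comm', (D j).one]; simp
    have h4 : classInner (fun _ : G => (1 : ℂ)) (D j).t₀ = 0 := by
      rw [classInner_comm', (D j).orth_one _ (D j).mem]; simp
    rw [H5.classInner_sub_left, H5.classInner_add_left, H5.classInner_sub_right, H5.classInner_sub_right, H5.classInner_sub_right,
      H5.classInner_add_right, H5.classInner_add_right, H5.classInner_add_right, h1, h2, h3, h4, hbb, (D i).one, (D i).orth_one _ (D i).mem,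
      hcross i j hij _ (D i).mem _ (D j).mem, ii_self hone_irrG] at hn
    have h5 : b i j + b j i - 1 = 2 * n := by
      have h6 : ((b i j + b j i - 1 : ℤ) : ℂ) = ((2 * n : ℤ) : ℂ) := by
        push_cast
        rw [← hn]; ring
      exact_mod_cast h6
    by_contra hcon
    push Not at hcon
    omega
  -- the minimal one
  obtain ⟨i, _, hmin⟩ := Finset.exists_min_image Finset.univ (fun i => Nat.card (H i)) Finset.univ_nonempty
  obtain ⟨I, hI⟩ : ∃ I : ι → ℤ, ∀ j, I j = ((Subgroup.normalizer (H j : Set G)).index : ℤ) := ⟨_, fun _ => rfl⟩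
  have hIC : ∀ j, ((Subgroup.normalizer (H j : Set G)).index : ℂ) = (I j : ℂ) := fun j => by rw [hI]; push_cast; rfl
  have hIpos : ∀ j, 0 < I j := fun j => by
    have : (Subgroup.normalizer (H j : Set G)).index ≠ 0 := Subgroup.index_ne_zero_of_finite
    rw [hI]; positivity
  have hIN : ∀ j, I j * (e j * Nat.card (H j)) = Nat.card G := by
    intro j
    rw [hI]; exact_mod_cast hidx j
  obtain ⟨d, hd0, hd1, _, _⟩ := irr_signed_degree ((D i).signed _ (D i).mem)
  -- sum of |t₀|²
  set a := (D i).a with ha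
  set h : ℤ := (Nat.card (H i) : ℤ) with hh
  have hsum : (Nat.card G : ℤ) = d ^ 2 + (I i * (h * (e i + a ^ 2) - (e i + a) ^ 2) + ∑ j ∈ Finset.univ.erase i, I j * ((Nat.card (H j) - 1) * b j i ^ 2)) := by
    have hcl : IsClassFunction G (D i).t₀ := by
      obtain ⟨u, v, hu, hv, huv⟩ := signed_gen ((D i).signed _ (D i).mem)
      intro g y
      rw [huv, Pi.sub_apply, Pi.sub_apply, IsChar.isClassFunction hu, IsChar.isClassFunction hv]
    have h1 := cover_sum H hcop hTI hcover (fun g => (D i).t₀ g * conj ((D i).t₀ g)) (fun g y => by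
      show (D i).t₀ (y * g * y⁻¹) * conj ((D i).t₀ (y * g * y⁻¹)) = _
      rw [hcl g y])
    have h2 : ∑ g, (D i).t₀ g * conj ((D i).t₀ g) = Nat.card G := by
      have h3 := signed_self ((D i).signed _ (D i).mem)
      rw [H5.classInner_def] at h3
      have := card_ne_zero' G
      field_simp at h3
      exact h3
    rw [h2, ← Finset.add_sum_erase Finset.univ _ (Finset.mem_univ i), (D i).sumH, hd1] at h1
    have h3 : ∀ j ∈ Finset.univ.erase i, ((Subgroup.normalizer (H j : Set G)).index : ℂ) * sumS (H j) (fun g => (D i).t₀ g * conj ((D i).t₀ g)) =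
        ((I j * ((Nat.card (H j) - 1) * b j i ^ 2) : ℤ) : ℂ) := by
      intro j hj
      have hij : i ≠ j := (Finset.ne_of_mem_erase hj).symm
      have h4 : sumS (H j) (fun g => (D i).t₀ g * conj ((D i).t₀ g)) = sumS (H j) (fun _ => ((b j i ^ 2 : ℤ) : ℂ)) := by
        unfold sumS
        apply Finset.sum_congr rfl
        intro x _
        split_ifs with hx
        · show (D i).t₀ x * conj ((D i).t₀ x) = ((b j i ^ 2 : ℤ) : ℂ)
          rw [hval i j hij x hx.1 hx.2, map_intCast]
          push_cast
          ring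
        · rfl
      have h5 : sumS (H j) (fun _ => ((b j i ^ 2 : ℤ) : ℂ)) = ((Nat.card (H j) : ℂ) - 1) * ((b j i ^ 2 : ℤ) : ℂ) := by
        haveI : Fintype (H j) := Fintype.ofFinite _
        rw [sumS_subtype, Finset.sum_const, Finset.card_univ, nsmul_eq_mul]
        congr 1
        have h6 : Fintype.card {h : H j // ¬ (h = 1)} = Fintype.card (H j) - Fintype.card {h : H j // h = 1} := Fintype.card_subtype_compl _
        rw [Fintype.card_subtype_eq, ← Nat.card_eq_fintype_card (α := H j)] at h6
        have h7 : 1 ≤ Nat.card (H j) := Nat.card_pos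
        have h8 : ((Nat.card (H j) - 1 : ℕ) : ℂ) = (Nat.card (H j) : ℂ) - 1 := by push_cast [h7]; rfl
        rw [← h8]
        exact_mod_cast h6
      rw [h4, h5, hIC]
      push_cast; ring
    rw [Finset.sum_congr rfl h3, ← Int.cast_sum] at h1
    have h9 : ((Nat.card G : ℤ) : ℂ) = ((d ^ 2 + (I i * (h * (e i + a ^ 2) - (e i + a) ^ 2) + ∑ j ∈ Finset.univ.erase i, I j * ((Nat.card (H j) - 1) * b j i ^ 2)) : ℤ) : ℂ) := by
      rw [Int.cast_natCast, h1, hIC, map_intCast, hh]
      push_cast
      ring
    exact_mod_cast h9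
  have hone : (Nat.card G : ℤ) = 1 + (I i * (h - 1) + ∑ j ∈ Finset.univ.erase i, I j * (Nat.card (H j) - 1)) := by
    have h1 := cover_sum H hcop hTI hcover (fun _ => (1 : ℂ)) (fun _ _ => rfl)
    have h5 : ∀ j, sumS (H j) (fun _ => (1 : ℂ)) = ((Nat.card (H j) : ℂ) - 1) := by
      intro j
      haveI : Fintype (H j) := Fintype.ofFinite _
      rw [sumS_subtype, Finset.sum_const, Finset.card_univ, nsmul_eq_mul, mul_one]
      have h6 : Fintype.card {h : H j // ¬ (h = 1)} = Fintype.card (H j) - Fintype.card {h : H j // h = 1} := Fintype.card_subtype_compl _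
      rw [Fintype.card_subtype_eq, ← Nat.card_eq_fintype_card (α := H j)] at h6
      have h7 : 1 ≤ Nat.card (H j) := Nat.card_pos
      have h8 : ((Nat.card (H j) - 1 : ℕ) : ℂ) = (Nat.card (H j) : ℂ) - 1 := by push_cast [h7]; rfl
      rw [← h8]
      exact_mod_cast h6
    rw [Finset.sum_const, Finset.card_univ, nsmul_eq_mul, mul_one, ← Nat.card_eq_fintype_card, ← Finset.add_sum_erase Finset.univ _ (Finset.mem_univ i),
      h5 i, Finset.sum_congr rfl (fun j _ => by rw [h5 j])] at h1
    have h9 : ((Nat.card G : ℤ) : ℂ) = ((1 + (I i * (h - 1) + ∑ j ∈ Finset.univ.erase i, I j * (Nat.card (H j) - 1)) : ℤ) : ℂ) := by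
      rw [Int.cast_natCast, h1, hh]
      push_cast
      rw [hIC]
      congr 2
      apply Finset.sum_congr rfl
      intro j _
      rw [hIC]
    exact_mod_cast h9
  set J := (Finset.univ.erase i).filter (fun j => b j i = 0) with hJ
  have hDJ : ∑ j ∈ J, q j ≤ e i - 1 + 2 * a - a ^ 2 * q i := by
    have h1 : ∑ j ∈ J, q j ≤ ∑ j ∈ Finset.univ.erase i, b i j ^ 2 * q j := by
      rw [hJ, Finset.sum_filter]
      apply Finset.sum_le_sum
      intro j hj
      have hij : i ≠ j := (Finset.ne_of_mem_erase hj).symm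
      have hqj := hq2 j
      split_ifs with h2
      · have h3 : b i j ≠ 0 := by
          rcases hpar i j hij with h4 | h4
          · exact h4
          · exact absurd h2 h4
        have h5 : 1 ≤ b i j ^ 2 := by
          have := sq_pos_of_ne_zero h3
          omega
        nlinarith
      · positivity
    have := hbessel i
    linarith
  have hkey : I i * (h * (e i + a ^ 2) - (e i + a) ^ 2 - (h - 1)) + (d ^ 2 - 1) ≤ I i * e i * ∑ j ∈ J, q j := by
    have h1 : ∑ j ∈ Finset.univ.erase i, I j * (Nat.card (H j) - 1) - ∑ j ∈ Finset.univ.erase i, I j * ((Nat.card (H j) - 1) * b j i ^ 2) ≤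
        I i * e i * ∑ j ∈ J, q j := by
      rw [← Finset.sum_sub_distrib, hJ, Finset.sum_filter, Finset.mul_sum]
      apply Finset.sum_le_sum
      intro j hj
      split_ifs with h2
      · rw [h2]
        have h3 : I j * e j ≤ I i * e i := by
          have h4 := hIN j
          have h5 := hIN i
          have h6 : h ≤ Nat.card (H j) := by
            rw [hh]; exact_mod_cast hmin j (Finset.mem_univ j)
          have h7 : (0 : ℤ) < h := by rw [hh]; exact_mod_cast Nat.card_pos
          have h8 : I j * e j * h ≤ I i * e i * h := by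
            calc I j * e j * h ≤ I j * e j * Nat.card (H j) := by
                  apply mul_le_mul_of_nonneg_left h6
                  have := hIpos j
                  positivity
              _ = I i * e i * h := by rw [mul_assoc, h4, ← h5, mul_assoc]
          exact le_of_mul_le_mul_right h8 h7
        have h9 := hq j
        have h10 := hq2 j
        rw [← h9]
        nlinarith
      · have h3 : 1 ≤ b j i ^ 2 := by
          have := sq_pos_of_ne_zero h2
          omega
        have h4 : (0 : ℤ) ≤ Nat.card (H j) - 1 := by have := hh1 j; omega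
        have h5 := hIpos j
        rw [mul_zero]
        have h6 : I j * (Nat.card (H j) - 1) - I j * ((Nat.card (H j) - 1) * b j i ^ 2) = - (I j * (Nat.card (H j) - 1) * (b j i ^ 2 - 1)) := by ring
        rw [h6, neg_nonpos]
        have h7 : (0 : ℤ) ≤ b j i ^ 2 - 1 := by omega
        positivity
    rw [hsum] at hone
    linarith
  have hqi := hq i
  rw [← hh] at hqi
  have hei : (3 : ℤ) ≤ e i := by exact_mod_cast he i
  have hhge : 2 * (e i : ℤ) + 1 ≤ h := by
    have := hq2 i
    nlinarith
  have haa : 0 ≤ a * (a - 1) := by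
    rcases le_or_gt a 0 with h1 | h1
    · nlinarith
    · nlinarith
  have hIi := hIpos i
  by_cases hJe : J = ∅
  · rw [hJe, Finset.sum_empty, mul_zero] at hkey
    have h1 : 0 < h * (e i + a ^ 2) - (e i + a) ^ 2 - (h - 1) := by
      have h2 : h * (e i + a ^ 2) - (e i + a) ^ 2 - (h - 1) = (h - 2 * e i - 1) * (e i - 1 + a ^ 2) + (e i ^ 2 - e i) + 2 * e i * (a * (a - 1)) := by ring
      rw [h2]
      have h3 : 0 ≤ (h - 2 * (e i : ℤ) - 1) * (e i - 1 + a ^ 2) := mul_nonneg (by linarith) (by nlinarith)
      have h4 : 0 < (e i : ℤ) ^ 2 - e i := by nlinarith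
      have h5 : 0 ≤ 2 * (e i : ℤ) * (a * (a - 1)) := mul_nonneg (by linarith) haa
      linarith
    have h2 : 0 < I i * (h * (e i + a ^ 2) - (e i + a) ^ 2 - (h - 1)) := mul_pos hIi h1
    have h3 : 0 < d ^ 2 := sq_pos_of_ne_zero hd0
    linarith
  · obtain ⟨j, hj⟩ := Finset.nonempty_iff_ne_empty.mpr hJe
    rw [hJ, Finset.mem_filter] at hj
    have hij : i ≠ j := (Finset.ne_of_mem_erase hj.1).symm
    -- d² > 1
    have hd2 : 1 < d ^ 2 := by
      by_contra hcon
      have hd3 : d ^ 2 = 1 := by
        have h3 : 0 < d ^ 2 := sq_pos_of_ne_zero hd0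
        omega
      obtain ⟨x, hx, hx1⟩ := (H j).bot_or_exists_ne_one.resolve_left (hb j)
      have h0 : (D i).t₀ x = 0 := by rw [hval i j hij x hx hx1, hj.2]; simp
      have hle : ∀ g, ‖(D i).t₀ g‖ ≤ 1 := by
        intro g
        have h4 : ‖(D i).t₀ g‖ ≤ ‖(D i).t₀ 1‖ := by
          rcases (D i).signed _ (D i).mem with h5 | h5
          · exact IsChar.norm_le (IsIrr.isCharacter h5) g
          · have := IsChar.norm_le (IsIrr.isCharacter h5) g
            simpa using this
        rw [hd1, Complex.norm_intCast] at h4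
        have h5 : |(d : ℝ)| = 1 := by
          have h6 : (d : ℝ) ^ 2 = 1 := by exact_mod_cast hd3
          rw [← sq_abs] at h6
          have h7 := abs_nonneg (d : ℝ)
          nlinarith
        rwa [h5] at h4
      have hs : ∑ g : G, ‖(D i).t₀ g‖ ^ 2 = (Nat.card G : ℝ) := by
        rcases (D i).signed _ (D i).mem with h5 | h5
        · exact norm_sum_sq h5
        · have := norm_sum_sq h5
          simpa using this
      have hs2 : ∑ g : G, ‖(D i).t₀ g‖ ^ 2 < ∑ g : G, (1 : ℝ) := by
        apply Finset.sum_lt_sum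
        · intro g _
          have := hle g
          have h8 := norm_nonneg ((D i).t₀ g)
          nlinarith
        · refine ⟨x, Finset.mem_univ x, ?_⟩
          rw [h0]; simp
      rw [hs, Finset.sum_const, Finset.card_univ, nsmul_eq_mul, mul_one, ← Nat.card_eq_fintype_card] at hs2
      exact lt_irrefl _ hs2
    have h1 : I i * e i * ∑ j ∈ J, q j ≤ I i * e i * (e i - 1 + 2 * a - a ^ 2 * q i) := by
      apply mul_le_mul_of_nonneg_left hDJ
      positivity
    have h2 : I i * e i * (e i - 1 + 2 * a - a ^ 2 * q i) = I i * (e i * (e i - 1 + 2 * a) - a ^ 2 * (h - 1)) := by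
      rw [← hqi]; ring
    have h3 : I i * (h * (e i + a ^ 2) - (e i + a) ^ 2 - (h - 1)) - I i * (e i * (e i - 1 + 2 * a) - a ^ 2 * (h - 1)) =
        I i * ((h - 2 * e i - 1) * (e i - 1 + 2 * a ^ 2) + 4 * e i * (a * (a - 1))) := by ring
    have h4 : 0 ≤ I i * ((h - 2 * e i - 1) * (e i - 1 + 2 * a ^ 2) + 4 * e i * (a * (a - 1))) := by
      apply mul_nonneg hIi.le
      have h5 : 0 ≤ (h - 2 * (e i : ℤ) - 1) * (e i - 1 + 2 * a ^ 2) := mul_nonneg (by linarith) (by nlinarith)
      have h6 : 0 ≤ 4 * (e i : ℤ) * (a * (a - 1)) := mul_nonneg (by linarith) haa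
      linarith
    linarith

end main

end Cfsg.Agent.H4
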