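import Cfsg.Agent.H4.Coh12
import Cfsg.Agent.H2.CharInv

set_option linter.all false
set_option autoImplicit false

/-! The congruence for characters at central elements of TI Sylow subgroups. -/

namespace Cfsg.Agent.H4

open Module
open scoped ComplexConjugate Pointwise

universe u v w

theorem free_orbit_sum {P : Type u} [Group P] [Finite P] {X : Type v} [Fintype X] [MulAction P X]
    (hfree : ∀ x : X, ∀ u : P, u • x = x → u = 1) (f : X → ℂ) (hf : ∀ (u : P) (x : X), f (u • x) = f x)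
    (hint : ∀ x, IsIntegral ℤ (f x)) : ∃ γ : ℂ, IsIntegral ℤ γ ∧ ∑ x : X, f x = (Nat.card P : ℂ) * γ := by
  classical
  let Ω := MulAction.orbitRel.Quotient P X
  have : Fintype Ω := Fintype.ofFinite Ω
  refine ⟨∑ ω : Ω, f ω.out, IsIntegral.sum _ (fun ω _ => hint _), ?_⟩
  rw [← Finset.sum_fiberwise Finset.univ (fun x : X => (Quotient.mk'' x : Ω)), Finset.mul_sum]
  apply Finset.sum_congr rfl; intro ω _
  have hx0 : (Quotient.mk'' ω.out : Ω) = ω := Quotient.out_eq' ω
  have h1 : ∀ x ∈ Finset.univ.filter (fun x : X => (Quotient.mk'' x : Ω) = ω), f x = f ω.out := by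
    intro x hx
    have h2 : (Quotient.mk'' x : Ω) = Quotient.mk'' ω.out := by rw [hx0]; exact (Finset.mem_filter.mp hx).2
    have h3 : x ∈ MulAction.orbit P ω.out := Quotient.eq''.mp h2
    obtain ⟨l, hl⟩ := h3
    rw [← hl]; exact hf l _
  rw [Finset.sum_congr rfl h1, Finset.sum_const, nsmul_eq_mul]
  congr 1
  have h4 : (Finset.univ.filter (fun x : X => (Quotient.mk'' x : Ω) = ω)).card = Nat.card (MulAction.orbit P ω.out) := by
    rw [Nat.card_eq_fintype_card, ← Set.toFinset_card]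
    congr 1
    ext x
    simp only [Finset.mem_filter, Finset.mem_univ, true_and, Set.mem_toFinset]
    constructor
    · intro h
      rw [← hx0] at h
      exact Quotient.eq''.mp h
    · intro h
      rw [← hx0]
      exact Quotient.eq''.mpr h
  have h5 : Nat.card (MulAction.orbit P ω.out) = Nat.card P := by
    rw [Nat.card_congr (MulAction.orbitEquivQuotientStabilizer P ω.out)]
    have h7 : MulAction.stabilizer P ω.out = ⊥ := by
      rw [eq_bot_iff]
      intro u hu
      exact Subgroup.mem_bot.mpr (hfree _ u (MulAction.mem_stabilizer_iff.mp hu))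
    show (MulAction.stabilizer P ω.out).index = _
    rw [h7, Subgroup.index_bot]
  rw [h4, h5]

section cong
variable {G : Type u} [Group G] [Finite G]

theorem ti_sylow_cent {p : ℕ} [Fact p.Prime] {P : Sylow p G} (hTI : IsTISubset ((P : Subgroup G) : Set G))
    {u y : G} (hu : u ∈ (P : Subgroup G)) (hu1 : u ≠ 1) (hc : u * y = y * u) (hy : ∃ k : ℕ, y ^ (p ^ k) = 1) : y ∈ (P : Subgroup G) := by
  have h1 : y ∈ Subgroup.normalizer ((P : Subgroup G) : Set G) := by
    by_contra h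
    apply hu1
    apply hTI y h u hu
    have : y * u * y⁻¹ = u := by rw [← hc]; group
    rw [this]; exact hu
  -- p-element in the normalizer
  have h2 : IsPGroup p (Subgroup.zpowers y) := by
    obtain ⟨k, hk⟩ := hy
    intro ⟨g, hg⟩
    obtain ⟨m, rfl⟩ := hg
    refine ⟨k, ?_⟩
    apply Subtype.ext
    show (y ^ m) ^ (p ^ k) = 1
    rw [← zpow_natCast, zpow_comm, zpow_natCast, hk, one_zpow]
  have h3 : Subgroup.zpowers y ≤ Subgroup.normalizer ((P : Subgroup G) : Set G) := by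
    rw [Subgroup.zpowers_le]; exact h1
  have h4 : IsPGroup p ↥((P : Subgroup G) ⊔ Subgroup.zpowers y) := IsPGroup.to_sup_of_normal_left' P.isPGroup' h2 (by simpa using h3)
  have h5 : (P : Subgroup G) ⊔ Subgroup.zpowers y = P := P.is_maximal' h4 le_sup_left
  rw [← h5]
  exact Subgroup.mem_sup_right (Subgroup.mem_zpowers y)

theorem ti_conj_norm {H : Subgroup G} (hTI : IsTISubset (H : Set G)) {g z : G} (hz : z ∈ H) (hz1 : z ≠ 1) (h : g * z * g⁻¹ ∈ H) :
    g ∈ Subgroup.normalizer (H : Set G) := by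
  by_contra hg
  exact hz1 (hTI g hg z hz h)

/-- Peterfalvi (6.7). -/
theorem ti_congruence {p : ℕ} [Fact p.Prime] (P : Sylow p G) (hTI : IsTISubset ((P : Subgroup G) : Set G))
    (hodd : Odd (Nat.card (Subgroup.normalizer ((P : Subgroup G) : Set G)))) (Z : Subgroup G) (hZP : Z ≤ P)
    (hZn : ∀ x ∈ Subgroup.normalizer ((P : Subgroup G) : Set G), ∀ z ∈ Z, x * z * x⁻¹ ∈ Z)
    (hZc : ∀ z ∈ Z, ∀ y ∈ (P : Subgroup G), z * y = y * z)
    (ψ : G → ℂ) (hψ : IsIrrCharacter G ψ) (hconst : ∀ z ∈ Z, ∀ z' ∈ Z, z ≠ 1 → z' ≠ 1 → ψ z = ψ z') (z : G) (hz : z ∈ Z)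
    (hz1 : z ≠ 1) : ∃ n d : ℤ, ψ z = n ∧ ψ 1 = d ∧ (Nat.card (P : Subgroup G) : ℤ) ∣ d - n := by
  classical
  haveI : Fintype G := Fintype.ofFinite G
  obtain ⟨D, hD, hD1⟩ := IsIrr.exists_degree hψ
  have hcl := IsIrr.isClassFunction hψ
  have hcl' : ∀ g x, ψ (x * g * x⁻¹) = ψ g := fun g x => hcl g x
  -- factB
  have factB : ∀ g y, y ∈ Z → y ≠ 1 → g * y * g⁻¹ ∈ (P : Subgroup G) → g * y * g⁻¹ ∈ Z := by
    intro g y hy hy1 h
    exact hZn g (ti_conj_norm hTI (hZP hy) hy1 h) y hy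
  -- p-elements
  have hpel : ∀ y ∈ Z, ∃ k : ℕ, y ^ (p ^ k) = 1 := by
    intro y hy
    obtain ⟨k, hk⟩ := P.isPGroup' ⟨y, hZP hy⟩
    exact ⟨k, congrArg Subtype.val hk⟩
  -- class sums
  have key : ∀ w ∈ Z, w ≠ 1 → ∃ γ : ℂ, IsIntegral ℤ γ ∧
      (Finset.univ.filter (fun x => IsConj w x)).card * (ψ z * ψ w / ψ 1) =
      (∑ v ∈ (Finset.univ.filter (fun x => IsConj w x)).filter (fun x => x ∈ Z), ψ (z * v)) + (Nat.card (P : Subgroup G) : ℂ) * γ := by
    intro w hw hw1
    set J := Finset.univ.filter (fun x => IsConj w x) with hJ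
    set I := Finset.univ.filter (fun x => IsConj z x) with hI
    have mJ : ∀ x, x ∈ J ↔ IsConj w x := fun x => by simp [hJ]
    have mI : ∀ x, x ∈ I ↔ IsConj z x := fun x => by simp [hI]
    have h1 := H2.sum_class_mul hψ z w I J mI mJ
    have h2 : ∀ u ∈ I, ∑ v ∈ J, ψ (u * v) = ∑ v ∈ J, ψ (z * v) := by
      intro u hu
      obtain ⟨g, hg⟩ := isConj_iff.mp ((mI u).mp hu)
      apply Finset.sum_nbij' (fun v => g⁻¹ * v * g) (fun v => g * v * g⁻¹)
      · intro v hv
        rw [mJ] at hv ⊢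
        obtain ⟨x, hx⟩ := isConj_iff.mp hv
        exact isConj_iff.mpr ⟨g⁻¹ * x, by rw [← hx]; group⟩
      · intro v hv
        rw [mJ] at hv ⊢
        obtain ⟨x, hx⟩ := isConj_iff.mp hv
        exact isConj_iff.mpr ⟨g * x, by rw [← hx]; group⟩
      · intro v _; group
      · intro v _; group
      · intro v _
        rw [← hg, ← hcl' (z * (g⁻¹ * v * g)) g]
        congr 1; group
    rw [Finset.sum_congr rfl h2, Finset.sum_const, nsmul_eq_mul] at h1
    have hI0 : (I.card : ℂ) ≠ 0 := by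
      have : z ∈ I := (mI z).mpr (IsConj.refl z)
      exact_mod_cast (Finset.card_pos.mpr ⟨z, this⟩).ne'
    have hψ1 : ψ 1 ≠ 0 := IsIrr.degree_ne_zero hψ
    have h3 : (J.card : ℂ) * (ψ z * ψ w / ψ 1) = ∑ v ∈ J, ψ (z * v) := by
      rw [← mul_div_assoc, div_eq_iff hψ1]
      apply mul_left_cancel₀ hI0
      linear_combination -h1
    -- P acts
    let X := {v : G // IsConj w v ∧ v ∉ Z}
    letI act : MulAction (P : Subgroup G) X :=
      { smul := fun u v => ⟨u * v.1 * (u : G)⁻¹, by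
          obtain ⟨x, hx⟩ := isConj_iff.mp v.2.1
          exact isConj_iff.mpr ⟨u * x, by rw [← hx]; group⟩, by
          intro h
          apply v.2.2
          have := hZn (u : G)⁻¹ (Subgroup.inv_mem _ (Subgroup.le_normalizer u.2)) _ h
          convert this using 1; group⟩
        one_smul := fun v => Subtype.ext (by show ((1 : (P : Subgroup G)) : G) * v.1 * ((1 : (P : Subgroup G)) : G)⁻¹ = v.1; simp)
        mul_smul := fun a b v => Subtype.ext (by
          show ((a * b : (P : Subgroup G)) : G) * v.1 * ((a * b : (P : Subgroup G)) : G)⁻¹ = a * (b * v.1 * (b : G)⁻¹) * (a : G)⁻¹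
          push_cast; group) }
    have hsm : ∀ (u : (P : Subgroup G)) (v : X), ((u • v : X) : G) = u * v.1 * (u : G)⁻¹ := fun u v => rfl
    obtain ⟨γ, hγ, hγ'⟩ := free_orbit_sum (P := (P : Subgroup G)) (X := X) (by
      intro v u huv
      by_contra hu1
      have h4 := congrArg Subtype.val huv
      rw [hsm] at h4
      have h5 : (u : G) * v.1 = v.1 * u := by
        rw [mul_inv_eq_iff_eq_mul] at h4; exact h4
      obtain ⟨x, hx⟩ := isConj_iff.mp v.2.1
      obtain ⟨k, hk⟩ := hpel w hw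
      have h6 : v.1 ∈ (P : Subgroup G) := ti_sylow_cent hTI u.2 (fun h => hu1 (Subtype.ext h)) h5 ⟨k, by
        rw [← hx, conj_pow, hk]; group⟩
      apply v.2.2
      rw [← hx]
      exact factB x w hw hw1 (by rw [hx]; exact h6)) (fun v => ψ (z * v.1)) (by
      intro u v
      show ψ (z * (u * v.1 * (u : G)⁻¹)) = ψ (z * v.1)
      rw [← hcl' (z * v.1) u]
      congr 1
      have := hZc z hz u u.2
      calc z * (u * v.1 * (u : G)⁻¹) = (z * u) * v.1 * (u : G)⁻¹ := by group
        _ = (u * z) * v.1 * (u : G)⁻¹ := by rw [this]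
        _ = _ := by group) (fun v => IsChar.isIntegral (IsIrr.isCharacter hψ) _)
    refine ⟨γ, hγ, ?_⟩
    rw [h3, ← hγ', ← Finset.sum_filter_add_sum_filter_not J (fun x => x ∈ Z)]
    congr 1
    refine Finset.sum_bij' (fun v hv => (⟨v, by
        rw [Finset.mem_filter, mJ] at hv; exact hv⟩ : X)) (fun v _ => v.1) ?_ ?_ ?_ ?_ ?_
    · intro v hv; exact Finset.mem_univ _
    · intro v hv
      rw [Finset.mem_filter, mJ]; exact v.2
    · intro v hv; rfl
    · intro v _; rfl
    · intro v hv; rfl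
  -- z and its inverse are not conjugate
  have hnc : ¬ IsConj z⁻¹ z := by
    intro h
    obtain ⟨g, hg⟩ := isConj_iff.mp h
    have hg2 : g ∈ Subgroup.normalizer ((P : Subgroup G) : Set G) :=
      ti_conj_norm hTI (Subgroup.inv_mem _ (hZP hz)) (inv_ne_one.mpr hz1) (by rw [hg]; exact hZP hz)
    have hzN : z ∈ Subgroup.normalizer ((P : Subgroup G) : Set G) := Subgroup.le_normalizer (hZP hz)
    have h1 := eq_one_of_isConj_inv hodd (g := (⟨z, hzN⟩ : Subgroup.normalizer ((P : Subgroup G) : Set G))) (by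
      apply IsConj.symm
      exact isConj_iff.mpr ⟨⟨g, hg2⟩, Subtype.ext hg⟩)
    exact hz1 (congrArg Subtype.val h1)
  have hzi : z⁻¹ ∈ Z := Z.inv_mem hz
  have hzi1 : z⁻¹ ≠ 1 := inv_ne_one.mpr hz1
  obtain ⟨γ₁, hγ₁, e1⟩ := key z hz hz1
  obtain ⟨γ₂, hγ₂, e2⟩ := key z⁻¹ hzi hzi1
  have hcardJ : (Finset.univ.filter (fun x => IsConj z x)).card = (Finset.univ.filter (fun x => IsConj z⁻¹ x)).card := by
    refine Finset.card_bij' (fun x _ => x⁻¹) (fun x _ => x⁻¹) ?_ ?_ ?_ ?_
    · intro x hx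
      simp only [Finset.mem_filter, Finset.mem_univ, true_and] at hx ⊢
      obtain ⟨g, hg⟩ := isConj_iff.mp hx
      exact isConj_iff.mpr ⟨g, by rw [← hg]; group⟩
    · intro x hx
      simp only [Finset.mem_filter, Finset.mem_univ, true_and] at hx ⊢
      obtain ⟨g, hg⟩ := isConj_iff.mp hx
      exact isConj_iff.mpr ⟨g, by rw [← hg]; group⟩
    · intro x _; exact inv_inv x
    · intro x _; exact inv_inv x
  have hcardJZ : ((Finset.univ.filter (fun x => IsConj z x)).filter (fun x => x ∈ Z)).card =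
      ((Finset.univ.filter (fun x => IsConj z⁻¹ x)).filter (fun x => x ∈ Z)).card := by
    refine Finset.card_bij' (fun x _ => x⁻¹) (fun x _ => x⁻¹) ?_ ?_ ?_ ?_
    · intro x hx
      simp only [Finset.mem_filter, Finset.mem_univ, true_and] at hx ⊢
      obtain ⟨g, hg⟩ := isConj_iff.mp hx.1
      exact ⟨isConj_iff.mpr ⟨g, by rw [← hg]; group⟩, Z.inv_mem hx.2⟩
    · intro x hx
      simp only [Finset.mem_filter, Finset.mem_univ, true_and] at hx ⊢
      obtain ⟨g, hg⟩ := isConj_iff.mp hx.1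
      exact ⟨isConj_iff.mpr ⟨g, by rw [← hg]; group⟩, Z.inv_mem hx.2⟩
    · intro x _; exact inv_inv x
    · intro x _; exact inv_inv x
  -- evaluate the Z-parts
  set h := ((Finset.univ.filter (fun x => IsConj z x)).filter (fun x => x ∈ Z)).card with hh
  have s1 : ∑ v ∈ (Finset.univ.filter (fun x => IsConj z x)).filter (fun x => x ∈ Z), ψ (z * v) = h * ψ z := by
    rw [Finset.sum_congr rfl (g := fun _ => ψ z), Finset.sum_const, nsmul_eq_mul]
    intro v hv
    simp only [Finset.mem_filter, Finset.mem_univ, true_and] at hv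
    apply hconst _ (Z.mul_mem hz hv.2) _ hz _ hz1
    intro h1
    have h2 : v = z⁻¹ := eq_inv_of_mul_eq_one_right h1
    rw [h2] at hv
    exact hnc hv.1.symm
  have s2 : ∑ v ∈ (Finset.univ.filter (fun x => IsConj z⁻¹ x)).filter (fun x => x ∈ Z), ψ (z * v) = ψ 1 + (h - 1) * ψ z := by
    have hmem : z⁻¹ ∈ (Finset.univ.filter (fun x => IsConj z⁻¹ x)).filter (fun x => x ∈ Z) := by
      simp only [Finset.mem_filter, Finset.mem_univ, true_and]
      exact ⟨IsConj.refl _, hzi⟩
    rw [← Finset.add_sum_erase _ _ hmem, mul_inv_cancel, Finset.sum_congr rfl (g := fun _ => ψ z), Finset.sum_const, nsmul_eq_mul,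
      Finset.card_erase_of_mem hmem, ← hcardJZ]
    · have : 1 ≤ h := by
        rw [hcardJZ]; exact Finset.card_pos.mpr ⟨_, hmem⟩
      rw [Nat.cast_sub this]; simp
    · intro v hv
      simp only [Finset.mem_erase, Finset.mem_filter, Finset.mem_univ, true_and] at hv
      apply hconst _ (Z.mul_mem hz hv.2.2) _ hz _ hz1
      intro h1
      exact hv.1 (eq_inv_of_mul_eq_one_right h1)
  have hzz : ψ z⁻¹ = ψ z := hconst _ hzi _ hz hzi1 hz1
  rw [s1] at e1
  rw [s2, ← hcardJ, hzz] at e2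
  have e3 : ψ 1 - ψ z = (Nat.card (P : Subgroup G) : ℂ) * (γ₁ - γ₂) := by
    linear_combination e1 - e2
  -- ψ z is an integer
  have hZcard : 1 < Nat.card Z := by
    rw [Finite.one_lt_card_iff_nontrivial]
    exact ⟨⟨⟨z, hz⟩, 1, fun h' => hz1 (congrArg Subtype.val h')⟩⟩
  haveI : Fintype Z := Fintype.ofFinite Z
  have hres : IsCharacter Z (fun c : Z => ψ c) := IsChar.restrict Z (IsIrr.isCharacter hψ)
  obtain ⟨m, hm⟩ := inner_char_nat hres (IsIrr.isCharacter (H5.isIrrCharacter_trivial (G := Z)))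
  have e4 : ψ 1 + (Nat.card Z - 1) * ψ z = Nat.card Z * m := by
    rw [H5.classInner_def] at hm
    have h1 : ∑ g : Z, (fun c : Z => ψ c) g * conj ((fun _ => (1 : ℂ)) g) = ψ 1 + (Nat.card Z - 1) * ψ z := by
      rw [← Finset.add_sum_erase _ _ (Finset.mem_univ (1 : Z)), Finset.sum_congr rfl (g := fun _ => ψ z), Finset.sum_const, nsmul_eq_mul,
        Finset.card_erase_of_mem (Finset.mem_univ _), Finset.card_univ, ← Nat.card_eq_fintype_card]
      · rw [Nat.cast_sub (by omega)]; simp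
      · intro v hv
        rw [Finset.mem_erase] at hv
        simp only [map_one, mul_one]
        exact hconst _ v.2 _ hz (fun h' => hv.1 (Subtype.ext h')) hz1
    rw [h1] at hm
    have hc : (Nat.card Z : ℂ) ≠ 0 := by exact_mod_cast (by omega : Nat.card Z ≠ 0)
    field_simp at hm
    linear_combination hm
  have hc1 : ((Nat.card Z : ℂ) - 1) ≠ 0 := by
    intro h0
    have : (Nat.card Z : ℂ) = 1 := by linear_combination h0
    have : Nat.card Z = 1 := by exact_mod_cast this
    omega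
  have e5 : ψ z = ((((Nat.card Z : ℚ) * m - D) / (Nat.card Z - 1) : ℚ) : ℂ) := by
    rw [hD1] at e4
    push_cast
    field_simp
    linear_combination e4
  obtain ⟨n, hn⟩ := H5.isIntegral_rat_int (q := ((Nat.card Z : ℚ) * m - D) / (Nat.card Z - 1)) (by
    rw [← e5]; exact IsChar.isIntegral (IsIrr.isCharacter hψ) z)
  have e6 : ψ z = n := by rw [e5, hn]; simp
  refine ⟨n, D, e6, by rw [hD1]; simp, ?_⟩
  have hP0 : (Nat.card (P : Subgroup G) : ℂ) ≠ 0 := by exact_mod_cast Nat.card_pos.ne'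
  have e7 : γ₁ - γ₂ = ((((D : ℚ) - n) / (Nat.card (P : Subgroup G)) : ℚ) : ℂ) := by
    rw [hD1, e6] at e3
    push_cast
    rw [eq_div_iff hP0]
    linear_combination -e3
  obtain ⟨k, hk⟩ := H5.isIntegral_rat_int (q := ((D : ℚ) - n) / (Nat.card (P : Subgroup G))) (by
    rw [← e7]; exact hγ₁.sub hγ₂)
  refine ⟨k, ?_⟩
  have hP0' : (Nat.card (P : Subgroup G) : ℚ) ≠ 0 := by exact_mod_cast Nat.card_pos.ne'
  rw [div_eq_iff hP0'] at hk
  have : ((D : ℤ) : ℚ) - (n : ℚ) = ((Nat.card (P : Subgroup G) : ℤ) : ℚ) * (k : ℚ) := by push_cast; linarith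
  exact_mod_cast this

end cong

end Cfsg.Agent.H4
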