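import Cfsg.Agent.H4.SP5
import Cfsg.Agent.H4.TICong

set_option linter.all false
set_option autoImplicit false

/-! Sylow subgroups with `C(x) = C(P)`. -/

namespace Cfsg.Agent.H4

open Module Cfsg
open scoped ComplexConjugate Pointwise

universe u v w

theorem central_compl {C : Type u} [Group C] [Finite C] {Z : Subgroup C} (hZ : ∀ z ∈ Z, ∀ c, z * c = c * z) (hcop : (Nat.card Z).Coprime Z.index) :
    ∃ H : Subgroup C, H.Normal ∧ Z ⊔ H = ⊤ ∧ Nat.card H = Z.index := by
  haveI hZn : Z.Normal := by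
    constructor
    intro z hz g
    rw [← hZ z hz g]; simpa using hz
  obtain ⟨L, hL⟩ := Subgroup.exists_right_complement'_of_coprime hcop
  refine ⟨L, ?_, hL.sup_eq_top, ?_⟩
  · constructor
    intro l hl k
    have h1 : k ∈ Z ⊔ L := by rw [hL.sup_eq_top]; exact Subgroup.mem_top k
    rw [Subgroup.mem_sup_of_normal_left] at h1
    obtain ⟨z, hz, l', hl', rfl⟩ := h1
    have h2 : ∀ k', z * k' = k' * z := fun k' => hZ z hz k'
    have h3 : z * l' * l * (z * l')⁻¹ = l' * l * l'⁻¹ := by
      calc z * l' * l * (z * l')⁻¹ = (z * (l' * l)) * (l'⁻¹ * z⁻¹) := by rw [mul_inv_rev, mul_assoc z l' l]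
        _ = l' * l * (z * l'⁻¹) * z⁻¹ := by rw [h2 (l' * l)]; group
        _ = l' * l * l'⁻¹ := by rw [h2 l'⁻¹]; group
    rw [h3]
    exact L.mul_mem (L.mul_mem hl' hl) (L.inv_mem hl')
  · have h1 := hL.card_mul_card
    have h2 := Z.card_mul_index
    rw [← h1] at h2
    exact (Nat.eq_of_mul_eq_mul_left Nat.card_pos h2).symm

theorem cent_le_sup {L : Type u} [Group L] [Finite L] {p : ℕ} [hp : Fact p.Prime] {P : Subgroup L} (hPn : P.Normal) (hPp : IsPGroup p P) (hidx : ¬ p ∣ P.index)
    (hab : ∀ a ∈ P, ∀ b ∈ P, a * b = b * a) : Subgroup.centralizer (P : Set L) ≤ P ⊔ pPrimeCore p L := by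
  set C := Subgroup.centralizer (P : Set L) with hC
  haveI : P.Normal := hPn
  haveI hCn : C.Normal := by rw [hC]; infer_instance
  have hPC : P ≤ C := by
    intro a ha
    rw [hC, Subgroup.mem_centralizer_iff]
    intro b hb
    exact hab b hb a ha
  have hcard : Nat.card (P.subgroupOf C) = Nat.card P := by
    rw [← Cfsg.Agent.L0.card_map_subtype C (P.subgroupOf C), Subgroup.subgroupOf_map_subtype, inf_eq_left.mpr hPC]
  have hidxC : ¬ p ∣ (P.subgroupOf C).index := by
    intro h
    apply hidx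
    exact h.trans (Subgroup.relIndex_dvd_index_of_normal P C)
  obtain ⟨n, hn⟩ := IsPGroup.iff_card.mp hPp
  obtain ⟨H, hHn, hH1, hH2⟩ := central_compl (Z := P.subgroupOf C) (by
    intro z hz c
    apply Subtype.ext
    exact Subgroup.mem_centralizer_iff.mp c.2 z (Subgroup.mem_subgroupOf.mp hz)) (by
    rw [hcard, hn]
    exact Nat.Coprime.pow_left n ((Nat.Prime.coprime_iff_not_dvd hp.out).mpr hidxC))
  have hHle : H ≤ pPrimeCore p C := by
    apply Cfsg.Agent.L0.le_pPrimeCore
    rw [hH2]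
    exact ((Nat.Prime.coprime_iff_not_dvd hp.out).mpr hidxC).symm
  intro x hx
  have h1 : (⟨x, hx⟩ : C) ∈ P.subgroupOf C ⊔ H := by rw [hH1]; exact Subgroup.mem_top _
  obtain ⟨z, hz, y, hy, hzy⟩ := Subgroup.mem_sup_of_normal_right.mp h1
  have h2 : (y : L) ∈ pPrimeCore p L := Cfsg.Agent.L0.pPrimeCore_subgroup_le p C ⟨y, hHle hy, rfl⟩
  have h3 : (z : L) * y = x := congrArg Subtype.val hzy
  rw [← h3]
  exact Subgroup.mul_mem_sup (Subgroup.mem_subgroupOf.mp hz) h2

theorem pelt_mem_sylow {p : ℕ} [Fact p.Prime] {G : Type u} [Group G] [Finite G] (P : Sylow p G) {w : G} (hw : ∃ k, w ^ (p ^ k) = 1)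
    (h1 : w ∈ Subgroup.normalizer ((P : Subgroup G) : Set G)) : w ∈ (P : Subgroup G) := by
  have h2 : IsPGroup p (Subgroup.zpowers w) := by
    obtain ⟨k, hk⟩ := hw
    intro ⟨g, hg⟩
    obtain ⟨m, rfl⟩ := hg
    refine ⟨k, ?_⟩
    apply Subtype.ext
    show (w ^ m) ^ (p ^ k) = 1
    rw [← zpow_natCast, zpow_comm, zpow_natCast, hk, one_zpow]
  have h3 : Subgroup.zpowers w ≤ Subgroup.normalizer ((P : Subgroup G) : Set G) := by
    rw [Subgroup.zpowers_le]; exact h1
  have h4 : IsPGroup p ↥((P : Subgroup G) ⊔ Subgroup.zpowers w) := IsPGroup.to_sup_of_normal_left' P.isPGroup' h2 (by simpa using h3)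
  have h5 : (P : Subgroup G) ⊔ Subgroup.zpowers w = P := P.is_maximal' h4 le_sup_left
  rw [← h5]
  exact Subgroup.mem_sup_right (Subgroup.mem_zpowers w)

section star
variable {G : Type u} [Group G] [Fintype G] {p : ℕ} [hp : Fact p.Prime] (P : Sylow p G)
  (hstar : ∀ x ∈ (P : Subgroup G), x ≠ 1 → Subgroup.centralizer ({x} : Set G) = Subgroup.centralizer ((P : Subgroup G) : Set G))

include hstar in
theorem star_ab : ∀ a ∈ (P : Subgroup G), ∀ b ∈ (P : Subgroup G), a * b = b * a := by
  intro a ha b hb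
  by_cases h : a = 1
  · rw [h]; simp
  · have h1 : a ∈ Subgroup.centralizer ({a} : Set G) := by rw [Subgroup.mem_centralizer_singleton_iff]
    rw [hstar a ha h, Subgroup.mem_centralizer_iff] at h1
    exact (h1 b hb).symm

include hstar in
theorem star_ti {a x : G} (ha : a ∈ (P : Subgroup G)) (ha1 : a ≠ 1) (hx : x * a * x⁻¹ ∈ (P : Subgroup G)) : x ∈ Subgroup.normalizer ((P : Subgroup G) : Set G) := by
  have h1 : ∀ y ∈ (P : Subgroup G), x * y * x⁻¹ ∈ (P : Subgroup G) := by
    intro y hy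
    apply pelt_mem_sylow
    · obtain ⟨k, hk⟩ := P.isPGroup' ⟨y, hy⟩
      refine ⟨k, ?_⟩
      have : y ^ p ^ k = 1 := congrArg Subtype.val hk
      rw [conj_pow, this]; simp
    · -- commutes with xax⁻¹
      have h2 : x * y * x⁻¹ ∈ Subgroup.centralizer ({x * a * x⁻¹} : Set G) := by
        rw [Subgroup.mem_centralizer_singleton_iff]
        calc x * y * x⁻¹ * (x * a * x⁻¹) = x * (y * a) * x⁻¹ := by group
          _ = x * (a * y) * x⁻¹ := by rw [star_ab P hstar y hy a ha]
          _ = _ := by group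
      rw [hstar _ hx (by
        intro h
        apply ha1
        have : a = x⁻¹ * (x * a * x⁻¹) * x := by group
        rw [this, h]; group)] at h2
      exact Subgroup.centralizer_le_normalizer _ h2
  rw [Subgroup.mem_normalizer_iff]
  intro y
  refine ⟨h1 y, ?_⟩
  have h2 : (P : Subgroup G) ≤ ((P : Subgroup G).map (MulAut.conj x).toMonoidHom) := by
    have h3 : (P : Subgroup G).map (MulAut.conj x).toMonoidHom ≤ (P : Subgroup G) := by
      rintro _ ⟨y, hy, rfl⟩
      exact h1 y hy
    have h4 : Nat.card ((P : Subgroup G).map (MulAut.conj x).toMonoidHom) = Nat.card (P : Subgroup G) :=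
      Nat.card_congr ((P : Subgroup G).equivMapOfInjective _ (MulAut.conj x).injective).toEquiv.symm
    exact (Subgroup.eq_of_le_of_card_ge h3 h4.ge).ge
  intro hy
  obtain ⟨z, hz, hzy⟩ := h2 hy
  have h5 : x * z * x⁻¹ = x * y * x⁻¹ := hzy
  have h6 : z = y := by
    have := congrArg (fun w => x⁻¹ * w * x) h5
    simpa [mul_assoc] using this
  rw [← h6]; exact hz

/-- the data in the normaliser -/
theorem star_nset (hstar : ∀ x ∈ (P : Subgroup G), x ≠ 1 → Subgroup.centralizer ({x} : Set G) = Subgroup.centralizer ((P : Subgroup G) : Set G)) {N : Subgroup G} (hN : N = Subgroup.normalizer ((P : Subgroup G) : Set G)) :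
    NSet ((P : Subgroup G).subgroupOf N) (pPrimeCore p N) ((P : Subgroup G).subgroupOf N ⊔ pPrimeCore p N) := by
  have hPN : (P : Subgroup G) ≤ N := by rw [hN]; exact Subgroup.le_normalizer
  haveI hPn : ((P : Subgroup G).subgroupOf N).Normal := by
    rw [hN]; exact Subgroup.normal_in_normalizer
  have hcard : Nat.card ((P : Subgroup G).subgroupOf N) = Nat.card (P : Subgroup G) := by
    rw [← Cfsg.Agent.L0.card_map_subtype N ((P : Subgroup G).subgroupOf N), Subgroup.subgroupOf_map_subtype, inf_eq_left.mpr hPN]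
  obtain ⟨n, hn⟩ := IsPGroup.iff_card.mp P.isPGroup'
  have hcop : (Nat.card (pPrimeCore p N)).Coprime (Nat.card ((P : Subgroup G).subgroupOf N)) := by
    rw [hcard, hn]
    exact Nat.Coprime.pow_right n (Cfsg.Agent.L0.pPrimeCore_coprime p N)
  have hinf : (P : Subgroup G).subgroupOf N ⊓ pPrimeCore p N = ⊥ := by
    rw [inf_comm]; exact L0.inf_eq_bot_of_coprime' hcop
  have hab : ∀ a ∈ (P : Subgroup G).subgroupOf N, ∀ b ∈ (P : Subgroup G).subgroupOf N, a * b = b * a := fun a ha b hb =>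
    Subtype.ext (star_ab P hstar a (Subgroup.mem_subgroupOf.mp ha) b (Subgroup.mem_subgroupOf.mp hb))
  have hcommK : ∀ a ∈ (P : Subgroup G).subgroupOf N, ∀ k ∈ pPrimeCore p N, a * k = k * a := by
    intro a ha k hk
    exact Subgroup.commute_of_normal_of_disjoint _ _ hPn inferInstance (disjoint_iff.mpr hinf) a k ha hk
  refine ⟨hPn, inferInstance, inferInstance, rfl, ?_, hcop, ?_⟩
  · intro a ha c hc
    obtain ⟨y, hy, k, hk, rfl⟩ := Subgroup.mem_sup_of_normal_left.mp hc
    rw [← mul_assoc, hab a ha y hy, mul_assoc, hcommK a ha k hk, mul_assoc]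
  · intro y hy hy1 x hxy
    have h1 : (x : G) ∈ Subgroup.centralizer ({(y : G)} : Set G) := by
      rw [Subgroup.mem_centralizer_singleton_iff]
      exact congrArg Subtype.val hxy
    rw [hstar _ (Subgroup.mem_subgroupOf.mp hy) (fun h => hy1 (Subtype.ext h))] at h1
    have h2 : x ∈ Subgroup.centralizer (((P : Subgroup G).subgroupOf N : Subgroup N) : Set N) := by
      rw [Subgroup.mem_centralizer_iff] at h1 ⊢
      intro z hz
      exact Subtype.ext (h1 z (Subgroup.mem_subgroupOf.mp hz))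
    refine cent_le_sup (p := p) hPn ?_ ?_ hab h2
    · apply IsPGroup.of_card (n := n)
      rw [hcard, hn]
    · intro h
      have h3 : (P : Subgroup G).relIndex N ∣ (P : Subgroup G).index := Subgroup.relIndex_dvd_index_of_le hPN
      exact P.not_dvd_index (h.trans h3)

theorem star_sset (hstar : ∀ x ∈ (P : Subgroup G), x ≠ 1 → Subgroup.centralizer ({x} : Set G) = Subgroup.centralizer ((P : Subgroup G) : Set G)) {N : Subgroup G} (hN : N = Subgroup.normalizer ((P : Subgroup G) : Set G)) [Fintype N] :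
    SSet N ((P : Subgroup G).subgroupOf N) {x | x ∈ (P : Subgroup G).subgroupOf N ⊔ pPrimeCore p N ∧ x ∉ pPrimeCore p N} (Nat.card (P : Subgroup G)) := by
  classical
  have hns := star_nset P hstar hN
  have hPN : (P : Subgroup G) ≤ N := by rw [hN]; exact Subgroup.le_normalizer
  have hcard : Nat.card ((P : Subgroup G).subgroupOf N) = Nat.card (P : Subgroup G) := by
    rw [← Cfsg.Agent.L0.card_map_subtype N ((P : Subgroup G).subgroupOf N), Subgroup.subgroupOf_map_subtype, inf_eq_left.mpr hPN]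
  refine ⟨fun h => h.2 (Subgroup.one_mem _), ?_, ?_⟩
  · intro ψ hψ hψD t
    apply indFun_eq_of_ti N ψ hψ t
    intro x hx hne
    have hd : (⟨x⁻¹ * t * x, hx⟩ : N) ∈ {x | x ∈ (P : Subgroup G).subgroupOf N ⊔ pPrimeCore p N ∧ x ∉ pPrimeCore p N} := by
      by_contra hcon
      exact hne (hψD _ hcon)
    obtain ⟨hd1, hd2⟩ := hd
    haveI := hns.hP
    obtain ⟨a, ha, k, hk, hak⟩ := Subgroup.mem_sup_of_normal_left.mp hd1
    have ha1 : a ≠ 1 := by
      rintro rfl
      apply hd2
      rw [← hak, one_mul]; exact hk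
    have hcomm : Commute (a : G) (k : G) := congrArg Subtype.val (hns.comm a ha k (hns.le' hk))
    have hda : orderOf (a : G) ∣ Nat.card (P : Subgroup G) := by
      have h1 : orderOf (⟨(a : G), Subgroup.mem_subgroupOf.mp ha⟩ : (P : Subgroup G)) ∣ Nat.card (P : Subgroup G) := orderOf_dvd_natCard _
      rwa [← Subgroup.orderOf_coe] at h1
    have hdk : orderOf (k : G) ∣ Nat.card (pPrimeCore p N) := by
      have h1 : orderOf (⟨k, hk⟩ : pPrimeCore p N) ∣ Nat.card (pPrimeCore p N) := orderOf_dvd_natCard _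
      rw [← Subgroup.orderOf_coe] at h1
      rwa [← Subgroup.orderOf_coe] at h1
    have hcop : (Nat.card (P : Subgroup G)).Coprime (Nat.card (pPrimeCore p N)) := by rw [← hcard]; exact hns.cop.symm
    have h1 : ((a : G) * k) ^ partExp hcop = a := mul_pow_partExp hcop hcomm hda hdk
    have h2 : (a : G) * k = x⁻¹ * t * x := congrArg Subtype.val hak
    have h3 : x * a * x⁻¹ = (t : G) ^ partExp hcop := by
      rw [← h1, h2, ← conj_pow]
      group
    have h4 : x * a * x⁻¹ ∈ (P : Subgroup G) := by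
      apply pelt_mem_sylow
      · obtain ⟨e, he⟩ := P.isPGroup' ⟨(a : G), Subgroup.mem_subgroupOf.mp ha⟩
        refine ⟨e, ?_⟩
        have : (a : G) ^ p ^ e = 1 := congrArg Subtype.val he
        rw [conj_pow, this]; simp
      · rw [h3, ← hN]
        exact N.pow_mem t.2 _
    rw [hN]
    exact star_ti P hstar (Subgroup.mem_subgroupOf.mp ha) (fun h => ha1 (Subtype.ext h)) h4
  · intro η hη Φ hΦ hall
    rw [← hcard]
    exact hns.F1 hη.1 hη.2 hΦ (fun η' h1 h2 h3 => hall η' ⟨h1, h2⟩ (fun x hx => (h3 x hx).symm))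

end star

end Cfsg.Agent.H4
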