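import Cfsg.Agent.H4.OC1
import Cfsg.Agent.H4.SP6
import Cfsg.Agent.H2.QdFacts
import Cfsg.Agent.H6.SolvCons
import Cfsg.Agent.H6.S4Thom3
import Cfsg.Agent.S3857

set_option linter.all false
set_option autoImplicit false

/-! CN-groups of odd order: local structure. -/

namespace Cfsg.Agent.H4

open Cfsg
open scoped Pointwise commutatorElement

universe u v w

theorem odd_qd_free {G : Type u} [Group G] [Finite G] (hodd : Odd (Nat.card G)) {p : ℕ} [hp : Fact p.Prime] (hp2 : p ≠ 2) : ¬ H6.Sec (qd p) G := by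
  rintro ⟨K, f, hf⟩
  have h1 : Nat.card (qd p) ∣ Nat.card K := Subgroup.card_dvd_of_surjective f hf
  have h2 : Nat.card K ∣ Nat.card G := Subgroup.card_subgroup_dvd_card K
  have h3 := h1.trans h2
  rw [H2.card_qd] at h3
  have h4 : 2 ∣ p ^ 2 - 1 := by
    have h5 : Odd p := hp.out.odd_of_ne_two hp2
    have h6 : Odd (p ^ 2) := h5.pow
    obtain ⟨k, hk⟩ := h6
    exact ⟨k, by omega⟩
  have h5 : 2 ∣ Nat.card G := (h4.trans (dvd_mul_left _ _)).trans h3
  exact (Nat.not_even_iff_odd.mpr hodd) (even_iff_two_dvd.mpr h5)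

theorem nil_pelt_mem {G : Type u} [Group G] [Finite G] {p : ℕ} [hp : Fact p.Prime] (P : Sylow p G) {C : Subgroup G} (hC : Group.IsNilpotent C) (hPC : (P : Subgroup G) ≤ C)
    {w : G} (hw : w ∈ C) (hwp : ∃ k, w ^ p ^ k = 1) : w ∈ (P : Subgroup G) := by
  apply pelt_mem_sylow P hwp
  have h1 : ((P.subtype hPC : Sylow p C) : Subgroup C).Normal := L0.isNilpotent_iff_sylow_normal.mp hC p _
  rw [Subgroup.mem_normalizer_iff]
  intro y
  constructor
  · intro hy
    have := h1.conj_mem ⟨y, hPC hy⟩ (Subgroup.mem_subgroupOf.mpr hy) ⟨w, hw⟩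
    exact Subgroup.mem_subgroupOf.mp this
  · intro hy
    have := h1.conj_mem ⟨w * y * w⁻¹, hPC hy⟩ (Subgroup.mem_subgroupOf.mpr hy) ⟨w⁻¹, C.inv_mem hw⟩
    have h3 : w⁻¹ * (w * y * w⁻¹) * w⁻¹⁻¹ ∈ (P : Subgroup G) := Subgroup.mem_subgroupOf.mp this
    have h4 : w⁻¹ * (w * y * w⁻¹) * w⁻¹⁻¹ = y := by group
    rwa [h4] at h3

theorem cn_core_trivial {M : Type u} [Group M] [Finite M] (hCN : IsCNGroup M) {p : ℕ} [hp : Fact p.Prime] (hF : pCore p M ≠ ⊥) (P : Sylow p M)
    (hPn : ¬ (P : Subgroup M).Normal) : pPrimeCore p M = ⊥ := by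
  by_contra hY
  obtain ⟨⟨y, hy⟩, hy1⟩ := Subgroup.ne_bot_iff_exists_ne_one.mp hY
  have hy1' : y ≠ 1 := fun h => hy1 (Subtype.ext h)
  obtain ⟨⟨z, hz⟩, hz1⟩ := Subgroup.ne_bot_iff_exists_ne_one.mp (H2.inf_cent_ne_bot P.isPGroup' (L0.pCore_le_sylow P) (by rw [Subgroup.normalizer_eq_top]; exact le_top) hF)
  have hz1' : z ≠ 1 := fun h => hz1 (Subtype.ext h)
  have hYord : ∀ y ∈ pPrimeCore p M, (orderOf y).Coprime p := by
    intro y hy
    apply Nat.Coprime.coprime_dvd_left _ (L0.pPrimeCore_coprime p M)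
    have h1 : orderOf (⟨y, hy⟩ : pPrimeCore p M) ∣ Nat.card (pPrimeCore p M) := orderOf_dvd_natCard _
    rwa [← Subgroup.orderOf_coe] at h1
  have hcop : (Nat.card (pCore p M)).Coprime (Nat.card (pPrimeCore p M)) := by
    obtain ⟨n, hn⟩ := IsPGroup.iff_card.mp (L0.pCore_isPGroup p M)
    rw [hn]
    exact Nat.Coprime.pow_left n (L0.pPrimeCore_coprime p M).symm
  have hcomm : ∀ f ∈ pCore p M, ∀ y ∈ pPrimeCore p M, f * y = y * f := by
    intro f hf y hy
    exact Subgroup.commute_of_normal_of_disjoint _ _ inferInstance inferInstance (disjoint_iff.mpr (L0.inf_eq_bot_of_coprime' hcop)) f y hf hy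
  have hPY : ∀ t ∈ (P : Subgroup M), ∀ y ∈ pPrimeCore p M, t * y = y * t := by
    intro t ht y hy
    exact cn_comm hCN hz1' ((Subgroup.mem_centralizer_iff.mp hz.2) t ht) (hcomm z hz.1 y hy).symm (pelt_order hp.out (pgrp_pelt P.isPGroup' ht) (hYord y hy))
  apply hPn
  constructor
  intro t ht g
  have hCy := hCN y hy1'
  apply nil_pelt_mem P hCy
  · intro s hs
    rw [Subgroup.mem_centralizer_singleton_iff]
    exact hPY s hs y hy
  · rw [Subgroup.mem_centralizer_singleton_iff]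
    have h1 : g⁻¹ * y * g ∈ pPrimeCore p M := by
      have := Subgroup.Normal.conj_mem (inferInstance : (pPrimeCore p M).Normal) y hy g⁻¹
      rwa [inv_inv] at this
    have h2 := hPY t ht _ h1
    calc g * t * g⁻¹ * y = g * (t * (g⁻¹ * y * g)) * g⁻¹ := by group
      _ = g * ((g⁻¹ * y * g) * t) * g⁻¹ := by rw [h2]
      _ = _ := by group
  · obtain ⟨k, hk⟩ := pgrp_pelt P.isPGroup' ht
    exact ⟨k, by rw [conj_pow, hk]; simp⟩

theorem comm_cent_cyclic {Q : Type u} [Group Q] (K : Subgroup Q) [hK : K.Normal] (hc : IsCyclic K) : commutator Q ≤ Subgroup.centralizer (K : Set Q) := by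
  obtain ⟨⟨k, hk⟩, hgen⟩ := hc.exists_generator
  have hgen' : ∀ x ∈ K, ∃ m : ℤ, x = k ^ m := by
    intro x hx
    obtain ⟨m, hm⟩ := Subgroup.mem_zpowers_iff.mp (hgen ⟨x, hx⟩)
    exact ⟨m, (congrArg Subtype.val hm).symm⟩
  rw [commutator_def, Subgroup.commutator_le]
  intro a _ b _
  obtain ⟨m, hm⟩ := hgen' _ (hK.conj_mem k hk a)
  obtain ⟨n, hn⟩ := hgen' _ (hK.conj_mem k hk b)
  have h1 : a * b * k * (a * b)⁻¹ = b * a * k * (b * a)⁻¹ := by
    calc a * b * k * (a * b)⁻¹ = a * (b * k * b⁻¹) * a⁻¹ := by group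
      _ = (a * k * a⁻¹) ^ n := by rw [hn, conj_zpow]
      _ = (b * k * b⁻¹) ^ m := by rw [hm, hn, ← zpow_mul, ← zpow_mul, mul_comm]
      _ = b * (a * k * a⁻¹) * b⁻¹ := by rw [hm, conj_zpow]
      _ = _ := by group
  rw [Subgroup.mem_centralizer_iff]
  intro x hx
  obtain ⟨j, rfl⟩ := hgen' x hx
  have h2 : Commute k ⁅a, b⁆ := by
    rw [commutatorElement_def]
    have h3 : (a * b) * k = (b * a * k * (b * a)⁻¹) * (a * b) := by rw [← h1]; group
    show k * (a * b * a⁻¹ * b⁻¹) = (a * b * a⁻¹ * b⁻¹) * k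
    have h4 : (b * a)⁻¹ * (a * b) * k = k * ((b * a)⁻¹ * (a * b)) := by
      calc (b * a)⁻¹ * (a * b) * k = (b * a)⁻¹ * ((a * b) * k) := by group
        _ = (b * a)⁻¹ * ((b * a * k * (b * a)⁻¹) * (a * b)) := by rw [h3]
        _ = _ := by group
    -- apply to inverses
    have h5 : a * b * a⁻¹ * b⁻¹ = (a * b) * ((b * a)⁻¹ * (a * b)) * (a * b)⁻¹ := by group
    have h6 : a * b * k * (a * b)⁻¹ ∈ K := hK.conj_mem k hk (a * b)
    obtain ⟨i, hi⟩ := hgen' _ h6
    -- conjugation by [a,b] on (ab)k(ab)⁻¹ is trivial, that element generates as well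
    have h7 : ∀ x ∈ K, (b * a)⁻¹ * (a * b) * x = x * ((b * a)⁻¹ * (a * b)) := by
      intro x hx
      obtain ⟨l, rfl⟩ := hgen' x hx
      exact (show Commute ((b * a)⁻¹ * (a * b)) k from h4).zpow_right l
    have h8 : (a * b)⁻¹ * k * (a * b) ∈ K := by
      have := hK.conj_mem k hk (a * b)⁻¹
      rwa [inv_inv] at this
    have h9 := h7 _ h8
    rw [h5]
    calc k * ((a * b) * ((b * a)⁻¹ * (a * b)) * (a * b)⁻¹) = (a * b) * (((a * b)⁻¹ * k * (a * b)) * ((b * a)⁻¹ * (a * b))) * (a * b)⁻¹ := by group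
      _ = (a * b) * (((b * a)⁻¹ * (a * b)) * ((a * b)⁻¹ * k * (a * b))) * (a * b)⁻¹ := by rw [h9]
      _ = _ := by group
  exact (h2.zpow_left j).eq

theorem cn_sylow_normal {M : Type u} [Group M] [Finite M] (hCN : IsCNGroup M) (hodd : Odd (Nat.card M)) (hs : Group.IsSolvable M) {p : ℕ} [hp : Fact p.Prime]
    (hF : pCore p M ≠ ⊥) (P : Sylow p M) (hPc : (P : Subgroup M) ≤ commutator M) : (P : Subgroup M).Normal := by
  classical
  by_contra hn
  have hY := cn_core_trivial hCN hF P hn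
  have hcons : Subgroup.centralizer (pCore p M : Set M) ≤ pCore p M := H6.cons_of_solvable hY hs
  obtain ⟨F, hFdef⟩ : ∃ F, F = pCore p M := ⟨_, rfl⟩
  haveI hFn : F.Normal := by rw [hFdef]; infer_instance
  have hFp : IsPGroup p F := by rw [hFdef]; exact L0.pCore_isPGroup p M
  rw [← hFdef] at hcons hF
  set Kb := fittingSubgroup (M ⧸ F) with hKb
  have hKnil : Group.IsNilpotent Kb := L0.fittingSubgroup_isNilpotent _
  have hcore0 : pCore p (M ⧸ F) = ⊥ := by
    have := L0.pCore_quotient_pCore p M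
    subst hFdef
    exact this
  have hKp : ¬ p ∣ Nat.card Kb := by
    have h2 := L0.not_dvd_index_pCore_of_nilpotent (p := p) (G := Kb) hKnil
    have h3 : pCore p Kb = ⊥ := by
      have h4 := L0.pCore_subgroup_le p Kb
      rw [hcore0] at h4
      exact (Subgroup.map_eq_bot_iff_of_injective _ (Subgroup.subtype_injective _)).1 (le_bot_iff.1 h4)
    rwa [h3, Subgroup.index_bot] at h2
  set L := Kb.comap (QuotientGroup.mk' F) with hL
  have hFL : F ≤ L := by
    intro f hf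
    rw [hL, Subgroup.mem_comap]
    have : (QuotientGroup.mk' F) f = 1 := (QuotientGroup.eq_one_iff f).mpr hf
    rw [this]; exact Subgroup.one_mem _
  have hcardL : Nat.card L = Nat.card F * Nat.card Kb := L0.card_comap_mk' F Kb
  have hcardFL : Nat.card (F.subgroupOf L) = Nat.card F := by
    rw [← L0.card_map_subtype L (F.subgroupOf L), Subgroup.subgroupOf_map_subtype, inf_eq_left.mpr hFL]
  have hidxF : (F.subgroupOf L).index = Nat.card Kb := by
    have h1 := (F.subgroupOf L).card_mul_index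
    rw [hcardFL, hcardL] at h1
    exact Nat.eq_of_mul_eq_mul_left Nat.card_pos h1
  obtain ⟨nF, hnF⟩ := IsPGroup.iff_card.mp hFp
  obtain ⟨K₁, hK₁⟩ := Subgroup.exists_right_complement'_of_coprime (N := F.subgroupOf L) (by
    rw [hcardFL, hidxF, hnF]
    exact Nat.Coprime.pow_left nF ((Nat.Prime.coprime_iff_not_dvd hp.out).mpr hKp))
  set K := K₁.map L.subtype with hK
  have hcardK : Nat.card K = Nat.card Kb := by
    rw [hK, L0.card_map_subtype]
    have h1 := hK₁.card_mul_card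
    rw [hcardFL, hcardL] at h1
    exact Nat.eq_of_mul_eq_mul_left Nat.card_pos h1
  have hKcop : (Nat.card K).Coprime p := by
    rw [hcardK]; exact ((Nat.Prime.coprime_iff_not_dvd hp.out).mpr hKp).symm
  have hKord : ∀ k ∈ K, (orderOf k).Coprime p := by
    intro k hk
    apply Nat.Coprime.coprime_dvd_left _ hKcop
    have h1 : orderOf (⟨k, hk⟩ : K) ∣ Nat.card K := orderOf_dvd_natCard _
    rwa [← Subgroup.orderOf_coe] at h1
  have hfpf : ∀ x ∈ K, x ≠ 1 → ∀ f ∈ F, x * f = f * x → f = 1 := by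
    intro k hk hk1 f hf hkf
    by_contra hf1
    obtain ⟨⟨z, hz⟩, hz1⟩ := Subgroup.ne_bot_iff_exists_ne_one.mp (H2.inf_cent_ne_bot hFp (le_refl F) Subgroup.le_normalizer hF)
    have hz1' : z ≠ 1 := fun h => hz1 (Subtype.ext h)
    have hzc : ∀ w ∈ F, w * z = z * w := fun w hw => (Subgroup.mem_centralizer_iff.mp hz.2) w hw
    have hkz : k * z = z * k := (cn_comm hCN hf1 (hzc f hf).symm hkf (pelt_order hp.out (pgrp_pelt hFp hz.1) (hKord k hk))).symm
    have hkF : k ∈ F := by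
      apply hcons
      rw [Subgroup.mem_centralizer_iff]
      intro w hw
      exact cn_comm hCN hz1' (hzc w hw) hkz (pelt_order hp.out (pgrp_pelt hFp hw) (hKord k hk))
    have h1 := pelt_order hp.out (pgrp_pelt hFp hkF) (hKord k hk)
    exact hk1 (orderOf_eq_one_iff.mp (Nat.eq_one_of_dvd_coprimes h1 dvd_rfl dvd_rfl))
  have hodd2 : ¬ 2 ∣ Nat.card K := by
    intro h
    have h2 := h.trans (Subgroup.card_subgroup_dvd_card K)
    exact (Nat.not_even_iff_odd.mpr hodd) (even_iff_two_dvd.mpr h2)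
  haveI hz : IsZGroup K := Cfsg.Agent.S3857.zgroup_of_fpf K F (by rw [Subgroup.normalizer_eq_top]; exact le_top) hF hfpf hodd2
  have hmapK : K.map (QuotientGroup.mk' F) = Kb := by
    apply le_antisymm
    · rintro _ ⟨_, ⟨k, hk, rfl⟩, rfl⟩
      exact k.2
    · intro xb hxb
      obtain ⟨x, rfl⟩ := QuotientGroup.mk_surjective xb
      have hxL : x ∈ L := hxb
      have h1 : (⟨x, hxL⟩ : L) ∈ F.subgroupOf L ⊔ K₁ := by rw [hK₁.sup_eq_top]; exact Subgroup.mem_top _
      obtain ⟨f, hf, k, hk, hfk⟩ := Subgroup.mem_sup_of_normal_left.mp h1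
      refine ⟨k, ⟨k, hk, rfl⟩, ?_⟩
      have h2 : (f : M) * k = x := congrArg Subtype.val hfk
      show ((k : M) : M ⧸ F) = x
      rw [← h2, QuotientGroup.mk_mul, (QuotientGroup.eq_one_iff (f : M)).mpr (Subgroup.mem_subgroupOf.mp hf), one_mul]
  have hcyc : IsCyclic Kb := by
    haveI : IsZGroup (K.map (QuotientGroup.mk' F)) := IsZGroup.of_surjective ((QuotientGroup.mk' F).subgroupMap_surjective K)
    rw [hmapK] at this
    haveI := hKnil
    infer_instance
  have hQs : Group.IsSolvable (M ⧸ F) := Group.isSolvable_of_surjective (QuotientGroup.mk'_surjective F)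
  have hcomm : commutator (M ⧸ F) ≤ Kb := (comm_cent_cyclic Kb hcyc).trans (L0.centralizer_fitting_le_of_isSolvable hQs)
  have hPmap : (P : Subgroup M).map (QuotientGroup.mk' F) ≤ Kb := by
    refine le_trans ?_ hcomm
    refine (Subgroup.map_mono hPc).trans ?_
    rw [commutator_def, commutator_def, Subgroup.map_commutator]
    exact Subgroup.commutator_mono le_top le_top
  have hPbot : (P : Subgroup M).map (QuotientGroup.mk' F) = ⊥ := by
    obtain ⟨n, hn⟩ := IsPGroup.iff_card.mp (P.isPGroup'.map (QuotientGroup.mk' F))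
    rw [← Subgroup.card_eq_one, hn]
    have h1 := Subgroup.card_dvd_of_le hPmap
    rw [hn] at h1
    rcases Nat.eq_zero_or_pos n with h0 | hpos
    · rw [h0, pow_zero]
    · exact absurd ((dvd_pow_self p hpos.ne').trans h1) hKp
  have hPF : (P : Subgroup M) ≤ F := by
    rw [Subgroup.map_eq_bot_iff, QuotientGroup.ker_mk'] at hPbot
    exact hPbot
  apply hn
  have h1 : (P : Subgroup M) = F := le_antisymm hPF (by rw [hFdef]; exact L0.pCore_le_sylow P)
  rw [h1]; exact hFn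

end Cfsg.Agent.H4
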