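import Cfsg.Agent.H4.OC6
import Cfsg.Agent.H4.OC2
import Cfsg.Agent.H3.FH
import Cfsg.Agent.H1.Basic

namespace Cfsg.Agent.H4
open Subgroup
universe u
variable {G : Type u} [Group G] [Finite G]

def MaxNil (H : Subgroup G) : Prop :=
  Group.IsNilpotent H ∧ ∀ L : Subgroup G, Group.IsNilpotent L → H ≤ L → L = H

omit [Finite G] in
theorem MaxNil.cent {H : Subgroup G} (h : MaxNil H) (hCN : IsCNGroup G) {z : G} (hz : z ≠ 1)
    (hc : H ≤ centralizer ({z} : Set G)) : centralizer ({z} : Set G) = H :=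
  h.2 _ (hCN z hz) hc

theorem nil_comm {H : Subgroup G} (h : Group.IsNilpotent H) {x y : G} (hx : x ∈ H) (hy : y ∈ H)
    (hc : (orderOf x).Coprime (orderOf y)) : x * y = y * x := by
  have := H3.commute_of_coprime_of_nilpotent h ⟨x, hx⟩ ⟨y, hy⟩ (by simpa using hc)
  exact congrArg Subtype.val this.eq

theorem exists_central_p {H : Subgroup G} (h : Group.IsNilpotent H) {p : ℕ} [hp : Fact p.Prime]
    (hpH : p ∣ Nat.card H) : ∃ y ∈ H, y ≠ 1 ∧ (∃ k, y ^ p ^ k = 1) ∧ H ≤ centralizer ({y} : Set G) := by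
  haveI := h
  obtain ⟨P⟩ : Nonempty (Sylow p H) := inferInstance
  have hPn : (P : Subgroup H).Normal := by
    have := (Group.isNilpotent_of_finite_tfae (G := H)).out 0 3
    exact this.1 h p hp P
  have hP1 : (P : Subgroup H) ≠ ⊥ := by
    intro h0
    have := P.dvd_card_of_dvd_card hpH
    rw [h0, Subgroup.card_bot] at this
    exact hp.out.one_lt.ne' (Nat.dvd_one.1 this)
  have h2 := H1.inf_center_ne_bot (P : Subgroup H) hP1
  obtain ⟨y, hy1⟩ := (Subgroup.ne_bot_iff_exists_ne_one).1 h2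
  obtain ⟨y, hy⟩ := y
  refine ⟨(y : G), y.2, ?_, ?_, ?_⟩
  · intro h0; apply hy1; ext; simpa using h0
  · obtain ⟨k, hk⟩ := P.isPGroup' ⟨y, hy.1⟩
    refine ⟨k, ?_⟩
    have := congrArg (fun t : (P : Subgroup H) => ((t : H) : G)) hk
    simpa using this
  · intro g hg
    rw [mem_centralizer_singleton_iff]
    have := (mem_center_iff.1 hy.2) ⟨g, hg⟩
    exact congrArg Subtype.val this

theorem le_iff_parts {H K : Subgroup G} {p : ℕ} [hp : Fact p.Prime]
    (h1 : ∀ s ∈ H, (∃ k, s ^ p ^ k = 1) → s ∈ K) (h2 : ∀ t ∈ H, (orderOf t).Coprime p → t ∈ K) : H ≤ K := by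
  intro x hx
  obtain ⟨s, t, hst, -, hs, ht, hsx, htx⟩ := pparts hp.out x
  rw [hst]
  exact K.mul_mem (h1 s ((zpowers_le.2 hx) hsx) hs) (h2 t ((zpowers_le.2 hx) htx) ht)

/-- a maximal nilpotent subgroup of a CN-group contains a Sylow subgroup for each prime divisor -/
theorem MaxNil.sylow {H : Subgroup G} (h : MaxNil H) (hCN : IsCNGroup G) {p : ℕ} [hp : Fact p.Prime]
    (hpH : p ∣ Nat.card H) : ∃ P : Sylow p G, (P : Subgroup G) ≤ H := by
  obtain ⟨y, hyH, hy1, hyp, hyc⟩ := exists_central_p h.1 hpH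
  have hCy := h.cent hCN hy1 hyc
  obtain ⟨P0⟩ : Nonempty (Sylow p H) := inferInstance
  obtain ⟨P, hP⟩ := (P0.isPGroup'.map H.subtype).exists_le_sylow
  refine ⟨P, ?_⟩
  have hP1 : (P : Subgroup G) ≠ ⊥ := by
    intro h0
    have h3 : y ∈ (P : Subgroup G) := by
      apply hP
      have := nil_pelt_mem P0 (C := ⊤) (by haveI := h.1; infer_instance) le_top (w := ⟨y, hyH⟩) (mem_top _)
        (by obtain ⟨k, hk⟩ := hyp; exact ⟨k, by ext; simpa using hk⟩)
      exact ⟨_, this, rfl⟩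
    rw [h0, mem_bot] at h3
    exact hy1 h3
  have h5 : ∀ s ∈ H, (∃ k, s ^ p ^ k = 1) → s ∈ (P : Subgroup G) := by
    intro s hs hsp
    apply hP
    have := nil_pelt_mem P0 (C := ⊤) (by haveI := h.1; infer_instance) le_top (w := ⟨s, hs⟩) (mem_top _)
        (by obtain ⟨k, hk⟩ := hsp; exact ⟨k, by ext; simpa using hk⟩)
    exact ⟨_, this, rfl⟩
  obtain ⟨z, hzP, hz1, hzc⟩ : ∃ z ∈ (P : Subgroup G), z ≠ 1 ∧ (P : Subgroup G) ≤ centralizer ({z} : Set G) := by
    have h6 := H2.inf_cent_ne_bot P.isPGroup' (le_refl (P : Subgroup G)) le_normalizer hP1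
    obtain ⟨⟨z, hz⟩, hz1⟩ := (Subgroup.ne_bot_iff_exists_ne_one).1 h6
    refine ⟨z, hz.1, fun h0 => hz1 (by ext; simpa using h0), ?_⟩
    intro g hg
    rw [mem_centralizer_singleton_iff]
    exact (mem_centralizer_iff.1 hz.2 g hg)
  have hzp : ∃ k, z ^ p ^ k = 1 := pgrp_pelt P.isPGroup' hzP
  have hzH : z ∈ H := by
    rw [← hCy, mem_centralizer_singleton_iff]
    have := mem_centralizer_singleton_iff.1 (hzc (h5 y hyH hyp))
    exact this.symm
  have hHz : H ≤ centralizer ({z} : Set G) := by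
    refine le_iff_parts (p := p) (fun s hs hsp => hzc (h5 s hs hsp)) (fun t ht htp => ?_)
    rw [mem_centralizer_singleton_iff]
    exact (nil_comm h.1 hzH ht (pelt_order hp.out hzp htp)).symm
  rw [← h.cent hCN hz1 hHz]
  exact hzc

theorem MaxNil.hall {H : Subgroup G} (h : MaxNil H) (hCN : IsCNGroup G) : (Nat.card H).Coprime H.index := by
  by_contra hc
  obtain ⟨p, hp, h1, h2⟩ := Nat.Prime.not_coprime_iff_dvd.1 hc
  haveI : Fact p.Prime := ⟨hp⟩
  obtain ⟨P, hP⟩ := h.sylow hCN h1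
  exact P.not_dvd_index (h2.trans (Subgroup.index_dvd_of_le hP))

omit [Finite G] in
theorem map_conj_maxNil {H : Subgroup G} (h : MaxNil H) (g : G) : MaxNil (H.map (MulAut.conj g).toMonoidHom) := by
  refine ⟨nil_image _ h.1, ?_⟩
  intro L hL hle
  have h1 : H ≤ L.map (MulAut.conj g⁻¹).toMonoidHom := by
    intro x hx
    refine ⟨g * x * g⁻¹, hle ⟨x, hx, rfl⟩, ?_⟩
    simp [MulAut.conj_apply, mul_assoc]
  have h2 := h.2 _ (nil_image _ hL) h1
  rw [← h2, Subgroup.map_map]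
  ext x
  constructor
  · intro hx
    exact ⟨x, hx, by simp [MulAut.conj_apply, mul_assoc]⟩
  · rintro ⟨y, hy, rfl⟩
    simpa [MulAut.conj_apply, mul_assoc] using hy

/-- the `p`-elements of a nilpotent subgroup containing a Sylow `p`-subgroup -/
theorem sylow_eq_of_nil {p : ℕ} [hp : Fact p.Prime] (P Q : Sylow p G) {C : Subgroup G} (hC : Group.IsNilpotent C)
    (hP : (P : Subgroup G) ≤ C) (hQ : (Q : Subgroup G) ≤ C) : P = Q := by
  have : (Q : Subgroup G) ≤ P := fun x hx => nil_pelt_mem P hC hP (hQ hx) (pgrp_pelt Q.isPGroup' hx)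
  exact Sylow.ext (Q.is_maximal' P.isPGroup' this)

theorem pow_prime_elt {p : ℕ} (x : G) (hx : p ∣ orderOf x) (hp : p.Prime) :
    ∃ y ∈ zpowers x, y ≠ 1 ∧ y ^ p = 1 := by
  refine ⟨x ^ (orderOf x / p), npow_mem_zpowers _ _, ?_, ?_⟩
  · intro h0
    have h1 := orderOf_dvd_of_pow_eq_one h0
    have h2 : 0 < orderOf x := orderOf_pos x
    have h3 := Nat.div_lt_self h2 hp.one_lt
    have h4 := Nat.div_pos (Nat.le_of_dvd h2 hx) hp.pos
    exact absurd (Nat.le_of_dvd h4 h1) (not_le.2 h3)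
  · rw [← pow_mul, Nat.div_mul_cancel hx, pow_orderOf_eq_one]

theorem MaxNil.ti {H : Subgroup G} (h : MaxNil H) (hCN : IsCNGroup G) (hpp : ¬ IsPrimePow (Nat.card H))
    (h1 : Nat.card H ≠ 1) (g : G) (hg : H.map (MulAut.conj g).toMonoidHom ≠ H) :
    H ⊓ H.map (MulAut.conj g).toMonoidHom = ⊥ := by
  by_contra hne
  obtain ⟨⟨x0, hx0⟩, hx01⟩ := (Subgroup.ne_bot_iff_exists_ne_one).1 hne
  have hx01' : x0 ≠ 1 := fun h0 => hx01 (by ext; simpa using h0)
  obtain ⟨p, hp, hpx⟩ := Nat.exists_prime_and_dvd (n := orderOf x0) (by rwa [ne_eq, orderOf_eq_one_iff])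
  haveI : Fact p.Prime := ⟨hp⟩
  obtain ⟨x, hxz, hx1, hxp⟩ := pow_prime_elt x0 hpx hp
  have hx : x ∈ H ⊓ H.map (MulAut.conj g).toMonoidHom := (zpowers_le.2 hx0) hxz
  have hpH : p ∣ Nat.card H := hpx.trans ((Subgroup.orderOf_dvd_natCard H hx0.1))
  -- a second prime
  obtain ⟨q, hq, hqH, hqp⟩ : ∃ q, q.Prime ∧ q ∣ Nat.card H ∧ q ≠ p := by
    by_contra hcon
    push Not at hcon
    apply hpp
    have h3 : Nat.card H = p ^ (Nat.card H).primeFactorsList.length :=
      Nat.eq_prime_pow_of_unique_prime_dvd Nat.card_pos.ne' (fun {d} hd hdd => hcon d hd hdd)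
    rw [h3, isPrimePow_nat_iff]
    refine ⟨p, _, hp, ?_, rfl⟩
    by_contra h0
    push Not at h0
    have h0' := Nat.le_zero.1 h0
    rw [h0', pow_zero] at h3
    exact h1 h3
  haveI : Fact q.Prime := ⟨hq⟩
  obtain ⟨Q, hQ⟩ := h.sylow hCN hqH
  have hH' := map_conj_maxNil h g
  have hqH' : q ∣ Nat.card ↥(H.map (MulAut.conj g).toMonoidHom) := by
    rwa [Subgroup.card_map_of_injective (MulAut.conj g).injective]
  obtain ⟨Q', hQ'⟩ := hH'.sylow hCN hqH'
  have hxo : ∀ w : G, (∃ k, w ^ q ^ k = 1) → (orderOf x).Coprime (orderOf w) := by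
    intro w hw
    have h3 : orderOf x ∣ p := orderOf_dvd_of_pow_eq_one hxp
    have h4 : (orderOf x).Coprime q := Nat.Coprime.coprime_dvd_left h3 ((Nat.coprime_primes hp hq).2 hqp.symm)
    exact (pelt_order hq hw h4).symm
  have hc1 : (Q : Subgroup G) ≤ centralizer ({x} : Set G) := fun w hw =>
    mem_centralizer_singleton_iff.2 (nil_comm h.1 hx.1 (hQ hw) (hxo w (pgrp_pelt Q.isPGroup' hw))).symm
  have hc2 : (Q' : Subgroup G) ≤ centralizer ({x} : Set G) := fun w hw =>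
    mem_centralizer_singleton_iff.2 (nil_comm hH'.1 hx.2 (hQ' hw) (hxo w (pgrp_pelt Q'.isPGroup' hw))).symm
  have hQQ := sylow_eq_of_nil Q Q' (hCN x hx1) hc1 hc2
  subst hQQ
  obtain ⟨y, hyH, hy1, hyp, hyc⟩ := exists_central_p h.1 hqH
  have hyQ : y ∈ (Q : Subgroup G) := nil_pelt_mem Q h.1 hQ hyH hyp
  have hyH' : y ∈ H.map (MulAut.conj g).toMonoidHom := hQ' hyQ
  have hCy := h.cent hCN hy1 hyc
  -- `y` commutes with all of `H^g`
  obtain ⟨y', hyH2, hy2, hyp2, hyc2⟩ := exists_central_p hH'.1 hqH'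
  have hyQ' : y' ∈ (Q : Subgroup G) := nil_pelt_mem Q hH'.1 hQ' hyH2 hyp2
  have hy'H : y' ∈ H := hQ hyQ'
  have hCy' := hH'.cent hCN hy2 hyc2
  -- the `q'`-elements of `H` commute with `y'`, those of `H^g` with `y`; `Q` is the same
  have hle1 : H.map (MulAut.conj g).toMonoidHom ≤ H := by
    refine le_trans ?_ hCy.le
    refine le_iff_parts (p := q) (fun s hs hsq => ?_) (fun t ht htq => ?_)
    · exact hyc (hQ (nil_pelt_mem Q hH'.1 hQ' hs hsq))
    · exact mem_centralizer_singleton_iff.2 (nil_comm hH'.1 hyH' ht (pelt_order hq hyp htq)).symm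
  apply hg
  exact (hH'.2 H h.1 hle1).symm

theorem MaxNil.cent_le {H : Subgroup G} (h : MaxNil H) (hCN : IsCNGroup G)
    (hti : ∀ g : G, H.map (MulAut.conj g).toMonoidHom ≠ H → H ⊓ H.map (MulAut.conj g).toMonoidHom = ⊥)
    (x : G) (hx : x ∈ H) (hx1 : x ≠ 1) : centralizer ({x} : Set G) ≤ H := by
  obtain ⟨p, hp, hpx⟩ := Nat.exists_prime_and_dvd (n := orderOf x) (by rwa [ne_eq, orderOf_eq_one_iff])
  haveI : Fact p.Prime := ⟨hp⟩
  have hpH : p ∣ Nat.card H := hpx.trans ((Subgroup.orderOf_dvd_natCard H hx))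
  obtain ⟨P, hP⟩ := h.sylow hCN hpH
  obtain ⟨y, hyH, hy1, hyp, hyc⟩ := exists_central_p h.1 hpH
  have hCy := h.cent hCN hy1 hyc
  have hyx : y ∈ centralizer ({x} : Set G) := by
    rw [mem_centralizer_singleton_iff]
    exact (mem_centralizer_singleton_iff.1 (hyc hx)).symm
  have hnorm : ∀ g ∈ centralizer ({x} : Set G), H.map (MulAut.conj g).toMonoidHom = H := by
    intro g hg
    by_contra hne
    have h1 := hti g hne
    have h2 : x ∈ H ⊓ H.map (MulAut.conj g).toMonoidHom := by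
      refine ⟨hx, x, hx, ?_⟩
      have := mem_centralizer_singleton_iff.1 hg
      simp [MulAut.conj_apply, this]
    rw [h1, mem_bot] at h2
    exact hx1 h2
  refine le_iff_parts (p := p) (fun s hs hsp => ?_) (fun t ht htp => ?_)
  · -- s normalizes P
    have h1 := hnorm s hs
    have hsn : s ∈ normalizer ((P : Subgroup G) : Set G) := by
      rw [mem_normalizer_iff]
      have key : ∀ u : G, H.map (MulAut.conj u).toMonoidHom = H → ∀ w ∈ (P : Subgroup G), u * w * u⁻¹ ∈ (P : Subgroup G) := by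
        intro u hu w hw
        have h3 : u * w * u⁻¹ ∈ H := by
          rw [← hu]; exact ⟨w, hP hw, rfl⟩
        refine nil_pelt_mem P h.1 hP h3 ?_
        obtain ⟨k, hk⟩ := pgrp_pelt P.isPGroup' hw
        refine ⟨k, ?_⟩
        rw [conj_pow, hk]; simp
      intro w
      refine ⟨key s h1 w, fun hw => ?_⟩
      have := key s⁻¹ (hnorm _ (inv_mem hs)) _ hw
      simpa [mul_assoc] using this
    have hsP : s ∈ (P : Subgroup G) := by
      have h4 : IsPGroup p (zpowers s) := isPGroup_zpowers hsp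
      have h5 : zpowers s ≤ normalizer ((P : Subgroup G) : Set G) := zpowers_le.2 hsn
      have h6 : IsPGroup p ↥(zpowers s ⊔ (P : Subgroup G)) :=
        IsPGroup.to_sup_of_normal_right' h4 P.isPGroup' h5
      have h7 := P.is_maximal' h6 le_sup_right
      rw [← h7]
      exact (le_sup_left : zpowers s ≤ _) (mem_zpowers s)
    exact hP hsP
  · rw [← hCy, mem_centralizer_singleton_iff]
    exact (nil_comm (hCN x hx1) hyx ht (pelt_order hp hyp htp)).symm

end Cfsg.Agent.H4
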