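import Cfsg.Agent.H4.CharTwo
import Cfsg.Agent.H2.PComp2

/-! # Characteristic p passes to subnormal subgroups -/

namespace Cfsg.Agent.H4
open Subgroup

theorem solv_of_pgroup {G : Type*} [Group G] [Finite G] {p : ℕ} [Fact p.Prime] (h : IsPGroup p G) : Group.IsSolvable G := by
  haveI : Group.IsNilpotent G := h.isNilpotent
  infer_instance

theorem char_p_of_no_comp {C : Type*} [Group C] [Finite C] {p : ℕ} [Fact p.Prime] (hO : pPrimeCore p C = ⊥) (hl : layer C = ⊥) :
    centralizer (pCore p C : Set C) ≤ pCore p C := by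
  have h1 := L0.centralizer_generalizedFitting_le C
  have h2 : generalizedFittingSubgroup C ≤ pCore p C := by
    unfold generalizedFittingSubgroup
    rw [hl, bot_sup_eq]
    haveI : (fittingSubgroup C).Normal := inferInstance
    exact L0.le_pCore (H6.isPGroup_fitting hO)
  exact (Subgroup.centralizer_le h2).trans (h1.trans h2)

theorem no_comp_of_char_p {X : Type*} [Group X] [Finite X] {p : ℕ} [hp : Fact p.Prime]
    (hX : Subgroup.centralizer (pCore p X : Set X) ≤ pCore p X) : pPrimeCore p X = ⊥ ∧ layer X = ⊥ := by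
  have hP := L0.pCore_isPGroup p X
  constructor
  · have hdis : pPrimeCore p X ⊓ pCore p X = ⊥ := by
      apply Subgroup.inf_eq_bot_of_coprime
      obtain ⟨k, hk⟩ := IsPGroup.iff_card.mp hP
      rw [hk]
      exact (L0.pPrimeCore_coprime p X).pow_right k
    have h1 : ⁅pPrimeCore p X, pCore p X⁆ = ⊥ := by
      rw [eq_bot_iff, ← hdis]
      exact Subgroup.commutator_le_inf _ _
    rw [commutator_eq_bot_iff_le_centralizer] at h1
    have h2 := h1.trans hX
    rw [eq_bot_iff, ← hdis]
    exact le_inf le_rfl h2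
  · rw [eq_bot_iff, L0.layer_le_iff]
    intro K hK
    exfalso
    have h1 := L0.component_commutator_solvable (N := pCore p X) hK (solv_of_pgroup hP)
    rw [commutator_eq_bot_iff_le_centralizer] at h1
    have h2 := h1.trans hX
    exact L0.quasisimple_not_isSolvable hK.2 (solv_of_pgroup (hP.to_le h2))

theorem char_p_subnormal {X : Type*} [Group X] [Finite X] {p : ℕ} [Fact p.Prime]
    (hX : Subgroup.centralizer (pCore p X : Set X) ≤ pCore p X) (Y : Subgroup X) (hY : Y.IsSubnormal) :
    Subgroup.centralizer (pCore p ↥Y : Set ↥Y) ≤ pCore p ↥Y := by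
  obtain ⟨h1, h2⟩ := no_comp_of_char_p hX
  apply char_p_of_no_comp
  · have h3 := H2.pPrimeCore_subnormal (p := p) hY
    rw [h1, bot_inf_eq] at h3
    exact (Subgroup.map_eq_bot_iff_of_injective _ Y.subtype_injective).1 h3
  · have h3 := L0.layer_map_subtype_le hY
    rw [h2, le_bot_iff] at h3
    exact (Subgroup.map_eq_bot_iff_of_injective _ Y.subtype_injective).1 h3

end Cfsg.Agent.H4
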