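import Mathlib

set_option linter.all false
set_option autoImplicit false

namespace Cfsg.Agent.H4
universe u v

section
variable {G : Type u} [Group G] [Finite G]

noncomputable def finCons (T : Type v) [Group T] (m : ℕ) : T × (Fin m → T) ≃* (Fin (m + 1) → T) where
  toFun x := Fin.cons x.1 x.2
  invFun f := (f 0, Fin.tail f)
  left_inv x := by simp
  right_inv f := by simp
  map_mul' x y := by
    funext i
    refine Fin.cases ?_ (fun j => ?_) i
    · simp
    · simp

theorem good_step {K T' : Subgroup G} (hK : K.Normal) (hT : T'.Normal) (hd : K ⊓ T' = ⊥) {T : Type v} [Group T] {m : ℕ}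
    (e : K ≃* (Fin m → T)) (e' : T' ≃* T) : Nonempty (↥(K ⊔ T') ≃* (Fin (m + 1) → T)) := by
  classical
  have hcomm : ∀ k ∈ K, ∀ t ∈ T', k * t = t * k := by
    intro k hk t ht
    have h1 : k * t * k⁻¹ * t⁻¹ ∈ K ⊓ T' := by
      refine ⟨?_, ?_⟩
      · rw [mul_assoc, mul_assoc]
        refine K.mul_mem hk ?_
        rw [← mul_assoc]
        exact hK.conj_mem _ (K.inv_mem hk) t
      · exact T'.mul_mem (hT.conj_mem t ht k) (T'.inv_mem ht)
    rw [hd, Subgroup.mem_bot, mul_inv_eq_one, mul_inv_eq_iff_eq_mul] at h1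
    exact h1
  let f : K × T' →* G :=
    { toFun := fun x => (x.1 : G) * x.2
      map_one' := by simp
      map_mul' := by
        rintro ⟨a, b⟩ ⟨c, d⟩
        show (a : G) * c * (b * d) = a * b * (c * d)
        rw [mul_assoc, mul_assoc, ← mul_assoc (c : G) b d, hcomm c c.2 b b.2, mul_assoc (b : G) c d] }
  have hf : Function.Injective f := by
    rw [injective_iff_map_eq_one]
    rintro ⟨a, b⟩ h
    have h1 : (a : G) * b = 1 := h
    have h2 : (a : G) = (b : G)⁻¹ := eq_inv_of_mul_eq_one_left h1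
    have h3 : (a : G) ∈ K ⊓ T' := ⟨a.2, h2 ▸ T'.inv_mem b.2⟩
    rw [hd, Subgroup.mem_bot] at h3
    rw [h3, one_mul] at h1
    exact Prod.ext (Subtype.ext h3) (Subtype.ext h1)
  have hr : f.range = K ⊔ T' := by
    apply le_antisymm
    · rintro _ ⟨⟨a, b⟩, rfl⟩
      exact Subgroup.mul_mem_sup a.2 b.2
    · refine sup_le ?_ ?_
      · intro k hk
        exact ⟨(⟨k, hk⟩, 1), by show k * 1 = k; rw [mul_one]⟩
      · intro t ht
        exact ⟨(1, ⟨t, ht⟩), by show 1 * t = t; rw [one_mul]⟩
  rw [← hr]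
  exact ⟨(MonoidHom.ofInjective hf).symm.trans (((MulEquiv.prodCongr e e').trans MulEquiv.prodComm).trans (finCons T m))⟩

theorem char_simple_core [Nontrivial G] (𝒜 : Set (MulAut G)) (h : ∀ K : Subgroup G, K.Normal → (∀ α ∈ 𝒜, K.map (α : MulAut G).toMonoidHom = K) → K = ⊥ ∨ K = ⊤)
    (h1 : (1 : MulAut G) ∈ 𝒜) (hmul : ∀ α ∈ 𝒜, ∀ β ∈ 𝒜, α * β ∈ 𝒜) : ∃ (T : Subgroup G) (m : ℕ), IsSimpleGroup T ∧ 1 ≤ m ∧ Nonempty (G ≃* (Fin m → T)) := by
  classical
  obtain ⟨T, ⟨hTn, hT1⟩, hTmin⟩ := Set.exists_min_image {T : Subgroup G | T.Normal ∧ T ≠ ⊥} (fun T => Nat.card T) (Set.toFinite _)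
    ⟨⊤, (inferInstance : (⊤ : Subgroup G).Normal), top_ne_bot⟩
  obtain ⟨K, ⟨hKn, mK, ⟨eK⟩⟩, hKmax⟩ := Set.exists_max_image {K : Subgroup G | K.Normal ∧ ∃ m, Nonempty (K ≃* (Fin m → T))} (fun K => Nat.card K) (Set.toFinite _)
    ⟨⊥, inferInstance, 0, ⟨{ toFun := fun _ => 1, invFun := fun _ => 1, left_inv := fun x => Subsingleton.elim _ _, right_inv := fun x => Subsingleton.elim _ _, map_mul' := fun _ _ => by simp }⟩⟩
  have hin : ∀ α ∈ 𝒜, T.map (α : MulAut G).toMonoidHom ≤ K := by
    intro α hα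
    have hTan : (T.map (α : MulAut G).toMonoidHom).Normal := hTn.map _ α.surjective
    have hcard : Nat.card (T.map (α : MulAut G).toMonoidHom) = Nat.card T :=
      Nat.card_congr (T.equivMapOfInjective α.toMonoidHom α.injective).symm.toEquiv
    by_cases hb : K ⊓ T.map (α : MulAut G).toMonoidHom = ⊥
    · exfalso
      obtain ⟨e⟩ := good_step hKn hTan hb eK (T.equivMapOfInjective α.toMonoidHom α.injective).symm
      have h2 := hKmax (K ⊔ T.map (α : MulAut G).toMonoidHom) ⟨inferInstance, _, ⟨e⟩⟩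
      have h3 : K = K ⊔ T.map (α : MulAut G).toMonoidHom := Subgroup.eq_of_le_of_card_ge le_sup_left h2
      have h4 : T.map (α : MulAut G).toMonoidHom ≤ K := h3 ▸ le_sup_right
      rw [inf_eq_right.mpr h4] at hb
      rw [hb, Subgroup.card_bot] at hcard
      exact hT1 (Subgroup.card_eq_one.mp hcard.symm)
    · have h2 := hTmin (K ⊓ T.map (α : MulAut G).toMonoidHom) ⟨inferInstance, hb⟩
      rw [← hcard] at h2
      have h3 : K ⊓ T.map (α : MulAut G).toMonoidHom = T.map (α : MulAut G).toMonoidHom := Subgroup.eq_of_le_of_card_ge inf_le_right h2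
      rw [← h3]; exact inf_le_left
  set L : Subgroup G := ⨆ α : 𝒜, T.map (α : MulAut G).toMonoidHom with hL
  have hLK : L ≤ K := iSup_le fun α => hin α α.2
  have hLn : L.Normal := by
    rw [hL]
    haveI : ∀ α : 𝒜, (T.map (α : MulAut G).toMonoidHom).Normal := fun α => hTn.map _ (α : MulAut G).surjective
    exact Subgroup.iSup_normal _
  have hLinv : ∀ β ∈ 𝒜, L.map (β : MulAut G).toMonoidHom = L := by
    intro β hβ
    apply Subgroup.eq_of_le_of_card_ge
    · rw [hL, Subgroup.map_iSup]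
      refine iSup_le fun α => ?_
      rw [Subgroup.map_map]
      exact le_iSup (fun γ : 𝒜 => T.map (γ : MulAut G).toMonoidHom) ⟨β * α, hmul β hβ α α.2⟩
    · rw [Nat.card_congr (L.equivMapOfInjective β.toMonoidHom β.injective).symm.toEquiv]
  have hLtop : L = ⊤ := by
    rcases h L hLn hLinv with hb | hb
    · exfalso
      apply hT1
      rw [eq_bot_iff, ← hb]
      have : T ≤ T.map (1 : MulAut G).toMonoidHom := fun x hx => ⟨x, hx, rfl⟩
      exact this.trans (le_iSup (fun γ : 𝒜 => T.map (γ : MulAut G).toMonoidHom) ⟨1, h1⟩)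
    · exact hb
  have hKtop : K = ⊤ := by rw [eq_top_iff, ← hLtop]; exact hLK
  subst hKtop
  let e : G ≃* (Fin mK → T) := Subgroup.topEquiv.symm.trans eK
  have hm : 1 ≤ mK := by
    rcases Nat.eq_zero_or_pos mK with h0 | h0
    · exfalso
      subst h0
      haveI : Subsingleton G := e.toEquiv.subsingleton
      exact not_subsingleton G inferInstance
    · exact h0
  refine ⟨T, mK, ?_, hm, ⟨e⟩⟩
  haveI : Nontrivial T := (Subgroup.nontrivial_iff_ne_bot T).mpr hT1
  refine ⟨fun R hR => ?_⟩
  by_cases hRb : R = ⊥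
  · exact Or.inl hRb
  right
  let i0 : Fin mK := ⟨0, hm⟩
  let ι : T →* (Fin mK → T) := MonoidHom.mulSingle (fun _ => T) i0
  have hι : Function.Injective ι := Pi.mulSingle_injective (M := fun _ : Fin mK => T) i0
  have hR'n : (R.map ι).Normal := by
    refine ⟨?_⟩
    rintro _ ⟨r, hr, rfl⟩ g
    refine ⟨g i0 * r * (g i0)⁻¹, hR.conj_mem r hr _, ?_⟩
    funext j
    show (Pi.mulSingle i0 (g i0 * r * (g i0)⁻¹) : Fin mK → T) j = g j * (Pi.mulSingle i0 r : Fin mK → T) j * (g j)⁻¹
    by_cases hj : j = i0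
    · subst hj; simp
    · rw [Pi.mulSingle_eq_of_ne hj, Pi.mulSingle_eq_of_ne hj]; simp
  have hR''n : ((R.map ι).map e.symm.toMonoidHom).Normal := hR'n.map _ e.symm.surjective
  have hcard : Nat.card ((R.map ι).map e.symm.toMonoidHom) = Nat.card R := by
    rw [Nat.card_congr ((R.map ι).equivMapOfInjective e.symm.toMonoidHom e.symm.injective).symm.toEquiv,
      Nat.card_congr (R.equivMapOfInjective ι hι).symm.toEquiv]
  have hne : (R.map ι).map e.symm.toMonoidHom ≠ ⊥ := by
    intro hb
    rw [hb, Subgroup.card_bot] at hcard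
    exact hRb (Subgroup.card_eq_one.mp hcard.symm)
  have h2 := hTmin _ ⟨hR''n, hne⟩
  rw [hcard] at h2
  exact Subgroup.eq_top_of_le_card R h2

end

theorem simple_shrink {T : Type u} [Group T] [Finite T] [IsSimpleGroup T] : ∃ (S : Type) (_ : Group S), IsSimpleGroup S ∧ Nonempty (T ≃* S) := by
  haveI : Small.{0} T := inferInstance
  refine ⟨Shrink.{0} T, inferInstance, ?_, ⟨Shrink.mulEquiv.symm⟩⟩
  exact (Shrink.mulEquiv (α := T)).isSimpleGroup

theorem char_simple_core0 {G : Type u} [Group G] [Finite G] [Nontrivial G] (𝒜 : Set (MulAut G)) (h : ∀ K : Subgroup G, K.Normal → (∀ α ∈ 𝒜, K.map (α : MulAut G).toMonoidHom = K) → K = ⊥ ∨ K = ⊤)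
    (h1 : (1 : MulAut G) ∈ 𝒜) (hmul : ∀ α ∈ 𝒜, ∀ β ∈ 𝒜, α * β ∈ 𝒜) : ∃ (T : Type) (_ : Group T) (m : ℕ), IsSimpleGroup T ∧ 1 ≤ m ∧ Nonempty (G ≃* (Fin m → T)) := by
  obtain ⟨T, m, hT, hm, ⟨e⟩⟩ := char_simple_core 𝒜 h h1 hmul
  haveI := hT
  obtain ⟨S, hSg, hS, ⟨f⟩⟩ := simple_shrink (T := T)
  exact ⟨S, hSg, m, hS, hm, ⟨e.trans (MulEquiv.piCongrRight fun _ => f)⟩⟩

theorem min_normal_prod {H : Type u} [Group H] [Finite H] (N : Subgroup H) [hNn : N.Normal] (hN : N ≠ ⊥)
    (hmin : ∀ M : Subgroup H, M.Normal → M ≤ N → M = ⊥ ∨ M = N) : ∃ (T : Type) (_ : Group T) (m : ℕ), IsSimpleGroup T ∧ 0 < m ∧ Nonempty (N ≃* (Fin m → T)) := by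
  haveI : Nontrivial N := (Subgroup.nontrivial_iff_ne_bot N).mpr hN
  refine char_simple_core0 (Set.range (MulAut.conjNormal : H →* MulAut N)) ?_ ⟨1, map_one _⟩ ?_
  · intro K hK hinv
    have hKn : (K.map N.subtype).Normal := by
      refine ⟨?_⟩
      rintro _ ⟨k, hk, rfl⟩ g
      have h1 := hinv _ ⟨g, rfl⟩
      have h2 : MulAut.conjNormal g k ∈ K := by
        rw [← h1]; exact ⟨k, hk, rfl⟩
      exact ⟨_, h2, by rw [Subgroup.coe_subtype, MulAut.conjNormal_apply]⟩
    rcases hmin _ hKn (Subgroup.map_subtype_le K) with h1 | h1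
    · left
      rw [Subgroup.map_eq_bot_iff, Subgroup.ker_subtype, le_bot_iff] at h1
      exact h1
    · right
      rw [eq_top_iff]
      intro x _
      have : (x : H) ∈ K.map N.subtype := h1.ge x.2
      obtain ⟨k, hk, hkx⟩ := this
      have : k = x := Subtype.ext hkx
      rwa [← this]
  · rintro _ ⟨a, rfl⟩ _ ⟨b, rfl⟩
    exact ⟨a * b, map_mul _ _ _⟩

theorem char_simple_pow {S : Type} [Group S] [IsSimpleGroup S] [Finite S] (n : ℕ) (hn : 1 ≤ n) (H : Subgroup (Fin n → S)) (hH : H.Characteristic) :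
    H = ⊥ ∨ H = ⊤ := by
  classical
  by_cases hb : H = ⊥
  · exact Or.inl hb
  right
  haveI := hH
  have hHn : H.Normal := inferInstance
  have hauto : ∀ (α : MulAut (Fin n → S)) (x : Fin n → S), x ∈ H → α x ∈ H := by
    intro α x hx
    have := Subgroup.characteristic_iff_map_eq.mp hH α
    rw [← this]; exact ⟨x, hx, rfl⟩
  -- permutation automorphisms
  have hperm : ∀ (i j : Fin n) (s : S), Pi.mulSingle i s ∈ H → Pi.mulSingle j s ∈ H := by
    intro i j s hs
    let α : MulAut (Fin n → S) :=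
      { toFun := fun f k => f (Equiv.swap i j k), invFun := fun f k => f (Equiv.swap i j k),
        left_inv := fun f => by funext k; simp, right_inv := fun f => by funext k; simp, map_mul' := fun f g => rfl }
    have h1 := hauto α _ hs
    convert h1 using 1
    funext k
    show (Pi.mulSingle j s : Fin n → S) k = (Pi.mulSingle i s : Fin n → S) (Equiv.swap i j k)
    by_cases hk : k = j
    · subst hk; rw [Equiv.swap_apply_right, Pi.mulSingle_eq_same, Pi.mulSingle_eq_same]
    · by_cases hki : k = i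
      · subst hki
        rw [Equiv.swap_apply_left, Pi.mulSingle_eq_of_ne hk, Pi.mulSingle_eq_of_ne (fun h => hk h.symm)]
      · rw [Equiv.swap_apply_of_ne_of_ne hki hk, Pi.mulSingle_eq_of_ne hk, Pi.mulSingle_eq_of_ne hki]
  obtain ⟨i, s, hs1, hs⟩ : ∃ (i : Fin n) (s : S), s ≠ 1 ∧ Pi.mulSingle i s ∈ H := by
    obtain ⟨⟨x, hx⟩, hx1⟩ := Subgroup.ne_bot_iff_exists_ne_one.mp hb
    have hx1' : x ≠ 1 := fun h => hx1 (Subtype.ext h)
    obtain ⟨i, hi⟩ := Function.ne_iff.mp hx1'
    by_cases hc : ∀ s : S, x i * s = s * x i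
    · -- central: `S` is abelian
      have hcomm : ∀ a b : S, a * b = b * a := by
        have h1 : Subgroup.center S = ⊤ := by
          rcases (inferInstance : (Subgroup.center S).Normal).eq_bot_or_eq_top with h | h
          · exfalso
            have : x i ∈ Subgroup.center S := by
              rw [Subgroup.mem_center_iff]; intro g; exact (hc g).symm
            rw [h, Subgroup.mem_bot] at this
            exact hi this
          · exact h
        intro a b
        exact (Subgroup.mem_center_iff.mp (h1 ▸ Subgroup.mem_top b)) a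
      by_cases hj : ∃ j, j ≠ i
      · obtain ⟨j, hji⟩ := hj
        let α : MulAut (Fin n → S) :=
          { toFun := fun f => f * Pi.mulSingle j (f i), invFun := fun f => f * Pi.mulSingle j (f i)⁻¹,
            left_inv := fun f => by
              simp only [Pi.mul_apply, Pi.mulSingle_eq_of_ne (Ne.symm hji), mul_one]
              rw [mul_assoc, ← Pi.mulSingle_mul, mul_inv_cancel, Pi.mulSingle_one, mul_one]
            right_inv := fun f => by
              simp only [Pi.mul_apply, Pi.mulSingle_eq_of_ne (Ne.symm hji), mul_one]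
              rw [mul_assoc, ← Pi.mulSingle_mul, inv_mul_cancel, Pi.mulSingle_one, mul_one]
            map_mul' := fun f g => by
              rw [Pi.mul_apply, Pi.mulSingle_mul]
              funext k
              simp only [Pi.mul_apply]
              rw [mul_assoc, mul_assoc, ← mul_assoc (g k), hcomm (g k), mul_assoc] }
        have h1 := hauto α x hx
        have h2 : x⁻¹ * (x * Pi.mulSingle j (x i)) ∈ H := H.mul_mem (H.inv_mem hx) h1
        rw [inv_mul_cancel_left] at h2
        exact ⟨j, x i, hi, h2⟩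
      · push Not at hj
        refine ⟨i, x i, hi, ?_⟩
        convert hx using 1
        funext k
        rw [hj k, Pi.mulSingle_eq_same]
    · push Not at hc
      obtain ⟨s, hs⟩ := hc
      refine ⟨i, x i * s * (x i)⁻¹ * s⁻¹, ?_, ?_⟩
      · intro h
        rw [mul_inv_eq_one, mul_inv_eq_iff_eq_mul] at h
        exact hs h
      · have h1 : x * (Pi.mulSingle i s * x⁻¹ * (Pi.mulSingle i s)⁻¹) ∈ H := H.mul_mem hx (hHn.conj_mem _ (H.inv_mem hx) _)
        convert h1 using 1
        funext k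
        by_cases hk : k = i
        · subst hk
          simp only [Pi.mul_apply, Pi.inv_apply, Pi.mulSingle_eq_same]; group
        · simp only [Pi.mul_apply, Pi.inv_apply, Pi.mulSingle_eq_of_ne hk]; group
  -- the coordinate subgroup is everything
  have hall : ∀ s : S, Pi.mulSingle i s ∈ H := by
    have hn' : (H.comap (MonoidHom.mulSingle (fun _ : Fin n => S) i)).Normal := hHn.comap _
    rcases hn'.eq_bot_or_eq_top with h1 | h1
    · exfalso
      have : s ∈ H.comap (MonoidHom.mulSingle (fun _ : Fin n => S) i) := hs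
      rw [h1, Subgroup.mem_bot] at this
      exact hs1 this
    · intro t
      have : t ∈ H.comap (MonoidHom.mulSingle (fun _ : Fin n => S) i) := h1 ▸ Subgroup.mem_top t
      exact this
  rw [eq_top_iff]
  intro f _
  rw [← Finset.noncommProd_mulSingle f]
  apply Subgroup.noncommProd_mem
  intro j _
  exact hperm i j _ (hall (f j))

theorem char_simple_iff {G : Type u} [Group G] [Finite G] [Nontrivial G] : (∀ H : Subgroup G, H.Characteristic → H = ⊥ ∨ H = ⊤) ↔
    ∃ (S : Type) (_ : Group S) (_ : IsSimpleGroup S) (n : ℕ), 1 ≤ n ∧ Nonempty (G ≃* (Fin n → S)) := by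
  constructor
  · intro h
    obtain ⟨T, hTg, m, hT, hm, e⟩ := char_simple_core0 (G := G) Set.univ (fun K hK hinv => h K (Subgroup.characteristic_iff_map_eq.mpr fun α => hinv α trivial)) trivial
      (fun _ _ _ _ => trivial)
    exact ⟨T, hTg, hT, m, hm, e⟩
  · rintro ⟨S, hSg, hS, n, hn, ⟨e⟩⟩ H hH
    haveI : Finite (Fin n → S) := Finite.of_equiv G e.toEquiv
    haveI : Finite S := by
      have hinj : Function.Injective (fun s : S => (Pi.mulSingle (M := fun _ : Fin n => S) ⟨0, hn⟩ s)) := Pi.mulSingle_injective (M := fun _ : Fin n => S) _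
      exact Finite.of_injective _ hinj
    have hH' : (H.map e.toMonoidHom).Characteristic := by
      rw [Subgroup.characteristic_iff_map_eq]
      intro α
      have h1 := Subgroup.characteristic_iff_map_eq.mp hH ((e.trans α).trans e.symm)
      conv_rhs => rw [← h1]
      rw [Subgroup.map_map, Subgroup.map_map]
      congr 1
      ext x
      simp
    rcases char_simple_pow n hn (H.map e.toMonoidHom) hH' with h1 | h1
    · left
      rw [Subgroup.map_eq_bot_iff] at h1
      rw [eq_bot_iff]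
      refine h1.trans ?_
      intro x hx
      exact e.injective (by rw [map_one]; exact hx)
    · right
      rw [eq_top_iff]
      intro x _
      obtain ⟨y, hy, hyx⟩ := h1.ge (Subgroup.mem_top (e x))
      have : y = x := e.injective hyx
      rwa [← this]

end Cfsg.Agent.H4
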