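import Cfsg.Prelude.Def_Characters
import Cfsg.Prelude.Def_Blocks
import Cfsg.Agent.H4.Gallagher
import Cfsg.Agent.H4.Mult
import Cfsg.Agent.H4.BrauerInd4
import Mathlib

set_option linter.all false
set_option autoImplicit false

/-! The extension group: a finite group over which an invariant character extends. -/

namespace Cfsg.Agent.H4

open Module
open scoped ComplexConjugate

universe u v w

section Ext
variable {G : Type u} [Group G] {N : Subgroup G} {V : Type v} [AddCommGroup V] [Module ℂ V]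

lemma conjAut_mul (hN : N.Normal) (g h : G) (n : N) : conjAut hN (g * h) n = conjAut hN g (conjAut hN h n) := by
  apply Subtype.ext; rw [conjAut_coe, conjAut_coe, conjAut_coe]; group

lemma conjAut_one (hN : N.Normal) (n : N) : conjAut hN 1 n = n := by
  apply Subtype.ext; rw [conjAut_coe]; simp

lemma conjAut_inv (hN : N.Normal) (g : G) (n : N) : conjAut hN g⁻¹ (conjAut hN g n) = n := by
  rw [← conjAut_mul, inv_mul_cancel, conjAut_one]

lemma conjAut_inv' (hN : N.Normal) (g : G) (n : N) : conjAut hN g (conjAut hN g⁻¹ n) = n := by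
  rw [← conjAut_mul, mul_inv_cancel, conjAut_one]

/-- pairs `(g, A)` with `A` intertwining `τ` and its conjugate, `det A ^ k = 1` -/
def extGrp (hN : N.Normal) (τ : Representation ℂ N V) (k : ℕ) : Subgroup (G × (V →ₗ[ℂ] V)ˣ) where
  carrier := {x | (∀ n : N, (x.2 : V →ₗ[ℂ] V) * τ n = τ (conjAut hN x.1 n) * (x.2 : V →ₗ[ℂ] V)) ∧
    (LinearMap.det (x.2 : V →ₗ[ℂ] V)) ^ k = 1}
  mul_mem' := by
    rintro ⟨g, A⟩ ⟨h, B⟩ ⟨h1, h2⟩ ⟨h3, h4⟩
    refine ⟨fun n => ?_, ?_⟩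
    · show ((A * B : (V →ₗ[ℂ] V)ˣ) : V →ₗ[ℂ] V) * τ n = τ (conjAut hN (g * h) n) * ((A * B : (V →ₗ[ℂ] V)ˣ) : V →ₗ[ℂ] V)
      rw [Units.val_mul, mul_assoc, h3 n, ← mul_assoc, h1, conjAut_mul, mul_assoc]
    · show (LinearMap.det ((A * B : (V →ₗ[ℂ] V)ˣ) : V →ₗ[ℂ] V)) ^ k = 1
      rw [Units.val_mul, map_mul, mul_pow]
      have h2' : (LinearMap.det (A : V →ₗ[ℂ] V)) ^ k = 1 := h2
      have h4' : (LinearMap.det (B : V →ₗ[ℂ] V)) ^ k = 1 := h4
      rw [h2', h4', one_mul]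
  one_mem' := by
    refine ⟨fun n => ?_, ?_⟩
    · show (1 : V →ₗ[ℂ] V) * τ n = τ (conjAut hN 1 n) * (1 : V →ₗ[ℂ] V)
      rw [conjAut_one, one_mul, mul_one]
    · show (LinearMap.det (1 : V →ₗ[ℂ] V)) ^ k = 1
      rw [map_one, one_pow]
  inv_mem' := by
    rintro ⟨g, A⟩ ⟨h1, h2⟩
    have hAA : (A : V →ₗ[ℂ] V) * ((A⁻¹ : (V →ₗ[ℂ] V)ˣ) : V →ₗ[ℂ] V) = 1 := by rw [← Units.val_mul, mul_inv_cancel]; rfl
    have hAA' : ((A⁻¹ : (V →ₗ[ℂ] V)ˣ) : V →ₗ[ℂ] V) * (A : V →ₗ[ℂ] V) = 1 := by rw [← Units.val_mul, inv_mul_cancel]; rfl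
    refine ⟨fun n => ?_, ?_⟩
    · show ((A⁻¹ : (V →ₗ[ℂ] V)ˣ) : V →ₗ[ℂ] V) * τ n = τ (conjAut hN g⁻¹ n) * ((A⁻¹ : (V →ₗ[ℂ] V)ˣ) : V →ₗ[ℂ] V)
      have h3 := h1 (conjAut hN g⁻¹ n)
      have h3' : (A : V →ₗ[ℂ] V) * τ (conjAut hN g⁻¹ n) = τ (conjAut hN g (conjAut hN g⁻¹ n)) * (A : V →ₗ[ℂ] V) := h3
      rw [conjAut_inv'] at h3'
      calc ((A⁻¹ : (V →ₗ[ℂ] V)ˣ) : V →ₗ[ℂ] V) * τ n
          = ((A⁻¹ : (V →ₗ[ℂ] V)ˣ) : V →ₗ[ℂ] V) * (τ n * (A : V →ₗ[ℂ] V)) * ((A⁻¹ : (V →ₗ[ℂ] V)ˣ) : V →ₗ[ℂ] V) := by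
            rw [mul_assoc, mul_assoc, hAA, mul_one]
        _ = ((A⁻¹ : (V →ₗ[ℂ] V)ˣ) : V →ₗ[ℂ] V) * ((A : V →ₗ[ℂ] V) * τ (conjAut hN g⁻¹ n)) * ((A⁻¹ : (V →ₗ[ℂ] V)ˣ) : V →ₗ[ℂ] V) := by
            rw [h3']
        _ = _ := by rw [← mul_assoc, hAA', one_mul]
    · show (LinearMap.det ((A⁻¹ : (V →ₗ[ℂ] V)ˣ) : V →ₗ[ℂ] V)) ^ k = 1
      have h2' : (LinearMap.det (A : V →ₗ[ℂ] V)) ^ k = 1 := h2
      have h5 : LinearMap.det ((A⁻¹ : (V →ₗ[ℂ] V)ˣ) : V →ₗ[ℂ] V) * LinearMap.det (A : V →ₗ[ℂ] V) = 1 := by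
        rw [← map_mul, hAA', map_one]
      have h6 := congrArg (fun z => z ^ k) h5
      simp only [mul_pow, h2', mul_one, one_pow] at h6
      exact h6

variable (hN : N.Normal) (τ : Representation ℂ N V) (k : ℕ)

/-- the projection to `G` -/
def extG : extGrp hN τ k →* G := (MonoidHom.fst G (V →ₗ[ℂ] V)ˣ).comp (extGrp hN τ k).subtype

/-- the extending representation -/
def extRep : Representation ℂ (extGrp hN τ k) V :=
  (Units.coeHom (V →ₗ[ℂ] V)).comp ((MonoidHom.snd G (V →ₗ[ℂ] V)ˣ).comp (extGrp hN τ k).subtype)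

lemma extRep_apply (x : extGrp hN τ k) : extRep hN τ k x = ((x : G × (V →ₗ[ℂ] V)ˣ).2 : V →ₗ[ℂ] V) := rfl

lemma extG_apply (x : extGrp hN τ k) : extG hN τ k x = (x : G × (V →ₗ[ℂ] V)ˣ).1 := rfl

lemma extRep_intertwine (x : extGrp hN τ k) (n : N) :
    extRep hN τ k x * τ n = τ (conjAut hN (extG hN τ k x) n) * extRep hN τ k x := x.2.1 n

/-- unit from a representation -/
def repUnit {H : Type*} [Group H] (ρ : Representation ℂ H V) : H →* (V →ₗ[ℂ] V)ˣ := MonoidHom.toHomUnits ρ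

lemma repUnit_coe {H : Type*} [Group H] (ρ : Representation ℂ H V) (h : H) : (repUnit ρ h : V →ₗ[ℂ] V) = ρ h := rfl

/-- the embedding of `N` -/
def extEmb (hk : ∀ n : N, (LinearMap.det (τ n)) ^ k = 1) : N →* extGrp hN τ k :=
  ((N.subtype.prod (repUnit τ))).codRestrict (extGrp hN τ k) (by
    intro n
    refine ⟨fun m => ?_, ?_⟩
    · show τ n * τ m = τ (conjAut hN (n : G) m) * τ n
      rw [← map_mul, ← map_mul]
      congr 1
      apply Subtype.ext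
      rw [Subgroup.coe_mul, Subgroup.coe_mul, conjAut_coe]; group
    · exact hk n)

lemma extG_extEmb (hk : ∀ n : N, (LinearMap.det (τ n)) ^ k = 1) (n : N) :
    extG hN τ k (extEmb hN τ k hk n) = n := rfl

lemma extRep_extEmb (hk : ∀ n : N, (LinearMap.det (τ n)) ^ k = 1) (n : N) :
    extRep hN τ k (extEmb hN τ k hk n) = τ n := rfl

lemma ext_eq {x y : extGrp hN τ k} (h1 : extG hN τ k x = extG hN τ k y) (h2 : extRep hN τ k x = extRep hN τ k y) :
    x = y := by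
  apply Subtype.ext
  apply Prod.ext
  · exact h1
  · exact Units.ext h2

lemma extEmb_conj (hk : ∀ n : N, (LinearMap.det (τ n)) ^ k = 1) (x : extGrp hN τ k) (n : N) :
    x * extEmb hN τ k hk n * x⁻¹ = extEmb hN τ k hk (conjAut hN (extG hN τ k x) n) := by
  rw [mul_inv_eq_iff_eq_mul]
  apply ext_eq
  · rw [map_mul, map_mul, extG_extEmb, extG_extEmb, conjAut_coe]; group
  · rw [map_mul, map_mul, extRep_extEmb, extRep_extEmb, extRep_intertwine]

variable [FiniteDimensional ℂ V]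

/-- Schur: kernel elements are scalars -/
theorem ext_scalar (hτ : τ.IsIrreducible) (x : extGrp hN τ k) (hx : extG hN τ k x = 1) :
    ∃ c : ℂˣ, extRep hN τ k x = (c : ℂ) • (1 : V →ₗ[ℂ] V) := by
  have hnt := ((isIrreducible_iff τ).1 hτ).1
  obtain ⟨c, hc⟩ := H5.schur_scalar τ hτ (extRep hN τ k x) (by
    intro n v
    have h1 := extRep_intertwine hN τ k x n
    rw [hx, conjAut_one] at h1
    exact LinearMap.congr_fun h1 v)
  have hc0 : c ≠ 0 := by
    rintro rfl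
    obtain ⟨v, hv⟩ := exists_ne (0 : V)
    apply hv
    have h2 : extRep hN τ k x⁻¹ (extRep hN τ k x v) = v := by
      rw [← Module.End.mul_apply, ← map_mul, inv_mul_cancel, map_one]; rfl
    rw [hc, zero_smul, map_zero] at h2
    exact h2.symm
  refine ⟨Units.mk0 c hc0, ?_⟩
  apply LinearMap.ext; intro v
  rw [hc]; rfl

theorem ext_scalar_pow (hτ : τ.IsIrreducible) (x : extGrp hN τ k) (c : ℂˣ)
    (hc : extRep hN τ k x = (c : ℂ) • (1 : V →ₗ[ℂ] V)) : c ^ (finrank ℂ V * k) = 1 := by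
  have h1 : (LinearMap.det (extRep hN τ k x)) ^ k = 1 := x.2.2
  rw [hc, LinearMap.det_smul, map_one, mul_one, ← pow_mul] at h1
  exact Units.ext h1

theorem ext_ker_finite (hτ : τ.IsIrreducible) (hk0 : k ≠ 0) : Finite (extG hN τ k).ker := by
  have hnt := ((isIrreducible_iff τ).1 hτ).1
  choose c hc using fun x : (extG hN τ k).ker => ext_scalar hN τ k hτ x x.2
  have hdk : NeZero (finrank ℂ V * k) := ⟨Nat.mul_ne_zero (finrank_pos (R := ℂ) (M := V)).ne' hk0⟩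
  let f : (extG hN τ k).ker → rootsOfUnity (finrank ℂ V * k) ℂ := fun x =>
    ⟨c x, (mem_rootsOfUnity _ _).2 (ext_scalar_pow hN τ k hτ x (c x) (hc x))⟩
  have hf : Function.Injective f := by
    intro x y h
    have h1 : c x = c y := congrArg (fun z : rootsOfUnity (finrank ℂ V * k) ℂ => (z : ℂˣ)) h
    apply Subtype.ext
    apply ext_eq
    · rw [(MonoidHom.mem_ker).1 x.2, (MonoidHom.mem_ker).1 y.2]
    · rw [hc x, hc y, h1]
  exact Finite.of_injective f hf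

theorem ext_finite [Finite G] (hτ : τ.IsIrreducible) (hk0 : k ≠ 0) : Finite (extGrp hN τ k) := by
  have := ext_ker_finite hN τ k hτ hk0
  have h2 : Finite (extGrp hN τ k ⧸ (extG hN τ k).ker) :=
    Finite.of_injective _ (QuotientGroup.kerLift_injective (extG hN τ k))
  exact Finite.of_equiv _ (Subgroup.groupEquivQuotientProdSubgroup (s := (extG hN τ k).ker)).symm

theorem extG_surjective [Finite N] (hτ : τ.IsIrreducible) (hk0 : k ≠ 0)
    (hinv : ∀ (g : G) (n : N), τ.character (conjAut hN g n) = τ.character n) :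
    Function.Surjective (extG hN τ k) := by
  intro g
  have hnt := ((isIrreducible_iff τ).1 hτ).1
  let τ' : Representation ℂ N V := τ.comp (conjAut hN g).toMonoidHom
  obtain ⟨e⟩ := equiv_of_char_eq τ τ' (by
    funext n
    exact (hinv g n).symm)
  let A : V →ₗ[ℂ] V := e.toLinearEquiv.toLinearMap
  have hA : ∀ n : N, A * τ n = τ (conjAut hN g n) * A := by
    intro n
    apply LinearMap.ext; intro v
    exact LinearMap.congr_fun (e.isIntertwining' n) v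
  have hAu : IsUnit A := (Module.End.isUnit_iff A).2 e.toLinearEquiv.bijective
  obtain ⟨Au, hAu'⟩ := hAu
  have hdet : LinearMap.det A ≠ 0 := by
    have : IsUnit (LinearMap.det A) := by rw [← hAu']; exact (Units.isUnit Au).map LinearMap.det
    exact this.ne_zero
  obtain ⟨c, hc⟩ := IsAlgClosed.exists_pow_nat_eq (LinearMap.det A)⁻¹ (finrank_pos (R := ℂ) (M := V))
  have hc0 : c ≠ 0 := by
    rintro rfl
    rw [zero_pow (finrank_pos (R := ℂ) (M := V)).ne'] at hc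
    exact inv_ne_zero hdet hc.symm
  have hcu : IsUnit (c • A) := by
    rw [← hAu']
    exact ⟨(Units.mk0 c hc0) • Au, rfl⟩
  obtain ⟨B, hB⟩ := hcu
  refine ⟨⟨(g, B), ⟨fun n => ?_, ?_⟩⟩, rfl⟩
  · show (B : V →ₗ[ℂ] V) * τ n = τ (conjAut hN g n) * (B : V →ₗ[ℂ] V)
    rw [hB, smul_mul_assoc, hA, mul_smul_comm]
  · show (LinearMap.det (B : V →ₗ[ℂ] V)) ^ k = 1
    rw [hB, LinearMap.det_smul, hc, inv_mul_cancel₀ hdet, one_pow]

end Ext

end Cfsg.Agent.H4
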