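import Cfsg.Prelude.Def_Characters
import Cfsg.Prelude.Def_Blocks
import Cfsg.Agent.H4.ExtGrp
import Mathlib

set_option linter.all false
set_option autoImplicit false

/-! Applications of the extension group. -/

namespace Cfsg.Agent.H4

open Module
open scoped ComplexConjugate

universe u v w

variable {G : Type u} [Group G] {N : Subgroup G}

lemma det_pow_card {H : Type*} [Group H] [Finite H] {V : Type v} [AddCommGroup V] [Module ℂ V]
    (τ : Representation ℂ H V) (n : H) : (LinearMap.det (τ n)) ^ (Nat.card H) = 1 := by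
  rw [← map_pow, ← map_pow, pow_card_eq_one', map_one, map_one]

theorem scalar_of_norm {H : Type*} [Group H] [Finite H] {V : Type v} [AddCommGroup V] [Module ℂ V]
    [FiniteDimensional ℂ V] (ρ : Representation ℂ H V) (x : H) (h : ‖ρ.character x‖ = (finrank ℂ V : ℝ)) :
    x ∈ scalarSub ρ := by
  obtain ⟨c, hc⟩ := (norm_char_eq_iff ρ x).1 h
  by_cases hs : Subsingleton V
  · refine ⟨1, ?_⟩
    apply LinearMap.ext; intro v; exact Subsingleton.elim _ _
  · rw [not_subsingleton_iff_nontrivial] at hs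
    have hc0 : c ≠ 0 := by
      rintro rfl
      obtain ⟨v, hv⟩ := exists_ne (0 : V)
      apply hv
      have h2 : ρ x⁻¹ (ρ x v) = v := by
        rw [← Module.End.mul_apply, ← map_mul, inv_mul_cancel, map_one]; rfl
      rw [hc, zero_smul, LinearMap.zero_apply, map_zero] at h2
      exact h2.symm
    exact ⟨Units.mk0 c hc0, hc⟩

theorem ratio_dvd_index_invariant [Fintype G] [Fintype N] (hN : N.Normal) (χ : G → ℂ) (hχ : IsIrrCharacter G χ)
    (ϑ : N → ℂ) (hϑ : IsIrrCharacter N ϑ) (hin : classInner (fun n : N => χ n) ϑ ≠ 0)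
    (hinv : inertia hN ϑ = ⊤) : ∃ e : ℕ, χ 1 = e * ϑ 1 ∧ e ∣ N.index := by
  classical
  obtain ⟨d, τ, hτ, hτϑ⟩ := hϑ
  have hk := det_pow_card τ
  have hk0 : Nat.card N ≠ 0 := Nat.card_pos.ne'
  set k := Nat.card N with hkdef
  have hinv' : ∀ (g : G) (n : N), τ.character (conjAut hN g n) = τ.character n := by
    intro g n
    have h1 : g ∈ inertia hN ϑ := by rw [hinv]; trivial
    rw [mem_inertia] at h1
    have h2 := congrFun h1 n
    rw [conjBy_apply] at h2
    rw [hτϑ]; exact h2
  have hsurj := extG_surjective hN τ k hτ hk0 hinv'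
  have hfin := ext_finite hN τ k hτ hk0
  have hΓ : Fintype (extGrp hN τ k) := Fintype.ofFinite _
  let π := extG hN τ k
  let σ := extRep hN τ k
  let ε := extEmb hN τ k hk
  let M : Subgroup (extGrp hN τ k) := ε.range
  have hMf : Fintype M := Fintype.ofFinite _
  have hMn : M.Normal := by
    refine ⟨?_⟩
    rintro _ ⟨n, rfl⟩ x
    rw [extEmb_conj]
    exact ⟨_, rfl⟩
  have hεinj : Function.Injective ε := by
    intro a b hab
    have := congrArg π hab
    exact Subtype.ext this
  let eM : N ≃* M := MonoidHom.ofInjective hεinj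
  have heM : ∀ n, ((eM n : M) : extGrp hN τ k) = ε n := fun n => rfl
  -- σ irreducible
  have hσ : σ.IsIrreducible := by
    rw [isIrreducible_iff] at hτ ⊢
    refine ⟨hτ.1, fun U hU => hτ.2 U (fun n v hv => ?_)⟩
    have := hU (ε n) v hv
    exact this
  have hσirr : IsIrrCharacter (extGrp hN τ k) σ.character := isIrrCharacter_of_rep σ hσ
  have hθM : IsIrrCharacter M (fun x : M => σ.character x) := by
    rw [← IsIrr.comp_equiv_iff eM]
    exact ⟨d, τ, hτ, rfl⟩
  have hχπ : IsIrrCharacter (extGrp hN τ k) (fun x => χ (π x)) := IsIrr.comp_surjective π hsurj hχ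
  have hinM : classInner (fun x : M => χ (π x)) (fun x : M => σ.character x) ≠ 0 := by
    have : classInner (fun x : M => χ (π x)) (fun x : M => σ.character x) = classInner (fun n : N => χ n) ϑ := by
      unfold classInner
      rw [← Nat.card_congr eM.toEquiv]
      congr 1
      rw [← eM.toEquiv.sum_comp]
      apply Finset.sum_congr rfl
      intro n _
      rw [← hτϑ]; rfl
    rw [this]; exact hin
  obtain ⟨β, hβ, hβM, hβσ⟩ := gallagher hMn (fun x : M => σ.character x) hθM σ.character hσirr (fun _ => rfl)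
    (fun x => χ (π x)) hχπ hinM
  obtain ⟨e, ρ, hρ, hρβ⟩ := hβ
  have hσ1 : σ.character 1 = ϑ 1 := by
    rw [Representation.char_one, ← hτϑ, Representation.char_one]
  have hρ1 : ρ.character 1 = e := by rw [Representation.char_one]; simp
  have h1 : χ 1 = e * ϑ 1 := by
    have := congrFun hβσ 1
    simp only [map_one, Pi.mul_apply] at this
    rw [this, ← hρβ, hρ1, hσ1]
  refine ⟨e, h1, ?_⟩
  have hϑ0 : ϑ 1 ≠ 0 := IsIrr.degree_ne_zero ⟨d, τ, hτ, hτϑ⟩
  have hker : π.ker ≤ scalarSub ρ := by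
    intro z hz
    apply scalar_of_norm
    obtain ⟨c, hc⟩ := ext_scalar hN τ k hτ z hz
    have hcn := ext_scalar_pow hN τ k hτ z c hc
    have hnt := ((isIrreducible_iff τ).1 hτ).1
    have hcnorm : ‖(c : ℂ)‖ = 1 := by
      apply Complex.norm_eq_one_of_pow_eq_one (n := finrank ℂ (Fin d → ℂ) * k)
      · rw [← Units.val_pow_eq_pow_val, hcn]; rfl
      · exact Nat.mul_ne_zero (finrank_pos (R := ℂ) (M := Fin d → ℂ)).ne' hk0
    have h2 := congrFun hβσ z
    simp only [Pi.mul_apply] at h2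
    have h3 : π z = 1 := hz
    have h4 : σ.character z = c * σ.character 1 := by
      rw [Representation.char_one]
      show LinearMap.trace ℂ _ (σ z) = _
      rw [show σ z = (c : ℂ) • (1 : (Fin d → ℂ) →ₗ[ℂ] (Fin d → ℂ)) from hc, map_smul, LinearMap.trace_one, smul_eq_mul]
    rw [h3, h1, h4, hσ1, ← hρβ] at h2
    have h5 : (e : ℂ) = ρ.character z * c := by
      apply mul_right_cancel₀ hϑ0
      rw [h2]; ring
    have h6 := congrArg norm h5
    rw [norm_mul, hcnorm, mul_one] at h6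
    rw [← h6]; simp
  have hM : M ≤ scalarSub ρ := by
    intro z hz
    apply scalar_of_norm
    have := hβM ⟨z, hz⟩
    rw [← hρβ, hρ1] at this
    rw [show ρ.character z = (e : ℂ) from this]; simp
  have hcomap : N.comap π ≤ scalarSub ρ := by
    intro z hz
    have h7 : z * (ε ⟨π z, hz⟩)⁻¹ ∈ π.ker := by
      rw [MonoidHom.mem_ker, map_mul, map_inv]
      exact mul_inv_cancel _
    have h8 := (scalarSub ρ).mul_mem (hker h7) (hM (show ε ⟨π z, hz⟩ ∈ M from ⟨_, rfl⟩))
    rwa [inv_mul_cancel_right] at h8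
  have h9 := finrank_dvd_index_of_scalar ρ hρ (N.comap π) (fun z hz => by
    obtain ⟨c, hc⟩ := hcomap hz
    exact ⟨c, hc⟩)
  rw [Subgroup.index_comap_of_surjective _ hsurj] at h9
  simpa using h9

theorem ratio_dvd_index [Fintype G] [Fintype N] (hN : N.Normal) (χ : G → ℂ) (hχ : IsIrrCharacter G χ)
    (ϑ : N → ℂ) (hϑ : IsIrrCharacter N ϑ) (hin : classInner (fun n : N => χ n) ϑ ≠ 0) :
    ∃ e : ℕ, χ 1 = e * ϑ 1 ∧ e ∣ N.index := by
  classical
  obtain ⟨T, hT⟩ : ∃ T, T = inertia hN ϑ := ⟨_, rfl⟩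
  have hNT : N ≤ T := hT ▸ le_inertia hN (IsIrr.isClassFunction hϑ)
  have : Fintype T := Fintype.ofFinite T
  obtain ⟨ψ, hψ, hψχ, _, hψin⟩ := clifford_exists hN χ hχ ϑ hϑ T hT hNT hin
  have hNTn : (N.subgroupOf T).Normal := hN.subgroupOf T
  have : Fintype (N.subgroupOf T) := Fintype.ofFinite _
  have h1 : classInner (fun x : N.subgroupOf T => ψ x) (toSub ϑ) ≠ 0 := by
    rw [← toSub_restrict hNT ψ, classInner_toSub hNT, hψin]
    exact hin
  obtain ⟨e, he, hdvd⟩ := ratio_dvd_index_invariant hNTn ψ hψ (toSub ϑ) (toSub_irr hNT hϑ) h1 (by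
    apply inertia_eq_top_of
    intro g n
    rw [toSub_apply, toSub_apply]
    have h2 : (g : G) ∈ inertia hN ϑ := hT ▸ g.2
    rw [mem_inertia] at h2
    have h3 := congrFun h2 ⟨((n : T) : G), Subgroup.mem_subgroupOf.1 n.2⟩
    rw [conjBy_apply] at h3
    rw [← h3]
    congr 1)
  refine ⟨T.index * e, ?_, ?_⟩
  · rw [hψχ, indFun_one, he, toSub_apply]
    push_cast
    rw [mul_assoc]; rfl
  · rw [← Subgroup.relIndex_mul_index hNT, mul_comm (N.relIndex T)]
    exact Nat.mul_dvd_mul_left _ hdvd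

end Cfsg.Agent.H4
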