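import Cfsg.Prelude.Def_Characters
import Cfsg.Prelude.Def_Blocks
import Cfsg.Prelude.Def_CharExt
import Cfsg.Agent.H4.ExtApp
import Mathlib

set_option linter.all false
set_option autoImplicit false

/-! Extension of invariant characters. -/

namespace Cfsg.Agent.H4

open Module
open scoped ComplexConjugate

universe u v w

section Hom
variable {G : Type u} [Group G]

/-- linear characters as functions -/
def homFun (G : Type u) [Group G] : (G →* ℂˣ) →* (G → ℂ) where
  toFun lam := fun g => (lam g : ℂ)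
  map_one' := by funext g; simp
  map_mul' := fun a b => by funext g; simp

lemma homFun_apply (lam : G →* ℂˣ) (g : G) : homFun G lam g = (lam g : ℂ) := rfl

lemma homFun_injective : Function.Injective (homFun G) := by
  intro a b h
  apply MonoidHom.ext; intro g
  exact Units.ext (congrFun h g)

lemma orderOf_homFun (lam : G →* ℂˣ) : orderOf (homFun G lam) = orderOf lam :=
  orderOf_injective (homFun G) homFun_injective lam

lemma homFun_isCharacter (lam : G →* ℂˣ) : IsCharacter G (homFun G lam) := IsIrr.isCharacter (isIrr_hom lam)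

lemma hom_finite_order [Finite G] (lam : G →* ℂˣ) : lam ^ Nat.card G = 1 := by
  apply MonoidHom.ext; intro g
  rw [MonoidHom.pow_apply, ← map_pow, pow_card_eq_one', map_one]; rfl

lemma hom_orderOf_pos [Finite G] (lam : G →* ℂˣ) : 0 < orderOf lam :=
  orderOf_pos_iff.2 (isOfFinOrder_iff_pow_eq_one.2 ⟨Nat.card G, Nat.card_pos, hom_finite_order lam⟩)

/-- a linear character trivial on a normal subgroup has order dividing the index -/
lemma hom_pow_index {N : Subgroup G} [N.Normal] [Finite G] (lam : G →* ℂˣ) (h : ∀ n : N, lam n = 1) :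
    lam ^ N.index = 1 := by
  apply MonoidHom.ext; intro g
  rw [MonoidHom.pow_apply, ← map_pow]
  have h1 : g ^ N.index ∈ N := Subgroup.pow_index_mem N g
  exact h ⟨_, h1⟩

/-- determinant of a representation, as a linear character -/
noncomputable def detHom {V : Type v} [AddCommGroup V] [Module ℂ V] (ρ : Representation ℂ G V) : G →* ℂˣ :=
  MonoidHom.toHomUnits ((LinearMap.det : (V →ₗ[ℂ] V) →* ℂ).comp ρ)

lemma detHom_apply {V : Type v} [AddCommGroup V] [Module ℂ V] (ρ : Representation ℂ G V) (g : G) :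
    (detHom ρ g : ℂ) = LinearMap.det (ρ g) := rfl

theorem det_equiv {V : Type v} [AddCommGroup V] [Module ℂ V] {W : Type w} [AddCommGroup W] [Module ℂ W]
    {ρ : Representation ℂ G V} {σ : Representation ℂ G W} (e : ρ.Equiv σ) (g : G) :
    LinearMap.det (ρ g) = LinearMap.det (σ g) := by
  have h1 : σ g = (e.toLinearEquiv : V →ₗ[ℂ] W) ∘ₗ (ρ g) ∘ₗ (e.toLinearEquiv.symm : W →ₗ[ℂ] V) := by
    apply LinearMap.ext; intro w
    have h2 := LinearMap.congr_fun (e.isIntertwining' g) (e.toLinearEquiv.symm w)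
    have h3 : e.toLinearEquiv (ρ g (e.toLinearEquiv.symm w)) = σ g (e.toLinearEquiv (e.toLinearEquiv.symm w)) := h2
    rw [LinearEquiv.apply_symm_apply] at h3
    exact h3.symm
  rw [h1, LinearMap.det_conj]

theorem detChar_eq [Finite G] {V : Type v} [AddCommGroup V] [Module ℂ V] [FiniteDimensional ℂ V]
    (ρ : Representation ℂ G V) : detChar ρ.character = homFun G (detHom ρ) := by
  have h : IsCharacter G ρ.character := isCharacter_of_rep ρ
  unfold detChar
  rw [dif_pos h]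
  funext g
  have h1 := Classical.choose_spec (Classical.choose_spec h)
  obtain ⟨e⟩ := equiv_of_char_eq (Classical.choose (Classical.choose_spec h)) ρ h1
  exact det_equiv e g

end Hom

section Index
variable {Γ : Type u} [Group Γ] [Finite Γ]

/-- extension up to the index -/
theorem exists_char_index (M Q : Subgroup Γ) (hM : M.Normal) (hMQ : M ≤ Q) (κ : Q →* ℂˣ)
    (hinv : ∀ (x : Γ) (m : M), κ ⟨x * m * x⁻¹, hMQ (hM.conj_mem m m.2 x)⟩ = κ ⟨m, hMQ m.2⟩) :
    ∃ κ' : Γ →* ℂˣ, ∀ m : M, κ' m = κ ⟨m, hMQ m.2⟩ ^ Q.index := by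
  classical
  have : Fintype (Γ ⧸ Q) := Fintype.ofFinite _
  let ρ : Representation ℂ Q ℂ := (Algebra.lmul ℂ ℂ : ℂ →* Module.End ℂ ℂ).comp ((Units.coeHom ℂ).comp κ)
  have hρ : ∀ (q : Q) (z : ℂ), ρ q z = (κ q : ℂ) * z := fun q z => rfl
  refine ⟨detHom (indRep Q ρ), fun m => ?_⟩
  apply Units.ext
  rw [detHom_apply]
  have h1 : indRep Q ρ m = ((κ ⟨m, hMQ m.2⟩ : ℂˣ) : ℂ) • (1 : ((Γ ⧸ Q) → ℂ) →ₗ[ℂ] ((Γ ⧸ Q) → ℂ)) := by
    apply LinearMap.ext; intro f
    funext q
    rw [indRep_apply, hρ]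
    have hq : (m : Γ)⁻¹ • q = q := by
      obtain ⟨y, rfl⟩ := QuotientGroup.mk_surjective q
      show (QuotientGroup.mk ((m : Γ)⁻¹ * y) : Γ ⧸ Q) = QuotientGroup.mk y
      rw [QuotientGroup.eq]
      have h2 := hMQ (hM.conj_mem (m : Γ) m.2 y⁻¹)
      have h3 : ((m : Γ)⁻¹ * y)⁻¹ * y = y⁻¹ * m * y⁻¹⁻¹ := by group
      rw [h3]; exact h2
    have hc : cosetCocycle Q (m : Γ) q = ⟨q.out⁻¹ * m * q.out⁻¹⁻¹, hMQ (hM.conj_mem m m.2 q.out⁻¹)⟩ := by
      apply Subtype.ext
      show q.out⁻¹ * (m : Γ) * ((m : Γ)⁻¹ • q).out = q.out⁻¹ * (m : Γ) * q.out⁻¹⁻¹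
      rw [hq]
      conv_rhs => rw [inv_inv]
    rw [hc, hinv q.out⁻¹ m, hq]; rfl
  rw [h1, LinearMap.det_smul, map_one, mul_one, Module.finrank_pi_fintype ℂ]
  simp [Subgroup.index, Nat.card_eq_fintype_card]

end Index

section Theory
variable {G : Type u} [Group G] {N : Subgroup G} (hN : N.Normal) {V : Type v} [AddCommGroup V] [Module ℂ V]
  [FiniteDimensional ℂ V] (τ : Representation ℂ N V) (k : ℕ) (hk : ∀ n : N, (LinearMap.det (τ n)) ^ k = 1)

/-- exponents `j` for which the `j`-th power of the obstruction character extends -/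
def extPow : AddSubgroup ℤ where
  carrier := {j | ∃ κ : extGrp hN τ k →* ℂˣ, (∀ n : N, κ (extEmb hN τ k hk n) = 1) ∧
    ∀ x, extG hN τ k x = 1 → ∀ c : ℂˣ, extRep hN τ k x = (c : ℂ) • (1 : V →ₗ[ℂ] V) → κ x = c ^ j}
  add_mem' := by
    rintro a b ⟨κ, h1, h2⟩ ⟨κ', h1', h2'⟩
    refine ⟨κ * κ', fun n => ?_, fun x hx c hc => ?_⟩
    · rw [MonoidHom.mul_apply, h1, h1', one_mul]
    · rw [MonoidHom.mul_apply, h2 x hx c hc, h2' x hx c hc, zpow_add]
  zero_mem' := ⟨1, fun _ => rfl, fun x hx c hc => by rw [zpow_zero]; rfl⟩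
  neg_mem' := by
    rintro a ⟨κ, h1, h2⟩
    refine ⟨κ⁻¹, fun n => ?_, fun x hx c hc => ?_⟩
    · rw [MonoidHom.inv_apply, h1, inv_one]
    · rw [MonoidHom.inv_apply, h2 x hx c hc, zpow_neg]

lemma mem_extPow (j : ℤ) : j ∈ extPow hN τ k hk ↔ ∃ κ : extGrp hN τ k →* ℂˣ, (∀ n : N, κ (extEmb hN τ k hk n) = 1) ∧
    ∀ x, extG hN τ k x = 1 → ∀ c : ℂˣ, extRep hN τ k x = (c : ℂ) • (1 : V →ₗ[ℂ] V) → κ x = c ^ j := Iff.rfl

/-- if the obstruction vanishes, the representation extends -/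
theorem extends_of_one_mem [Finite N] (hτ : τ.IsIrreducible) (hk0 : k ≠ 0)
    (hinv : ∀ (g : G) (n : N), τ.character (conjAut hN g n) = τ.character n)
    (h : (1 : ℤ) ∈ extPow hN τ k hk) : ∃ ρ : Representation ℂ G V, ∀ n : N, ρ n = τ n := by
  obtain ⟨κ, h1, h2⟩ := h
  have hsurj := extG_surjective hN τ k hτ hk0 hinv
  -- the hom x ↦ κ(x)⁻¹ • x
  let F : extGrp hN τ k →* (V →ₗ[ℂ] V) :=
    { toFun := fun x => ((κ x)⁻¹ : ℂˣ).val • extRep hN τ k x
      map_one' := by rw [map_one, map_one]; simp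
      map_mul' := fun x y => by
        rw [map_mul, map_mul, smul_mul_smul_comm]
        congr 1
        rw [mul_inv, Units.val_mul] }
  have hF : ∀ x, extG hN τ k x = 1 → F x = 1 := by
    intro x hx
    obtain ⟨c, hc⟩ := ext_scalar hN τ k hτ x hx
    show ((κ x)⁻¹ : ℂˣ).val • extRep hN τ k x = 1
    rw [h2 x hx c hc, zpow_one, hc, smul_smul, ← Units.val_mul, inv_mul_cancel, Units.val_one, one_smul]
  let s := Function.surjInv hsurj
  have hs : ∀ g, extG hN τ k (s g) = g := Function.surjInv_eq hsurj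
  have hwd : ∀ x y, extG hN τ k x = extG hN τ k y → F x = F y := by
    intro x y hxy
    have h3 : F (x * y⁻¹) = 1 := hF _ (by rw [map_mul, map_inv, hxy, mul_inv_cancel])
    have h4 : F x = F (x * y⁻¹) * F y := by rw [← map_mul, inv_mul_cancel_right]
    rw [h4, h3, one_mul]
  let ρ : Representation ℂ G V :=
    { toFun := fun g => F (s g)
      map_one' := by rw [hwd (s 1) 1 (by rw [hs, map_one]), map_one]
      map_mul' := fun g g' => by
        rw [← map_mul]
        apply hwd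
        rw [hs, map_mul, hs, hs] }
  refine ⟨ρ, fun n => ?_⟩
  show F (s n) = τ n
  rw [hwd (s n) (extEmb hN τ k hk n) (by rw [hs, extG_extEmb])]
  show ((κ (extEmb hN τ k hk n))⁻¹ : ℂˣ).val • extRep hN τ k (extEmb hN τ k hk n) = τ n
  rw [h1, extRep_extEmb]; simp

/-- the character attached to an extension to a subgroup `P ≥ N` -/
theorem char_of_extension (hτ : τ.IsIrreducible) (P : Subgroup G) (hNP : N ≤ P) (η : Representation ℂ P V)
    (hη : ∀ n : N, η ⟨n, hNP n.2⟩ = τ n) :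
    ∃ κ : P.comap (extG hN τ k) →* ℂˣ, ∀ x : P.comap (extG hN τ k),
      extRep hN τ k x = (κ x : ℂ) • η ⟨extG hN τ k x, x.2⟩ := by
  have hnt := ((isIrreducible_iff τ).1 hτ).1
  have hinvη : ∀ y : P, η y⁻¹ * η y = 1 := fun y => by rw [← map_mul, inv_mul_cancel, map_one]
  have hinvη' : ∀ y : P, η y * η y⁻¹ = 1 := fun y => by rw [← map_mul, mul_inv_cancel, map_one]
  have key : ∀ x : P.comap (extG hN τ k), ∃ c : ℂˣ, extRep hN τ k x = (c : ℂ) • η ⟨extG hN τ k x, x.2⟩ := by
    intro x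
    set y : P := ⟨extG hN τ k x, x.2⟩ with hy
    obtain ⟨c, hc⟩ := H5.schur_scalar τ hτ (η y⁻¹ * extRep hN τ k x) (by
      intro n v
      have h1 := extRep_intertwine hN τ k (x : extGrp hN τ k) n
      have h2 : η y * τ n = τ (conjAut hN (extG hN τ k x) n) * η y := by
        rw [← hη, ← hη, ← map_mul, ← map_mul]
        congr 1
        apply Subtype.ext
        show (extG hN τ k x) * (n : G) = (conjAut hN (extG hN τ k x) n : G) * extG hN τ k x
        rw [conjAut_coe]; group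
      have h3 : (η y⁻¹ * extRep hN τ k x) * τ n = τ n * (η y⁻¹ * extRep hN τ k x) := by
        calc (η y⁻¹ * extRep hN τ k x) * τ n = η y⁻¹ * (extRep hN τ k x * τ n) := by rw [mul_assoc]
          _ = η y⁻¹ * (τ (conjAut hN (extG hN τ k x) n) * extRep hN τ k x) := by rw [h1]
          _ = η y⁻¹ * (τ (conjAut hN (extG hN τ k x) n) * (η y * η y⁻¹) * extRep hN τ k x) := by
              rw [hinvη', mul_one]
          _ = η y⁻¹ * ((τ (conjAut hN (extG hN τ k x) n) * η y) * η y⁻¹ * extRep hN τ k x) := by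
              simp only [mul_assoc]
          _ = η y⁻¹ * ((η y * τ n) * η y⁻¹ * extRep hN τ k x) := by rw [h2]
          _ = (η y⁻¹ * η y) * τ n * (η y⁻¹ * extRep hN τ k x) := by simp only [mul_assoc]
          _ = _ := by rw [hinvη, one_mul]
      exact LinearMap.congr_fun h3 v)
    have h4 : extRep hN τ k x = c • η y := by
      have h5 : η y⁻¹ * extRep hN τ k x = c • (1 : V →ₗ[ℂ] V) := by
        apply LinearMap.ext; intro v; rw [hc]; rfl
      calc extRep hN τ k x = (η y * η y⁻¹) * extRep hN τ k x := by rw [hinvη', one_mul]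
        _ = η y * (η y⁻¹ * extRep hN τ k x) := by rw [mul_assoc]
        _ = _ := by rw [h5, mul_smul_comm, mul_one]
    have hc0 : c ≠ 0 := by
      rintro rfl
      rw [zero_smul] at h4
      obtain ⟨v, hv⟩ := exists_ne (0 : V)
      apply hv
      have h6 : extRep hN τ k (x : extGrp hN τ k)⁻¹ (extRep hN τ k x v) = v := by
        rw [← Module.End.mul_apply, ← map_mul, inv_mul_cancel, map_one]; rfl
      rw [h4, LinearMap.zero_apply, map_zero] at h6
      exact h6.symm
    exact ⟨Units.mk0 c hc0, h4⟩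
  choose κ hκ using key
  have huniq : ∀ (c c' : ℂˣ) (y : P), (c : ℂ) • η y = (c' : ℂ) • η y → c = c' := by
    intro c c' y h
    obtain ⟨v, hv⟩ := exists_ne (0 : V)
    have h1 := LinearMap.congr_fun h (η y⁻¹ v)
    simp only [LinearMap.smul_apply] at h1
    rw [← Module.End.mul_apply, hinvη', Module.End.one_apply] at h1
    exact Units.ext (smul_left_injective ℂ hv h1)
  refine ⟨{ toFun := κ, map_one' := ?_, map_mul' := ?_ }, hκ⟩
  · have h1 := hκ 1
    have h2 : (⟨extG hN τ k ((1 : P.comap (extG hN τ k)) : extGrp hN τ k), (1 : P.comap (extG hN τ k)).2⟩ : P) = 1 := by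
      apply Subtype.ext; show extG hN τ k 1 = 1; rw [map_one]
    rw [h2] at h1
    apply huniq _ _ 1
    rw [← h1]
    show extRep hN τ k 1 = _
    rw [map_one, Units.val_one, one_smul, map_one]
  · intro x y
    have h1 := hκ (x * y)
    have h2 : (⟨extG hN τ k ((x * y : P.comap (extG hN τ k)) : extGrp hN τ k), (x * y).2⟩ : P)
        = ⟨extG hN τ k x, x.2⟩ * ⟨extG hN τ k y, y.2⟩ := by
      apply Subtype.ext; show extG hN τ k (x * y) = _; rw [map_mul]; rfl
    rw [h2] at h1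
    apply huniq _ _ (⟨extG hN τ k x, x.2⟩ * ⟨extG hN τ k y, y.2⟩)
    rw [← h1]
    show extRep hN τ k (x * y) = _
    rw [map_mul, hκ x, hκ y, smul_mul_smul_comm, ← map_mul, Units.val_mul]

theorem index_mem_extPow [Finite G] (hτ : τ.IsIrreducible) (hk0 : k ≠ 0)
    (hsurj : Function.Surjective (extG hN τ k)) (P : Subgroup G) (hNP : N ≤ P)
    (η : Representation ℂ P V) (hη : ∀ n : N, η ⟨n, hNP n.2⟩ = τ n) : (P.index : ℤ) ∈ extPow hN τ k hk := by
  have hnt := ((isIrreducible_iff τ).1 hτ).1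
  have hfin := ext_finite hN τ k hτ hk0
  obtain ⟨κ, hκ⟩ := char_of_extension hN τ k hτ P hNP η hη
  have hMQ : N.comap (extG hN τ k) ≤ P.comap (extG hN τ k) := Subgroup.comap_mono hNP
  have huniq : ∀ (c c' : ℂˣ) (T : V →ₗ[ℂ] V) (T' : V →ₗ[ℂ] V), T * T' = 1 → (c : ℂ) • T = (c' : ℂ) • T → c = c' := by
    intro c c' T T' hT h
    obtain ⟨v, hv⟩ := exists_ne (0 : V)
    have h1 := LinearMap.congr_fun h (T' v)
    simp only [LinearMap.smul_apply] at h1
    rw [← Module.End.mul_apply, hT, Module.End.one_apply] at h1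
    exact Units.ext (smul_left_injective ℂ hv h1)
  -- value on comap N: x = c • τ(π x)
  have hval : ∀ x : N.comap (extG hN τ k), extRep hN τ k x = (κ ⟨x, hMQ x.2⟩ : ℂ) • τ ⟨extG hN τ k x, x.2⟩ := by
    intro x
    rw [hκ ⟨x, hMQ x.2⟩, ← hη]
  obtain ⟨κ', hκ'⟩ := exists_char_index (N.comap (extG hN τ k)) (P.comap (extG hN τ k)) inferInstance hMQ κ (by
    intro x m
    have h1 := hval ⟨x * m * x⁻¹, (inferInstance : (N.comap (extG hN τ k)).Normal).conj_mem m m.2 x⟩
    have h2 := hval m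
    have h3 : (⟨extG hN τ k (x * m * x⁻¹), (inferInstance : (N.comap (extG hN τ k)).Normal).conj_mem m m.2 x⟩ : N)
        = conjAut hN (extG hN τ k x) ⟨extG hN τ k m, m.2⟩ := by
      apply Subtype.ext
      rw [conjAut_coe]
      show extG hN τ k (x * m * x⁻¹) = _
      rw [map_mul, map_mul, map_inv]
    have h4 : extRep hN τ k (x * m * x⁻¹) = (κ ⟨m, hMQ m.2⟩ : ℂ) • τ (conjAut hN (extG hN τ k x) ⟨extG hN τ k m, m.2⟩) := by
      rw [map_mul, map_mul, h2, mul_smul_comm, extRep_intertwine, smul_mul_assoc, mul_assoc, ← map_mul, mul_inv_cancel,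
        map_one, mul_one]
    have h1' : extRep hN τ k (x * m * x⁻¹) = (κ ⟨x * m * x⁻¹, hMQ ((inferInstance : (N.comap (extG hN τ k)).Normal).conj_mem m m.2 x)⟩ : ℂ) • τ (conjAut hN (extG hN τ k x) ⟨extG hN τ k m, m.2⟩) := by
      rw [← h3]; exact h1
    apply huniq _ _ (τ (conjAut hN (extG hN τ k x) ⟨extG hN τ k m, m.2⟩)) (τ (conjAut hN (extG hN τ k x) ⟨extG hN τ k m, m.2⟩)⁻¹)
    · rw [← map_mul, mul_inv_cancel, map_one]
    · rw [← h1', h4])
  rw [Subgroup.index_comap_of_surjective _ hsurj] at hκ'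
  refine ⟨κ', fun n => ?_, fun x hx c hc => ?_⟩
  · have h1 := hκ' ⟨extEmb hN τ k hk n, by rw [Subgroup.mem_comap, extG_extEmb]; exact n.2⟩
    rw [h1]
    have h2 := hval ⟨extEmb hN τ k hk n, by rw [Subgroup.mem_comap, extG_extEmb]; exact n.2⟩
    have h3 : κ ⟨extEmb hN τ k hk n, hMQ (by rw [Subgroup.mem_comap, extG_extEmb]; exact n.2)⟩ = 1 := by
      apply huniq _ _ (τ n) (τ n⁻¹)
      · rw [← map_mul, mul_inv_cancel, map_one]
      · rw [Units.val_one, one_smul]
        exact h2.symm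
    rw [h3, one_pow]
  · have hxN : x ∈ N.comap (extG hN τ k) := by rw [Subgroup.mem_comap, hx]; exact N.one_mem
    have h1 := hκ' ⟨x, hxN⟩
    have h2 := hval ⟨x, hxN⟩
    have h3 : (⟨extG hN τ k x, hxN⟩ : N) = 1 := Subtype.ext hx
    have h4 : κ ⟨x, hMQ hxN⟩ = c := by
      apply huniq _ _ (1 : V →ₗ[ℂ] V) 1 (one_mul 1)
      rw [← hc]
      have h5 : extRep hN τ k x = (κ ⟨x, hMQ hxN⟩ : ℂ) • τ ⟨extG hN τ k x, hxN⟩ := h2
      rw [h3, map_one] at h5
      exact h5.symm
    rw [h1, h4, zpow_natCast]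

theorem degree_mem_extPow (μ : G →* ℂˣ) (hμ : ∀ n : N, (μ n : ℂ) = LinearMap.det (τ n)) :
    (finrank ℂ V : ℤ) ∈ extPow hN τ k hk := by
  refine ⟨detHom (extRep hN τ k) * (μ.comp (extG hN τ k))⁻¹, fun n => ?_, fun x hx c hc => ?_⟩
  · rw [MonoidHom.mul_apply, MonoidHom.inv_apply, MonoidHom.comp_apply, extG_extEmb, mul_inv_eq_one]
    apply Units.ext
    rw [detHom_apply, extRep_extEmb, hμ]
  · rw [MonoidHom.mul_apply, MonoidHom.inv_apply, MonoidHom.comp_apply, hx, map_one, inv_one, mul_one]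
    apply Units.ext
    rw [detHom_apply, hc, LinearMap.det_smul, map_one, mul_one]
    simp

theorem degree_order_mem_extPow (m : ℕ) (hm : ∀ n : N, (LinearMap.det (τ n)) ^ m = 1) :
    ((finrank ℂ V * m : ℕ) : ℤ) ∈ extPow hN τ k hk := by
  refine ⟨detHom (extRep hN τ k) ^ m, fun n => ?_, fun x hx c hc => ?_⟩
  · rw [MonoidHom.pow_apply]
    apply Units.ext
    rw [Units.val_pow_eq_pow_val, detHom_apply, extRep_extEmb, hm]; rfl
  · rw [MonoidHom.pow_apply]
    apply Units.ext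
    rw [Units.val_pow_eq_pow_val, detHom_apply, hc, LinearMap.det_smul, map_one, mul_one]
    rw [zpow_natCast, Units.val_pow_eq_pow_val, pow_mul]

end Theory

end Cfsg.Agent.H4
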