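import Cfsg.Prelude.Def_Characters
import Cfsg.Prelude.Def_Blocks
import Cfsg.Prelude.Def_CharExt
import Cfsg.Agent.H4.ExtTheory
import Mathlib

set_option linter.all false
set_option autoImplicit false

/-! Extension theorems at the level of characters. -/

namespace Cfsg.Agent.H4

open Module
open scoped ComplexConjugate

universe u v w

variable {G : Type u} [Group G] {N : Subgroup G}

theorem one_mem_of_local (E : AddSubgroup ℤ) (h : ∀ p : ℕ, p.Prime → ∃ j ∈ E, ¬ (p : ℤ) ∣ j) : (1 : ℤ) ∈ E := by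
  obtain ⟨d, hd⟩ := Int.subgroup_cyclic E
  have hmem : ∀ j : ℤ, j ∈ E ↔ d ∣ j := by
    intro j
    rw [hd, ← AddSubgroup.zmultiples_eq_closure, Int.mem_zmultiples_iff]
  rw [hmem]
  by_contra hcon
  have h1 : d.natAbs ≠ 1 := by
    intro h1
    apply hcon
    rw [← Int.natAbs_dvd, h1]; simp
  obtain ⟨p, hp, hpd⟩ := Nat.exists_prime_and_dvd h1
  obtain ⟨j, hj, hpj⟩ := h p hp
  exact hpj ((Int.natCast_dvd.2 hpd).trans ((hmem j).1 hj))

theorem exists_rep_extension [Finite N] {V : Type v} [AddCommGroup V] [Module ℂ V] [FiniteDimensional ℂ V]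
    {P : Subgroup G} (hNP : N ≤ P) (τ : Representation ℂ N V) (η : P → ℂ) (hη : IsCharacter P η)
    (hext : ∀ n : N, η ⟨n, hNP n.2⟩ = τ.character n) :
    ∃ η' : Representation ℂ P V, ∀ n : N, η' ⟨n, hNP n.2⟩ = τ n := by
  obtain ⟨d, σ, hσ⟩ := hη
  let σN : Representation ℂ N (Fin d → ℂ) := σ.comp (Subgroup.inclusion hNP)
  obtain ⟨e⟩ := equiv_of_char_eq σN τ (by
    funext n
    rw [← hext, ← hσ]; rfl)
  refine ⟨transport σ e.toLinearEquiv, fun n => ?_⟩
  apply LinearMap.ext; intro v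
  rw [transport_apply]
  have h1 := LinearMap.congr_fun (e.isIntertwining' n) (e.toLinearEquiv.symm v)
  have h2 : e.toLinearEquiv (σN n (e.toLinearEquiv.symm v)) = τ n (e.toLinearEquiv (e.toLinearEquiv.symm v)) := h1
  rw [LinearEquiv.apply_symm_apply] at h2
  exact h2

/-- main extension criterion -/
theorem extends_of_local [Finite G] (hN : N.Normal) (ϑ : N → ℂ) (hϑ : IsIrrCharacter N ϑ)
    (hinv : ∀ (g : G) (n : N), ϑ (conjAut hN g n) = ϑ n)
    (h : ∀ p : ℕ, p.Prime →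
      (∃ (P : Subgroup G) (hNP : N ≤ P) (η : P → ℂ), Nat.Coprime P.index p ∧ IsCharacter P η ∧
        ∀ n : N, η ⟨(n : G), hNP n.2⟩ = ϑ n) ∨
      (∃ (μ : G → ℂ) (d : ℕ), ϑ 1 = d ∧ ¬ p ∣ d ∧ IsCharacter G μ ∧ μ 1 = 1 ∧ ∀ n : N, μ n = detChar ϑ n) ∨
      (∃ (m d : ℕ), ϑ 1 = d ∧ ¬ p ∣ d * m ∧ ∀ n : N, (detChar ϑ n) ^ m = 1)) :
    ∃ χ : G → ℂ, IsIrrCharacter G χ ∧ ∀ n : N, χ n = ϑ n := by
  obtain ⟨d, τ, hτ, hτϑ⟩ := hϑ
  have hk := det_pow_card τ
  have hk0 : Nat.card N ≠ 0 := Nat.card_pos.ne'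
  set k := Nat.card N with hkdef
  have hinv' : ∀ (g : G) (n : N), τ.character (conjAut hN g n) = τ.character n := by
    intro g n; rw [hτϑ]; exact hinv g n
  have hsurj := extG_surjective hN τ k hτ hk0 hinv'
  have hdet : detChar ϑ = homFun N (detHom τ) := by rw [← hτϑ, detChar_eq]
  have hdim : ∀ d' : ℕ, ϑ 1 = d' → finrank ℂ (Fin d → ℂ) = d' := by
    intro d' h1
    rw [← hτϑ, Representation.char_one] at h1
    exact_mod_cast h1
  have h1 : (1 : ℤ) ∈ extPow hN τ k hk := by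
    apply one_mem_of_local
    intro p hp
    rcases h p hp with ⟨P, hNP, η, hcop, hη, hηϑ⟩ | ⟨μ, d', hd', hpd, hμ, hμ1, hμN⟩ | ⟨m, d', hd', hpd, hm⟩
    · obtain ⟨η', hη'⟩ := exists_rep_extension hNP τ η hη (by intro n; rw [hηϑ, hτϑ])
      refine ⟨P.index, index_mem_extPow hN τ k hk hτ hk0 hsurj P hNP η' hη', ?_⟩
      intro h2
      have h3 : p ∣ P.index := by exact_mod_cast h2
      exact hp.ne_one (Nat.Coprime.eq_one_of_dvd hcop.symm h3)
    · obtain ⟨lam, rfl⟩ := exists_hom_of_degree_one hμ hμ1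
      refine ⟨_, degree_mem_extPow hN τ k hk lam (by
        intro n
        have := hμN n
        rw [hdet] at this
        exact this), ?_⟩
      rw [hdim d' hd']
      exact_mod_cast hpd
    · refine ⟨_, degree_order_mem_extPow hN τ k hk m (by
        intro n
        have := hm n
        rw [hdet] at this
        exact this), ?_⟩
      rw [hdim d' hd']
      exact_mod_cast hpd
  obtain ⟨ρ, hρ⟩ := extends_of_one_mem hN τ k hk hτ hk0 hinv' h1
  refine ⟨ρ.character, isIrrCharacter_of_rep ρ ?_, fun n => ?_⟩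
  · rw [isIrreducible_iff] at hτ ⊢
    refine ⟨hτ.1, fun U hU => hτ.2 U (fun n v hv => ?_)⟩
    rw [← hρ]; exact hU n v hv
  · rw [← hτϑ, Representation.character, hρ]; rfl

end Cfsg.Agent.H4
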