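import Cfsg.Prelude.Def_Characters
import Cfsg.Prelude.Def_Blocks
import Cfsg.Prelude.Def_CharExt
import Cfsg.Agent.H4.ExtMain
import Mathlib

set_option linter.all false
set_option autoImplicit false

/-! Extension of linear characters and determinants. -/

namespace Cfsg.Agent.H4

open Module
open scoped ComplexConjugate

universe u v w

attribute [-instance] MonoidHom.instPow MonoidHom.mul MonoidHom.instInv instOneMonoidHom

variable {G : Type u} [Group G] {N : Subgroup G}

lemma hom_pow_apply (lam : G →* ℂˣ) (m : ℕ) (g : G) : (lam ^ m) g = (lam g) ^ m := MonoidHom.pow_apply lam m g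
lemma hom_mul_apply (lam mu : G →* ℂˣ) (g : G) : (lam * mu) g = (lam g) * mu g := rfl
lemma hom_one_apply (g : G) : (1 : G →* ℂˣ) g = 1 := rfl
lemma hom_inv_apply (lam : G →* ℂˣ)  (g : G) : (lam⁻¹) g = (lam g)⁻¹ := rfl
lemma grp_pow_modEq_one {A : Type*} [CommGroup A] (x : A) {m : ℕ} (h : m ≡ 1 [MOD orderOf x]) : x ^ m = x := by
  conv_rhs => rw [← pow_one x]
  rw [pow_eq_pow_iff_modEq]; exact h
lemma grp_mul_aux {A : Type*} [CommGroup A] (x y : A) : x * (y * x⁻¹) = y := by
  rw [mul_comm, inv_mul_cancel_right]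
lemma grp_mul_aux2 {A : Type*} [CommGroup A] (x y : A) : x * y * (y * x⁻¹ * x)⁻¹ = x := by
  rw [inv_mul_cancel_right, mul_inv_cancel_right]
lemma hom_pow_index' {N : Subgroup G} [N.Normal] [Finite G] (lam : G →* ℂˣ) (h : ∀ n : N, lam n = 1) :
    lam ^ N.index = 1 := hom_pow_index lam h

theorem detChar_linear [Finite G] (lam : G →* ℂˣ) : detChar (homFun G lam) = homFun G lam := by
  obtain ⟨d, ρ, hρ⟩ := homFun_isCharacter lam
  have hd : finrank ℂ (Fin d → ℂ) = 1 := by
    have := congrFun hρ 1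
    rw [Representation.char_one, homFun_apply, map_one, Units.val_one] at this
    exact_mod_cast this
  conv_lhs => rw [← hρ]
  rw [detChar_eq]
  funext g
  rw [homFun_apply, detHom_apply]
  have h1 : LinearMap.det (ρ g) = LinearMap.trace ℂ _ (ρ g) := by
    have hd' : d = 1 := by simpa using hd
    subst hd'
    rw [← LinearMap.det_toMatrix', LinearMap.trace_eq_matrix_trace ℂ (Pi.basisFun ℂ (Fin 1))]
    simp [LinearMap.toMatrix', Matrix.trace, LinearMap.toMatrix_apply]
  rw [h1]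
  exact congrFun hρ g

theorem detChar_hom [Finite G] {χ : G → ℂ} (h : IsCharacter G χ) : ∃ lam : G →* ℂˣ, detChar χ = homFun G lam := by
  obtain ⟨d, ρ, rfl⟩ := h
  exact ⟨detHom ρ, detChar_eq ρ⟩

theorem detChar_restrict [Finite G] {χ : G → ℂ} (h : IsCharacter G χ) (n : N) :
    detChar (fun n : N => χ n) n = detChar χ n := by
  obtain ⟨d, ρ, rfl⟩ := h
  have h1 : (fun n : N => ρ.character n) = Representation.character (ρ.comp N.subtype : Representation ℂ N (Fin d → ℂ)) := rfl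
  rw [h1, detChar_eq, detChar_eq]; rfl

theorem detChar_mul_linear [Finite G] {χ : G → ℂ} (h : IsCharacter G χ) (d : ℕ) (hd : χ 1 = d) (lam : G →* ℂˣ) :
    detChar (χ * homFun G lam) = detChar χ * homFun G (lam ^ d) := by
  obtain ⟨d', ρ, rfl⟩ := h
  have hdd : finrank ℂ (Fin d' → ℂ) = d := by
    rw [Representation.char_one] at hd; exact_mod_cast hd
  let ρ' : Representation ℂ G (Fin d' → ℂ) :=
    { toFun := fun g => ((lam g : ℂˣ) : ℂ) • ρ g
      map_one' := by simp
      map_mul' := fun a b => by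
        rw [map_mul, map_mul, smul_mul_smul_comm, Units.val_mul] }
  have h1 : ρ.character * homFun G lam = ρ'.character := by
    funext g
    show ρ.character g * (lam g : ℂ) = LinearMap.trace ℂ _ (((lam g : ℂˣ) : ℂ) • ρ g)
    rw [map_smul, smul_eq_mul, mul_comm]; rfl
  rw [h1, detChar_eq, detChar_eq]
  funext g
  rw [Pi.mul_apply, homFun_apply, homFun_apply, homFun_apply, detHom_apply, detHom_apply]
  show LinearMap.det (((lam g : ℂˣ) : ℂ) • ρ g) = _
  rw [LinearMap.det_smul, hdd, hom_pow_apply, Units.val_pow_eq_pow_val, mul_comm]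

/-- choose an exponent -/
lemma exists_exp {a b : ℕ} (h : Nat.Coprime a b) : ∃ m : ℕ, m ≡ 1 [MOD b] ∧ m ≡ 0 [MOD a] :=
  ⟨_, (Nat.chineseRemainder h.symm 1 0).2.1, (Nat.chineseRemainder h.symm 1 0).2.2⟩

/-- canonical extension of a linear character -/
theorem linear_coprime_extension [Finite G] (hN : N.Normal) (lam : N →* ℂˣ)
    (hinv : ∀ (g : G) (n : N), lam (conjAut hN g n) = lam n) (hcop : Nat.Coprime N.index (orderOf lam)) :
    ∃ μ : G →* ℂˣ, (∀ n : N, μ n = lam n) ∧ orderOf μ = orderOf lam := by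
  obtain ⟨χ, hχ, hχN⟩ := extends_of_local hN (homFun N lam) (isIrr_hom lam) (by
    intro g n; rw [homFun_apply, homFun_apply, hinv]) (by
    intro p hp
    by_cases h : p ∣ N.index
    · right; right
      refine ⟨orderOf lam, 1, by rw [homFun_apply, map_one]; simp, ?_, ?_⟩
      · rw [one_mul]
        intro h2
        exact hp.ne_one (Nat.Coprime.eq_one_of_dvd (hcop.coprime_dvd_left h) h2)
      · intro n
        rw [detChar_linear, homFun_apply, ← Units.val_pow_eq_pow_val, ← hom_pow_apply, pow_orderOf_eq_one]; rfl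
    · left
      refine ⟨N, le_refl _, homFun N lam, ?_, homFun_isCharacter lam, fun n => rfl⟩
      exact (Nat.coprime_comm.1 ((hp.coprime_iff_not_dvd).2 h)))
  have hχ1 : χ 1 = 1 := by
    have := hχN 1
    rw [homFun_apply, map_one] at this
    exact this
  obtain ⟨μ₀, rfl⟩ := exists_hom_of_degree_one (IsIrr.isCharacter hχ) hχ1
  have hμ₀ : ∀ n : N, μ₀ n = lam n := fun n => Units.ext (hχN n)
  obtain ⟨m, hm1, hm0⟩ := exists_exp hcop
  have hlampos := hom_orderOf_pos lam
  have hext : ∀ n : N, (μ₀ ^ m) n = lam n := by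
    intro n
    rw [hom_pow_apply, hμ₀, ← hom_pow_apply]
    have : lam ^ m = lam := grp_pow_modEq_one lam hm1
    rw [this]
  refine ⟨μ₀ ^ m, hext, ?_⟩
  apply Nat.dvd_antisymm
  · apply orderOf_dvd_of_pow_eq_one
    rw [← pow_mul]
    obtain ⟨j, hj⟩ := (Nat.modEq_zero_iff_dvd).1 hm0
    have h1 : (μ₀ ^ orderOf lam) ^ N.index = 1 := by
      apply hom_pow_index' (N := N)
      intro n
      rw [hom_pow_apply, hμ₀, ← hom_pow_apply, pow_orderOf_eq_one]; rfl
    rw [hj, show N.index * j * orderOf lam = orderOf lam * N.index * j by ring, pow_mul, pow_mul, h1, one_pow]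
  · apply orderOf_dvd_of_pow_eq_one
    apply MonoidHom.ext; intro n
    rw [hom_pow_apply, ← hext, ← hom_pow_apply, pow_orderOf_eq_one]; rfl

theorem linear_extension_unique [Finite G] (hN : N.Normal) (μ μ' : G →* ℂˣ) (h : ∀ n : N, μ n = μ' n)
    (hcop : Nat.Coprime N.index (orderOf μ)) (hcop' : Nat.Coprime N.index (orderOf μ')) : μ' = μ := by
  have h1 : (μ' * μ⁻¹) ^ N.index = 1 := by
    apply hom_pow_index' (N := N)
    intro n
    rw [hom_mul_apply, hom_inv_apply, h, mul_inv_cancel]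
  have h2 : orderOf (μ' * μ⁻¹) ∣ N.index := orderOf_dvd_of_pow_eq_one h1
  have h3 : orderOf (μ' * μ⁻¹) ∣ orderOf μ' * orderOf μ := by
    have := (Commute.all μ' μ⁻¹).orderOf_mul_dvd_mul_orderOf
    rwa [orderOf_inv] at this
  have h4 : orderOf (μ' * μ⁻¹) = 1 :=
    Nat.Coprime.eq_one_of_dvd ((hcop'.mul_right hcop).coprime_dvd_left h2) h3
  rw [orderOf_eq_one_iff] at h4
  exact mul_inv_eq_one.1 h4

/-- linear characters of `G` trivial on `N` : unique `d`-th roots when `d` is coprime to the index -/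
theorem hom_root [Finite G] (hN : N.Normal) (γ : G →* ℂˣ) (hγ : ∀ n : N, γ n = 1) (d : ℕ)
    (hcop : Nat.Coprime N.index d) : ∃ β : G →* ℂˣ, (∀ n : N, β n = 1) ∧ β ^ d = γ := by
  have h1 : γ ^ N.index = 1 := hom_pow_index' γ hγ
  obtain ⟨m, hm1, hm0⟩ := exists_exp hcop.symm
  obtain ⟨j, hj⟩ := (Nat.modEq_zero_iff_dvd).1 hm0
  refine ⟨γ ^ j, fun n => by rw [hom_pow_apply, hγ, one_pow], ?_⟩
  rw [← pow_mul, mul_comm j d, ← hj]
  exact grp_pow_modEq_one γ (hm1.of_dvd (orderOf_dvd_of_pow_eq_one h1))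

theorem hom_root_unique [Finite G] (hN : N.Normal) (β : G →* ℂˣ) (hβ : ∀ n : N, β n = 1) (d : ℕ)
    (hcop : Nat.Coprime N.index d) (h : β ^ d = 1) : β = 1 := by
  have h1 : β ^ N.index = 1 := hom_pow_index' β hβ
  rw [← orderOf_eq_one_iff]
  exact Nat.Coprime.eq_one_of_dvd (hcop.coprime_dvd_left (orderOf_dvd_of_pow_eq_one h1)) (orderOf_dvd_of_pow_eq_one h)

/-- S0862 -/
theorem unique_extension_det [Finite G] (hN : N.Normal) (ϑ : N → ℂ) (hϑ : IsIrrCharacter N ϑ) (d : ℕ)
    (hd : ϑ 1 = d) (hcop : Nat.Coprime N.index d) (η : G → ℂ) (hη : IsIrrCharacter G η) (hηN : ∀ n : N, η n = ϑ n)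
    (μ : G →* ℂˣ) (hμN : ∀ n : N, (μ n : ℂ) = detChar ϑ n) :
    ∃! χ : G → ℂ, IsIrrCharacter G χ ∧ (∀ n : N, χ n = ϑ n) ∧ detChar χ = homFun G μ := by
  classical
  have := Fintype.ofFinite G
  have := Fintype.ofFinite N
  have hη1 : η 1 = d := by rw [← hd]; exact hηN 1
  obtain ⟨δ, hδ⟩ := detChar_hom (IsIrr.isCharacter hη)
  have hδN : ∀ n : N, (δ n : ℂ) = detChar ϑ n := by
    intro n
    have h1 := detChar_restrict (IsIrr.isCharacter hη) n
    have h2 : (fun n : N => η n) = ϑ := by funext n; exact hηN n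
    rw [h2, hδ, homFun_apply] at h1
    exact h1.symm
  obtain ⟨β, hβN, hβd⟩ := hom_root hN (μ * δ⁻¹) (by
    intro n
    rw [hom_mul_apply, hom_inv_apply, mul_inv_eq_one]
    apply Units.ext; rw [hμN, hδN]) d hcop
  have hirr : ∀ lam : G →* ℂˣ, ∀ χ : G → ℂ, IsIrrCharacter G χ → IsIrrCharacter G (χ * homFun G lam) := by
    intro lam χ hχ
    rw [H5.isIrrCharacter_iff_inner]
    refine ⟨IsChar.mul (IsIrr.isCharacter hχ) (homFun_isCharacter lam), ?_⟩
    have h1 : classInner χ χ = 1 := H5.classInner_irr_self ⟨χ, hχ⟩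
    rw [← h1]
    unfold classInner
    congr 1
    apply Finset.sum_congr rfl
    intro g _
    rw [Pi.mul_apply, homFun_apply, map_mul]
    have h2 : (lam g : ℂ) * (starRingEnd ℂ) (lam g : ℂ) = 1 := by
      have h9 : ‖((lam g : ℂˣ) : ℂ)‖ = 1 := by
        apply Complex.norm_eq_one_of_pow_eq_one (n := Nat.card G) _ Nat.card_pos.ne'
        rw [← Units.val_pow_eq_pow_val, ← map_pow, pow_card_eq_one', map_one, Units.val_one]
      rw [Complex.mul_conj, Complex.normSq_eq_norm_sq, h9]; simp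
    calc χ g * (lam g : ℂ) * ((starRingEnd ℂ) (χ g) * (starRingEnd ℂ) (lam g : ℂ))
        = χ g * (starRingEnd ℂ) (χ g) * ((lam g : ℂ) * (starRingEnd ℂ) (lam g : ℂ)) := by ring
      _ = _ := by rw [h2, mul_one]
  refine ⟨η * homFun G β, ⟨hirr β η hη, fun n => ?_, ?_⟩, ?_⟩
  · rw [Pi.mul_apply, homFun_apply, hβN, hηN]; simp
  · rw [detChar_mul_linear (IsIrr.isCharacter hη) d hη1, hβd, hδ, ← map_mul]
    congr 1
    exact grp_mul_aux δ μ
  · rintro χ ⟨hχ, hχN, hχd⟩
    obtain ⟨b, hb, hbN, hbχ⟩ := gallagher hN ϑ hϑ η hη hηN χ hχ (by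
      have h2 : (fun n : N => χ n) = ϑ := by funext n; exact hχN n
      rw [h2]
      have h3 : classInner ϑ ϑ = 1 := H5.classInner_irr_self ⟨ϑ, hϑ⟩
      rw [h3]; exact one_ne_zero)
    have hb1 : b 1 = 1 := by
      have h1 := congrFun hbχ 1
      rw [Pi.mul_apply, hη1] at h1
      have h2 : χ 1 = d := by rw [← hd]; exact hχN 1
      rw [h2] at h1
      have hd0 : (d : ℂ) ≠ 0 := by rw [← hd]; exact IsIrr.degree_ne_zero hϑ
      exact (mul_eq_right₀ hd0).1 h1.symm
    obtain ⟨lam, rfl⟩ := exists_hom_of_degree_one (IsIrr.isCharacter hb) hb1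
    have hlamN : ∀ n : N, lam n = 1 := by
      intro n
      apply Units.ext
      have := hbN n
      simp only at this
      rw [this, map_one]
    have hχ' : χ = η * homFun G lam := by rw [hbχ]; funext g; rw [Pi.mul_apply, Pi.mul_apply, homFun_apply, mul_comm]
    rw [hχ', detChar_mul_linear (IsIrr.isCharacter hη) d hη1, hδ, ← map_mul] at hχd
    have h5 := homFun_injective hχd
    have h6 : (lam * β⁻¹) ^ d = 1 := by
      rw [mul_pow, inv_pow, hβd, ← h5]
      rw [mul_comm δ, mul_assoc, mul_inv_cancel, mul_one, mul_inv_cancel]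
    have h7 := hom_root_unique hN (lam * β⁻¹) (by
      intro n; rw [hom_mul_apply, hom_inv_apply, hlamN, hβN]; simp) d hcop h6
    rw [hχ', mul_inv_eq_one.1 h7]

end Cfsg.Agent.H4
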