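import Cfsg.Agent.H4.Gallagher
import Cfsg.Agent.H4.ExtMain
import Cfsg.Agent.H4.ExtLin

set_option linter.all false
set_option autoImplicit false
attribute [-instance] MonoidHom.instPow MonoidHom.mul MonoidHom.instInv instOneMonoidHom

/-! More Clifford theory: induced functions and abelian quotients. -/

namespace Cfsg.Agent.H4

open Module
open scoped ComplexConjugate

universe u v w

variable {G : Type u} [Group G] {N : Subgroup G}

theorem sum_conj_orbit [Fintype G] (hN : N.Normal) (θ : N → ℂ) {A : Type v} [AddCommMonoid A]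
    (F : (N → ℂ) → A) :
    ∑ x : G, F (conjBy hN x θ) = Nat.card (inertia hN θ) •
      ∑ᶠ ψ ∈ {ψ : N → ℂ | ∃ g : G, ψ = conjBy hN g θ}, F ψ := by
  classical
  have h1 : {ψ : N → ℂ | ∃ g : G, ψ = conjBy hN g θ} =
      ((Finset.univ.image (fun x : G => conjBy hN x θ) : Finset (N → ℂ)) : Set (N → ℂ)) := by
    ext ψ
    simp only [Set.mem_setOf_eq, Finset.coe_image, Finset.coe_univ, Set.image_univ, Set.mem_range]
    constructor
    · rintro ⟨g, rfl⟩; exact ⟨g, rfl⟩
    · rintro ⟨g, rfl⟩; exact ⟨g, rfl⟩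
  rw [h1, finsum_mem_coe_finset, Finset.sum_comp F (fun x : G => conjBy hN x θ), Finset.smul_sum]
  apply Finset.sum_congr rfl
  intro ψ hψ
  congr 1
  obtain ⟨g, -, rfl⟩ := Finset.mem_image.mp hψ
  rw [← Fintype.card_subtype, ← Nat.card_eq_fintype_card]
  apply Nat.card_congr
  refine ⟨fun x => ⟨x.1 * g⁻¹, ?_⟩, fun t => ⟨t * g, ?_⟩, fun x => ?_, fun t => ?_⟩
  · rw [mem_inertia, conjBy_mul, x.2, ← conjBy_mul, mul_inv_cancel, conjBy_one]
  · rw [conjBy_mul, (mem_inertia hN θ t).mp t.2]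
  · apply Subtype.ext; simp
  · apply Subtype.ext; simp

theorem extendByZero_conjBy (hN : N.Normal) (g : G) (θ : N → ℂ) (z : G) :
    extendByZero N (conjBy hN g θ) z = extendByZero N θ (g * z * g⁻¹) := by
  by_cases h : z ∈ N
  · rw [extendByZero_mem N _ h, extendByZero_mem N _ (hN.conj_mem z h g)]; rfl
  · rw [extendByZero_not_mem N _ h, extendByZero_not_mem]
    intro h'
    apply h
    have := hN.conj_mem _ h' g⁻¹
    have h2 : g⁻¹ * (g * z * g⁻¹) * g⁻¹⁻¹ = z := by group
    rwa [h2] at this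

theorem indFun_conjBy [Fintype G] (hN : N.Normal) (g : G) (θ : N → ℂ) :
    indFun N (conjBy hN g θ) = indFun N θ := by
  funext x
  unfold indFun
  congr 1
  rw [← Equiv.sum_comp (Equiv.mulRight g)]
  apply Finset.sum_congr rfl
  intro y _
  rw [extendByZero_conjBy]
  congr 1
  simp only [Equiv.coe_mulRight]
  group

theorem inner_ind_eq_zero [Fintype G] (hN : N.Normal) (θ φ : N → ℂ) (hθ : IsIrrCharacter N θ)
    (hφ : IsIrrCharacter N φ) (h : ¬ ∃ g : G, φ = conjBy hN g θ) :
    classInner (indFun N φ) (indFun N θ) = 0 := by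
  classical
  rw [frobenius_reciprocity N φ _ (indFun_isClassFunction N θ), inner_indFun_restrict hN]
  rw [Finset.sum_eq_zero, mul_zero]
  intro x _
  rw [inner_irr_eq hφ (conjBy_irr hN x hθ), if_neg]
  intro h'
  exact h ⟨x, h'⟩

theorem linear_of_comm_ker {χ : G → ℂ} (hχ : IsIrrCharacter G χ) [Finite G]
    (h : ∀ x y : G, χ (x * y * x⁻¹ * y⁻¹) = χ 1) : ∃ lam : G →* ℂˣ, χ = fun g => (lam g : ℂ) := by
  obtain ⟨n, ρ, hρ, rfl⟩ := hχ
  have h1 : ∀ x y : G, ρ x * ρ y = ρ y * ρ x := by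
    intro x y
    have h2 := (IsChar.eq_one_iff_rep ρ _).mp (h x y)
    have h3 : x * y = (x * y * x⁻¹ * y⁻¹) * (y * x) := by group
    rw [← map_mul, h3, map_mul, h2, one_mul, map_mul]
  have h2 : ∀ g : G, ∃ c : ℂ, ∀ v, ρ g v = c • v := fun g =>
    H5.schur_scalar ρ hρ (ρ g) (fun x v => by
      have := congrArg (fun T : Module.End ℂ (Fin n → ℂ) => T v) (h1 g x)
      exact this)
  have hnt : Nontrivial (Fin n → ℂ) := ((isIrreducible_iff ρ).mp hρ).1
  have h3 : scalarSub ρ = ⊤ := by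
    rw [eq_top_iff]
    intro g _
    rw [mem_scalarSub]
    obtain ⟨c, hc⟩ := h2 g
    have hc0 : c ≠ 0 := by
      rintro rfl
      obtain ⟨v, hv⟩ := exists_ne (0 : Fin n → ℂ)
      have h4 := hc v
      rw [zero_smul] at h4
      have h5 : ρ g⁻¹ (ρ g v) = v := by
        rw [← Module.End.mul_apply, ← map_mul, inv_mul_cancel, map_one]; rfl
      rw [h4, map_zero] at h5
      exact hv h5.symm
    refine ⟨Units.mk0 c hc0, ?_⟩
    apply LinearMap.ext; intro v
    rw [hc]; rfl
  have h4 := linear_of_top_scalar ρ hρ h3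
  apply exists_hom_of_degree_one ⟨n, ρ, rfl⟩
  rw [Representation.char_one, h4]; simp

/-- two irreducible characters over the same invariant character, abelian quotient -/
theorem mul_linear_of_abelian [Fintype G] [Fintype N] (hN : N.Normal) (θ : N → ℂ) (hθ : IsIrrCharacter N θ)
    (hinv : inertia hN θ = ⊤) (hab : ∀ x y : G, x * y * x⁻¹ * y⁻¹ ∈ N) (ψ ψ' : G → ℂ)
    (hψ : IsIrrCharacter G ψ) (hψ' : IsIrrCharacter G ψ') (h : classInner (fun n : N => ψ n) θ ≠ 0)
    (h' : classInner (fun n : N => ψ' n) θ ≠ 0) :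
    ∃ lam : G →* ℂˣ, (∀ n : N, lam n = 1) ∧ ψ' = fun g => (lam g : ℂ) * ψ g := by
  classical
  have h1 := restrict_of_invariant hN ψ hψ θ hθ h hinv
  have h2 := restrict_of_invariant hN ψ' hψ' θ hθ h' hinv
  -- the induced of the restriction
  have h3 : classInner (indFun N (fun n : N => ψ n)) ψ' ≠ 0 := by
    rw [frobenius_reciprocity N _ _ (IsIrr.isClassFunction hψ'), h1, h2, H5.classInner_smul_left,
      H5.classInner_smul_right, inner_irr_eq hθ hθ, if_pos rfl, mul_one]
    exact mul_ne_zero h ((map_ne_zero _).mpr h')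
  have h4 : indFun N (fun n : N => ψ n) = indFun N (fun _ : N => (1 : ℂ)) * ψ := by
    rw [← indFun_mul_restrict N (fun _ => 1) ψ (IsIrr.isClassFunction hψ)]
    simp
  obtain ⟨m, hm1, hm2⟩ := IsChar.exists_mult (IsChar.induce N (fun _ : N => (1 : ℂ)) H5.isCharacter_trivial)
  have h5 : indFun N (fun n : N => ψ n) = ∑ β : IrrCharacter G, (m β : ℂ) • ((β : G → ℂ) * ψ) := by
    rw [h4]
    funext g
    rw [Pi.mul_apply, hm2, Finset.sum_mul, Finset.sum_apply]
    apply Finset.sum_congr rfl; intro β _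
    simp [mul_assoc]
  rw [h5, H5.classInner_sum_left] at h3
  obtain ⟨β, -, hβ⟩ := Finset.exists_ne_zero_of_sum_ne_zero h3
  rw [H5.classInner_smul_left] at hβ
  have hmβ : classInner (indFun N (fun _ : N => (1 : ℂ))) (β : G → ℂ) ≠ 0 := by
    rw [hm1]; exact left_ne_zero_of_mul hβ
  rw [frobenius_reciprocity N _ _ (IsIrr.isClassFunction β.2)] at hmβ
  have hmβ' : classInner (fun n : N => (β : G → ℂ) n) (fun _ : N => (1 : ℂ)) ≠ 0 := by
    rw [← H5.classInner_conj_symm]; exact (map_ne_zero _).mpr hmβ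
  have hinv1 : inertia hN (fun _ : N => (1 : ℂ)) = ⊤ := inertia_eq_top_of hN _ (fun _ _ => rfl)
  have h6 := restrict_of_invariant hN β β.2 _ H5.isIrrCharacter_trivial hmβ' hinv1
  have h7 : ∀ n : N, (β : G → ℂ) n = (β : G → ℂ) 1 := by
    intro n
    have a1 := congrFun h6 n
    have a2 := congrFun h6 1
    simp only [Pi.smul_apply, smul_eq_mul, mul_one, Subgroup.coe_one] at a1 a2
    rw [a1, a2]
  obtain ⟨lam, hlam⟩ := linear_of_comm_ker β.2 (fun x y => h7 ⟨_, hab x y⟩)
  refine ⟨lam, ?_, ?_⟩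
  · intro n
    have := h7 n
    rw [hlam] at this
    simp only [map_one, Units.val_one] at this
    exact Units.ext this
  · have h8 : IsIrrCharacter G ((β : G → ℂ) * ψ) := by
      rw [H5.isIrrCharacter_iff_inner]
      refine ⟨IsChar.mul (IsIrr.isCharacter β.2) (IsIrr.isCharacter hψ), ?_⟩
      have h9 : classInner ((β : G → ℂ) * ψ) ((β : G → ℂ) * ψ) = classInner ψ ψ := by
        unfold classInner
        congr 1
        apply Finset.sum_congr rfl; intro g _
        rw [hlam]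
        simp only [Pi.mul_apply, map_mul]
        have h10 : ‖(lam g : ℂ)‖ = 1 := by
          have h11 : (lam g : ℂ) ^ (Nat.card G) = 1 := by
            rw [← Units.val_pow_eq_pow_val, ← map_pow, pow_card_eq_one', map_one, Units.val_one]
          exact Complex.norm_eq_one_of_pow_eq_one h11 Nat.card_pos.ne'
        have h12 : (lam g : ℂ) * conj (lam g : ℂ) = 1 := by
          rw [Complex.mul_conj, Complex.normSq_eq_norm_sq, h10]; norm_num
        calc (lam g : ℂ) * ψ g * (conj (lam g : ℂ) * conj (ψ g)) = ((lam g : ℂ) * conj (lam g : ℂ)) * (ψ g * conj (ψ g)) := by ring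
          _ = _ := by rw [h12, one_mul]
      rw [h9, inner_irr_eq hψ hψ, if_pos rfl]
    have h9 := right_ne_zero_of_mul hβ
    rw [inner_irr_eq h8 hψ'] at h9
    have h10 : (β : G → ℂ) * ψ = ψ' := by
      by_contra hne
      rw [if_neg hne] at h9
      exact h9 rfl
    rw [← h10, hlam]; rfl

theorem abelian_ramified [Fintype G] (hN : N.Normal) (θ : N → ℂ) (hθ : IsIrrCharacter N θ)
    (hinv : inertia hN θ = ⊤) (hab : ∀ x y : G, x * y * x⁻¹ * y⁻¹ ∈ N) :
    ∃ (e : ℕ) (C : Finset (G → ℂ)), 0 < e ∧ (∀ χ, χ ∈ C ↔ IsIrrCharacter G χ ∧ classInner (indFun N θ) χ ≠ 0) ∧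
      e ^ 2 * C.card = N.index ∧ indFun N θ = (e : ℂ) • ∑ χ ∈ C, χ ∧
      ∀ χ ∈ C, (fun n : N => χ n) = (e : ℂ) • θ := by
  classical
  have : Fintype N := Fintype.ofFinite N
  obtain ⟨m, hm1, hm2⟩ := IsChar.exists_mult (IsChar.induce N θ (IsIrr.isCharacter hθ))
  have hexp := H5.classFun_expansion (indFun_isClassFunction N θ)
  have hnorm := norm_indFun_invariant hN θ hθ hinv
  have hidx : (N.index : ℂ) ≠ 0 := by exact_mod_cast N.index_ne_zero_of_finite
  -- a constituent
  obtain ⟨ψ, hψ⟩ : ∃ ψ : IrrCharacter G, m ψ ≠ 0 := by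
    by_contra hcon
    push Not at hcon
    apply hidx
    rw [← hnorm]
    have : indFun N θ = 0 := by
      rw [hexp]
      apply Finset.sum_eq_zero; intro χ _
      rw [hm1, hcon]; simp
    rw [this, H5.classInner_zero_left]
  have hsymm : ∀ χ : IrrCharacter G, classInner (fun n : N => (χ : G → ℂ) n) θ = m χ := by
    intro χ
    rw [← frobenius_reciprocity' N θ _ (IsIrr.isClassFunction χ.2), ← H5.classInner_conj_symm, hm1]
    simp
  have hψr := restrict_of_invariant hN ψ ψ.2 θ hθ (by rw [hsymm]; exact_mod_cast hψ) hinv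
  rw [hsymm] at hψr
  have hall : ∀ χ : IrrCharacter G, m χ ≠ 0 → (fun n : N => (χ : G → ℂ) n) = (m ψ : ℂ) • θ ∧ m χ = m ψ := by
    intro χ hχ
    obtain ⟨lam, hl1, hl2⟩ := mul_linear_of_abelian hN θ hθ hinv hab ψ χ ψ.2 χ.2
      (by rw [hsymm]; exact_mod_cast hψ) (by rw [hsymm]; exact_mod_cast hχ)
    have h1 : (fun n : N => (χ : G → ℂ) n) = (m ψ : ℂ) • θ := by
      rw [← hψr]
      funext n
      rw [hl2]
      simp [hl1 n]
    refine ⟨h1, ?_⟩
    have h2 := hsymm χ
    rw [h1, H5.classInner_smul_left, inner_irr_eq hθ hθ, if_pos rfl, mul_one] at h2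
    exact_mod_cast h2.symm
  set C : Finset (G → ℂ) := (Finset.univ.filter (fun χ : IrrCharacter G => m χ ≠ 0)).image (fun χ : IrrCharacter G => (χ : G → ℂ)) with hC
  have hCmem : ∀ χ, χ ∈ C ↔ IsIrrCharacter G χ ∧ classInner (indFun N θ) χ ≠ 0 := by
    intro χ
    rw [hC, Finset.mem_image]
    constructor
    · rintro ⟨φ, hφ, rfl⟩
      refine ⟨φ.2, ?_⟩
      rw [hm1]
      exact_mod_cast (Finset.mem_filter.mp hφ).2
    · rintro ⟨h1, h2⟩
      refine ⟨⟨χ, h1⟩, ?_, rfl⟩
      rw [Finset.mem_filter]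
      refine ⟨Finset.mem_univ _, ?_⟩
      intro h0
      apply h2
      have := hm1 ⟨χ, h1⟩
      rw [h0] at this
      simpa using this
  have hsum : indFun N θ = (m ψ : ℂ) • ∑ χ ∈ C, χ := by
    rw [hC, Finset.sum_image (by intro a _ b _ h; exact Subtype.ext h), Finset.smul_sum, Finset.sum_filter]
    conv_lhs => rw [hexp]
    apply Finset.sum_congr rfl
    intro χ _
    by_cases h0 : m χ = 0
    · rw [hm1, h0]; simp
    · rw [if_pos h0, hm1, (hall χ h0).2]
  have hcard : C.card = (Finset.univ.filter (fun χ : IrrCharacter G => m χ ≠ 0)).card := by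
    rw [hC, Finset.card_image_of_injective _ Subtype.val_injective]
  refine ⟨m ψ, C, Nat.pos_of_ne_zero hψ, hCmem, ?_, hsum, ?_⟩
  · have h1 : classInner (indFun N θ) (indFun N θ) = ∑ χ : IrrCharacter G, (m χ : ℂ) * (m χ : ℂ) := by
      rw [H5.classInner_eq_sum (indFun_isClassFunction N θ)]
      apply Finset.sum_congr rfl; intro χ _
      rw [hm1]; simp
    rw [hnorm] at h1
    have h2 : ∑ χ : IrrCharacter G, (m χ : ℂ) * (m χ : ℂ) = ((m ψ ^ 2 * C.card : ℕ) : ℂ) := by
      have h3 : ∑ χ : IrrCharacter G, m χ * m χ = m ψ ^ 2 * C.card := by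
        rw [hcard, mul_comm, ← smul_eq_mul, ← Finset.sum_const, Finset.sum_filter]
        apply Finset.sum_congr rfl; intro χ _
        by_cases h0 : m χ = 0
        · rw [if_neg (by simpa using h0), h0]; rfl
        · rw [if_pos h0, (hall χ h0).2, sq]
      rw [← h3]; push_cast; rfl
    rw [h2] at h1
    exact_mod_cast h1.symm
  · intro χ hχ
    have h1 := (hCmem χ).mp hχ
    have h2 : m ⟨χ, h1.1⟩ ≠ 0 := by
      intro h0
      apply h1.2
      have := hm1 ⟨χ, h1.1⟩
      rw [h0] at this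
      simpa using this
    exact (hall ⟨χ, h1.1⟩ h2).1

/-- Extension of an invariant character from a normal Hall subgroup. -/
theorem extends_hall [Finite G] (hN : N.Normal) (ϑ : N → ℂ) (hϑ : IsIrrCharacter N ϑ)
    (hinv : ∀ (g : G) (n : N), ϑ (conjAut hN g n) = ϑ n) (hcop : Nat.Coprime (Nat.card N) N.index) :
    ∃ χ : G → ℂ, IsIrrCharacter G χ ∧ ∀ n : N, χ n = ϑ n := by
  apply extends_of_local hN ϑ hϑ hinv
  intro p hp
  by_cases hpN : p ∣ Nat.card N
  · left
    refine ⟨N, le_refl N, ϑ, ?_, IsIrr.isCharacter hϑ, fun n => rfl⟩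
    rw [Nat.coprime_comm, hp.coprime_iff_not_dvd]
    intro h
    exact hp.one_lt.ne' (Nat.eq_one_of_dvd_coprimes hcop hpN h)
  · right; right
    refine ⟨Nat.card N, charDegree ϑ, IsChar.one_eq (IsIrr.isCharacter hϑ), ?_, ?_⟩
    · intro h
      rcases (hp.dvd_mul).mp h with h | h
      · exact hpN (h.trans (IsIrr.degree_dvd hϑ))
      · exact hpN h
    · intro n
      obtain ⟨lam, hlam⟩ := detChar_hom (IsIrr.isCharacter hϑ)
      rw [hlam, homFun_apply, ← Units.val_pow_eq_pow_val, ← map_pow, pow_card_eq_one', map_one, Units.val_one]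

end Cfsg.Agent.H4
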