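import Cfsg.Agent.H4.Cliff3

set_option linter.all false
set_option autoImplicit false

namespace Cfsg.Agent.H4

open Module
open scoped ComplexConjugate

universe u v w

variable {G : Type u} [Group G] {N : Subgroup G}

theorem toSub_conj (hN : N.Normal) (T : Subgroup G) (hNT : N ≤ T) (θ : N → ℂ) (hN' : (N.subgroupOf T).Normal)
    (t : T) : conjBy hN' t (toSub θ : N.subgroupOf T → ℂ) = toSub (conjBy hN (t : G) θ) := by
  funext x
  rfl

theorem inertia_toSub_eq_top (hN : N.Normal) (T : Subgroup G) (hNT : N ≤ T) (θ : N → ℂ) (hN' : (N.subgroupOf T).Normal)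
    (hT : T ≤ inertia hN θ) : inertia hN' (toSub θ : N.subgroupOf T → ℂ) = ⊤ := by
  rw [eq_top_iff]
  intro t _
  rw [mem_inertia, toSub_conj hN T hNT, (mem_inertia hN θ _).mp (hT t.2)]

theorem card_subgroupOf_of_le {H T : Subgroup G} (h : H ≤ T) : Nat.card (H.subgroupOf T) = Nat.card H :=
  Nat.card_congr (Subgroup.subgroupOfEquivOfLe h).toEquiv

theorem inner_toSub_ind [Fintype G] (hN : N.Normal) (T : Subgroup G) [Fintype T] (hNT : N ≤ T) (θ : N → ℂ) (ξ : T → ℂ) (hξ : IsIrrCharacter T ξ) [Fintype N]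
    (h : classInner (indFun (N.subgroupOf T) (toSub θ)) ξ ≠ 0) : classInner (resLE hNT ξ) θ ≠ 0 := by
  classical
  have : Fintype (N.subgroupOf T) := Fintype.ofFinite _
  intro h0
  apply h
  rw [frobenius_reciprocity _ _ _ (IsIrr.isClassFunction hξ), ← toSub_restrict hNT ξ, classInner_toSub hNT,
    ← H5.classInner_conj_symm, h0, map_zero]

theorem abelian_ramified_general [Fintype G] (hN : N.Normal) (T : Subgroup G) [Fintype T] (θ : N → ℂ) (hθ : IsIrrCharacter N θ)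
    (hT : T = inertia hN θ) (hNT : N ≤ T) (hab : ∀ x ∈ T, ∀ y ∈ T, x * y * x⁻¹ * y⁻¹ ∈ N) :
    ∃ (e : ℕ) (C : Finset (G → ℂ)), 0 < e ∧ (∀ χ ∈ C, IsIrrCharacter G χ) ∧
      e ^ 2 * C.card * Nat.card N = Nat.card T ∧ indFun N θ = (e : ℂ) • ∑ χ ∈ C, χ ∧
      (∀ χ ∈ C, χ 1 = (T.index : ℂ) * e * θ 1) ∧
      (Nat.Coprime (Nat.card N) (N.relIndex T) → e = 1) := by
  classical
  have : Fintype N := Fintype.ofFinite N
  have hN' : (N.subgroupOf T).Normal := hN.subgroupOf T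
  have hθ' : IsIrrCharacter (N.subgroupOf T) (toSub θ : N.subgroupOf T → ℂ) := toSub_irr hNT hθ
  have hinv := inertia_toSub_eq_top hN T hNT θ hN' hT.le
  obtain ⟨e, C', he, hC', hcard, hsum, hres⟩ := abelian_ramified hN' (toSub θ) hθ' hinv (by
    intro x y
    rw [Subgroup.mem_subgroupOf]
    exact hab x x.2 y y.2)
  have hcon : ∀ ψ ∈ C', classInner (resLE hNT ψ) θ ≠ 0 := fun ψ hψ =>
    inner_toSub_ind hN T hNT θ ψ ((hC' ψ).mp hψ).1 ((hC' ψ).mp hψ).2
  have hinj : Set.InjOn (indFun T) (C' : Set (T → ℂ)) := by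
    intro ψ hψ φ hφ h
    exact clifford_unique hN θ hθ T hT hNT ψ φ ((hC' ψ).mp hψ).1 ((hC' φ).mp hφ).1 (hcon ψ hψ) (hcon φ hφ) h
  refine ⟨e, C'.image (indFun T), he, ?_, ?_, ?_, ?_, ?_⟩
  · intro χ hχ
    obtain ⟨ψ, hψ, rfl⟩ := Finset.mem_image.mp hχ
    exact clifford_induce hN θ hθ T hT hNT ψ ((hC' ψ).mp hψ).1 (hcon ψ hψ)
  · rw [Finset.card_image_of_injOn hinj, hcard]
    have := (N.subgroupOf T).card_mul_index
    rw [card_subgroupOf_of_le hNT] at this
    rw [mul_comm]; exact this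
  · rw [Finset.sum_image hinj, ← indFun_trans N θ T hNT]
    have h1 : indFun (N.subgroupOf T) (fun x => θ ⟨(x : T), Subgroup.mem_subgroupOf.mp x.2⟩) = (e : ℂ) • ∑ χ ∈ C', χ := hsum
    rw [h1, indFun_smul, indFun_sum]
  · intro χ hχ
    obtain ⟨ψ, hψ, rfl⟩ := Finset.mem_image.mp hχ
    rw [indFun_one]
    have h1 := congrFun (hres ψ hψ) 1
    have h2 : ψ 1 = (e : ℂ) * θ 1 := h1
    rw [h2, mul_assoc]
  · intro hcop
    -- extend
    have hinv2 : ∀ (g : T) (n : N.subgroupOf T), (toSub θ : N.subgroupOf T → ℂ) (conjAut hN' g n) = toSub θ n := by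
      intro g n
      have h1 : g ∈ inertia hN' (toSub θ : N.subgroupOf T → ℂ) := by rw [hinv]; trivial
      exact congrFun ((mem_inertia hN' _ g).mp h1) n
    obtain ⟨χ, hχ, hχN⟩ := extends_hall hN' (toSub θ) hθ' hinv2 (by
      rw [card_subgroupOf_of_le hNT]; exact hcop)
    have h1 : (fun n : N.subgroupOf T => χ n) = toSub θ := funext hχN
    have h2 : χ ∈ C' := by
      rw [hC']
      refine ⟨hχ, ?_⟩
      have : Fintype (N.subgroupOf T) := Fintype.ofFinite _
      rw [frobenius_reciprocity _ _ _ (IsIrr.isClassFunction hχ), h1, inner_irr_eq hθ' hθ', if_pos rfl]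
      exact one_ne_zero
    have h3 := congrFun (hres χ h2) 1
    have h4 := congrFun h1 1
    simp only [Pi.smul_apply, smul_eq_mul] at h3 h4
    rw [h4] at h3
    have h5 : (toSub θ : N.subgroupOf T → ℂ) 1 ≠ 0 := IsIrr.degree_ne_zero hθ'
    have h6 : (e : ℂ) = 1 := by
      have : (1 : ℂ) * (toSub θ : N.subgroupOf T → ℂ) 1 = e * (toSub θ : N.subgroupOf T → ℂ) 1 := by rw [one_mul]; exact h3
      exact (mul_right_cancel₀ h5 this).symm
    exact_mod_cast h6

end Cfsg.Agent.H4
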