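import Cfsg.Agent.H4.Codeg1
import Cfsg.Agent.H4.U4757
import Cfsg.Agent.H4.OC2

namespace Cfsg.Agent.H4
open scoped ComplexConjugate
universe u
variable {G : Type u} [Group G]

theorem defect_zero_irr [Finite G] {χ : G → ℂ} (hχ : IsIrrCharacter G χ) (p n : ℕ) (hp : p.Prime) (hn : p ^ n ∣ Nat.card G)
    (hn' : ¬ p ^ (n + 1) ∣ Nat.card G) (hdeg : p ^ n ∣ charDegree χ) (x : G) (hx : p ∣ orderOf x) : χ x = 0 := by
  obtain ⟨m, ρ, hρ, rfl⟩ := hχ
  apply defect_zero ρ hρ p n hp hn hn' _ x hx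
  have h0 : (charDegree ρ.character : ℂ) = ((Module.finrank ℂ (Fin m → ℂ) : ℕ) : ℂ) := by
    rw [← H5.IsCharacter.one_eq_charDegree ⟨m, ρ, rfl⟩, Representation.char_one]
  have h1 : charDegree ρ.character = Module.finrank ℂ (Fin m → ℂ) := by exact_mod_cast h0
  rwa [h1] at hdeg

/-- codegree data -/
theorem cod_data [Finite G] (χ : IrrCharacter G) :
    ∃ (K : Subgroup G) (_ : K.Normal) (θ : IrrCharacter (G ⧸ K)), (∀ g, g ∈ K ↔ (χ : G → ℂ) g = (χ : G → ℂ) 1) ∧
      (χ : G → ℂ) = (θ : G ⧸ K → ℂ) ∘ QuotientGroup.mk ∧ charDegree (θ : G ⧸ K → ℂ) = charDegree (χ : G → ℂ) ∧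
      Nat.card (G ⧸ K) = charDegree (χ : G → ℂ) *
        (Nat.card G / (Nat.card {g : G // (χ : G → ℂ) g = (χ : G → ℂ) 1} * charDegree (χ : G → ℂ))) ∧
      Nat.card K = Nat.card {g : G // (χ : G → ℂ) g = (χ : G → ℂ) 1} := by
  refine ⟨charKer (IsIrr.isCharacter χ.2), inferInstance, ?_⟩
  obtain ⟨θ, hθ⟩ := H5.irr_deflate (N := charKer (IsIrr.isCharacter χ.2)) χ.2 (fun n hn => (mem_charKer _ n).1 hn)
  have hdeg : charDegree (θ : G ⧸ charKer (IsIrr.isCharacter χ.2) → ℂ) = charDegree (χ : G → ℂ) := by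
    have e1 := H5.IsCharacter.one_eq_charDegree (IsIrr.isCharacter θ.2)
    have e2 := H5.IsCharacter.one_eq_charDegree (IsIrr.isCharacter χ.2)
    have e3 : (χ : G → ℂ) 1 = (θ : G ⧸ charKer (IsIrr.isCharacter χ.2) → ℂ) 1 := by
      conv_lhs => rw [hθ]
      rfl
    have : ((charDegree (θ : G ⧸ charKer (IsIrr.isCharacter χ.2) → ℂ) : ℕ) : ℂ) = charDegree (χ : G → ℂ) := by
      rw [← e1, ← e2, e3]
    exact_mod_cast this
  have hcard : Nat.card (charKer (IsIrr.isCharacter χ.2)) = Nat.card {g : G // (χ : G → ℂ) g = (χ : G → ℂ) 1} :=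
    Nat.card_congr (Equiv.subtypeEquivRight fun g => mem_charKer _ g)
  refine ⟨θ, fun g => mem_charKer _ g, hθ, hdeg, ?_, hcard⟩
  obtain ⟨c, hc⟩ := IsIrr.degree_dvd θ.2
  rw [hdeg] at hc
  rw [← hcard, Subgroup.card_eq_card_quotient_mul_card_subgroup (charKer (IsIrr.isCharacter χ.2)), hc,
    show charDegree (χ : G → ℂ) * c * Nat.card (charKer (IsIrr.isCharacter χ.2)) =
      c * (Nat.card (charKer (IsIrr.isCharacter χ.2)) * charDegree (χ : G → ℂ)) by ring,
    Nat.mul_div_cancel _ (Nat.mul_pos Nat.card_pos (IsIrr.degree_pos χ.2))]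

theorem cod_dvd [Finite G] (χ : IrrCharacter G) :
    (Nat.card G / (Nat.card {g : G // (χ : G → ℂ) g = (χ : G → ℂ) 1} * charDegree (χ : G → ℂ))) ∣ Nat.card G := by
  obtain ⟨K, _, θ, -, -, -, h, -⟩ := cod_data χ
  refine (Dvd.intro_left _ h.symm).trans ?_
  exact Subgroup.card_quotient_dvd_card K

theorem exists_cod_dvd [Finite G] (p : ℕ) (hp : p.Prime) (hpG : p ∣ Nat.card G) :
    ∃ χ : IrrCharacter G, p ∣ (Nat.card G / (Nat.card {g : G // (χ : G → ℂ) g = (χ : G → ℂ) 1} * charDegree (χ : G → ℂ))) := by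
  haveI : Fact p.Prime := ⟨hp⟩
  by_contra hcon
  push Not at hcon
  obtain ⟨x, hx⟩ := exists_prime_orderOf_dvd_card' p hpG
  have : IsConj x 1 := by
    apply isConj_of_vanish
    intro χ
    obtain ⟨K, hK, θ, h1, h2, h3, h4, -⟩ := cod_data χ
    by_cases hxK : x ∈ K
    · right; exact (h1 x).1 hxK
    · left
      have h5 : (χ : G → ℂ) x = (θ : G ⧸ K → ℂ) (QuotientGroup.mk x) := congrFun h2 x
      rw [h5]
      have h6 : orderOf (QuotientGroup.mk x : G ⧸ K) = p := by
        have h7 : orderOf (QuotientGroup.mk x : G ⧸ K) ∣ p := by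
          rw [← hx]; exact orderOf_map_dvd (QuotientGroup.mk' K) x
        rcases (Nat.dvd_prime hp).1 h7 with h8 | h8
        · exfalso; apply hxK
          rw [orderOf_eq_one_iff] at h8
          exact (QuotientGroup.eq_one_iff x).1 h8
        · exact h8
      have hne : Nat.card (G ⧸ K) ≠ 0 := Nat.card_pos.ne'
      refine defect_zero_irr θ.2 p ((Nat.card (G ⧸ K)).factorization p) hp (Nat.ordProj_dvd _ _)
        (Nat.pow_succ_factorization_not_dvd hne hp) ?_ _ (by rw [h6])
      rw [h3]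
      have h8 : p ^ (Nat.card (G ⧸ K)).factorization p ∣ charDegree (χ : G → ℂ) *
        (Nat.card G / (Nat.card {g : G // (χ : G → ℂ) g = (χ : G → ℂ) 1} * charDegree (χ : G → ℂ))) := by
        rw [← h4]; exact Nat.ordProj_dvd _ _
      exact (Nat.Coprime.pow_left _ ((Nat.Prime.coprime_iff_not_dvd hp).2 (hcon χ))).dvd_of_dvd_mul_right h8
  have h9 := isConj_one_right.1 this.symm
  rw [h9, orderOf_one] at hx
  exact hp.one_lt.ne hx


theorem simple_codeg_dvd {S : Type u} [Group S] [Finite S] (hS : IsSimpleGroup S) (p n : ℕ) (hp : p.Prime) (hn : n ≠ 0)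
    (hpn : p ^ n ∣ Nat.card S) : ∃ χ : IrrCharacter S, p ^ n ∣
      (Nat.card S / (Nat.card {g : S // (χ : S → ℂ) g = (χ : S → ℂ) 1} * charDegree (χ : S → ℂ))) := by
  classical
  obtain ⟨χ, hχt, hχp⟩ : ∃ χ : IrrCharacter S, χ ≠ trivIrr S ∧ ¬ p ∣ charDegree (χ : S → ℂ) := by
    by_contra hcon
    push Not at hcon
    have h1 := H5.sum_irr_sq (G := S)
    rw [← Finset.add_sum_erase _ _ (Finset.mem_univ (trivIrr S)), trivIrr_apply] at h1
    have h2 : 1 + ∑ χ ∈ Finset.univ.erase (trivIrr S), charDegree (χ : S → ℂ) ^ 2 = Nat.card S := by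
      have : ((1 + ∑ χ ∈ Finset.univ.erase (trivIrr S), charDegree (χ : S → ℂ) ^ 2 : ℕ) : ℂ) = (Nat.card S : ℂ) := by
        push_cast
        rw [← h1, one_pow]
        congr 1
        refine Finset.sum_congr rfl fun χ _ => ?_
        rw [H5.IsCharacter.one_eq_charDegree (IsIrr.isCharacter χ.2)]
      exact_mod_cast this
    have h3 : p ∣ ∑ χ ∈ Finset.univ.erase (trivIrr S), charDegree (χ : S → ℂ) ^ 2 := by
      apply Finset.dvd_sum
      intro χ hχ
      exact dvd_pow (hcon χ (Finset.mem_erase.1 hχ).1) two_ne_zero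
    have h4 : p ∣ Nat.card S := (dvd_pow_self p hn).trans hpn
    rw [← h2] at h4
    exact hp.one_lt.ne' (Nat.dvd_one.1 ((Nat.dvd_add_left h3).1 h4))
  refine ⟨χ, ?_⟩
  obtain ⟨K, hK, θ, h1, h2, h3, h4, -⟩ := cod_data χ
  have hKb : K = ⊥ := by
    rcases hS.eq_bot_or_eq_top_of_normal K hK with h | h
    · exact h
    · exfalso
      apply hχt
      -- then χ is trivial
      have hall : ∀ g, (χ : S → ℂ) g = (χ : S → ℂ) 1 := fun g => (h1 g).1 (h ▸ Subgroup.mem_top g)
      obtain ⟨lam, hlam⟩ := linear_of_comm_ker χ.2 (fun x y => hall _)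
      apply Subtype.ext
      funext g
      rw [hall g, hlam]
      simp [trivIrr]
  rw [hKb] at h4
  have h5 : Nat.card (S ⧸ (⊥ : Subgroup S)) = Nat.card S := by
    rw [← Subgroup.index_eq_card, Subgroup.index_bot]
  have h6 : Nat.card S = charDegree (χ : S → ℂ) *
        (Nat.card S / (Nat.card {g : S // (χ : S → ℂ) g = (χ : S → ℂ) 1} * charDegree (χ : S → ℂ))) := by
    rw [← h4, Nat.card_congr (QuotientGroup.quotientBot).toEquiv]
  have h7 : p ^ n ∣ charDegree (χ : S → ℂ) *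
        (Nat.card S / (Nat.card {g : S // (χ : S → ℂ) g = (χ : S → ℂ) 1} * charDegree (χ : S → ℂ))) := by
    rw [← h6]; exact hpn
  exact (Nat.Coprime.pow_left _ ((Nat.Prime.coprime_iff_not_dvd hp).2 hχp)).dvd_of_dvd_mul_left h7

theorem simple_card_dvd {S : Type u} [Group S] [Finite S] (hS : IsSimpleGroup S) {G : Type*} [Group G] [Finite G]
    (hsub : ∀ χ : IrrCharacter S, ∃ ψ : IrrCharacter G,
      (Nat.card S / (Nat.card {g : S // (χ : S → ℂ) g = (χ : S → ℂ) 1} * charDegree (χ : S → ℂ))) =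
      (Nat.card G / (Nat.card {g : G // (ψ : G → ℂ) g = (ψ : G → ℂ) 1} * charDegree (ψ : G → ℂ)))) :
    Nat.card S ∣ Nat.card G := by
  rw [Nat.dvd_iff_prime_pow_dvd_dvd]
  intro p k hp hpk
  rcases Nat.eq_zero_or_pos k with h0 | h0
  · rw [h0, pow_zero]; exact one_dvd _
  · obtain ⟨χ, hχ⟩ := simple_codeg_dvd hS p k hp h0.ne' hpk
    obtain ⟨ψ, hψ⟩ := hsub χ
    rw [hψ] at hχ
    exact hχ.trans (cod_dvd ψ)

/-- a perfect group of order `p * d` with `d < p` is trivial -/
theorem perfect_small {Q : Type u} [Group Q] [Finite Q] (hperf : commutator Q = ⊤) {p d : ℕ} (hp : p.Prime)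
    (hQ : Nat.card Q = d * p) (hd : d < p) : False := by
  haveI : Fact p.Prime := ⟨hp⟩
  have hd0 : 0 < d := by
    rcases Nat.eq_zero_or_pos d with h | h
    · rw [h, zero_mul] at hQ
      exact absurd hQ Nat.card_pos.ne'
    · exact h
  have hpd : ¬ p ∣ d := fun h => absurd (Nat.le_of_dvd hd0 h) (not_le.2 hd)
  obtain ⟨P⟩ : Nonempty (Sylow p Q) := inferInstance
  have hPc : Nat.card (P : Subgroup Q) = p := by
    have h1 := P.card_eq_multiplicity
    rw [h1, hQ, Nat.factorization_mul hd0.ne' hp.ne_zero, Finsupp.add_apply, Nat.factorization_eq_zero_of_not_dvd hpd,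
      hp.factorization_self, zero_add, pow_one]
  have hidx : (P : Subgroup Q).index = d := by
    have := Subgroup.card_mul_index (P : Subgroup Q)
    rw [hPc, hQ, mul_comm] at this
    exact Nat.eq_of_mul_eq_mul_right hp.pos this
  have hPn : (P : Subgroup Q).Normal := by
    have h1 : Nat.card (Sylow p Q) ∣ d := by rw [← hidx]; exact P.card_dvd_index
    have h2 : Nat.card (Sylow p Q) ≡ 1 [MOD p] := card_sylow_modEq_one p Q
    have h3 : Nat.card (Sylow p Q) = 1 := by
      have h4 := Nat.le_of_dvd hd0 h1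
      have h5 : Nat.card (Sylow p Q) < p := by omega
      have h6 := h2
      unfold Nat.ModEq at h6
      rw [Nat.mod_eq_of_lt h5, Nat.mod_eq_of_lt hp.one_lt] at h6
      exact h6
    haveI : Subsingleton (Sylow p Q) := Finite.card_le_one_iff_subsingleton.1 h3.le
    exact P.normal_of_subsingleton
  have hcyc : IsCyclic (P : Subgroup Q) := isCyclic_of_prime_card hPc
  have h1 := comm_cent_cyclic (P : Subgroup Q) hcyc
  rw [hperf, top_le_iff] at h1
  have hcen : Subgroup.normalizer ((P : Subgroup Q) : Set Q) ≤ Subgroup.centralizer ((P : Subgroup Q) : Set Q) := by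
    rw [h1]; exact le_top
  have hcomp := MonoidHom.ker_transferSylow_isComplement' P hcen
  set K := (MonoidHom.transferSylow P hcen).ker with hK
  have h2 : commutator Q ≤ K := by
    have hc : IsMulCommutative (P : Subgroup Q) := by
      haveI := hcyc
      infer_instance
    rw [_root_.commutator_def, Subgroup.commutator_le]
    intro x _ y _
    rw [hK, MonoidHom.mem_ker, map_commutatorElement, commutatorElement_eq_one_iff_mul_comm]
    exact hc.is_comm.comm _ _
  rw [hperf, top_le_iff] at h2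
  have h3 := hcomp.card_mul
  rw [h2, Subgroup.card_top, hPc] at h3
  have h4 : 0 < Nat.card Q := Nat.card_pos
  have h5 := hp.one_lt
  nlinarith

theorem perfect_cod [Finite G] (hperf : commutator G = ⊤) (χ : IrrCharacter G) :
    ¬ ((Nat.card G / (Nat.card {g : G // (χ : G → ℂ) g = (χ : G → ℂ) 1} * charDegree (χ : G → ℂ)))).Prime := by
  classical
  intro hp
  obtain ⟨K, hK, θ, h1, h2, h3, h4, -⟩ := cod_data χ
  set p := (Nat.card G / (Nat.card {g : G // (χ : G → ℂ) g = (χ : G → ℂ) 1} * charDegree (χ : G → ℂ))) with hpdef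
  have hQperf : commutator (G ⧸ K) = ⊤ := by
    have := Subgroup.map_commutator (⊤ : Subgroup G) ⊤ (QuotientGroup.mk' K)
    rw [← _root_.commutator_def, hperf, Subgroup.map_top_of_surjective _ (QuotientGroup.mk'_surjective K)] at this
    rw [_root_.commutator_def, ← this]
  have hdpos := IsIrr.degree_pos χ.2
  by_cases ht : θ = trivIrr (G ⧸ K)
  · -- χ trivial
    have hall : ∀ g, (χ : G → ℂ) g = (χ : G → ℂ) 1 := by
      intro g; rw [h2, ht]; rfl
    have hKt : K = ⊤ := by
      rw [Subgroup.eq_top_iff']; intro g; exact (h1 g).2 (hall g)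
    have h5 : Nat.card (G ⧸ K) = 1 := by rw [← Subgroup.index_eq_card, hKt, Subgroup.index_top]
    rw [h5] at h4
    have := Nat.eq_one_of_mul_eq_one_left h4.symm
    exact hp.one_lt.ne' this
  · have hsq := H5.sum_irr_sq (G := G ⧸ K)
    have h5 : ∑ ψ : IrrCharacter (G ⧸ K), charDegree (ψ : G ⧸ K → ℂ) ^ 2 = Nat.card (G ⧸ K) := by
      have : ((∑ ψ : IrrCharacter (G ⧸ K), charDegree (ψ : G ⧸ K → ℂ) ^ 2 : ℕ) : ℂ) = (Nat.card (G ⧸ K) : ℂ) := by
        push_cast
        rw [← hsq]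
        refine Finset.sum_congr rfl fun χ _ => ?_
        rw [H5.IsCharacter.one_eq_charDegree (IsIrr.isCharacter χ.2)]
      exact_mod_cast this
    rw [← Finset.add_sum_erase _ _ (Finset.mem_univ θ)] at h5
    have h6 : 1 ≤ ∑ ψ ∈ Finset.univ.erase θ, charDegree (ψ : G ⧸ K → ℂ) ^ 2 := by
      have h7 := Finset.single_le_sum (f := fun ψ : IrrCharacter (G ⧸ K) => charDegree (ψ : G ⧸ K → ℂ) ^ 2)
        (fun _ _ => Nat.zero_le _) (Finset.mem_erase.2 ⟨fun h => ht h.symm, Finset.mem_univ (trivIrr (G ⧸ K))⟩)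
      exact le_trans (Nat.one_le_pow _ _ (IsIrr.degree_pos (trivIrr (G ⧸ K)).2)) h7
    have h8 : charDegree (χ : G → ℂ) < p := by
      rw [h3, h4] at h5
      nlinarith
    exact perfect_small hQperf hp h4 h8

theorem perfect_iff_cod [Finite G] : commutator G = ⊤ ↔ ∀ χ : IrrCharacter G,
    ¬ ((Nat.card G / (Nat.card {g : G // (χ : G → ℂ) g = (χ : G → ℂ) 1} * charDegree (χ : G → ℂ)))).Prime := by
  constructor
  · intro h χ
    exact perfect_cod h χ
  · intro h
    by_contra hne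
    obtain ⟨lam, hlam⟩ := exists_hom_ne_one_of hne
    have hfin : Finite (G →* ℂˣ) := finite_hom
    obtain ⟨p, hp, hpo⟩ := Nat.exists_prime_and_dvd (n := orderOf lam) (by rwa [ne_eq, orderOf_eq_one_iff])
    have ho : 0 < orderOf lam := orderOf_pos lam
    obtain ⟨mu, hmp, hm1⟩ : ∃ mu : G →* ℂˣ, mu ^ p = 1 ∧ mu ≠ 1 := by
      refine ⟨lam ^ (orderOf lam / p), ?_, ?_⟩
      · exact (pow_mul lam (orderOf lam / p) p).symm.trans (by rw [Nat.div_mul_cancel hpo]; exact pow_orderOf_eq_one lam)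
      · exact pow_ne_one_of_lt_orderOf (Nat.div_pos (Nat.le_of_dvd ho hpo) hp.pos).ne' (Nat.div_lt_self ho hp.one_lt)
    apply h ⟨_, isIrr_hom mu⟩
    have h2 : Nat.card {g : G // ((⟨_, isIrr_hom mu⟩ : IrrCharacter G) : G → ℂ) g = ((⟨_, isIrr_hom mu⟩ : IrrCharacter G) : G → ℂ) 1}
        = Nat.card mu.ker := by
      refine Nat.card_congr (Equiv.subtypeEquivRight fun g => ?_)
      show ((mu g : ℂˣ) : ℂ) = ((mu 1 : ℂˣ) : ℂ) ↔ mu g = 1
      rw [map_one]
      exact Units.val_inj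
    have h3 : charDegree (((⟨_, isIrr_hom mu⟩ : IrrCharacter G) : G → ℂ)) = 1 := by
      have e1 := H5.IsCharacter.one_eq_charDegree (IsIrr.isCharacter (isIrr_hom mu))
      rw [map_one, Units.val_one] at e1
      exact_mod_cast e1.symm
    rw [h2, h3, mul_one]
    have h4 : mu.ker.index = p := by
      rw [Subgroup.index_ker]
      haveI : Finite mu.range := Finite.of_surjective _ mu.rangeRestrict_surjective
      haveI : IsCyclic mu.range := subgroup_units_cyclic mu.range
      obtain ⟨g, hg⟩ := IsCyclic.exists_generator (α := mu.range)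
      have h5 : orderOf g = Nat.card mu.range := orderOf_eq_card_of_forall_mem_zpowers hg
      have h6 : g ^ p = 1 := by
        obtain ⟨x, hx⟩ := g.2
        ext
        rw [Subgroup.coe_pow, ← hx]
        have := DFunLike.congr_fun hmp x
        rw [MonoidHom.pow_apply] at this
        rw [this]; rfl
      have h7 : orderOf g ∣ p := orderOf_dvd_of_pow_eq_one h6
      rw [h5] at h7
      rcases (Nat.dvd_prime hp).1 h7 with h8 | h8
      · exfalso; apply hm1
        ext x
        have h9 : Subsingleton mu.range := Finite.card_le_one_iff_subsingleton.1 h8.le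
        have h10 : (⟨mu x, x, rfl⟩ : mu.range) = 1 := Subsingleton.elim _ _
        have h11 := congrArg Subtype.val h10
        simpa using h11
      · exact h8
    rw [← Subgroup.card_mul_index mu.ker, Nat.mul_div_cancel_left _ Nat.card_pos, h4]
    exact hp

end Cfsg.Agent.H4
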