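import Cfsg.Agent.H4.Odd1

set_option linter.all false
set_option autoImplicit false

/-! Basic facts on integer spans and linear isometries. -/

namespace Cfsg.Agent.H4

open Module
open scoped ComplexConjugate Pointwise

universe u v w

theorem zs_apply {X : Type u} (n : ℤ) (f : X → ℂ) (x : X) : (n • f) x = (n : ℂ) * f x := by
  rw [Pi.smul_apply, zsmul_eq_mul]

theorem zs_eq {X : Type u} (n : ℤ) (f : X → ℂ) : n • f = (n : ℂ) • f := by
  funext x; rw [zs_apply]; rfl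

section
variable {X : Type u} {S : Set (X → ℂ)} {A : Set X}

theorem zspan_mem {χ : X → ℂ} (h : χ ∈ S) : χ ∈ zspan S := Submodule.subset_span h
theorem zspan_add {a b : X → ℂ} (ha : a ∈ zspan S) (hb : b ∈ zspan S) : a + b ∈ zspan S := Submodule.add_mem _ ha hb
theorem zspan_sub {a b : X → ℂ} (ha : a ∈ zspan S) (hb : b ∈ zspan S) : a - b ∈ zspan S := Submodule.sub_mem _ ha hb
theorem zspan_neg {a : X → ℂ} (ha : a ∈ zspan S) : -a ∈ zspan S := Submodule.neg_mem _ ha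
theorem zspan_zero : (0 : X → ℂ) ∈ zspan S := Submodule.zero_mem _
theorem zspan_smul {a : X → ℂ} (n : ℤ) (ha : a ∈ zspan S) : n • a ∈ zspan S := Submodule.smul_mem _ _ ha
theorem zspan_sum {ι : Type v} (s : Finset ι) (f : ι → X → ℂ) (h : ∀ i ∈ s, f i ∈ zspan S) : ∑ i ∈ s, f i ∈ zspan S :=
  Submodule.sum_mem _ h
theorem zspan_mono {T : Set (X → ℂ)} (h : S ⊆ T) : zspan S ⊆ zspan T := Submodule.span_mono h
theorem zspan_induction {p : (X → ℂ) → Prop} (hS : ∀ a ∈ S, p a) (h0 : p 0) (hadd : ∀ a b, a ∈ zspan S → b ∈ zspan S → p a → p b → p (a + b))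
    (hsm : ∀ (n : ℤ) a, a ∈ zspan S → p a → p (n • a)) {a : X → ℂ} (ha : a ∈ zspan S) : p a := by
  have ha' : a ∈ Submodule.span ℤ S := ha
  induction ha' using Submodule.span_induction with
  | mem x h => exact hS x h
  | zero => exact h0
  | add x y hx hy h1 h2 => exact hadd x y hx hy (h1 hx) (h2 hy)
  | smul n x hx h => exact hsm n x hx (h hx)

/-- the submodule of integer combinations vanishing off `A` -/
def zsubOn (S : Set (X → ℂ)) (A : Set X) : Submodule ℤ (X → ℂ) where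
  carrier := zspanOn S A
  add_mem' := by
    rintro a b ⟨ha, ha'⟩ ⟨hb, hb'⟩
    exact ⟨zspan_add ha hb, fun x hx => by simp [ha' x hx, hb' x hx]⟩
  zero_mem' := ⟨zspan_zero, fun x _ => rfl⟩
  smul_mem' := by
    rintro n a ⟨ha, ha'⟩
    exact ⟨zspan_smul n ha, fun x hx => by rw [zs_apply, ha' x hx, mul_zero]⟩

theorem mem_zspanOn_one [One X] (S : Set (X → ℂ)) (a : X → ℂ) : a ∈ zspanOn S {1}ᶜ ↔ a ∈ zspan S ∧ a 1 = 0 := by
  constructor
  · rintro ⟨h1, h2⟩; exact ⟨h1, h2 1 (by simp)⟩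
  · rintro ⟨h1, h2⟩
    refine ⟨h1, fun x hx => ?_⟩
    have : x = 1 := by simpa using hx
    rw [this, h2]

theorem zspanOn_mono {T : Set (X → ℂ)} (h : S ⊆ T) : zspanOn S A ⊆ zspanOn T A := by
  rintro a ⟨h1, h2⟩; exact ⟨zspan_mono h h1, h2⟩

end

section
variable {L : Type u} [Group L] [Fintype L] {G : Type v} [Group G] [Fintype G] {τ : (L → ℂ) → (G → ℂ)}

/-- isometries on an additive subgroup -/
structure IsoOn (E : Submodule ℤ (L → ℂ)) (τ : (L → ℂ) → (G → ℂ)) : Prop where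
  add : ∀ a ∈ E, ∀ b ∈ E, τ (a + b) = τ a + τ b
  smul : ∀ a ∈ E, ∀ n : ℤ, τ (n • a) = n • τ a
  inner : ∀ a ∈ E, ∀ b ∈ E, classInner (τ a) (τ b) = classInner a b
  gen : ∀ a ∈ E, IsGeneralizedCharacter G (τ a)

theorem isoOn_span {S : Set (L → ℂ)} (h : IsLinearIsometryOn (zspan S) τ) : IsoOn (Submodule.span ℤ S) τ :=
  ⟨h.1, h.2.1, h.2.2.1, h.2.2.2⟩

theorem isoOn_zsub {S : Set (L → ℂ)} {A : Set L} (h : IsLinearIsometryOn (zspanOn S A) τ) : IsoOn (zsubOn S A) τ :=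
  ⟨h.1, h.2.1, h.2.2.1, h.2.2.2⟩

theorem IsoOn.to_span {S : Set (L → ℂ)} (h : IsoOn (Submodule.span ℤ S) τ) : IsLinearIsometryOn (zspan S) τ :=
  ⟨h.add, h.smul, h.inner, h.gen⟩

theorem IsoOn.to_zsub {S : Set (L → ℂ)} {A : Set L} (h : IsoOn (zsubOn S A) τ) : IsLinearIsometryOn (zspanOn S A) τ :=
  ⟨h.add, h.smul, h.inner, h.gen⟩

variable {E : Submodule ℤ (L → ℂ)}

theorem IsoOn.mono {F : Submodule ℤ (L → ℂ)} (h : IsoOn E τ) (hF : F ≤ E) : IsoOn F τ :=
  ⟨fun a ha b hb => h.add a (hF ha) b (hF hb), fun a ha n => h.smul a (hF ha) n,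
    fun a ha b hb => h.inner a (hF ha) b (hF hb), fun a ha => h.gen a (hF ha)⟩

theorem IsoOn.zero (h : IsoOn E τ) : τ 0 = 0 := by
  have := h.smul 0 E.zero_mem 0
  rwa [zero_smul, zero_smul] at this

theorem IsoOn.neg (h : IsoOn E τ) {a : L → ℂ} (ha : a ∈ E) : τ (-a) = - τ a := by
  have := h.smul a ha (-1)
  rwa [neg_one_smul, neg_one_smul] at this

theorem IsoOn.sub (h : IsoOn E τ) {a b : L → ℂ} (ha : a ∈ E) (hb : b ∈ E) : τ (a - b) = τ a - τ b := by
  rw [sub_eq_add_neg, h.add a ha _ (E.neg_mem hb), h.neg hb, ← sub_eq_add_neg]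

theorem IsoOn.sum (h : IsoOn E τ) {ι : Type w} (s : Finset ι) (f : ι → L → ℂ) (hf : ∀ i ∈ s, f i ∈ E) :
    τ (∑ i ∈ s, f i) = ∑ i ∈ s, τ (f i) := by
  classical
  induction s using Finset.induction_on with
  | empty => simp [h.zero]
  | insert i s his ih =>
    rw [Finset.sum_insert his, Finset.sum_insert his, h.add _ (hf i (Finset.mem_insert_self _ _)) _
      (E.sum_mem (fun j hj => hf j (Finset.mem_insert_of_mem hj))), ih (fun j hj => hf j (Finset.mem_insert_of_mem hj))]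

/-- the linear map attached to an isometry -/
noncomputable def IsoOn.lin (h : IsoOn E τ) : E →ₗ[ℤ] (G → ℂ) where
  toFun a := τ a
  map_add' a b := h.add a a.2 b b.2
  map_smul' n a := h.smul a a.2 n

end

end Cfsg.Agent.H4
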