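import Cfsg.Agent.H4.Coh6
import Cfsg.Agent.H4.Exc

set_option linter.all false
set_option autoImplicit false

/-! Coherence of sets of irreducible characters: equal degrees and Feit's chain. -/

namespace Cfsg.Agent.H4

open Module
open scoped ComplexConjugate Pointwise

universe u v w

section eq
variable {L : Type u} [Group L] [Fintype L] {G : Type v} [Group G] [Fintype G] {τ : (L → ℂ) → (G → ℂ)}

theorem coherent_equal_irr (S : Finset (L → ℂ)) (hirr : ∀ φ ∈ S, IsIrrCharacter L φ) (hdeg : ∀ φ ∈ S, ∀ ψ ∈ S, φ 1 = ψ 1)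
    (h2 : 2 ≤ S.card) (hτ : IsLinearIsometryOn (zspanOn (↑S : Set (L → ℂ)) {1}ᶜ) τ)
    (hτ1 : ∀ α ∈ zspanOn (↑S : Set (L → ℂ)) {1}ᶜ, τ α 1 = 0) : IsCoherent (↑S : Set (L → ℂ)) {1}ᶜ τ := by
  classical
  have hiso := isoOn_zsub hτ
  set n := S.card with hn
  let e : Fin n ≃ S := S.equivFin.symm
  let i₀ : Fin n := ⟨0, by omega⟩
  set χ₀ : L → ℂ := (e i₀ : L → ℂ) with hχ₀
  have hχ₀S : χ₀ ∈ S := (e i₀).2
  have hdm : ∀ φ ∈ S, φ - χ₀ ∈ zspanOn (↑S : Set (L → ℂ)) {1}ᶜ := by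
    intro φ hφ
    rw [mem_zspanOn_one]
    exact ⟨zspan_sub (zspan_mem hφ) (zspan_mem hχ₀S), by rw [Pi.sub_apply, hdeg φ hφ χ₀ hχ₀S, sub_self]⟩
  have hne0 : ∀ i j : Fin n, i ≠ j → (e i : L → ℂ) ≠ (e j : L → ℂ) := fun i j h h' => h (e.injective (Subtype.ext h'))
  obtain ⟨ε, hε, μ, hμ, hμi, hμτ⟩ := exceptional_aux n i₀ (fun i => τ ((e i : L → ℂ) - χ₀))
    (by show τ (χ₀ - χ₀) = 0; rw [sub_self, hiso.zero])
    (fun i => hiso.gen _ (hdm _ (e i).2)) (fun i => hτ1 _ (hdm _ (e i).2))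
    (by
      intro i j hi hj
      rw [hiso.inner _ (hdm _ (e i).2) _ (hdm _ (e j).2), H5.classInner_sub_left, H5.classInner_sub_right, H5.classInner_sub_right,
        ii_self (hirr _ hχ₀S), ii_ne (hirr _ (e i).2) (hirr _ hχ₀S) (hne0 _ _ hi), ii_ne (hirr _ hχ₀S) (hirr _ (e j).2) (hne0 _ _ hj).symm]
      split_ifs with h
      · rw [h, ii_self (hirr _ (e j).2)]; ring
      · rw [ii_ne (hirr _ (e i).2) (hirr _ (e j).2) (hne0 _ _ h)]; ring)
  let T : (L → ℂ) → (G → ℂ) := fun φ => if h : φ ∈ S then ε • μ (e.symm ⟨φ, h⟩) else 0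
  have hTe : ∀ φ (h : φ ∈ S), T φ = ε • μ (e.symm ⟨φ, h⟩) := fun φ h => dif_pos h
  have hεc : ε * conj ε = 1 := by rcases hε with rfl | rfl <;> simp
  have horth : ∀ φ ∈ S, ∀ ψ ∈ S, φ ≠ ψ → classInner φ ψ = 0 := fun φ hφ ψ hψ h => ii_ne (hirr φ hφ) (hirr ψ hψ) h
  have hne : ∀ φ ∈ S, classInner φ φ ≠ 0 := fun φ hφ => by rw [ii_self (hirr φ hφ)]; exact one_ne_zero
  have hT : ∀ φ ∈ S, ∀ ψ ∈ S, classInner (T φ) (T ψ) = classInner φ ψ := by
    intro φ hφ ψ hψ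
    rw [hTe φ hφ, hTe ψ hψ, H5.classInner_smul_left, H5.classInner_smul_right, ← mul_assoc, hεc, one_mul]
    by_cases h : φ = ψ
    · subst h; rw [ii_self (hμ _), ii_self (hirr _ hφ)]
    · rw [ii_ne (hμ _) (hμ _), ii_ne (hirr _ hφ) (hirr _ hψ) h]
      intro h'
      apply h
      have := e.symm.injective (hμi h')
      exact congrArg Subtype.val this
  have hgen : ∀ φ ∈ S, IsGeneralizedCharacter G (T φ) := by
    intro φ hφ
    rw [hTe φ hφ]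
    have hg : IsGeneralizedCharacter G (μ (e.symm ⟨φ, hφ⟩)) :=
      ⟨μ (e.symm ⟨φ, hφ⟩), 0, IsIrr.isCharacter (hμ _), isCharacter_zero, (sub_zero _).symm⟩
    rcases hε with rfl | rfl
    · rw [one_smul]; exact hg
    · rw [neg_one_smul]; exact H5.isGeneralized_neg hg
  have hbuild := coh_build S T horth hne hT hgen
  have hFI := isoOn_span hbuild
  have hTa : ∀ φ ∈ S, orthExt S T φ = T φ := fun φ hφ => orthExt_apply S T horth hne hφ
  have hsp : ∀ {φ}, φ ∈ S → φ ∈ Submodule.span ℤ (↑S : Set (L → ℂ)) := fun h => Submodule.subset_span h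
  refine ⟨?_, orthExt S T, hbuild, ?_⟩
  · let i₁ : Fin n := ⟨1, by omega⟩
    refine ⟨(e i₁ : L → ℂ) - χ₀, hdm _ (e i₁).2, ?_⟩
    intro h
    exact hne0 i₁ i₀ (by simp [i₁, i₀]) (sub_eq_zero.mp h)
  · have hS₁ : ({χ₀} : Set (L → ℂ)) ⊆ (↑S : Set (L → ℂ)) := by
      intro φ hφ; rw [Set.mem_singleton_iff] at hφ; rw [hφ]; exact hχ₀S
    apply glue hS₁ hiso hFI
    · intro α hα
      have h1 : α = 0 := by
        rw [mem_zspanOn_one] at hα
        obtain ⟨hα, hα1⟩ := hα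
        obtain ⟨c, hc⟩ := Submodule.mem_span_singleton.mp (show α ∈ Submodule.span ℤ {χ₀} from hα)
        rw [← hc, zs_apply] at hα1
        rcases mul_eq_zero.mp hα1 with h | h
        · have : c = 0 := by exact_mod_cast h
          rw [← hc, this, zero_smul]
        · exact absurd h (IsIrr.degree_ne_zero (hirr _ hχ₀S))
      rw [h1, hFI.zero, hiso.zero]
    · intro χ hχ _
      refine ⟨χ₀, zspan_mem rfl, ((mem_zspanOn_one _ _).mp (hdm χ hχ)).2, ?_⟩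
      rw [hFI.sub (hsp hχ) (hsp hχ₀S), hTa χ hχ, hTa χ₀ hχ₀S, hTe χ hχ, hTe χ₀ hχ₀S]
      have h3 := hμτ (e.symm ⟨χ, hχ⟩)
      simp only [Equiv.apply_symm_apply] at h3
      rw [h3, smul_sub]
      congr 3
      have : (⟨χ₀, hχ₀S⟩ : S) = e i₀ := Subtype.ext rfl
      rw [this, Equiv.symm_apply_apply]

/-- Feit's chain argument. -/
theorem feit_chain (X : Finset (L → ℂ)) (hirr : ∀ φ ∈ X, IsIrrCharacter L φ) (d : (L → ℂ) → ℕ) (hd : ∀ φ ∈ X, φ 1 = (d φ : ℂ))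
    (hτ : IsLinearIsometryOn (zspanOn (↑X : Set (L → ℂ)) {1}ᶜ) τ)
    (hτ1 : ∀ α ∈ zspanOn (↑X : Set (L → ℂ)) {1}ᶜ, τ α 1 = 0)
    (ψ : L → ℂ) (hψ : ψ ∈ X) (hψmin : ∀ χ ∈ X, d ψ ≤ d χ) (hdvd : ∀ χ ∈ X, d ψ ∣ d χ)
    (hmin2 : ∃ ψ' ∈ X, ψ' ≠ ψ ∧ d ψ' = d ψ)
    (hineq : ∀ χ ∈ X, d ψ < d χ → 2 * d ψ * d χ < ∑ ξ ∈ X.filter (fun ξ => d ξ < d χ), d ξ ^ 2) :
    IsCoherent (↑X : Set (L → ℂ)) {1}ᶜ τ := by
  classical
  have hτsub : ∀ {S : Finset (L → ℂ)}, S ⊆ X → IsLinearIsometryOn (zspanOn (↑S : Set (L → ℂ)) {1}ᶜ) τ := by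
    intro S hS
    exact ((isoOn_zsub hτ).mono (fun α hα => zspanOn_mono (by exact_mod_cast hS) hα)).to_zsub
  have hτ1sub : ∀ {S : Finset (L → ℂ)}, S ⊆ X → ∀ α ∈ zspanOn (↑S : Set (L → ℂ)) {1}ᶜ, τ α 1 = 0 := by
    intro S hS α hα
    exact hτ1 α (zspanOn_mono (by exact_mod_cast hS) hα)
  set X₀ := X.filter (fun ξ => d ξ = d ψ) with hX₀
  have hX₀X : X₀ ⊆ X := Finset.filter_subset _ _
  have key : ∀ (m : ℕ) (S₁ : Finset (L → ℂ)), X₀ ⊆ S₁ → S₁ ⊆ X → IsCoherent (↑S₁ : Set (L → ℂ)) {1}ᶜ τ → (X \ S₁).card ≤ m →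
      IsCoherent (↑X : Set (L → ℂ)) {1}ᶜ τ := by
    intro m
    induction m with
    | zero =>
      intro S₁ _ h1 hc hm
      have h2 : X ⊆ S₁ := Finset.sdiff_eq_empty_iff_subset.mp (Finset.card_eq_zero.mp (Nat.le_zero.mp hm))
      rw [Finset.Subset.antisymm h2 h1]; exact hc
    | succ m ih =>
      intro S₁ h0 h1 hc hm
      by_cases hsub : X ⊆ S₁
      · rw [Finset.Subset.antisymm hsub h1]; exact hc
      have hnem : (X \ S₁).Nonempty := by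
        rw [Finset.nonempty_iff_ne_empty]
        intro h; exact hsub (Finset.sdiff_eq_empty_iff_subset.mp h)
      obtain ⟨χ, hχ, hχmin⟩ := Finset.exists_min_image (X \ S₁) d hnem
      rw [Finset.mem_sdiff] at hχ
      obtain ⟨hχX, hχS⟩ := hχ
      have hlt : d ψ < d χ := by
        refine lt_of_le_of_ne (hψmin χ hχX) ?_
        intro h
        exact hχS (h0 (Finset.mem_filter.mpr ⟨hχX, h.symm⟩))
      have hsubf : X.filter (fun ξ => d ξ < d χ) ⊆ S₁ := by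
        intro ξ hξ
        rw [Finset.mem_filter] at hξ
        by_contra hξS
        exact absurd (hχmin ξ (Finset.mem_sdiff.mpr ⟨hξ.1, hξS⟩)) (not_le_of_gt hξ.2)
      have hins : insert χ S₁ ⊆ X := Finset.insert_subset hχX h1
      have hstep := coherent_step_irr S₁ χ (fun ξ hξ => hirr ξ (h1 hξ)) (hirr χ hχX) hχS d (fun ξ hξ => hd ξ (hins hξ)) τ
        (hτsub hins) (hτ1sub hins) hc ψ (h0 (Finset.mem_filter.mpr ⟨hψ, rfl⟩)) (hdvd χ hχX)
        (lt_of_lt_of_le (hineq χ hχX hlt) (Finset.sum_le_sum_of_subset hsubf))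
      refine ih (insert χ S₁) (h0.trans (Finset.subset_insert _ _)) hins hstep ?_
      have h5 : (X \ insert χ S₁) ⊆ (X \ S₁).erase χ := by
        intro φ hφ
        simp only [Finset.mem_sdiff, Finset.mem_insert, not_or, Finset.mem_erase] at hφ ⊢
        exact ⟨hφ.2.1, hφ.1, hφ.2.2⟩
      have h6 := Finset.card_le_card h5
      rw [Finset.card_erase_of_mem (Finset.mem_sdiff.mpr ⟨hχX, hχS⟩)] at h6
      omega
  refine key _ X₀ (le_refl _) hX₀X ?_ (le_refl _)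
  obtain ⟨ψ', h1, h2, h3⟩ := hmin2
  apply coherent_equal_irr X₀ (fun φ hφ => hirr φ (hX₀X hφ)) ?_ ?_ (hτsub hX₀X) (hτ1sub hX₀X)
  · intro φ hφ φ' hφ'
    rw [hd φ (hX₀X hφ), hd φ' (hX₀X hφ'), (Finset.mem_filter.mp hφ).2, (Finset.mem_filter.mp hφ').2]
  · have : ({ψ', ψ} : Finset (L → ℂ)) ⊆ X₀ := by
      intro φ hφ
      simp only [Finset.mem_insert, Finset.mem_singleton] at hφ
      rcases hφ with rfl | rfl
      · exact Finset.mem_filter.mpr ⟨h1, h3⟩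
      · exact Finset.mem_filter.mpr ⟨hψ, rfl⟩
    calc 2 = ({ψ', ψ} : Finset (L → ℂ)).card := (Finset.card_pair h2).symm
      _ ≤ _ := Finset.card_le_card this

end eq

end Cfsg.Agent.H4
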