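import Cfsg.Agent.H4.FrobCong

set_option linter.all false
set_option autoImplicit false

/-! Coherence: Peterfalvi (6.4). -/

namespace Cfsg.Agent.H4

open Module
open scoped ComplexConjugate Pointwise commutatorElement

universe u v w

section main
variable {L : Type u} [Group L] [Fintype L] {G : Type v} [Group G] [Fintype G] {τ : (L → ℂ) → (G → ℂ)}
variable {R : (L → ℂ) → Finset (G → ℂ)} {K : Subgroup L}

theorem cs_restrict {S S' : Set (L → ℂ)} (hS : IsCoherenceSystem S τ R) (h : S' ⊆ S) (hne : S'.Nonempty)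
    (hc : ∀ φ ∈ S', conjFun φ ∈ S') : IsCoherenceSystem S' τ R where
  nonempty := hne
  isCharacter := fun χ hχ => hS.isCharacter χ (h hχ)
  conj_mem := hc
  conj_ne := fun χ hχ => hS.conj_ne χ (h hχ)
  isometry := ((isoOn_zsub hS.isometry).mono (fun α hα => zspanOn_mono h hα)).to_zsub
  map_one := fun α hα => hS.map_one α (zspanOn_mono h hα)
  orthogonal := fun χ hχ φ hφ hne => hS.orthogonal χ (h hχ) φ (h hφ) hne
  orthonormal := fun χ hχ => hS.orthonormal χ (h hχ)
  virtual := fun χ hχ => hS.virtual χ (h hχ)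
  sum_eq := fun χ hχ => hS.sum_eq χ (h hχ)
  disjoint := fun χ hχ φ hφ => hS.disjoint χ (h hχ) φ (h hφ)

/-- (6.4), first part: when `K/H₁` is abelian `S(H₁)` is coherent. -/
theorem coherent_abelian (hK : K.Normal) (hsolv : Group.IsSolvable K) (hS : IsCoherenceSystem (inducedIrrAbove K ⊥) τ R)
    (H₁ : Subgroup L) (hH₁ : H₁.Normal) (hH₁K : H₁ < K) (hab : ∀ x ∈ K, ∀ y ∈ K, x * y * x⁻¹ * y⁻¹ ∈ H₁) :
    IsCoherent (inducedIrrAbove K H₁) {1}ᶜ τ := by
  have hlin : ∀ φ ∈ inducedIrrAbove K H₁, φ 1 = K.index := by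
    rintro φ ⟨θ, h1, h2, h3, rfl⟩
    obtain ⟨lam, hl⟩ := linear_of_comm_ker h1 (fun x y => h3 _ (by
      have := hab x x.2 y y.2
      simpa using this))
    rw [indFun_one, hl]
    simp
  exact coherent_equal_degree (cs_restrict hS (above_sub H₁) (above_nonempty hsolv hH₁ hH₁K) (fun φ hφ => above_conj hφ))
    (fun φ hφ ψ hψ => by rw [hlin φ hφ, hlin ψ hψ])

theorem index_comap_commutator (M : Subgroup L) [(M.subgroupOf K).Normal] (hMK : M ≤ K) :
    (commutator (↥K ⧸ M.subgroupOf K)).index = (⁅K, K⁆ ⊔ M).relIndex K := by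
  have h1 : (commutator (↥K ⧸ M.subgroupOf K)).comap (QuotientGroup.mk' (M.subgroupOf K)) = (⁅K, K⁆ ⊔ M).subgroupOf K := by
    have h2 : commutator (↥K ⧸ M.subgroupOf K) = (commutator K).map (QuotientGroup.mk' (M.subgroupOf K)) := by
      rw [commutator_def, commutator_def, Subgroup.map_commutator, Subgroup.map_top_of_surjective _ (QuotientGroup.mk'_surjective _)]
    rw [h2, Subgroup.comap_map_eq, QuotientGroup.ker_mk']
    have h3 : (commutator K).map K.subtype = ⁅K, K⁆ := by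
      rw [commutator_def, Subgroup.map_commutator, ← MonoidHom.range_eq_map, Subgroup.range_subtype]
    have h4 : (M.subgroupOf K).map K.subtype = M := by
      rw [Subgroup.subgroupOf_map_subtype, inf_eq_left.mpr hMK]
    apply Subgroup.map_injective K.subtype_injective
    rw [Subgroup.map_sup, h3, h4, Subgroup.subgroupOf_map_subtype]
    exact (inf_eq_left.mpr (sup_le (Subgroup.commutator_le_self K) hMK)).symm
  rw [Subgroup.relIndex, ← h1, Subgroup.index_comap_of_surjective _ (QuotientGroup.mk'_surjective _)]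

theorem exists_between_of_two_primes {H₁ : Subgroup L} (hH₁ : H₁.Normal) (hK : K.Normal) (hle : H₁ ≤ K)
    (hab : ∀ x ∈ K, ∀ y ∈ K, x * y * x⁻¹ * y⁻¹ ∈ H₁) {p q : ℕ} (hp : p.Prime) (hq : q.Prime) (hpq : p ≠ q)
    (hpd : p ∣ H₁.relIndex K) (hqd : q ∣ H₁.relIndex K) : ∃ N : Subgroup L, N.Normal ∧ H₁ < N ∧ N < K := by
  haveI := hH₁
  haveI : Fact p.Prime := ⟨hp⟩
  haveI : Fact q.Prime := ⟨hq⟩
  set Kb := K.map (QuotientGroup.mk' H₁) with hKb
  have hcomm : ∀ a ∈ Kb, ∀ b ∈ Kb, a * b = b * a := by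
    rintro _ ⟨x, hx, rfl⟩ _ ⟨y, hy, rfl⟩
    rw [← map_mul, ← map_mul, QuotientGroup.mk'_apply, QuotientGroup.mk'_apply, eq_comm, QuotientGroup.eq]
    have := hH₁.conj_mem _ (hab x hx y hy) (y * x)⁻¹
    convert this using 1; group
  let Nb : Subgroup (L ⧸ H₁) :=
    { carrier := {k | k ∈ Kb ∧ ∃ j : ℕ, k ^ (p ^ j) = 1}
      mul_mem' := by
        rintro a b ⟨ha, i, hi⟩ ⟨hb, j, hj⟩
        refine ⟨Kb.mul_mem ha hb, i + j, ?_⟩
        rw [(show Commute a b from hcomm a ha b hb).mul_pow, pow_add, pow_mul, hi, one_pow, one_mul, mul_comm, pow_mul, hj, one_pow]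
      one_mem' := ⟨Kb.one_mem, 0, one_pow _⟩
      inv_mem' := by
        rintro a ⟨ha, i, hi⟩
        exact ⟨Kb.inv_mem ha, i, by rw [inv_pow, hi, inv_one]⟩ }
  have hNb : Nb.Normal := by
    refine ⟨?_⟩
    rintro a ⟨ha, i, hi⟩ g
    refine ⟨(Subgroup.Normal.map hK _ (QuotientGroup.mk'_surjective _)).conj_mem a ha g, i, ?_⟩
    rw [conj_pow, hi]; group
  have hcard : Nat.card Kb = H₁.relIndex K := card_map_mk K
  refine ⟨Nb.comap (QuotientGroup.mk' H₁), hNb.comap _, ?_, ?_⟩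
  · refine lt_of_le_of_ne ?_ ?_
    · intro x hx
      rw [Subgroup.mem_comap]
      have : QuotientGroup.mk' H₁ x = 1 := by rw [QuotientGroup.mk'_apply, QuotientGroup.eq_one_iff]; exact hx
      rw [this]; exact Nb.one_mem
    · intro h
      obtain ⟨z, hz⟩ := exists_prime_orderOf_dvd_card' (G := Kb) p (by rw [hcard]; exact hpd)
      obtain ⟨x, hx⟩ := QuotientGroup.mk'_surjective H₁ (z : L ⧸ H₁)
      have hzN : (z : L ⧸ H₁) ∈ Nb := ⟨z.2, 1, by
        rw [pow_one, ← Subgroup.coe_pow, ← hz, pow_orderOf_eq_one]; rfl⟩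
      have hx1 : x ∈ H₁ := by
        rw [h, Subgroup.mem_comap, hx]; exact hzN
      have : QuotientGroup.mk' H₁ x = 1 := by rw [QuotientGroup.mk'_apply, QuotientGroup.eq_one_iff]; exact hx1
      rw [hx] at this
      have hz1 : z = 1 := Subtype.ext this
      rw [hz1, orderOf_one] at hz
      exact hp.one_lt.ne hz
  · refine lt_of_le_of_ne ?_ ?_
    · intro x hx
      obtain ⟨h1, _⟩ := Subgroup.mem_comap.mp hx
      obtain ⟨y, hy, hxy⟩ := h1
      have h2 : y⁻¹ * x ∈ H₁ := by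
        rw [← QuotientGroup.eq]; exact hxy
      have := K.mul_mem hy (hle h2)
      rwa [mul_inv_cancel_left] at this
    · intro h
      obtain ⟨z, hz⟩ := exists_prime_orderOf_dvd_card' (G := Kb) q (by rw [hcard]; exact hqd)
      obtain ⟨y, hy, hyz⟩ := z.2
      have hyN : y ∈ Nb.comap (QuotientGroup.mk' H₁) := by rw [h]; exact hy
      obtain ⟨_, j, hj⟩ := Subgroup.mem_comap.mp hyN
      rw [hyz] at hj
      have h1 : orderOf z ∣ p ^ j := orderOf_dvd_of_pow_eq_one (Subtype.ext hj)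
      rw [hz] at h1
      exact hpq ((Nat.prime_dvd_prime_iff_eq hq hp).mp (hq.dvd_of_dvd_pow h1)).symm

/-- Peterfalvi (6.4). -/
theorem coherent_64 (hK : K.Normal) (hsolv : Group.IsSolvable K) (hS : IsCoherenceSystem (inducedIrrAbove K ⊥) τ R)
    (hodd : Odd (Nat.card L)) (M : Subgroup L) (hM : M.Normal) (hMK : M ≤ K) [(M.subgroupOf K).Normal]
    (hnil : Group.IsNilpotent (↥K ⧸ M.subgroupOf K)) (H₁ : Subgroup L) (hH₁ : H₁ = ⁅K, K⁆ ⊔ M) (hH₁K : H₁ < K)
    (hfrob : ∀ k ∈ K, k ∉ H₁ → ∀ x : L, x * k * x⁻¹ * k⁻¹ ∈ H₁ → x ∈ K)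
    (hgood : (∃ N : Subgroup L, N.Normal ∧ H₁ < N ∧ N < K) ∨ 4 * K.index ^ 2 + 1 < H₁.relIndex K ∨
      (¬ ∃ p m : ℕ, p.Prime ∧ M.relIndex K = p ^ m) ∨ ⁅K, K⁆ ≤ M ∨
      (∃ p m : ℕ, p.Prime ∧ M.relIndex K = p ^ m ∧ K.index ∣ p - 1)) : IsCoherent (inducedIrrAbove K M) {1}ᶜ τ := by
  have hH₁n : H₁.Normal := by rw [hH₁]; haveI := hM; haveI := hK; infer_instance
  have hab : ∀ x ∈ K, ∀ y ∈ K, x * y * x⁻¹ * y⁻¹ ∈ H₁ := by
    intro x hx y hy
    rw [hH₁]
    exact Subgroup.mem_sup_left (Subgroup.commutator_mem_commutator hx hy)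
  have hcoh := coherent_abelian hK hsolv hS H₁ hH₁n hH₁K hab
  have hMH₁ : M ≤ H₁ := by rw [hH₁]; exact le_sup_right
  have caseB : 4 * K.index ^ 2 + 1 < H₁.relIndex K → IsCoherent (inducedIrrAbove K M) {1}ᶜ τ := fun h =>
    coherent_63 hK hsolv hS M H₁ K hM hH₁n hK hMH₁ hH₁K.le (le_refl _) (lcs_le_of_quot hnil) hcoh h
  have caseA : (∃ N : Subgroup L, N.Normal ∧ H₁ < N ∧ N < K) → IsCoherent (inducedIrrAbove K M) {1}ᶜ τ := by
    rintro ⟨N, hN, h1, h2⟩
    exact caseB (frob_big hodd hH₁n hN hK h1 h2 hab hfrob)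
  have caseD : ⁅K, K⁆ ≤ M → IsCoherent (inducedIrrAbove K M) {1}ᶜ τ := by
    intro h
    have : H₁ = M := by rw [hH₁]; exact sup_eq_right.mpr h
    rw [← this]; exact hcoh
  have hidx := index_comap_commutator M hMK
  rw [← hH₁] at hidx
  have hcardQ : Nat.card (↥K ⧸ M.subgroupOf K) = M.relIndex K := by
    rw [Subgroup.relIndex]; rfl
  rcases hgood with h | h | h | h | h
  · exact caseA h
  · exact caseB h
  · -- two primes
    have h1 : 1 < M.relIndex K := by
      have h2 : M.relIndex K ≠ 0 := relIndex_ne_zero_fin _ _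
      have h3 : M.relIndex K ≠ 1 := fun h' => h ⟨2, 0, Nat.prime_two, by rw [h', pow_zero]⟩
      omega
    obtain ⟨p, hp, hpd⟩ := Nat.exists_prime_and_dvd h1.ne'
    obtain ⟨q, hq, hqd, hqp⟩ : ∃ q, q.Prime ∧ q ∣ M.relIndex K ∧ q ≠ p := by
      by_contra hcon
      push Not at hcon
      apply h
      refine ⟨p, (M.relIndex K).primeFactorsList.length, hp, ?_⟩
      apply Nat.eq_prime_pow_of_unique_prime_dvd (by omega)
      intro d hd hdd
      exact hcon d hd hdd
    apply caseA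
    apply exists_between_of_two_primes hH₁n hK hH₁K.le hab hp hq hqp.symm
    · rw [← hidx]; exact prime_dvd_abelianization hnil hp (by rw [hcardQ]; exact hpd)
    · rw [← hidx]; exact prime_dvd_abelianization hnil hq (by rw [hcardQ]; exact hqd)
  · exact caseD h
  · obtain ⟨p, m, hp, hpm, hep⟩ := h
    have h1 : H₁.relIndex K ∣ p ^ m := by
      rw [← hpm]; exact Subgroup.relIndex_dvd_of_le_left K hMH₁
    obtain ⟨j, hj, hj'⟩ := (Nat.dvd_prime_pow hp).mp h1
    have hj0 : j ≠ 0 := by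
      rintro rfl
      rw [pow_zero] at hj'
      exact absurd (Subgroup.relIndex_eq_one.mp hj') (not_le_of_gt hH₁K)
    by_cases hj1 : j = 1
    · apply caseD
      rw [hj1, pow_one] at hj'
      have h2 := comm_of_prime_abelianization hnil hp (by rw [hidx]; exact hj')
      rw [Subgroup.commutator_le]
      intro x hx y hy
      have h3 := h2 (QuotientGroup.mk' _ ⟨x, hx⟩) (QuotientGroup.mk' _ ⟨y, hy⟩)
      rw [← map_mul, ← map_mul, QuotientGroup.mk'_apply, QuotientGroup.mk'_apply, eq_comm, QuotientGroup.eq] at h3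
      have h4 := (inferInstance : (M.subgroupOf K).Normal).conj_mem _ h3 (⟨y, hy⟩ * ⟨x, hx⟩)
      rw [Subgroup.mem_subgroupOf] at h4
      rw [commutatorElement_def]
      convert h4 using 1
      push_cast
      group
    · apply caseB
      have hj2 : 2 ≤ j := by omega
      rw [hj']
      have h2 : p ^ 2 ≤ p ^ j := Nat.pow_le_pow_right hp.pos hj2
      have hpodd : Odd p := by
        have : p ∣ Nat.card L := by
          have a1 : p ∣ H₁.relIndex K := by rw [hj']; exact dvd_pow_self p hj0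
          exact a1.trans ((Subgroup.relIndex_dvd_card H₁ K).trans (Subgroup.card_subgroup_dvd_card K))
        exact Odd.of_dvd_nat hodd this
      have heodd : Odd K.index := Odd.of_dvd_nat hodd K.index_dvd_card
      have hp2 := hp.two_le
      obtain ⟨p', rfl⟩ := hpodd
      rw [Nat.add_sub_cancel] at hep
      have hc1 : Nat.Coprime K.index 2 := by
        rw [Nat.coprime_comm]; exact (Nat.coprime_two_left (n := K.index)).mpr heodd
      have h3 : K.index ∣ p' := hc1.dvd_of_dvd_mul_left hep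
      have h4 : K.index ≤ p' := Nat.le_of_dvd (by omega) h3
      have h5 : K.index ^ 2 ≤ p' ^ 2 := Nat.pow_le_pow_left h4 2
      have h6 : (2 * p' + 1) ^ 2 = 4 * p' ^ 2 + 4 * p' + 1 := by ring
      have h7 : 0 < p' := by omega
      omega

end main

end Cfsg.Agent.H4
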