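import Cfsg.Agent.H4.Coh10
import Cfsg.Agent.H4.Coh9
import Cfsg.Agent.H4.Cliff4

set_option linter.all false
set_option autoImplicit false

/-! Coherence of the characters not containing a central subgroup `Z` in their kernel (p-group case). -/

namespace Cfsg.Agent.H4

open Module
open scoped ComplexConjugate Pointwise

universe u v w

section defs
variable {L : Type u} [Group L] [Fintype L]

/-- characters induced from irreducible characters of `K` without `Z` in the kernel. -/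
def XZ (K Z : Subgroup L) : Set (L → ℂ) :=
  {χ | ∃ θ : K → ℂ, IsIrrCharacter K θ ∧ (∃ z : K, (z : L) ∈ Z ∧ θ z ≠ θ 1) ∧ χ = indFun K θ}

variable {K Z : Subgroup L}

theorem mem_XZ_iff (hK : K.Normal) (hZ : Z.Normal) {θ : K → ℂ} (hθ : IsIrrCharacter K θ) :
    indFun K θ ∈ XZ K Z ↔ ∃ z : K, (z : L) ∈ Z ∧ θ z ≠ θ 1 := by
  haveI : Fintype K := Fintype.ofFinite K
  constructor
  · rintro ⟨θ', h1, ⟨z, hz, hne⟩, h4⟩
    obtain ⟨g, rfl⟩ := (ind_eq_iff_conj hK h1 hθ).mp h4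
    refine ⟨conjAut hK g⁻¹ z, ?_, ?_⟩
    · rw [conjAut_coe]; exact hZ.conj_mem _ hz _
    · rw [conjBy_apply, conjBy_apply, map_one]
      have : conjAut hK g (conjAut hK g⁻¹ z) = z := by
        apply Subtype.ext
        rw [conjAut_coe, conjAut_coe]; group
      rw [this]; exact hne
  · intro h; exact ⟨θ, hθ, h, rfl⟩

theorem XZ_conj {φ : L → ℂ} (h : φ ∈ XZ K Z) : conjFun φ ∈ XZ K Z := by
  obtain ⟨θ, h1, ⟨z, hz, hne⟩, rfl⟩ := h
  refine ⟨conjFun θ, conj_irr h1, ⟨z, hz, ?_⟩, (ind_conjFun θ).symm⟩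
  intro h; exact hne ((starRingEnd ℂ).injective h)

theorem XZ_sum (hK : K.Normal) (hZ : Z.Normal) (hZK : Z ≤ K) (F : Finset (L → ℂ)) (hF : (F : Set (L → ℂ)) = XZ K Z) :
    ∑ φ ∈ F, (φ 1) ^ 2 / classInner φ φ = (K.index : ℂ) * ((Z.relIndex K : ℂ) * ((Nat.card Z : ℂ) - 1)) := by
  classical
  haveI : Fintype K := Fintype.ofFinite K
  have hF' : ∀ φ, φ ∈ F ↔ φ ∈ XZ K Z := fun φ => by rw [← hF]; rfl
  rw [sum_weight hK F (fun φ hφ => by
    obtain ⟨θ, h1, _, h4⟩ := (hF' φ).mp hφ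
    exact ⟨θ, h1, h4⟩)]
  congr 1
  have h1 := sum_sq_above (Z.subgroupOf K) (hZ.subgroupOf K)
  have h0 := sum_sq_above (⊥ : Subgroup K) inferInstance
  have h2 : ∀ θ : IrrCharacter K, (if indFun K (θ : K → ℂ) ∈ F then ((θ : K → ℂ) 1) ^ 2 else 0) =
      (if ∀ n ∈ (⊥ : Subgroup K), (θ : K → ℂ) n = (θ : K → ℂ) 1 then ((θ : K → ℂ) 1) ^ 2 else 0) -
      (if ∀ n ∈ Z.subgroupOf K, (θ : K → ℂ) n = (θ : K → ℂ) 1 then ((θ : K → ℂ) 1) ^ 2 else 0) := by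
    intro θ
    rw [if_pos (c := ∀ n ∈ (⊥ : Subgroup K), (θ : K → ℂ) n = (θ : K → ℂ) 1) (fun n hn => by rw [Subgroup.mem_bot.mp hn])]
    by_cases h : ∀ n ∈ Z.subgroupOf K, (θ : K → ℂ) n = (θ : K → ℂ) 1
    · rw [if_pos h, if_neg, sub_self]
      rw [hF', mem_XZ_iff hK hZ θ.2]
      rintro ⟨z, hz, hne⟩
      exact hne (h z (Subgroup.mem_subgroupOf.mpr hz))
    · rw [if_neg h, if_pos, sub_zero]
      rw [hF', mem_XZ_iff hK hZ θ.2]
      push Not at h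
      obtain ⟨z, hz, hne⟩ := h
      exact ⟨z, Subgroup.mem_subgroupOf.mp hz, hne⟩
  rw [Finset.sum_congr rfl (fun θ _ => h2 θ), Finset.sum_sub_distrib, h1, h0, Subgroup.index_bot]
  have h3 : (Z.subgroupOf K).index * Nat.card Z = Nat.card K := by
    rw [← card_subgroupOf_of_le hZK, mul_comm]; exact Subgroup.card_mul_index _
  rw [show (Z.relIndex K : ℂ) = ((Z.subgroupOf K).index : ℂ) from rfl]
  have h4 : (Nat.card K : ℂ) = ((Z.subgroupOf K).index : ℂ) * Nat.card Z := by exact_mod_cast h3.symm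
  rw [h4]; ring

theorem XZ_nonempty (hZK : Z ≤ K) (hZ1 : Z ≠ ⊥) : (XZ K Z).Nonempty := by
  obtain ⟨z, hz, hz1⟩ := Z.bot_or_exists_ne_one.resolve_left hZ1
  by_contra hcon
  rw [Set.not_nonempty_iff_eq_empty] at hcon
  apply hz1
  have h1 : (⟨z, hZK hz⟩ : K) = 1 := by
    apply eq_one_of_forall_irr
    intro χ
    by_contra hne
    have : indFun K (χ : K → ℂ) ∈ XZ K Z := ⟨χ, χ.2, ⟨⟨z, hZK hz⟩, hz, hne⟩, rfl⟩
    rw [hcon] at this; exact this
  exact congrArg Subtype.val h1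

end defs

section main
variable {L : Type u} [Group L] [Fintype L] {G : Type v} [Group G] [Fintype G] {τ : (L → ℂ) → (G → ℂ)}
variable {K Z : Subgroup L}

theorem coherent_XZ {p : ℕ} (hp : p.Prime) (hp2 : p ≠ 2) (hK : K.Normal) (hKp : IsPGroup p K) (hZ : Z.Normal) (hZK : Z ≤ K)
    (hZ1 : Z ≠ ⊥) (hZc : ∀ z ∈ Z, ∀ k ∈ K, z * k = k * z) (hcop : Nat.Coprime p K.index)
    (hirr : ∀ χ ∈ XZ K Z, IsIrrCharacter L χ) (hcne : ∀ χ ∈ XZ K Z, conjFun χ ≠ χ)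
    (hτ : IsLinearIsometryOn (zspanOn (XZ K Z) {1}ᶜ) τ) (hτ1 : ∀ α ∈ zspanOn (XZ K Z) {1}ᶜ, τ α 1 = 0) :
    IsCoherent (XZ K Z) {1}ᶜ τ := by
  classical
  haveI : Fact p.Prime := ⟨hp⟩
  haveI : Fintype K := Fintype.ofFinite K
  have hfin : (XZ K Z).Finite := finite_irr_set _ hirr
  set X := hfin.toFinset with hX
  have eX : (X : Set (L → ℂ)) = XZ K Z := hfin.coe_toFinset
  have mX : ∀ φ, φ ∈ X ↔ φ ∈ XZ K Z := fun φ => hfin.mem_toFinset
  have he : 0 < K.index := Nat.pos_of_ne_zero Subgroup.index_ne_zero_of_finite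
  -- degrees
  have hbex : ∀ φ : L → ℂ, ∃ j : ℕ, φ ∈ X → φ 1 = ((K.index * p ^ j : ℕ) : ℂ) ∧ (p ^ j) ^ 2 ∣ Z.relIndex K := by
    intro φ
    by_cases h : φ ∈ X
    · obtain ⟨θ, h1, h2, rfl⟩ := (mX φ).mp h
      obtain ⟨b, hb, hb1⟩ := IsIrr.exists_degree h1
      have h3 : b ∣ Nat.card K := by
        have h4 := IsIrr.degree_dvd h1
        have h5 := IsChar.one_eq (IsIrr.isCharacter h1)
        rw [hb1] at h5
        have h6 : b = charDegree θ := by exact_mod_cast h5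
        rw [h6]; exact h4
      obtain ⟨n, hn⟩ := hKp.exists_card_eq
      rw [hn] at h3
      obtain ⟨j, hj, rfl⟩ := (Nat.dvd_prime_pow hp).mp h3
      refine ⟨j, fun _ => ⟨?_, ?_⟩⟩
      · rw [indFun_one, hb1]; push_cast; ring
      · have h7 : (p ^ j) ^ 2 ≤ Z.relIndex K := by
          apply degree_sq_le_of_scalar h1 (Z.subgroupOf K) _ (p ^ j) hb1
          intro x hx
          apply scalar_of_comm_ker h1
          intro y
          have h8 : x * y = y * x := Subtype.ext (hZc x (Subgroup.mem_subgroupOf.mp hx) y y.2)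
          rw [h8]
          congr 1; group
        have h9 : Z.relIndex K ∣ p ^ n := by
          rw [← hn]; exact Subgroup.relIndex_dvd_card Z K
        obtain ⟨m, hm, hm'⟩ := (Nat.dvd_prime_pow hp).mp h9
        rw [hm'] at h7 ⊢
        rw [← pow_mul] at h7 ⊢
        exact pow_dvd_pow p ((Nat.pow_le_pow_iff_right hp.one_lt).mp h7)
    · exact ⟨0, fun h' => absurd h' h⟩
  choose j hj using hbex
  set d : (L → ℂ) → ℕ := fun φ => K.index * p ^ (j φ) with hd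
  have hdX : ∀ φ ∈ X, φ 1 = (d φ : ℂ) := fun φ hφ => (hj φ hφ).1
  have hXne : X.Nonempty := by
    obtain ⟨χ, hχ⟩ := XZ_nonempty hZK hZ1
    exact ⟨χ, (mX χ).mpr hχ⟩
  obtain ⟨ψ, hψ, hψmin⟩ := Finset.exists_min_image X d hXne
  have hirrX : ∀ φ ∈ X, IsIrrCharacter L φ := fun φ hφ => hirr φ ((mX φ).mp hφ)
  have hle_iff : ∀ φ χ, d φ ≤ d χ ↔ j φ ≤ j χ := by
    intro φ χ
    simp only [hd]
    rw [Nat.mul_le_mul_left_iff he, Nat.pow_le_pow_iff_right hp.one_lt]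
  -- total sum
  have htot : K.index * ∑ φ ∈ X, (p ^ (j φ)) ^ 2 = Z.relIndex K * (Nat.card Z - 1) := by
    have h1 := XZ_sum hK hZ hZK X eX
    have h2 : ∑ φ ∈ X, (φ 1) ^ 2 / classInner φ φ = (K.index : ℂ) * ((K.index : ℂ) * ((∑ φ ∈ X, (p ^ (j φ)) ^ 2 : ℕ) : ℂ)) := by
      push_cast
      rw [Finset.mul_sum, Finset.mul_sum]
      apply Finset.sum_congr rfl; intro φ hφ
      rw [ii_self (hirrX φ hφ), hdX φ hφ]
      simp only [hd]; push_cast; ring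
    rw [h2] at h1
    have h3 := mul_left_cancel₀ (show (K.index : ℂ) ≠ 0 by exact_mod_cast he.ne') h1
    have h4 : 1 ≤ Nat.card Z := Nat.card_pos
    have h5 : ((Nat.card Z - 1 : ℕ) : ℂ) = (Nat.card Z : ℂ) - 1 := by push_cast [h4]; rfl
    rw [← h5] at h3
    exact_mod_cast h3
  rw [← eX] at hτ hτ1 ⊢
  apply feit_chain X hirrX d hdX hτ hτ1 ψ hψ hψmin
  · intro χ hχ
    exact Nat.mul_dvd_mul_left _ (pow_dvd_pow p ((hle_iff _ _).mp (hψmin χ hχ)))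
  · refine ⟨conjFun ψ, (mX _).mpr (XZ_conj ((mX _).mp hψ)), hcne _ ((mX _).mp hψ), ?_⟩
    have h1 := hdX _ ((mX _).mpr (XZ_conj ((mX _).mp hψ)))
    rw [degree_char_conj (IsIrr.isCharacter (hirrX ψ hψ)), hdX ψ hψ] at h1
    exact_mod_cast h1.symm
  · intro χ hχ hlt
    have hjlt : j ψ < j χ := by
      by_contra hcon
      exact absurd ((hle_iff _ _).mpr (not_lt.mp hcon)) (not_le_of_gt hlt)
    set A := X.filter (fun ξ => d ξ < d χ) with hA
    have hsplit : ∑ φ ∈ X, (p ^ (j φ)) ^ 2 = ∑ φ ∈ A, (p ^ (j φ)) ^ 2 + ∑ φ ∈ X.filter (fun ξ => ¬ d ξ < d χ), (p ^ (j φ)) ^ 2 :=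
      (Finset.sum_filter_add_sum_filter_not X _ _).symm
    have hdv2 : (p ^ j χ) ^ 2 ∣ ∑ φ ∈ X.filter (fun ξ => ¬ d ξ < d χ), (p ^ (j φ)) ^ 2 := by
      apply Finset.dvd_sum
      intro φ hφ
      rw [Finset.mem_filter, not_lt, hle_iff] at hφ
      exact pow_dvd_pow_of_dvd (pow_dvd_pow p hφ.2) 2
    have hdvt : (p ^ j χ) ^ 2 ∣ K.index * ∑ φ ∈ X, (p ^ (j φ)) ^ 2 := by
      rw [htot]; exact Dvd.dvd.mul_right (hj χ hχ).2 _
    have hc1 : Nat.Coprime ((p ^ j χ) ^ 2) K.index := by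
      rw [← pow_mul]; exact Nat.Coprime.pow_left _ hcop
    have hdvt' := hc1.dvd_of_dvd_mul_left hdvt
    rw [hsplit] at hdvt'
    have hdvA : (p ^ j χ) ^ 2 ∣ ∑ φ ∈ A, (p ^ (j φ)) ^ 2 := (Nat.dvd_add_left hdv2).mp hdvt'
    have hApos : 0 < ∑ φ ∈ A, (p ^ (j φ)) ^ 2 := by
      have hψA : ψ ∈ A := Finset.mem_filter.mpr ⟨hψ, hlt⟩
      exact lt_of_lt_of_le (by have := hp.pos; positivity) (Finset.single_le_sum (f := fun φ => (p ^ (j φ)) ^ 2) (fun _ _ => Nat.zero_le _) hψA)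
    have hge := Nat.le_of_dvd hApos hdvA
    have hsumd : ∑ ξ ∈ A, d ξ ^ 2 = K.index ^ 2 * ∑ φ ∈ A, (p ^ (j φ)) ^ 2 := by
      rw [Finset.mul_sum]
      apply Finset.sum_congr rfl; intro φ _
      simp only [hd]; ring
    have hA' : ∑ ξ ∈ X.filter (fun ξ => d ξ < d χ), d ξ ^ 2 = ∑ ξ ∈ A, d ξ ^ 2 := rfl
    rw [hA', hsumd]
    have hp3 : 3 ≤ p := by
      have := hp.two_le; omega
    have h6 : 3 * p ^ (j ψ) ≤ p ^ (j χ) := by
      calc 3 * p ^ (j ψ) ≤ p * p ^ (j ψ) := Nat.mul_le_mul_right _ hp3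
        _ = p ^ (j ψ + 1) := by ring
        _ ≤ p ^ (j χ) := Nat.pow_le_pow_right hp.pos hjlt
    have h7 : 0 < p ^ (j ψ) := Nat.pos_of_ne_zero (pow_ne_zero _ hp.ne_zero)
    calc 2 * d ψ * d χ = K.index ^ 2 * (2 * p ^ (j ψ) * p ^ (j χ)) := by simp only [hd]; ring
      _ < K.index ^ 2 * (p ^ (j χ)) ^ 2 := by
        apply Nat.mul_lt_mul_of_pos_left _ (by positivity)
        rw [pow_two]
        apply Nat.mul_lt_mul_of_pos_right (by omega) (by omega)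
      _ ≤ _ := Nat.mul_le_mul_left _ hge

end main

end Cfsg.Agent.H4
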