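import Cfsg.Agent.H4.Coh11

set_option linter.all false
set_option autoImplicit false

/-! Coherence of `S \ S(Z)`. -/

namespace Cfsg.Agent.H4

open Module
open scoped ComplexConjugate Pointwise commutatorElement

universe u v w

section defs
variable {L : Type u} [Group L] [Fintype L] {K Z : Subgroup L}

theorem diff_eq_XZ (hK : K.Normal) (hZ : Z.Normal) : inducedIrrAbove K ⊥ \ inducedIrrAbove K Z = XZ K Z := by
  ext χ
  constructor
  · rintro ⟨⟨θ, h1, h2, h3, rfl⟩, h5⟩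
    rw [mem_above_iff hK hZ h1] at h5
    push Not at h5
    obtain ⟨z, hz, hne⟩ := h5 h2
    exact ⟨θ, h1, ⟨z, hz, hne⟩, rfl⟩
  · rintro ⟨θ, h1, ⟨z, hz, hne⟩, rfl⟩
    refine ⟨⟨θ, h1, ?_, ?_, rfl⟩, ?_⟩
    · rintro rfl; exact hne rfl
    · intro a ha
      have : a = 1 := Subtype.ext (Subgroup.mem_bot.mp ha)
      rw [this]
    · rw [mem_above_iff hK hZ h1]
      rintro ⟨_, h⟩
      exact hne (h z hz)

theorem XZ_eq_irr (hK : K.Normal) (hZ : Z.Normal) (hZK : Z ≤ K) (hirr : ∀ χ ∈ XZ K Z, IsIrrCharacter L χ) :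
    XZ K Z = {χ | IsIrrCharacter L χ ∧ ∃ z ∈ Z, χ z ≠ χ 1} := by
  classical
  haveI : Fintype K := Fintype.ofFinite K
  ext χ
  constructor
  · intro hχ
    have hχi := hirr χ hχ
    obtain ⟨θ, h1, ⟨z, hz, hne⟩, h4⟩ := hχ
    refine ⟨hχi, z, hz, ?_⟩
    intro h5
    apply hne
    have h6 : classInner (fun k : K => χ k) θ ≠ 0 := by
      rw [← frobenius_reciprocity' K θ χ (IsIrr.isClassFunction hχi), ← h4, ii_self hχi]
      exact one_ne_zero
    exact ker_constituent (IsChar.restrict K (IsIrr.isCharacter hχi)) h1 h6 (by simpa using h5)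
  · rintro ⟨hχi, z, hz, hne⟩
    have hres : IsCharacter K (fun c : K => χ c) := IsChar.restrict K (IsIrr.isCharacter hχi)
    obtain ⟨m, hm1, hm2⟩ := IsChar.exists_mult hres
    obtain ⟨θ, hθ⟩ : ∃ θ : IrrCharacter K, m θ ≠ 0 := by
      by_contra hcon
      push Not at hcon
      have h1 := hm2 1
      rw [Finset.sum_eq_zero (fun φ _ => by rw [hcon φ]; simp)] at h1
      exact IsIrr.degree_ne_zero hχi (by simpa using h1)
    have h0 : classInner (fun c : K => χ c) (θ : K → ℂ) ≠ 0 := by rw [hm1]; exact_mod_cast hθ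
    have h2 : ∃ z : K, (z : L) ∈ Z ∧ (θ : K → ℂ) z ≠ (θ : K → ℂ) 1 := by
      by_contra hcon
      push Not at hcon
      apply hne
      have h5 := clifford_restrict hK χ hχi (θ : K → ℂ) θ.2 h0
      have h6 : ∀ ψ ∈ {ψ : K → ℂ | ∃ g : L, ψ = conjBy hK g (θ : K → ℂ)}, ψ ⟨z, hZK hz⟩ = ψ 1 := by
        rintro ψ ⟨g, rfl⟩
        rw [conjBy_apply, conjBy_apply, map_one]
        apply hcon
        rw [conjAut_coe]; exact hZ.conj_mem _ hz g
      have hfin : {ψ : K → ℂ | ∃ g : L, ψ = conjBy hK g (θ : K → ℂ)}.Finite := by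
        apply (Set.finite_range (fun g : L => conjBy hK g (θ : K → ℂ))).subset
        rintro ψ ⟨g, rfl⟩; exact ⟨g, rfl⟩
      have e1 := congrFun h5 ⟨z, hZK hz⟩
      have e2 := congrFun h5 1
      rw [finsum_mem_eq_finite_toFinset_sum _ hfin] at e1 e2
      simp only [Pi.smul_apply, Finset.sum_apply] at e1 e2
      rw [Finset.sum_congr rfl (fun ψ hψ => h6 ψ ((hfin.mem_toFinset).mp hψ))] at e1
      rw [OneMemClass.coe_one] at e2
      rw [← e2] at e1
      exact e1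
    have h3 : indFun K (θ : K → ℂ) ∈ XZ K Z := ⟨θ, θ.2, h2, rfl⟩
    have h4 : χ = indFun K (θ : K → ℂ) := by
      by_contra hne'
      apply h0
      rw [← frobenius_reciprocity' K _ χ (IsIrr.isClassFunction hχi)]
      exact ii_ne hχi (hirr _ h3) hne'
    rw [h4]; exact h3

end defs

section main
variable {L : Type u} [Group L] [Fintype L] {G : Type v} [Group G] [Fintype G] {τ : (L → ℂ) → (G → ℂ)}
variable {R : (L → ℂ) → Finset (G → ℂ)} {K Z : Subgroup L}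

theorem coprime_of_frob {p : ℕ} (hp : p.Prime) (hKp : IsPGroup p K) (hK : K.Normal) (hKK : ⁅K, K⁆ < K)
    (hfrob : ∀ k ∈ K, k ∉ ⁅K, K⁆ → ∀ x : L, x * k * x⁻¹ * k⁻¹ ∈ ⁅K, K⁆ → x ∈ K) : Nat.Coprime p K.index := by
  rw [Nat.Prime.coprime_iff_not_dvd hp]
  intro h
  haveI : Fact p.Prime := ⟨hp⟩
  haveI := hK
  have h1 := frob_cong (H₁ := ⁅K, K⁆) (N := K) inferInstance hK hKK.le (le_refl _)
    (fun x hx y hy => Subgroup.commutator_mem_commutator hx hy) hfrob
  have h2 : p ∣ (⁅K, K⁆).relIndex K := by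
    obtain ⟨n, hn⟩ := hKp.exists_card_eq
    have h3 : (⁅K, K⁆).relIndex K ∣ p ^ n := by rw [← hn]; exact Subgroup.relIndex_dvd_card _ _
    obtain ⟨m, hm, hm'⟩ := (Nat.dvd_prime_pow hp).mp h3
    rw [hm']
    apply dvd_pow_self
    rintro rfl
    rw [pow_zero] at hm'
    exact absurd (Subgroup.relIndex_eq_one.mp hm') (not_le_of_gt hKK)
  have h3 := h.trans h1
  have h4 : 1 ≤ (⁅K, K⁆).relIndex K := Nat.one_le_iff_ne_zero.mpr (relIndex_ne_zero_fin _ _)
  have h5 : p ∣ 1 := by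
    have := (Nat.dvd_sub h2 h3)
    rwa [Nat.sub_sub_self h4] at this
  exact hp.one_lt.ne' (Nat.dvd_one.mp h5)

theorem coherent_66 (hK : K.Normal) (hsolv : Group.IsSolvable K) (hS : IsCoherenceSystem (inducedIrrAbove K ⊥) τ R)
    (hodd : Odd (Nat.card L)) (hnil : Group.IsNilpotent K) (hH₁K : ⁅K, K⁆ < K)
    (hfrob : ∀ k ∈ K, k ∉ ⁅K, K⁆ → ∀ x : L, x * k * x⁻¹ * k⁻¹ ∈ ⁅K, K⁆ → x ∈ K)
    (hZ : Z.Normal) (hZ1 : Z ≠ ⊥) (hZK : Z ≤ K) (hZc : ∀ z ∈ Z, ∀ k ∈ K, z * k = k * z)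
    (hirr : ∀ χ ∈ XZ K Z, IsIrrCharacter L χ) : IsCoherent (XZ K Z) {1}ᶜ τ := by
  have hsub : XZ K Z ⊆ inducedIrrAbove K ⊥ := by rw [← diff_eq_XZ hK hZ]; exact Set.diff_subset
  by_cases hp : ∃ p m : ℕ, p.Prime ∧ (⊥ : Subgroup L).relIndex K = p ^ m
  · obtain ⟨p, m, hp, hm⟩ := hp
    haveI : Fact p.Prime := ⟨hp⟩
    rw [Subgroup.relIndex_bot_left] at hm
    have hKp : IsPGroup p K := IsPGroup.of_card hm
    have hm0 : m ≠ 0 := by
      rintro rfl
      rw [pow_zero] at hm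
      have : K = ⊥ := Subgroup.card_eq_one.mp hm
      rw [this] at hH₁K
      exact not_lt_bot hH₁K
    have hp2 : p ≠ 2 := by
      rintro rfl
      have h1 : 2 ∣ Nat.card L := by
        have : 2 ∣ Nat.card K := by rw [hm]; exact dvd_pow_self 2 hm0
        exact this.trans (Subgroup.card_subgroup_dvd_card K)
      exact (Nat.not_even_iff_odd.mpr hodd) (even_iff_two_dvd.mpr h1)
    exact coherent_XZ hp hp2 hK hKp hZ hZK hZ1 hZc (coprime_of_frob hp hKp hK hH₁K hfrob) hirr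
      (fun χ hχ => hS.conj_ne χ (hsub hχ)) ((isoOn_zsub hS.isometry).mono (fun α hα => zspanOn_mono hsub hα)).to_zsub
      (fun α hα => hS.map_one α (zspanOn_mono hsub hα))
  · haveI : ((⊥ : Subgroup L).subgroupOf K).Normal := by
      rw [Subgroup.bot_subgroupOf]; infer_instance
    haveI : Group.IsNilpotent K := hnil
    have hco := coherent_64 hK hsolv hS hodd ⊥ inferInstance bot_le inferInstance ⁅K, K⁆ (sup_bot_eq _).symm hH₁K hfrob
      (Or.inr (Or.inr (Or.inl hp)))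
    exact coherent_mono hS hsub (le_refl _) (XZ_nonempty hZK hZ1) (fun φ hφ => XZ_conj hφ) hco

end main

end Cfsg.Agent.H4
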