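import Cfsg.Agent.H4.Coh1

set_option linter.all false
set_option autoImplicit false

/-! Construction of isometries; coherence. -/

namespace Cfsg.Agent.H4

open Module
open scoped ComplexConjugate Pointwise

universe u v w

section
variable {L : Type u} [Group L] [Fintype L] {G : Type v} [Group G] [Fintype G] {τ : (L → ℂ) → (G → ℂ)}

/-- linear extension of an assignment along an orthogonal set -/
noncomputable def orthExt (S : Finset (L → ℂ)) (T : (L → ℂ) → (G → ℂ)) : (L → ℂ) → (G → ℂ) :=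
  fun a => ∑ φ ∈ S, (classInner a φ / classInner φ φ) • T φ

theorem orthExt_add (S : Finset (L → ℂ)) (T : (L → ℂ) → (G → ℂ)) (a b : L → ℂ) :
    orthExt S T (a + b) = orthExt S T a + orthExt S T b := by
  unfold orthExt
  rw [← Finset.sum_add_distrib]
  apply Finset.sum_congr rfl; intro φ _
  rw [H5.classInner_add_left, add_div, add_smul]

theorem orthExt_csmul (S : Finset (L → ℂ)) (T : (L → ℂ) → (G → ℂ)) (c : ℂ) (a : L → ℂ) :
    orthExt S T (c • a) = c • orthExt S T a := by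
  unfold orthExt
  rw [Finset.smul_sum]
  apply Finset.sum_congr rfl; intro φ _
  rw [H5.classInner_smul_left, mul_div_assoc, smul_smul]

theorem orthExt_smul (S : Finset (L → ℂ)) (T : (L → ℂ) → (G → ℂ)) (n : ℤ) (a : L → ℂ) :
    orthExt S T (n • a) = n • orthExt S T a := by
  rw [zs_eq, zs_eq, orthExt_csmul]

theorem orthExt_apply (S : Finset (L → ℂ)) (T : (L → ℂ) → (G → ℂ))
    (horth : ∀ φ ∈ S, ∀ ψ ∈ S, φ ≠ ψ → classInner φ ψ = 0) (hne : ∀ φ ∈ S, classInner φ φ ≠ 0)
    {φ : L → ℂ} (hφ : φ ∈ S) : orthExt S T φ = T φ := by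
  classical
  unfold orthExt
  rw [Finset.sum_eq_single φ]
  · rw [div_self (hne φ hφ), one_smul]
  · intro ψ hψ hne'
    rw [horth φ hφ ψ hψ (Ne.symm hne'), zero_div, zero_smul]
  · intro h; exact absurd hφ h

theorem gen_gen_int {K : Type v} [Group K] [Fintype K] {α χ : K → ℂ} (hα : IsGeneralizedCharacter K α)
    (hχ : IsGeneralizedCharacter K χ) : ∃ n : ℤ, classInner α χ = n := by
  obtain ⟨a, b, ha, hb, rfl⟩ := hα
  obtain ⟨c, d, hc, hd, rfl⟩ := hχ
  obtain ⟨n1, h1⟩ := H5.IsCharacter.inner_char_nat ha hc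
  obtain ⟨n2, h2⟩ := H5.IsCharacter.inner_char_nat ha hd
  obtain ⟨n3, h3⟩ := H5.IsCharacter.inner_char_nat hb hc
  obtain ⟨n4, h4⟩ := H5.IsCharacter.inner_char_nat hb hd
  refine ⟨n1 - n2 - (n3 - n4), ?_⟩
  rw [H5.classInner_sub_left, H5.classInner_sub_right, H5.classInner_sub_right, h1, h2, h3, h4]; push_cast; rfl

theorem gen_zsmul {K : Type v} [Group K] {α : K → ℂ} (n : ℤ) (hα : IsGeneralizedCharacter K α) :
    IsGeneralizedCharacter K (n • α) := by
  obtain ⟨a, b, ha, hb, rfl⟩ := hα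
  rcases Int.eq_nat_or_neg n with ⟨m, rfl | rfl⟩
  · refine ⟨m • a, m • b, IsChar.nsmul m ha, IsChar.nsmul m hb, ?_⟩
    funext x; simp [mul_sub]
  · refine ⟨m • b, m • a, IsChar.nsmul m hb, IsChar.nsmul m ha, ?_⟩
    funext x; simp; ring

theorem gen_zero {K : Type v} [Group K] : IsGeneralizedCharacter K (0 : K → ℂ) :=
  ⟨0, 0, isCharacter_zero, isCharacter_zero, by simp⟩

theorem gen_of_zspan {K : Type v} [Group K] {S : Set (K → ℂ)} (h : ∀ φ ∈ S, IsGeneralizedCharacter K φ) {a : K → ℂ}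
    (ha : a ∈ zspan S) : IsGeneralizedCharacter K a := by
  apply zspan_induction (p := IsGeneralizedCharacter K) h gen_zero (fun a b _ _ h1 h2 => H5.isGeneralized_add h1 h2)
    (fun n a _ h => gen_zsmul n h) ha

theorem coh_build (S : Finset (L → ℂ)) (T : (L → ℂ) → (G → ℂ))
    (horth : ∀ φ ∈ S, ∀ ψ ∈ S, φ ≠ ψ → classInner φ ψ = 0) (hne : ∀ φ ∈ S, classInner φ φ ≠ 0)
    (hT : ∀ φ ∈ S, ∀ ψ ∈ S, classInner (T φ) (T ψ) = classInner φ ψ) (hgen : ∀ φ ∈ S, IsGeneralizedCharacter G (T φ)) :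
    IsLinearIsometryOn (zspan (S : Set (L → ℂ))) (orthExt S T) := by
  have happ : ∀ φ ∈ S, orthExt S T φ = T φ := fun φ hφ => orthExt_apply S T horth hne hφ
  refine ⟨fun a _ b _ => orthExt_add S T a b, fun a _ n => orthExt_smul S T n a, ?_, ?_⟩
  · intro a ha b hb
    apply zspan_induction (p := fun a => classInner (orthExt S T a) (orthExt S T b) = classInner a b) ?_ ?_ ?_ ?_ ha
    · intro φ hφ
      apply zspan_induction (p := fun b => classInner (orthExt S T φ) (orthExt S T b) = classInner φ b) ?_ ?_ ?_ ?_ hb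
      · intro ψ hψ; rw [happ φ hφ, happ ψ hψ, hT φ hφ ψ hψ]
      · have h0 : orthExt S T (0 : L → ℂ) = 0 := by
          have := orthExt_smul S T 0 0
          rwa [zero_smul, zero_smul] at this
        rw [h0, H5.classInner_zero_right, H5.classInner_zero_right]
      · intro a b _ _ h1 h2
        rw [orthExt_add, H5.classInner_add_right, h1, h2, H5.classInner_add_right]
      · intro n a _ h
        rw [orthExt_smul, zs_eq, zs_eq, H5.classInner_smul_right, h, H5.classInner_smul_right]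
    · have h0 : orthExt S T (0 : L → ℂ) = 0 := by
        have := orthExt_smul S T 0 0
        rwa [zero_smul, zero_smul] at this
      rw [h0, H5.classInner_zero_left, H5.classInner_zero_left]
    · intro a c _ _ h1 h2
      rw [orthExt_add, H5.classInner_add_left, h1, h2, H5.classInner_add_left]
    · intro n a _ h
      rw [orthExt_smul, zs_eq, zs_eq, H5.classInner_smul_left, h, H5.classInner_smul_left]
  · intro a ha
    apply zspan_induction (p := fun a => IsGeneralizedCharacter G (orthExt S T a)) ?_ ?_ ?_ ?_ ha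
    · intro φ hφ; rw [happ φ hφ]; exact hgen φ hφ
    · have h0 : orthExt S T (0 : L → ℂ) = 0 := by
        have := orthExt_smul S T 0 0
        rwa [zero_smul, zero_smul] at this
      rw [h0]; exact gen_zero
    · intro a b _ _ h1 h2; rw [orthExt_add]; exact H5.isGeneralized_add h1 h2
    · intro n a _ h; rw [orthExt_smul]; exact gen_zsmul n h

/-- coordinates of an element of the integer span of a finite set -/
theorem zspan_finset {S : Finset (L → ℂ)} {a : L → ℂ} (ha : a ∈ zspan (S : Set (L → ℂ))) :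
    ∃ c : (L → ℂ) → ℤ, a = ∑ φ ∈ S, c φ • φ := by
  have h : a ∈ Submodule.span ℤ (S : Set (L → ℂ)) := ha
  rw [Submodule.mem_span_finset] at h
  obtain ⟨f, -, hf⟩ := h
  exact ⟨f, hf.symm⟩

theorem degree_char_conj {χ : L → ℂ} (hχ : IsCharacter L χ) : conjFun χ 1 = χ 1 := by
  obtain ⟨n, hn⟩ := IsChar.exists_degree hχ
  show conj (χ 1) = χ 1
  rw [hn]; simp

theorem inner_conj_conj (χ φ : L → ℂ) : classInner (conjFun χ) (conjFun φ) = conj (classInner χ φ) := by
  unfold classInner conjFun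
  rw [map_mul, map_sum, map_inv₀, map_natCast]
  congr 1
  apply Finset.sum_congr rfl; intro x _
  rw [map_mul]

theorem conj_conj_fun (χ : L → ℂ) : conjFun (conjFun χ) = χ := by
  funext x; simp [conjFun]

theorem classInner_self_nonneg (χ : L → ℂ) : ∃ r : ℝ, 0 ≤ r ∧ classInner χ χ = r :=
  ⟨_, by positivity, H5.classInner_self_re χ⟩

section
variable {S : Set (L → ℂ)} {R : (L → ℂ) → Finset (G → ℂ)}

theorem cs_ne_zero (hS : IsCoherenceSystem S τ R) {χ : L → ℂ} (hχ : χ ∈ S) : classInner χ χ ≠ 0 := by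
  intro h
  have h1 := H5.classInner_self_eq_zero h
  apply hS.conj_ne χ hχ
  rw [h1]; funext x; simp [conjFun]

theorem cs_inner_conj (hS : IsCoherenceSystem S τ R) {χ : L → ℂ} (hχ : χ ∈ S) : classInner χ (conjFun χ) = 0 :=
  hS.orthogonal χ hχ _ (hS.conj_mem χ hχ) (Ne.symm (hS.conj_ne χ hχ))

theorem cs_conj_inner (hS : IsCoherenceSystem S τ R) {χ : L → ℂ} (hχ : χ ∈ S) : classInner (conjFun χ) χ = 0 :=
  hS.orthogonal _ (hS.conj_mem χ hχ) χ hχ (hS.conj_ne χ hχ)

theorem cs_conj_norm (χ : L → ℂ) : classInner (conjFun χ) (conjFun χ) = classInner χ χ := by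
  rw [inner_conj_conj, H5.classInner_conj_symm]

theorem cs_diff_mem (hS : IsCoherenceSystem S τ R) {χ : L → ℂ} (hχ : χ ∈ S) : χ - conjFun χ ∈ zspanOn S {1}ᶜ := by
  rw [mem_zspanOn_one]
  refine ⟨zspan_sub (zspan_mem hχ) (zspan_mem (hS.conj_mem χ hχ)), ?_⟩
  rw [Pi.sub_apply, degree_char_conj (hS.isCharacter χ hχ), sub_self]

theorem cs_diff_norm (hS : IsCoherenceSystem S τ R) {χ : L → ℂ} (hχ : χ ∈ S) :
    classInner (χ - conjFun χ) (χ - conjFun χ) = 2 * classInner χ χ := by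
  rw [H5.classInner_sub_left, H5.classInner_sub_right, H5.classInner_sub_right, cs_inner_conj hS hχ, cs_conj_inner hS hχ,
    cs_conj_norm]
  ring

theorem sum_orthonormal {K : Type v} [Group K] [Fintype K] (R : Finset (K → ℂ))
    (h : ∀ α ∈ R, ∀ β ∈ R, classInner α β = (open Classical in if α = β then 1 else 0)) (A B : Finset (K → ℂ))
    (hA : A ⊆ R) (hB : B ⊆ R) [DecidableEq (K → ℂ)] : classInner (∑ α ∈ A, α) (∑ β ∈ B, β) = ((A ∩ B).card : ℂ) := by
  classical
  rw [H5.classInner_sum_left]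
  have h1 : ∀ α ∈ A, classInner α (∑ β ∈ B, β) = if α ∈ B then 1 else 0 := by
    intro α hα
    rw [H5.classInner_sum_right]
    by_cases hαB : α ∈ B
    · rw [if_pos hαB, Finset.sum_eq_single α]
      · rw [h α (hA hα) α (hA hα), if_pos rfl]
      · intro β hβ hne
        rw [h α (hA hα) β (hB hβ), if_neg (Ne.symm hne)]
      · intro h'; exact absurd hαB h'
    · rw [if_neg hαB]
      apply Finset.sum_eq_zero; intro β hβ
      rw [h α (hA hα) β (hB hβ), if_neg]
      rintro rfl; exact hαB hβ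
  rw [Finset.sum_congr rfl h1, ← Finset.sum_filter, Finset.sum_const, nsmul_eq_mul, mul_one, Finset.filter_mem_eq_inter]

theorem cs_card (hS : IsCoherenceSystem S τ R) {χ : L → ℂ} (hχ : χ ∈ S) : ((R χ).card : ℂ) = 2 * classInner χ χ := by
  classical
  have h1 := hS.isometry.2.2.1 _ (cs_diff_mem hS hχ) _ (cs_diff_mem hS hχ)
  rw [cs_diff_norm hS hχ, hS.sum_eq χ hχ] at h1
  rw [← h1, sum_orthonormal (R χ) (fun α hα β hβ => by rw [hS.orthonormal χ hχ α hα β hβ]) (R χ) (R χ) (le_refl _) (le_refl _), Finset.inter_self]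

/-- projection inequality -/
theorem cs_proj (hS : IsCoherenceSystem S τ R) {χ : L → ℂ} (hχ : χ ∈ S) {ξ : G → ℂ} (hξ : IsGeneralizedCharacter G ξ)
    (h : classInner ξ (τ (χ - conjFun χ)) = classInner χ χ) :
    (classInner χ χ).re ≤ ∑ α ∈ R χ, ‖classInner ξ α‖ ^ 2 ∧
    (∑ α ∈ R χ, ‖classInner ξ α‖ ^ 2 ≤ (classInner χ χ).re →
      ∑ α ∈ R χ, ‖classInner ξ α‖ ^ 2 = (classInner χ χ).re ∧ ∀ α ∈ R χ, classInner ξ α = 0 ∨ classInner ξ α = 1) := by
  classical
  have hint : ∀ α ∈ R χ, ∃ n : ℤ, classInner ξ α = n := fun α hα => gen_gen_int hξ (hS.virtual χ hχ α hα)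
  choose! n hn using hint
  have hsum : ∑ α ∈ R χ, (n α : ℝ) = (classInner χ χ).re := by
    rw [← h, hS.sum_eq χ hχ, H5.classInner_sum_right, Complex.re_sum]
    apply Finset.sum_congr rfl; intro α hα
    rw [hn α hα]; simp
  have hsq : ∀ α ∈ R χ, ‖classInner ξ α‖ ^ 2 = ((n α : ℝ)) ^ 2 := by
    intro α hα
    rw [hn α hα, Complex.norm_intCast, sq_abs]
  have hle : ∀ α ∈ R χ, (n α : ℝ) ≤ (n α : ℝ) ^ 2 := by
    intro α _
    exact_mod_cast Int.le_self_sq (n α)
  rw [Finset.sum_congr rfl hsq]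
  refine ⟨by rw [← hsum]; exact Finset.sum_le_sum hle, fun hle2 => ?_⟩
  have heq : ∑ α ∈ R χ, (n α : ℝ) ^ 2 = (classInner χ χ).re := le_antisymm hle2 (by rw [← hsum]; exact Finset.sum_le_sum hle)
  refine ⟨heq, ?_⟩
  have h1 : ∑ α ∈ R χ, ((n α : ℝ) ^ 2 - n α) = 0 := by rw [Finset.sum_sub_distrib, heq, hsum, sub_self]
  intro α hα
  have h2 := (Finset.sum_eq_zero_iff_of_nonneg (fun β hβ => sub_nonneg.mpr (hle β hβ))).mp h1 α hα
  have h3 : (n α) ^ 2 - n α = 0 := by exact_mod_cast h2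
  have h4 : n α * (n α - 1) = 0 := by linarith [h3, sq (n α)]
  rw [hn α hα]
  rcases mul_eq_zero.mp h4 with h5 | h5
  · left; rw [h5]; simp
  · right
    have : n α = 1 := by omega
    rw [this]; simp

end

end

end Cfsg.Agent.H4
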