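import Cfsg.Agent.H4.Coh2

set_option linter.all false
set_option autoImplicit false

/-! Coherence of sets of characters of equal degree. -/

namespace Cfsg.Agent.H4

open Module
open scoped ComplexConjugate Pointwise

universe u v w

section bessel
variable {K : Type v} [Group K] [Fintype K]

theorem inner_neg_right (a b : K → ℂ) : classInner a (-b) = - classInner a b := by
  have : -b = (-1 : ℂ) • b := by simp
  rw [this, H5.classInner_smul_right]; simp

theorem inner_neg_left (a b : K → ℂ) : classInner (-a) b = - classInner a b := by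
  have : -a = (-1 : ℂ) • a := by simp
  rw [this, H5.classInner_smul_left]; simp

theorem bessel_eq (R : Finset (K → ℂ)) (h : ∀ α ∈ R, ∀ β ∈ R, α ≠ β → classInner α β = 0) (h1 : ∀ α ∈ R, classInner α α = 1)
    (ξ : K → ℂ) : classInner (ξ - ∑ α ∈ R, classInner ξ α • α) (ξ - ∑ α ∈ R, classInner ξ α • α) =
      classInner ξ ξ - ∑ α ∈ R, ((‖classInner ξ α‖ ^ 2 : ℝ) : ℂ) := by
  classical
  set P := ∑ α ∈ R, classInner ξ α • α with hP
  have h2 : ∀ β ∈ R, classInner P β = classInner ξ β := by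
    intro β hβ
    rw [hP, H5.classInner_sum_left, Finset.sum_eq_single β]
    · rw [H5.classInner_smul_left, h1 β hβ, mul_one]
    · intro α hα hne
      rw [H5.classInner_smul_left, h α hα β hβ hne, mul_zero]
    · intro h'; exact absurd hβ h'
  have h3 : classInner ξ P = ∑ α ∈ R, ((‖classInner ξ α‖ ^ 2 : ℝ) : ℂ) := by
    rw [hP, H5.classInner_sum_right]
    apply Finset.sum_congr rfl; intro α _
    rw [H5.classInner_smul_right, mul_comm, Complex.mul_conj, Complex.normSq_eq_norm_sq]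
  have h4 : classInner P P = ∑ α ∈ R, ((‖classInner ξ α‖ ^ 2 : ℝ) : ℂ) := by
    conv_lhs => rw [hP]
    rw [← hP, H5.classInner_sum_left]
    apply Finset.sum_congr rfl; intro α hα
    rw [H5.classInner_smul_left, ← H5.classInner_conj_symm P α, h2 α hα, Complex.mul_conj, Complex.normSq_eq_norm_sq]
  have h5 : classInner P ξ = ∑ α ∈ R, ((‖classInner ξ α‖ ^ 2 : ℝ) : ℂ) := by
    rw [← H5.classInner_conj_symm, h3, map_sum]
    apply Finset.sum_congr rfl; intro α _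
    exact Complex.conj_ofReal _
  rw [H5.classInner_sub_left, H5.classInner_sub_right, H5.classInner_sub_right, h3, h4, h5]
  ring

theorem bessel_le (R : Finset (K → ℂ)) (h : ∀ α ∈ R, ∀ β ∈ R, α ≠ β → classInner α β = 0) (h1 : ∀ α ∈ R, classInner α α = 1)
    (ξ : K → ℂ) : ∑ α ∈ R, ‖classInner ξ α‖ ^ 2 ≤ (classInner ξ ξ).re := by
  have h2 := bessel_eq R h h1 ξ
  obtain ⟨r, hr, hr'⟩ : ∃ r : ℝ, 0 ≤ r ∧ classInner (ξ - ∑ α ∈ R, classInner ξ α • α) (ξ - ∑ α ∈ R, classInner ξ α • α) = r :=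
    ⟨_, by positivity, H5.classInner_self_re _⟩
  rw [hr'] at h2
  have h3 := congrArg Complex.re h2
  rw [Complex.sub_re, Complex.ofReal_re, Complex.re_sum] at h3
  simp only [Complex.ofReal_re] at h3
  linarith

theorem bessel_equality (R : Finset (K → ℂ)) (h : ∀ α ∈ R, ∀ β ∈ R, α ≠ β → classInner α β = 0) (h1 : ∀ α ∈ R, classInner α α = 1)
    (ξ : K → ℂ) (hle : (classInner ξ ξ).re ≤ ∑ α ∈ R, ‖classInner ξ α‖ ^ 2) : ξ = ∑ α ∈ R, classInner ξ α • α := by
  have h2 := bessel_eq R h h1 ξ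
  have h3 : classInner ξ ξ - ∑ α ∈ R, ((‖classInner ξ α‖ ^ 2 : ℝ) : ℂ) = 0 := by
    have h4 := bessel_le R h h1 ξ
    have h5 : classInner ξ ξ = ((classInner ξ ξ).re : ℂ) := by
      have h6 := H5.classInner_self_re ξ
      rw [h6, Complex.ofReal_re]
    rw [h5, le_antisymm hle h4]
    push_cast; ring
  rw [h3] at h2
  have h4 := H5.classInner_self_eq_zero h2
  exact sub_eq_zero.mp h4

theorem finite_of_orthogonal (S : Set (K → ℂ)) (horth : ∀ φ ∈ S, ∀ ψ ∈ S, φ ≠ ψ → classInner φ ψ = 0)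
    (hne : ∀ φ ∈ S, classInner φ φ ≠ 0) : S.Finite := by
  classical
  have hli : LinearIndependent ℂ (fun χ : S => (χ : K → ℂ)) := by
    rw [linearIndependent_iff']
    intro s g hg i hi
    have h1 := congrArg (fun f => classInner f (i : K → ℂ)) hg
    simp only [H5.classInner_sum_left, H5.classInner_zero_left] at h1
    rw [Finset.sum_eq_single i] at h1
    · rw [H5.classInner_smul_left] at h1
      exact (mul_eq_zero.mp h1).resolve_right (hne i i.2)
    · intro j _ hji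
      rw [H5.classInner_smul_left, horth j j.2 i i.2 (fun h => hji (Subtype.ext h)), mul_zero]
    · intro h; exact absurd hi h
  exact hli.setFinite

end bessel

section
variable {L : Type u} [Group L] [Fintype L] {G : Type v} [Group G] [Fintype G] {τ : (L → ℂ) → (G → ℂ)}
  {S : Set (L → ℂ)} {R : (L → ℂ) → Finset (G → ℂ)}

theorem cs_orth (hS : IsCoherenceSystem S τ R) {χ : L → ℂ} (hχ : χ ∈ S) {α β : G → ℂ} (hα : α ∈ R χ) (hβ : β ∈ R χ)
    (hne : α ≠ β) : classInner α β = 0 := by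
  classical
  rw [hS.orthonormal χ hχ α hα β hβ, if_neg hne]

theorem cs_one (hS : IsCoherenceSystem S τ R) {χ : L → ℂ} (hχ : χ ∈ S) {α : G → ℂ} (hα : α ∈ R χ) : classInner α α = 1 := by
  classical
  rw [hS.orthonormal χ hχ α hα α hα, if_pos rfl]

theorem cs_norm_nat (hS : IsCoherenceSystem S τ R) {χ : L → ℂ} (hχ : χ ∈ S) : ∃ n : ℕ, 0 < n ∧ classInner χ χ = n ∧ (R χ).card = 2 * n := by
  obtain ⟨n, hn⟩ := H5.IsCharacter.inner_char_nat (hS.isCharacter χ hχ) (hS.isCharacter χ hχ)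
  refine ⟨n, ?_, hn, ?_⟩
  · rw [Nat.pos_iff_ne_zero]
    rintro rfl
    exact cs_ne_zero hS hχ (by rw [hn]; simp)
  · have := cs_card hS hχ
    rw [hn] at this
    exact_mod_cast this

theorem cs_disj (hS : IsCoherenceSystem S τ R) {χ φ : L → ℂ} (hχ : χ ∈ S) (hφ : φ ∈ S) (h1 : φ ≠ χ) (h2 : φ ≠ conjFun χ)
    {α β : G → ℂ} (hα : α ∈ R φ) (hβ : β ∈ R χ) : classInner α β = 0 :=
  hS.disjoint χ hχ φ hφ (hS.orthogonal φ hφ χ hχ h1) (hS.orthogonal φ hφ _ (hS.conj_mem χ hχ) h2) α hα β hβ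

theorem inner_sum_sum {K : Type v} [Group K] [Fintype K] (A B : Finset (K → ℂ)) (h : ∀ α ∈ A, ∀ β ∈ B, classInner α β = 0) :
    classInner (∑ α ∈ A, α) (∑ β ∈ B, β) = 0 := by
  rw [H5.classInner_sum_left]
  apply Finset.sum_eq_zero; intro α hα
  rw [H5.classInner_sum_right]
  apply Finset.sum_eq_zero; intro β hβ
  exact h α hα β hβ

theorem gen_sum {K : Type v} [Group K] (A : Finset (K → ℂ)) (h : ∀ α ∈ A, IsGeneralizedCharacter K α) :
    IsGeneralizedCharacter K (∑ α ∈ A, α) := by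
  classical
  induction A using Finset.induction_on with
  | empty => simpa using gen_zero
  | insert a A ha ih =>
    rw [Finset.sum_insert ha]
    exact H5.isGeneralized_add (h a (Finset.mem_insert_self _ _)) (ih (fun α hα => h α (Finset.mem_insert_of_mem hα)))

open Classical in
theorem cs_sub_inner (hS : IsCoherenceSystem S τ R) {χ : L → ℂ} (hχ : χ ∈ S) {A B : Finset (G → ℂ)} (hA : A ⊆ R χ) (hB : B ⊆ R χ) :
    classInner (∑ α ∈ A, α) (∑ β ∈ B, β) = ((A ∩ B).card : ℂ) :=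
  sum_orthonormal (R χ) (fun α hα β hβ => by rw [hS.orthonormal χ hχ α hα β hβ]) A B hA hB

/-- `τ(χ - χ₁)` for characters of equal degree -/
theorem cs_decomp (hS : IsCoherenceSystem S τ R) {χ χ₁ : L → ℂ} (hχ : χ ∈ S) (hχ₁ : χ₁ ∈ S) (hdeg : χ 1 = χ₁ 1)
    (h1 : χ ≠ χ₁) (h2 : χ ≠ conjFun χ₁) (n₁ : ℕ) (hn₁ : classInner χ₁ χ₁ = n₁) :
    ∃ A B : Finset (G → ℂ), A ⊆ R χ ∧ B ⊆ R χ₁ ∧ B.card = n₁ ∧
      τ (χ - χ₁) = ∑ α ∈ A, α - ∑ β ∈ B, β := by
  classical
  have hm1 : χ - χ₁ ∈ zspanOn S {1}ᶜ := by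
    rw [mem_zspanOn_one]
    exact ⟨zspan_sub (zspan_mem hχ) (zspan_mem hχ₁), by rw [Pi.sub_apply, hdeg, sub_self]⟩
  have hm2 : χ₁ - χ ∈ zspanOn S {1}ᶜ := by
    rw [mem_zspanOn_one]
    exact ⟨zspan_sub (zspan_mem hχ₁) (zspan_mem hχ), by rw [Pi.sub_apply, hdeg, sub_self]⟩
  have hiso := isoOn_zsub hS.isometry
  have hneg : τ (χ₁ - χ) = - τ (χ - χ₁) := by
    have := hiso.neg (a := χ - χ₁) hm1
    rwa [neg_sub] at this
  have hd1 := cs_diff_mem hS hχ
  have hd2 := cs_diff_mem hS hχ₁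
  have h2' : conjFun χ ≠ χ₁ := fun h => h2 (by rw [← h, conj_conj_fun])
  have hc1 := hS.conj_mem χ hχ
  have hc2 := hS.conj_mem χ₁ hχ₁
  have i1 : classInner χ χ₁ = 0 := hS.orthogonal χ hχ χ₁ hχ₁ h1
  have i1' : classInner χ₁ χ = 0 := hS.orthogonal χ₁ hχ₁ χ hχ (Ne.symm h1)
  have i2 : classInner χ (conjFun χ₁) = 0 := hS.orthogonal χ hχ _ hc2 h2
  have i3 : classInner χ₁ (conjFun χ) = 0 := hS.orthogonal χ₁ hχ₁ _ hc1 (Ne.symm h2')
  set ξ := τ (χ - χ₁) with hξ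
  have hgen : IsGeneralizedCharacter G ξ := hS.isometry.2.2.2 _ hm1
  have hgen2 : IsGeneralizedCharacter G (τ (χ₁ - χ)) := hS.isometry.2.2.2 _ hm2
  have hp1 := cs_proj hS hχ hgen (by
    rw [hξ, hS.isometry.2.2.1 _ hm1 _ hd1, H5.classInner_sub_left, H5.classInner_sub_right, H5.classInner_sub_right,
      cs_inner_conj hS hχ, i1', i3]; ring)
  have hp2 := cs_proj hS hχ₁ hgen2 (by
    rw [hS.isometry.2.2.1 _ hm2 _ hd2, H5.classInner_sub_left, H5.classInner_sub_right, H5.classInner_sub_right,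
      cs_inner_conj hS hχ₁, i1, i2]; ring)
  rw [hneg] at hp2
  have hnorm : (classInner ξ ξ).re = (classInner χ χ).re + (classInner χ₁ χ₁).re := by
    rw [hξ, hS.isometry.2.2.1 _ hm1 _ hm1, H5.classInner_sub_left, H5.classInner_sub_right, H5.classInner_sub_right, i1, i1']
    simp
  have hdisj : Disjoint (R χ) (R χ₁) := by
    rw [Finset.disjoint_left]
    intro α hα hα'
    have := cs_disj hS hχ₁ hχ h1 h2 hα hα'
    rw [cs_one hS hχ hα] at this
    exact one_ne_zero this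
  have hsum : ∑ α ∈ R χ ∪ R χ₁, ‖classInner ξ α‖ ^ 2 = ∑ α ∈ R χ, ‖classInner ξ α‖ ^ 2 + ∑ α ∈ R χ₁, ‖classInner ξ α‖ ^ 2 :=
    Finset.sum_union hdisj
  have hsymm0 : ∀ α ∈ R χ₁, ∀ β ∈ R χ, classInner α β = 0 := by
    intro α hα β hβ
    rw [← H5.classInner_conj_symm, cs_disj hS hχ₁ hχ h1 h2 hβ hα, map_zero]
  have ho : ∀ α ∈ R χ ∪ R χ₁, ∀ β ∈ R χ ∪ R χ₁, α ≠ β → classInner α β = 0 := by
    intro α hα β hβ hne
    rcases Finset.mem_union.mp hα with hα | hα <;> rcases Finset.mem_union.mp hβ with hβ | hβ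
    · exact cs_orth hS hχ hα hβ hne
    · exact cs_disj hS hχ₁ hχ h1 h2 hα hβ
    · exact hsymm0 α hα β hβ
    · exact cs_orth hS hχ₁ hα hβ hne
  have ho1 : ∀ α ∈ R χ ∪ R χ₁, classInner α α = 1 := by
    intro α hα
    rcases Finset.mem_union.mp hα with hα | hα
    · exact cs_one hS hχ hα
    · exact cs_one hS hχ₁ hα
  have hB := bessel_le _ ho ho1 ξ
  rw [hsum, hnorm] at hB
  have hnegn : ∀ α, ‖classInner (-ξ) α‖ = ‖classInner ξ α‖ := by
    intro α; rw [inner_neg_left, norm_neg]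
  simp only [hnegn] at hp2
  have e1 := hp1.2 (by linarith [hp2.1])
  have e2 := hp2.2 (by linarith [hp1.1])
  have hE := bessel_equality _ ho ho1 ξ (by rw [hsum, hnorm, e1.1, e2.1])
  rw [Finset.sum_union hdisj] at hE
  refine ⟨(R χ).filter (fun α => classInner ξ α = 1), (R χ₁).filter (fun α => classInner (-ξ) α = 1), Finset.filter_subset _ _,
    Finset.filter_subset _ _, ?_, ?_⟩
  · have h3 : ∑ α ∈ R χ₁, ‖classInner ξ α‖ ^ 2 = (((R χ₁).filter (fun α => classInner (-ξ) α = 1)).card : ℝ) := by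
      rw [Finset.card_filter]
      push_cast
      apply Finset.sum_congr rfl; intro α hα
      rcases e2.2 α hα with h | h
      · rw [← hnegn, h]; simp
      · rw [← hnegn, h]; simp
    rw [e2.1, hn₁] at h3
    have h4 : (n₁ : ℝ) = (((R χ₁).filter (fun α => classInner (-ξ) α = 1)).card : ℝ) := by simpa using h3
    exact_mod_cast h4.symm
  · conv_lhs => rw [hE]
    rw [sub_eq_add_neg]
    congr 1
    · rw [Finset.sum_filter]
      apply Finset.sum_congr rfl; intro α hα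
      rcases e1.2 α hα with h | h
      · rw [h]; simp
      · rw [h]; simp
    · rw [Finset.sum_filter, ← Finset.sum_neg_distrib]
      apply Finset.sum_congr rfl; intro α hα
      have h5 : classInner ξ α = -classInner (-ξ) α := by rw [inner_neg_left, neg_neg]
      rcases e2.2 α hα with h | h
      · rw [h5, h]; simp
      · rw [h5, h]; simp

theorem coherent_equal_degree (hS : IsCoherenceSystem S τ R) (hdeg : ∀ φ ∈ S, ∀ ψ ∈ S, φ 1 = ψ 1) : IsCoherent S {1}ᶜ τ := by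
  classical
  have hfin := finite_of_orthogonal S (fun φ hφ ψ hψ h => hS.orthogonal φ hφ ψ hψ h) (fun φ hφ => cs_ne_zero hS hφ)
  obtain ⟨χ₁, hχ₁⟩ := hS.nonempty
  obtain ⟨n₁, hn0, hn₁, hcard⟩ := cs_norm_nat hS hχ₁
  have hiso := isoOn_zsub hS.isometry
  have hdm : ∀ χ ∈ S, χ - χ₁ ∈ zspanOn S {1}ᶜ := by
    intro χ hχ
    rw [mem_zspanOn_one]
    exact ⟨zspan_sub (zspan_mem hχ) (zspan_mem hχ₁), by rw [Pi.sub_apply, hdeg χ hχ χ₁ hχ₁, sub_self]⟩
  have hc1 := hS.conj_mem χ₁ hχ₁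
  -- the key vector
  have hY : ∃ Y : G → ℂ, IsGeneralizedCharacter G Y ∧ classInner Y Y = n₁ ∧
      ∀ χ ∈ S, classInner (τ (χ - χ₁)) Y = classInner χ χ₁ - n₁ := by
    have hconj1 : ∀ B : Finset (G → ℂ), B ⊆ R χ₁ → B.card = n₁ → classInner (τ (conjFun χ₁ - χ₁)) (∑ β ∈ B, β) = -n₁ := by
      intro B hB hBc
      have h1 : τ (conjFun χ₁ - χ₁) = -(∑ α ∈ R χ₁, α) := by
        rw [← hS.sum_eq χ₁ hχ₁, ← hiso.neg (cs_diff_mem hS hχ₁), neg_sub]
      rw [h1, inner_neg_left, cs_sub_inner hS hχ₁ (le_refl _) hB, Finset.inter_eq_right.mpr hB, hBc]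
    by_cases hcase : ∃ χ₂ ∈ S, χ₂ ≠ χ₁ ∧ χ₂ ≠ conjFun χ₁
    · obtain ⟨χ₂, hχ₂, h21, h21'⟩ := hcase
      obtain ⟨A, B, hA, hB, hBc, hAB⟩ := cs_decomp hS hχ₂ hχ₁ (hdeg χ₂ hχ₂ χ₁ hχ₁) h21 h21' n₁ hn₁
      refine ⟨∑ β ∈ B, β, gen_sum B (fun β hβ => hS.virtual χ₁ hχ₁ β (hB hβ)), ?_, ?_⟩
      · rw [cs_sub_inner hS hχ₁ hB hB, Finset.inter_self, hBc]
      · intro χ hχ
        by_cases e1 : χ = χ₁
        · subst e1
          rw [sub_self, hiso.zero, H5.classInner_zero_left, hn₁, sub_self]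
        rw [hS.orthogonal χ hχ χ₁ hχ₁ e1, zero_sub]
        by_cases e2 : χ = conjFun χ₁
        · subst e2; exact hconj1 B hB hBc
        have hYY : classInner (∑ β ∈ B, β) (∑ β ∈ B, β) = (n₁ : ℂ) := by
          rw [cs_sub_inner hS hχ₁ hB hB, Finset.inter_self, hBc]
        have hbase : classInner (τ (χ₂ - χ₁)) (∑ β ∈ B, β) = -n₁ := by
          rw [hAB, H5.classInner_sub_left, hYY, inner_sum_sum A B (fun α hα β hβ => cs_disj hS hχ₁ hχ₂ h21 h21' (hA hα) (hB hβ)), zero_sub]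
        by_cases e3 : χ = χ₂
        · rw [e3]; exact hbase
        by_cases e4 : χ = conjFun χ₂
        · have h1 : τ (χ - χ₁) = τ (χ₂ - χ₁) - ∑ α ∈ R χ₂, α := by
            rw [← hS.sum_eq χ₂ hχ₂, ← hiso.sub (hdm χ₂ hχ₂) (cs_diff_mem hS hχ₂)]
            congr 1
            rw [e4]; ring
          rw [h1, H5.classInner_sub_left, hbase, inner_sum_sum (R χ₂) B (fun α hα β hβ => cs_disj hS hχ₁ hχ₂ h21 h21' hα (hB hβ)), sub_zero]
        obtain ⟨A', B', hA', hB', hBc', hAB'⟩ := cs_decomp hS hχ hχ₁ (hdeg χ hχ χ₁ hχ₁) e1 e2 n₁ hn₁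
        -- compare B and B'
        have h3 := hS.isometry.2.2.1 _ (hdm χ₂ hχ₂) _ (hdm χ hχ)
        have h4 : classInner (χ₂ - χ₁) (χ - χ₁) = n₁ := by
          rw [H5.classInner_sub_left, H5.classInner_sub_right, H5.classInner_sub_right, hn₁,
            hS.orthogonal χ₂ hχ₂ χ hχ (Ne.symm e3), hS.orthogonal χ₂ hχ₂ χ₁ hχ₁ h21, hS.orthogonal χ₁ hχ₁ χ hχ (Ne.symm e1)]
          ring
        have e3' : χ₂ ≠ χ := Ne.symm e3
        have e4' : χ₂ ≠ conjFun χ := fun h => e4 (by rw [h, conj_conj_fun])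
        have o1 : classInner (∑ α ∈ A, α) (∑ α ∈ A', α) = 0 :=
          inner_sum_sum A A' (fun α hα β hβ => cs_disj hS hχ hχ₂ e3' e4' (hA hα) (hA' hβ))
        have o2 : classInner (∑ α ∈ A, α) (∑ α ∈ B', α) = 0 :=
          inner_sum_sum A B' (fun α hα β hβ => cs_disj hS hχ₁ hχ₂ h21 h21' (hA hα) (hB' hβ))
        have o3 : classInner (∑ α ∈ A', α) (∑ α ∈ B, α) = 0 :=
          inner_sum_sum A' B (fun α hα β hβ => cs_disj hS hχ₁ hχ e1 e2 (hA' hα) (hB hβ))
        have o3' : classInner (∑ α ∈ B, α) (∑ α ∈ A', α) = 0 := by rw [← H5.classInner_conj_symm, o3, map_zero]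
        rw [h4, hAB, hAB', H5.classInner_sub_left, H5.classInner_sub_right, H5.classInner_sub_right, o1, o2, o3',
          cs_sub_inner hS hχ₁ hB hB'] at h3
        have h5 : (B ∩ B').card = n₁ := by
          have : ((B ∩ B').card : ℂ) = n₁ := by rw [← h3]; ring
          exact_mod_cast this
        have h6 : B ∩ B' = B' := Finset.eq_of_subset_of_card_le Finset.inter_subset_right (by rw [h5, hBc'])
        have h7 : B' ⊆ B := Finset.inter_eq_right.mp h6
        have h8 : B' = B := Finset.eq_of_subset_of_card_le h7 (by rw [hBc', hBc])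
        rw [hAB', H5.classInner_sub_left, o3, h8, hYY, zero_sub]
    · push Not at hcase
      obtain ⟨B, hB, hBc⟩ := Finset.exists_subset_card_eq (show n₁ ≤ (R χ₁).card by omega)
      refine ⟨∑ β ∈ B, β, gen_sum B (fun β hβ => hS.virtual χ₁ hχ₁ β (hB hβ)), ?_, ?_⟩
      · rw [cs_sub_inner hS hχ₁ hB hB, Finset.inter_self, hBc]
      · intro χ hχ
        by_cases e1 : χ = χ₁
        · subst e1
          rw [sub_self, hiso.zero, H5.classInner_zero_left, hn₁, sub_self]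
        rw [hS.orthogonal χ hχ χ₁ hχ₁ e1, zero_sub, hcase χ hχ e1]
        exact hconj1 B hB hBc
  obtain ⟨Y, hYgen, hYY, hYχ⟩ := hY
  refine ⟨⟨χ₁ - conjFun χ₁, cs_diff_mem hS hχ₁, fun h => hS.conj_ne χ₁ hχ₁ (sub_eq_zero.mp h).symm⟩, ?_⟩
  set F := hfin.toFinset with hF
  have hFS : (F : Set (L → ℂ)) = S := hfin.coe_toFinset
  have hmemF : ∀ φ, φ ∈ F ↔ φ ∈ S := fun φ => hfin.mem_toFinset
  let T : (L → ℂ) → (G → ℂ) := fun χ => τ (χ - χ₁) + Y
  have horth : ∀ φ ∈ F, ∀ ψ ∈ F, φ ≠ ψ → classInner φ ψ = 0 := fun φ hφ ψ hψ h => hS.orthogonal φ ((hmemF φ).mp hφ) ψ ((hmemF ψ).mp hψ) h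
  have hne : ∀ φ ∈ F, classInner φ φ ≠ 0 := fun φ hφ => cs_ne_zero hS ((hmemF φ).mp hφ)
  have hT : ∀ φ ∈ F, ∀ ψ ∈ F, classInner (T φ) (T ψ) = classInner φ ψ := by
    intro φ hφ ψ hψ
    rw [hmemF] at hφ hψ
    show classInner (τ (φ - χ₁) + Y) (τ (ψ - χ₁) + Y) = _
    rw [H5.classInner_add_left, H5.classInner_add_right, H5.classInner_add_right, hS.isometry.2.2.1 _ (hdm φ hφ) _ (hdm ψ hψ),
      hYχ φ hφ, hYY, ← H5.classInner_conj_symm (τ (ψ - χ₁)) Y, hYχ ψ hψ, H5.classInner_sub_left, H5.classInner_sub_right, H5.classInner_sub_right,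
      hn₁, map_sub, H5.classInner_conj_symm, map_natCast]
    ring
  have hgen : ∀ φ ∈ F, IsGeneralizedCharacter G (T φ) := by
    intro φ hφ
    rw [hmemF] at hφ
    exact H5.isGeneralized_add (hS.isometry.2.2.2 _ (hdm φ hφ)) hYgen
  refine ⟨orthExt F T, ?_, ?_⟩
  · have := coh_build F T horth hne hT hgen
    rwa [hFS] at this
  · intro a ha
    rw [mem_zspanOn_one] at ha
    obtain ⟨ha, ha1⟩ := ha
    rw [← hFS] at ha
    obtain ⟨c, rfl⟩ := zspan_finset ha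
    -- degree relation
    have hd : ((∑ φ ∈ F, c φ : ℤ) : ℂ) * χ₁ 1 = 0 := by
      rw [← ha1, Finset.sum_apply]
      push_cast
      rw [Finset.sum_mul]
      apply Finset.sum_congr rfl; intro φ hφ
      rw [zs_apply, hdeg φ ((hmemF φ).mp hφ) χ₁ hχ₁]
    have hχ1 : χ₁ 1 ≠ 0 := by
      intro h0
      have h1 : χ₁ = 0 := by
        funext x
        have := IsChar.norm_le (hS.isCharacter χ₁ hχ₁) x
        rw [h0, norm_zero] at this
        exact norm_le_zero_iff.mp this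
      exact cs_ne_zero hS hχ₁ (by rw [h1, H5.classInner_zero_left])
    have hsum0 : ∑ φ ∈ F, c φ = 0 := by
      have := (mul_eq_zero.mp hd).resolve_right hχ1
      exact_mod_cast this
    have h1 : ∑ φ ∈ F, c φ • φ = ∑ φ ∈ F, c φ • (φ - χ₁) := by
      simp_rw [smul_sub]
      rw [Finset.sum_sub_distrib, ← Finset.sum_smul, hsum0, zero_smul, sub_zero]
    have h2 : τ (∑ φ ∈ F, c φ • (φ - χ₁)) = ∑ φ ∈ F, c φ • τ (φ - χ₁) := by
      rw [hiso.sum F _ (fun φ hφ => (zsubOn S {1}ᶜ).smul_mem _ (hdm φ ((hmemF φ).mp hφ)))]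
      apply Finset.sum_congr rfl; intro φ hφ
      exact hiso.smul _ (hdm φ ((hmemF φ).mp hφ)) _
    rw [h1, h2]
    have h3 : orthExt F T (∑ φ ∈ F, c φ • (φ - χ₁)) = ∑ φ ∈ F, c φ • (T φ - T χ₁) := by
      have hadd := isoOn_span (coh_build F T horth hne hT hgen)
      rw [hadd.sum F _ (fun φ hφ => Submodule.smul_mem _ _ (Submodule.sub_mem _ (Submodule.subset_span hφ) (Submodule.subset_span ((hmemF χ₁).mpr hχ₁))))]
      apply Finset.sum_congr rfl; intro φ hφ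
      rw [orthExt_smul, hadd.sub (Submodule.subset_span hφ) (Submodule.subset_span ((hmemF χ₁).mpr hχ₁)),
        orthExt_apply F T horth hne hφ, orthExt_apply F T horth hne ((hmemF χ₁).mpr hχ₁)]
    rw [h3]
    apply Finset.sum_congr rfl; intro φ hφ
    congr 1
    show τ (φ - χ₁) + Y - (τ (χ₁ - χ₁) + Y) = _
    rw [sub_self, hiso.zero]
    simp

end

end Cfsg.Agent.H4
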