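import Cfsg.Agent.H4.Coh3

set_option linter.all false
set_option autoImplicit false

/-! Coherence: glueing, orthogonal Bessel inequality and the extension step. -/

namespace Cfsg.Agent.H4

open Module
open scoped ComplexConjugate Pointwise

universe u v w

section glue
variable {L : Type u} [Group L] [Fintype L] {G : Type v} [Group G] [Fintype G]

theorem glue {S S₁ : Set (L → ℂ)} (h₁ : S₁ ⊆ S) {τ T : (L → ℂ) → (G → ℂ)} (hτ : IsoOn (zsubOn S {1}ᶜ) τ)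
    (hT : IsoOn (Submodule.span ℤ S) T) (hag : ∀ α ∈ zspanOn S₁ {1}ᶜ, T α = τ α)
    (hnew : ∀ χ ∈ S, χ ∉ S₁ → ∃ β ∈ zspan S₁, (χ - β) 1 = 0 ∧ T (χ - β) = τ (χ - β)) :
    ∀ α ∈ zspanOn S {1}ᶜ, T α = τ α := by
  have hz : ∀ γ, γ ∈ zspan S → γ 1 = 0 → γ ∈ zsubOn S {1}ᶜ := fun γ h h' => (mem_zspanOn_one S γ).mpr ⟨h, h'⟩
  have key : ∀ α ∈ zspan S, ∃ β ∈ zspan S₁, (α - β) 1 = 0 ∧ T (α - β) = τ (α - β) := by
    intro α hα
    refine zspan_induction (S := S) (p := fun α => ∃ β ∈ zspan S₁, (α - β) 1 = 0 ∧ T (α - β) = τ (α - β)) ?_ ?_ ?_ ?_ hα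
    · intro a ha
      by_cases h : a ∈ S₁
      · refine ⟨a, zspan_mem h, by simp, ?_⟩
        rw [sub_self, hT.zero, hτ.zero]
      · exact hnew a ha h
    · exact ⟨0, zspan_zero, by simp, by rw [sub_self, hT.zero, hτ.zero]⟩
    · rintro a b ha hb ⟨c, hc, hc1, hc2⟩ ⟨d, hd, hd1, hd2⟩
      have e : a + b - (c + d) = (a - c) + (b - d) := by ring
      have m1 := zspan_sub ha (zspan_mono h₁ hc)
      have m2 := zspan_sub hb (zspan_mono h₁ hd)
      refine ⟨c + d, zspan_add hc hd, ?_, ?_⟩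
      · rw [e, Pi.add_apply, hc1, hd1, add_zero]
      · rw [e, hT.add _ m1 _ m2, hτ.add _ (hz _ m1 hc1) _ (hz _ m2 hd1), hc2, hd2]
    · rintro n a ha ⟨c, hc, hc1, hc2⟩
      have e : n • a - n • c = n • (a - c) := by rw [smul_sub]
      have m1 := zspan_sub ha (zspan_mono h₁ hc)
      refine ⟨n • c, zspan_smul n hc, ?_, ?_⟩
      · rw [e, zs_apply, hc1, mul_zero]
      · rw [e, hT.smul _ m1, hτ.smul _ (hz _ m1 hc1), hc2]
  intro α hα
  rw [mem_zspanOn_one] at hα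
  obtain ⟨β, hβ, hβ1, hβ2⟩ := key α hα.1
  have hβ0 : β 1 = 0 := by
    rw [Pi.sub_apply, hα.2, zero_sub, neg_eq_zero] at hβ1; exact hβ1
  have hβm : β ∈ zspanOn S₁ {1}ᶜ := (mem_zspanOn_one _ _).mpr ⟨hβ, hβ0⟩
  have e : α = (α - β) + β := by ring
  have m1 := zspan_sub hα.1 (zspan_mono h₁ hβ)
  rw [e, hT.add _ m1 _ (zspan_mono h₁ hβ), hτ.add _ (hz _ m1 hβ1) _ (zspanOn_mono h₁ hβm), hβ2, hag β hβm]

end glue

section bessel
variable {K : Type v} [Group K] [Fintype K]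

theorem bessel_orth_eq {ι : Type w} (s : Finset ι) (f : ι → K → ℂ) (n : ι → ℝ) (hn : ∀ i ∈ s, n i ≠ 0)
    (hnf : ∀ i ∈ s, classInner (f i) (f i) = n i) (ho : ∀ i ∈ s, ∀ j ∈ s, i ≠ j → classInner (f i) (f j) = 0) (ξ : K → ℂ) :
    classInner (ξ - ∑ i ∈ s, (classInner ξ (f i) / n i) • f i) (ξ - ∑ i ∈ s, (classInner ξ (f i) / n i) • f i) =
      classInner ξ ξ - ∑ i ∈ s, ((‖classInner ξ (f i)‖ ^ 2 / n i : ℝ) : ℂ) := by
  classical
  set P := ∑ i ∈ s, (classInner ξ (f i) / n i) • f i with hP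
  have h2 : ∀ j ∈ s, classInner P (f j) = classInner ξ (f j) := by
    intro j hj
    have hnj : (n j : ℂ) ≠ 0 := by exact_mod_cast hn j hj
    rw [hP, H5.classInner_sum_left, Finset.sum_eq_single j]
    · rw [H5.classInner_smul_left, hnf j hj, div_mul_cancel₀ _ hnj]
    · intro i hi hne
      rw [H5.classInner_smul_left, ho i hi j hj hne, mul_zero]
    · intro h'; exact absurd hj h'
  have h3 : classInner ξ P = ∑ i ∈ s, ((‖classInner ξ (f i)‖ ^ 2 / n i : ℝ) : ℂ) := by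
    rw [hP, H5.classInner_sum_right]
    apply Finset.sum_congr rfl; intro i _
    rw [H5.classInner_smul_right, map_div₀, Complex.conj_ofReal, div_mul_eq_mul_div, mul_comm, Complex.mul_conj, Complex.normSq_eq_norm_sq]
    push_cast; rfl
  have h4 : classInner P P = ∑ i ∈ s, ((‖classInner ξ (f i)‖ ^ 2 / n i : ℝ) : ℂ) := by
    conv_lhs => rw [hP]
    rw [← hP, H5.classInner_sum_left]
    apply Finset.sum_congr rfl; intro i hi
    rw [H5.classInner_smul_left, ← H5.classInner_conj_symm P (f i), h2 i hi, div_mul_eq_mul_div, Complex.mul_conj, Complex.normSq_eq_norm_sq]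
    push_cast; rfl
  have h5 : classInner P ξ = ∑ i ∈ s, ((‖classInner ξ (f i)‖ ^ 2 / n i : ℝ) : ℂ) := by
    rw [← H5.classInner_conj_symm, h3, map_sum]
    apply Finset.sum_congr rfl; intro i _
    exact Complex.conj_ofReal _
  rw [H5.classInner_sub_left, H5.classInner_sub_right, H5.classInner_sub_right, h3, h4, h5]
  ring

theorem inner_self_nonneg' (ξ : K → ℂ) : 0 ≤ (classInner ξ ξ).re := by
  have h := H5.classInner_self_re ξ
  rw [h, Complex.ofReal_re]; positivity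

theorem inner_self_eq_re (ξ : K → ℂ) : classInner ξ ξ = ((classInner ξ ξ).re : ℂ) := by
  have h := H5.classInner_self_re ξ
  rw [h, Complex.ofReal_re]

theorem bessel_orth_le {ι : Type w} (s : Finset ι) (f : ι → K → ℂ) (n : ι → ℝ) (hn : ∀ i ∈ s, n i ≠ 0)
    (hnf : ∀ i ∈ s, classInner (f i) (f i) = n i) (ho : ∀ i ∈ s, ∀ j ∈ s, i ≠ j → classInner (f i) (f j) = 0) (ξ : K → ℂ) :
    ∑ i ∈ s, ‖classInner ξ (f i)‖ ^ 2 / n i ≤ (classInner ξ ξ).re := by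
  have h2 := bessel_orth_eq s f n hn hnf ho ξ
  have h3 := congrArg Complex.re h2
  rw [Complex.sub_re, Complex.re_sum] at h3
  simp only [Complex.ofReal_re] at h3
  have h4 := inner_self_nonneg' (ξ - ∑ i ∈ s, (classInner ξ (f i) / n i) • f i)
  rw [h3] at h4
  linarith

theorem bessel_orth_equality {ι : Type w} (s : Finset ι) (f : ι → K → ℂ) (n : ι → ℝ) (hn : ∀ i ∈ s, n i ≠ 0)
    (hnf : ∀ i ∈ s, classInner (f i) (f i) = n i) (ho : ∀ i ∈ s, ∀ j ∈ s, i ≠ j → classInner (f i) (f j) = 0) (ξ : K → ℂ)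
    (hle : (classInner ξ ξ).re ≤ ∑ i ∈ s, ‖classInner ξ (f i)‖ ^ 2 / n i) :
    ξ = ∑ i ∈ s, (classInner ξ (f i) / n i) • f i := by
  have h2 := bessel_orth_eq s f n hn hnf ho ξ
  have h4 := bessel_orth_le s f n hn hnf ho ξ
  have h3 : classInner ξ ξ - ∑ i ∈ s, ((‖classInner ξ (f i)‖ ^ 2 / n i : ℝ) : ℂ) = 0 := by
    rw [inner_self_eq_re ξ, le_antisymm hle h4]
    push_cast; ring
  rw [h3] at h2
  exact sub_eq_zero.mp (H5.classInner_self_eq_zero h2)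

end bessel

section step
variable {L : Type u} [Group L] [Fintype L] {G : Type v} [Group G] [Fintype G] {τ : (L → ℂ) → (G → ℂ)}
variable {S : Set (L → ℂ)} {R : (L → ℂ) → Finset (G → ℂ)}

theorem cs_sub_of_proj (hS : IsCoherenceSystem S τ R) {χ : L → ℂ} (hχ : χ ∈ S) {ξ : G → ℂ} (hξ : IsGeneralizedCharacter G ξ)
    (h : classInner ξ (τ (χ - conjFun χ)) = classInner χ χ) (hle : ∑ α ∈ R χ, ‖classInner ξ α‖ ^ 2 ≤ (classInner χ χ).re) :
    ∃ A ⊆ R χ, ∑ α ∈ R χ, classInner ξ α • α = ∑ α ∈ A, α ∧ (A.card : ℂ) = classInner χ χ := by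
  classical
  have h1 := (cs_proj hS hχ hξ h).2 hle
  refine ⟨(R χ).filter (fun α => classInner ξ α = 1), Finset.filter_subset _ _, ?_, ?_⟩
  · rw [Finset.sum_filter]
    apply Finset.sum_congr rfl; intro α hα
    rcases h1.2 α hα with h | h
    · rw [h]; simp
    · rw [h]; simp
  · have h3 : ∑ α ∈ R χ, ‖classInner ξ α‖ ^ 2 = (((R χ).filter (fun α => classInner ξ α = 1)).card : ℝ) := by
      rw [Finset.card_filter]
      push_cast
      apply Finset.sum_congr rfl; intro α hα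
      rcases h1.2 α hα with h | h
      · rw [h]; simp
      · rw [h]; simp
    rw [h1.1] at h3
    rw [inner_self_eq_re χ, h3]
    simp

/-- the image of `φ` under any coherent extension is a partial sum of `R φ`. -/
theorem cs_coh_image (hS : IsCoherenceSystem S τ R) {φ : L → ℂ} (hφ : φ ∈ S) {ξ ξ' : G → ℂ} (hξ : IsGeneralizedCharacter G ξ)
    (hd : ξ - ξ' = τ (φ - conjFun φ)) (h1 : classInner ξ ξ = classInner φ φ) (h2 : classInner ξ ξ' = 0) :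
    ∃ A ⊆ R φ, ξ = ∑ α ∈ A, α := by
  have h : classInner ξ (τ (φ - conjFun φ)) = classInner φ φ := by
    rw [← hd, H5.classInner_sub_right, h1, h2, sub_zero]
  have hb := bessel_le (R φ) (fun α hα β hβ hne => cs_orth hS hφ hα hβ hne) (fun α hα => cs_one hS hφ hα) ξ
  rw [h1] at hb
  obtain ⟨A, hA, hA1, hA2⟩ := cs_sub_of_proj hS hφ hξ h hb
  refine ⟨A, hA, ?_⟩
  rw [← hA1]
  have h3 := (cs_proj hS hφ hξ h).1
  rw [← h1] at h3
  exact bessel_equality (R φ) (fun α hα β hβ hne => cs_orth hS hφ hα hβ hne) (fun α hα => cs_one hS hφ hα) ξ h3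

theorem char_deg_pos {χ : L → ℂ} (hχ : IsCharacter L χ) (h0 : classInner χ χ ≠ 0) : χ 1 ≠ 0 := by
  intro h
  have h1 : χ = 0 := by
    funext x
    have := IsChar.norm_le hχ x
    rw [h, norm_zero] at this
    exact norm_le_zero_iff.mp this
  exact h0 (by rw [h1, H5.classInner_zero_left])

theorem coherent_step (hS : IsCoherenceSystem S τ R) (d n : (L → ℂ) → ℕ) (hd : ∀ φ ∈ S, φ 1 = (d φ : ℂ))
    (hn : ∀ φ ∈ S, classInner φ φ = (n φ : ℂ)) (S₁ : Finset (L → ℂ)) (hS₁ : ↑S₁ ⊆ S) (hS₁c : ∀ φ ∈ S₁, conjFun φ ∈ S₁)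
    (hcoh : IsCoherent (↑S₁ : Set (L → ℂ)) {1}ᶜ τ) (χ : L → ℂ) (hχ : χ ∈ S) (hχ₁ : χ ∉ S₁) (hχ₂ : conjFun χ ∉ S₁)
    (χ₁ : L → ℂ) (hχ₁S : χ₁ ∈ S₁) (hdvd : d χ₁ ∣ d χ)
    (hineq : (2 * d χ * d χ₁ : ℝ) < ∑ φ ∈ S₁, ((d φ : ℝ) ^ 2 / (n φ : ℝ))) :
    IsCoherent (↑S₁ ∪ {χ, conjFun χ} : Set (L → ℂ)) {1}ᶜ τ := by
  classical
  obtain ⟨hne0, τ₁, hτ₁, hag⟩ := hcoh
  have hI := isoOn_span hτ₁
  have hiso := isoOn_zsub hS.isometry
  obtain ⟨a, ha⟩ := hdvd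
  have hmS : ∀ {φ}, φ ∈ S₁ → φ ∈ S := fun h => hS₁ h
  have hsp : ∀ {φ}, φ ∈ S₁ → φ ∈ zspan (↑S₁ : Set (L → ℂ)) := fun h => zspan_mem h
  have hn0 : ∀ φ ∈ S₁, (n φ : ℝ) ≠ 0 := by
    intro φ hφ h0
    have h1 := cs_ne_zero hS (hmS hφ)
    rw [hn φ (hmS hφ)] at h1
    exact h1 (by exact_mod_cast h0)
  have hd1 : (d χ₁ : ℂ) ≠ 0 := by
    rw [← hd χ₁ (hmS hχ₁S)]
    exact char_deg_pos (hS.isCharacter _ (hmS hχ₁S)) (cs_ne_zero hS (hmS hχ₁S))
  have hd1r : (d χ₁ : ℝ) ≠ 0 := by exact_mod_cast hd1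
  -- disjointness
  have hperp : ∀ φ ∈ S₁, ∀ α ∈ R χ, classInner (τ₁ φ) α = 0 := by
    intro φ hφ α hα
    have hφc := hS₁c φ hφ
    have hdiff : φ - conjFun φ ∈ zspanOn (↑S₁ : Set (L → ℂ)) {1}ᶜ := by
      rw [mem_zspanOn_one]
      exact ⟨zspan_sub (hsp hφ) (hsp hφc), by rw [Pi.sub_apply, degree_char_conj (hS.isCharacter _ (hmS hφ)), sub_self]⟩
    obtain ⟨A, hA, hA'⟩ := cs_coh_image hS (hmS hφ) (ξ := τ₁ φ) (ξ' := τ₁ (conjFun φ)) (hI.gen _ (hsp hφ))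
      (by rw [← hI.sub (hsp hφ) (hsp hφc), hag _ hdiff]) (hI.inner _ (hsp hφ) _ (hsp hφ))
      (by rw [hI.inner _ (hsp hφ) _ (hsp hφc), cs_inner_conj hS (hmS hφ)])
    rw [hA', H5.classInner_sum_left]
    apply Finset.sum_eq_zero; intro β hβ
    exact cs_disj hS hχ (hmS hφ) (fun h => hχ₁ (h ▸ hφ)) (fun h => hχ₂ (h ▸ hφ)) (hA hβ) hα
  have hχφ : ∀ φ ∈ S₁, classInner χ φ = 0 := fun φ hφ => hS.orthogonal χ hχ φ (hmS hφ) (fun h => hχ₁ (h ▸ hφ))
  have hχφ' : ∀ φ ∈ S₁, classInner (conjFun χ) φ = 0 := fun φ hφ =>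
    hS.orthogonal _ (hS.conj_mem χ hχ) φ (hmS hφ) (fun h => hχ₂ (h ▸ hφ))
  -- the vector ξ
  have hm1 : χ - (a : ℤ) • χ₁ ∈ zspanOn S {1}ᶜ := by
    rw [mem_zspanOn_one]
    refine ⟨zspan_sub (zspan_mem hχ) (zspan_smul _ (zspan_mem (hmS hχ₁S))), ?_⟩
    rw [Pi.sub_apply, zs_apply, hd χ hχ, hd χ₁ (hmS hχ₁S), ha]
    push_cast; ring
  set ξ := τ (χ - (a : ℤ) • χ₁) with hξ
  have hξgen : IsGeneralizedCharacter G ξ := hiso.gen _ hm1
  have hcm := cs_diff_mem hS hχ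
  have hχ₁ne : classInner χ χ₁ = 0 := hχφ χ₁ hχ₁S
  have hχ₁ne' : classInner χ₁ χ = 0 := by rw [← H5.classInner_conj_symm, hχ₁ne, map_zero]
  have hcχ₁ : classInner χ₁ (conjFun χ) = 0 := by rw [← H5.classInner_conj_symm, hχφ' χ₁ hχ₁S, map_zero]
  have hξχ : classInner ξ (τ (χ - conjFun χ)) = classInner χ χ := by
    rw [hξ, hiso.inner _ hm1 _ hcm, zs_eq, H5.classInner_sub_left, H5.classInner_sub_right, H5.classInner_sub_right,
      H5.classInner_smul_left, H5.classInner_smul_left, cs_inner_conj hS hχ, hχ₁ne', hcχ₁]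
    ring
  have hξn : classInner ξ ξ = (n χ : ℂ) + (a : ℂ) ^ 2 * n χ₁ := by
    rw [hξ, hiso.inner _ hm1 _ hm1, zs_eq, H5.classInner_sub_left, H5.classInner_sub_right, H5.classInner_sub_right,
      H5.classInner_smul_left, H5.classInner_smul_left, H5.classInner_smul_right, H5.classInner_smul_right, hχ₁ne, hχ₁ne', hn χ hχ, hn χ₁ (hmS hχ₁S)]
    simp
    ring
  have hp := cs_proj hS hχ hξgen hξχ
  -- the values against τ₁ φ
  obtain ⟨k, hk⟩ := gen_gen_int hξgen (hI.gen _ (hsp hχ₁S))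
  set m : ℝ := -k - a * n χ₁ with hm
  have hu : ∀ φ ∈ S₁, classInner ξ (τ₁ φ) = -((d φ * m / d χ₁ + (if φ = χ₁ then (a : ℝ) * n χ₁ else 0) : ℝ) : ℂ) := by
    intro φ hφ
    have hb : (d φ : ℤ) • χ₁ - (d χ₁ : ℤ) • φ ∈ zspanOn (↑S₁ : Set (L → ℂ)) {1}ᶜ := by
      rw [mem_zspanOn_one]
      refine ⟨zspan_sub (zspan_smul _ (hsp hχ₁S)) (zspan_smul _ (hsp hφ)), ?_⟩
      rw [Pi.sub_apply, zs_apply, zs_apply, hd φ (hmS hφ), hd χ₁ (hmS hχ₁S)]
      push_cast; ring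
    have e1 : classInner ξ (τ ((d φ : ℤ) • χ₁ - (d χ₁ : ℤ) • φ)) = -(a : ℂ) * d φ * n χ₁ + a * d χ₁ * classInner χ₁ φ := by
      rw [hξ, hiso.inner _ hm1 _ (zspanOn_mono hS₁ hb), zs_eq, zs_eq, zs_eq, H5.classInner_sub_left, H5.classInner_sub_right, H5.classInner_sub_right]
      simp only [H5.classInner_smul_left, H5.classInner_smul_right]
      rw [hχ₁ne, hχφ φ hφ, hn χ₁ (hmS hχ₁S)]
      simp
      ring
    have e2 : classInner ξ (τ ((d φ : ℤ) • χ₁ - (d χ₁ : ℤ) • φ)) = d φ * k - d χ₁ * classInner ξ (τ₁ φ) := by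
      rw [← hag _ hb, hI.sub (zspan_smul _ (hsp hχ₁S)) (zspan_smul _ (hsp hφ)), hI.smul _ (hsp hχ₁S), hI.smul _ (hsp hφ), zs_eq, zs_eq,
        H5.classInner_sub_right, H5.classInner_smul_right, H5.classInner_smul_right, hk]
      simp
    have e3 : classInner χ₁ φ = if φ = χ₁ then (n χ₁ : ℂ) else 0 := by
      split_ifs with h
      · rw [h, hn χ₁ (hmS hχ₁S)]
      · exact hS.orthogonal χ₁ (hmS hχ₁S) φ (hmS hφ) (Ne.symm h)
    rw [e2, e3] at e1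
    have e4 : (d χ₁ : ℂ) * classInner ξ (τ₁ φ) = d χ₁ * (-((d φ * m / d χ₁ + (if φ = χ₁ then (a : ℝ) * n χ₁ else 0) : ℝ) : ℂ)) := by
      rw [hm]
      split_ifs at e1 ⊢ with h
      · rw [h, hk]
        push_cast
        field_simp
        ring
      · push_cast
        field_simp
        linear_combination -e1
    exact mul_left_cancel₀ hd1 e4
  -- projection
  set X := ∑ α ∈ R χ, classInner ξ α • α with hX
  have hXperp : ∀ φ ∈ S₁, classInner X (τ₁ φ) = 0 := by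
    intro φ hφ
    rw [hX, H5.classInner_sum_left]
    apply Finset.sum_eq_zero; intro α hα
    rw [H5.classInner_smul_left, ← H5.classInner_conj_symm (τ₁ φ) α, hperp φ hφ α hα, map_zero, mul_zero]
  have hξX : ∀ φ ∈ S₁, classInner (ξ - X) (τ₁ φ) = classInner ξ (τ₁ φ) := by
    intro φ hφ
    rw [H5.classInner_sub_left, hXperp φ hφ, sub_zero]
  have hbes := bessel_eq (R χ) (fun α hα β hβ hne => cs_orth hS hχ hα hβ hne) (fun α hα => cs_one hS hχ hα) ξ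
  rw [← hX] at hbes
  have hbre : (classInner (ξ - X) (ξ - X)).re = (n χ : ℝ) + (a : ℝ) ^ 2 * n χ₁ - ∑ α ∈ R χ, ‖classInner ξ α‖ ^ 2 := by
    have := congrArg Complex.re hbes
    rw [hξn, Complex.sub_re, Complex.re_sum] at this
    simp only [Complex.ofReal_re] at this
    rw [this]
    congr 1
    have h9 : ((n χ : ℂ) + (a : ℂ) ^ 2 * n χ₁) = ((n χ + (a : ℝ) ^ 2 * n χ₁ : ℝ) : ℂ) := by push_cast; rfl
    rw [h9, Complex.ofReal_re]
  have hp1 : (n χ : ℝ) ≤ ∑ α ∈ R χ, ‖classInner ξ α‖ ^ 2 := by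
    have := hp.1
    rw [hn χ hχ] at this
    simpa using this
  have horth1 : ∀ i ∈ S₁, ∀ j ∈ S₁, i ≠ j → classInner (τ₁ i) (τ₁ j) = 0 := by
    intro i hi j hj hne
    rw [hI.inner _ (hsp hi) _ (hsp hj)]
    exact hS.orthogonal i (hmS hi) j (hmS hj) hne
  have hnorm1 : ∀ i ∈ S₁, classInner (τ₁ i) (τ₁ i) = ((n i : ℝ) : ℂ) := by
    intro i hi
    rw [hI.inner _ (hsp hi) _ (hsp hi), hn i (hmS hi)]; simp
  have hle := bessel_orth_le S₁ τ₁ (fun i => (n i : ℝ)) hn0 hnorm1 horth1 (ξ - X)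
  -- compute the sum
  have hsum : ∑ φ ∈ S₁, ‖classInner (ξ - X) (τ₁ φ)‖ ^ 2 / (n φ : ℝ) =
      (m / d χ₁) ^ 2 * ∑ φ ∈ S₁, ((d φ : ℝ) ^ 2 / (n φ : ℝ)) + 2 * a * m + a ^ 2 * n χ₁ := by
    have h1 : ∀ φ ∈ S₁, ‖classInner (ξ - X) (τ₁ φ)‖ ^ 2 / (n φ : ℝ) = (m / d χ₁) ^ 2 * ((d φ : ℝ) ^ 2 / (n φ : ℝ)) +
        (if φ = χ₁ then 2 * a * m + a ^ 2 * n χ₁ else 0) := by
      intro φ hφ
      have hnφ := hn0 φ hφ
      rw [hξX φ hφ, hu φ hφ, norm_neg, Complex.norm_real, Real.norm_eq_abs, sq_abs]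
      split_ifs with h
      · rw [h] at hnφ ⊢
        field_simp
        ring
      · rw [add_zero, add_zero]
        field_simp
    rw [Finset.sum_congr rfl h1, Finset.sum_add_distrib, ← Finset.mul_sum, Finset.sum_ite_eq' S₁ χ₁, if_pos hχ₁S]
    ring
  rw [hsum, hbre] at hle
  have hmz : m = 0 := by
    by_contra hm0
    have hmi : ∃ z : ℤ, m = z := ⟨-k - a * n χ₁, by rw [hm]; push_cast; ring⟩
    obtain ⟨z, hz⟩ := hmi
    have hz0 : z ≠ 0 := by rintro rfl; exact hm0 (by rw [hz]; simp)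
    have hz1 : (1 : ℝ) ≤ |m| := by
      rw [hz]; exact_mod_cast Int.one_le_abs hz0
    have h1 : (m / d χ₁) ^ 2 * ∑ φ ∈ S₁, ((d φ : ℝ) ^ 2 / (n φ : ℝ)) + 2 * a * m ≤ 0 := by linarith
    have h2 : 0 < (m / d χ₁) ^ 2 := by positivity
    have h3 : (m / d χ₁) ^ 2 * (2 * d χ * d χ₁ : ℝ) < (m / d χ₁) ^ 2 * ∑ φ ∈ S₁, ((d φ : ℝ) ^ 2 / (n φ : ℝ)) :=
      mul_lt_mul_of_pos_left hineq h2
    have h4 : (m / d χ₁) ^ 2 * (2 * d χ * d χ₁ : ℝ) = 2 * a * m ^ 2 := by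
      rw [ha]; push_cast; field_simp
    have h5 : -m ≤ m ^ 2 := by
      have : -m ≤ |m| := neg_le_abs m
      have h6 : |m| ≤ |m| ^ 2 := by nlinarith
      rw [sq_abs] at h6
      linarith
    have h6 : (0 : ℝ) ≤ a := Nat.cast_nonneg a
    nlinarith
  rw [hmz] at hle
  have hsumα : ∑ α ∈ R χ, ‖classInner ξ α‖ ^ 2 ≤ (classInner χ χ).re := by
    rw [hn χ hχ]
    have : (∑ α ∈ R χ, ‖classInner ξ α‖ ^ 2 : ℝ) ≤ n χ := by
      simp at hle
      linarith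
    simpa using this
  obtain ⟨A, hA, hXA, hAc⟩ := cs_sub_of_proj hS hχ hξgen hξχ hsumα
  rw [← hX] at hXA
  -- ξ - X = - a τ₁ χ₁
  have hfin : ξ - X = -((a : ℂ) • τ₁ χ₁) := by
    have h1 := bessel_orth_equality S₁ τ₁ (fun i => (n i : ℝ)) hn0 hnorm1 horth1 (ξ - X) (by
      rw [hsum, hbre, hmz]
      simp
      linarith)
    rw [h1, Finset.sum_eq_single χ₁]
    · rw [hξX χ₁ hχ₁S, hu χ₁ hχ₁S, hmz, if_pos rfl]
      have h9 : (n χ₁ : ℂ) ≠ 0 := by exact_mod_cast hn0 χ₁ hχ₁S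
      rw [← neg_smul]
      congr 1
      push_cast
      field_simp
      ring
    · intro φ hφ hne
      rw [hξX φ hφ, hu φ hφ, hmz, if_neg hne]
      simp
    · intro h; exact absurd hχ₁S h
  -- the extension
  have hcne : conjFun χ ≠ χ := hS.conj_ne χ hχ
  let F : Finset (L → ℂ) := insert χ (insert (conjFun χ) S₁)
  have hF : (F : Set (L → ℂ)) = ↑S₁ ∪ {χ, conjFun χ} := by
    ext φ
    simp only [F, Finset.coe_insert, Set.mem_insert_iff, Finset.mem_coe, Set.mem_union, Set.mem_singleton_iff]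
    tauto
  have hFS : ∀ φ ∈ F, φ ∈ S := by
    intro φ hφ
    simp only [F, Finset.mem_insert] at hφ
    rcases hφ with rfl | rfl | h
    · exact hχ
    · exact hS.conj_mem χ hχ
    · exact hmS h
  let T : (L → ℂ) → (G → ℂ) := fun φ => if φ = χ then X else if φ = conjFun χ then X - ∑ α ∈ R χ, α else τ₁ φ
  have hTχ : T χ = X := if_pos rfl
  have hTc : T (conjFun χ) = X - ∑ α ∈ R χ, α := by
    show (if conjFun χ = χ then X else if conjFun χ = conjFun χ then X - ∑ α ∈ R χ, α else τ₁ _) = _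
    rw [if_neg hcne, if_pos rfl]
  have hT1 : ∀ φ ∈ S₁, T φ = τ₁ φ := by
    intro φ hφ
    have n1 : φ ≠ χ := fun h => hχ₁ (h ▸ hφ)
    have n2 : φ ≠ conjFun χ := fun h => hχ₂ (h ▸ hφ)
    show (if φ = χ then X else if φ = conjFun χ then X - ∑ α ∈ R χ, α else τ₁ φ) = _
    rw [if_neg n1, if_neg n2]
  have iXX : classInner X X = classInner χ χ := by
    rw [hXA, cs_sub_inner hS hχ hA hA, Finset.inter_self, hAc]
  have iXR : classInner X (∑ α ∈ R χ, α) = classInner χ χ := by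
    rw [hXA, cs_sub_inner hS hχ hA (le_refl _), Finset.inter_eq_left.mpr hA, hAc]
  have iRX : classInner (∑ α ∈ R χ, α) X = classInner χ χ := by
    rw [hXA, cs_sub_inner hS hχ (le_refl _) hA, Finset.inter_eq_right.mpr hA, hAc]
  have iRR : classInner (∑ α ∈ R χ, α) (∑ α ∈ R χ, α) = 2 * classInner χ χ := by
    rw [cs_sub_inner hS hχ (le_refl _) (le_refl _), Finset.inter_self, cs_card hS hχ]
  have iRτ : ∀ φ ∈ S₁, classInner (∑ α ∈ R χ, α) (τ₁ φ) = 0 := by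
    intro φ hφ
    rw [H5.classInner_sum_left]
    apply Finset.sum_eq_zero; intro α hα
    rw [← H5.classInner_conj_symm, hperp φ hφ α hα, map_zero]
  have horth : ∀ φ ∈ F, ∀ ψ ∈ F, φ ≠ ψ → classInner φ ψ = 0 := fun φ hφ ψ hψ h => hS.orthogonal φ (hFS φ hφ) ψ (hFS ψ hψ) h
  have hne : ∀ φ ∈ F, classInner φ φ ≠ 0 := fun φ hφ => cs_ne_zero hS (hFS φ hφ)
  have hTχφ : ∀ φ ∈ S₁, classInner (T χ) (T φ) = classInner χ φ := by
    intro φ hφ
    rw [hTχ, hT1 φ hφ, hXperp φ hφ, hχφ φ hφ]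
  have hTcφ : ∀ φ ∈ S₁, classInner (T (conjFun χ)) (T φ) = classInner (conjFun χ) φ := by
    intro φ hφ
    rw [hTc, hT1 φ hφ, H5.classInner_sub_left, hXperp φ hφ, iRτ φ hφ, hχφ' φ hφ, sub_zero]
  have hT : ∀ φ ∈ F, ∀ ψ ∈ F, classInner (T φ) (T ψ) = classInner φ ψ := by
    intro φ hφ ψ hψ
    simp only [F, Finset.mem_insert] at hφ hψ
    rcases hφ with rfl | rfl | hφ <;> rcases hψ with rfl | rfl | hψ
    · rw [hTχ, iXX]
    · rw [hTχ, hTc, H5.classInner_sub_right, iXX, iXR, cs_inner_conj hS hχ, sub_self]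
    · exact hTχφ ψ hψ
    · rw [hTχ, hTc, H5.classInner_sub_left, iXX, iRX, cs_conj_inner hS hχ, sub_self]
    · rw [hTc, H5.classInner_sub_left, H5.classInner_sub_right, H5.classInner_sub_right, iXX, iXR, iRX, iRR, cs_conj_norm]
      ring
    · exact hTcφ ψ hψ
    · rw [← H5.classInner_conj_symm, hTχφ φ hφ, H5.classInner_conj_symm]
    · rw [← H5.classInner_conj_symm, hTcφ φ hφ, H5.classInner_conj_symm]
    · rw [hT1 φ hφ, hT1 ψ hψ, hI.inner _ (hsp hφ) _ (hsp hψ)]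
  have hXgen : IsGeneralizedCharacter G X := by
    rw [hXA]; exact gen_sum A (fun α hα => hS.virtual χ hχ α (hA hα))
  have hgen : ∀ φ ∈ F, IsGeneralizedCharacter G (T φ) := by
    intro φ hφ
    simp only [F, Finset.mem_insert] at hφ
    rcases hφ with rfl | rfl | hφ
    · rw [hTχ]; exact hXgen
    · rw [hTc]; exact H5.isGeneralized_sub hXgen (gen_sum _ (fun α hα => hS.virtual χ hχ α hα))
    · rw [hT1 φ hφ]; exact hI.gen _ (hsp hφ)
  have hbuild := coh_build F T horth hne hT hgen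
  have hFI := isoOn_span hbuild
  have hTa : ∀ φ ∈ F, orthExt F T φ = T φ := fun φ hφ => orthExt_apply F T horth hne hφ
  have hS₁F : (↑S₁ : Set (L → ℂ)) ⊆ ↑F := by rw [hF]; exact Set.subset_union_left
  refine ⟨?_, orthExt F T, ?_, ?_⟩
  · obtain ⟨α, hα, hα0⟩ := hne0
    refine ⟨α, zspanOn_mono ?_ hα, hα0⟩
    exact Set.subset_union_left
  · rw [← hF]; exact hbuild
  · rw [← hF]
    have hFset : (F : Set (L → ℂ)) ⊆ S := fun φ hφ => hFS φ hφ
    have hisoF : IsoOn (zsubOn (F : Set (L → ℂ)) {1}ᶜ) τ := hiso.mono (fun α hα => zspanOn_mono hFset hα)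
    have hag1 : ∀ α ∈ zspan (↑S₁ : Set (L → ℂ)), orthExt F T α = τ₁ α := by
      intro α hα
      refine zspan_induction (S := (↑S₁ : Set (L → ℂ))) (p := fun α => orthExt F T α = τ₁ α) ?_ ?_ ?_ ?_ hα
      · intro b hb
        rw [hTa b (hS₁F hb), hT1 b hb]
      · rw [hFI.zero, hI.zero]
      · intro b c hb hc h1 h2
        rw [orthExt_add, h1, h2, hI.add _ hb _ hc]
      · intro z b hb h1
        rw [orthExt_smul, h1, hI.smul _ hb]
    have hχF : χ ∈ F := by simp [F]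
    have hcF : conjFun χ ∈ F := by simp [F]
    have hχ₁F : χ₁ ∈ F := hS₁F hχ₁S
    have hT1a : orthExt F T (χ - (a : ℤ) • χ₁) = ξ := by
      rw [hFI.sub (Submodule.subset_span hχF) (Submodule.smul_mem _ _ (Submodule.subset_span hχ₁F)), orthExt_smul, hTa _ hχF, hTa _ hχ₁F, hTχ,
        hT1 χ₁ hχ₁S]
      have := hfin
      rw [zs_eq]
      have h9 : ξ = X - (a : ℂ) • τ₁ χ₁ := by
        rw [sub_eq_iff_eq_add] at this
        rw [this]; ring
      rw [h9]; simp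
    apply glue hS₁F hisoF hFI
    · intro α hα
      rw [hag1 α hα.1, hag α hα]
    · intro φ hφ hφ1
      have hφ' : φ ∈ F := hφ
      simp only [F, Finset.mem_insert] at hφ'
      refine ⟨(a : ℤ) • χ₁, zspan_smul _ (hsp hχ₁S), ?_⟩
      rcases hφ' with rfl | rfl | hφ'
      · exact ⟨((mem_zspanOn_one _ _).mp hm1).2, hT1a⟩
      · have e : conjFun χ - (a : ℤ) • χ₁ = (χ - (a : ℤ) • χ₁) - (χ - conjFun χ) := by ring
        refine ⟨?_, ?_⟩
        · rw [e, Pi.sub_apply, ((mem_zspanOn_one _ _).mp hm1).2, ((mem_zspanOn_one _ _).mp hcm).2, sub_zero]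
        · rw [e, hiso.sub hm1 hcm, ← hξ, hS.sum_eq χ hχ]
          have hs1 : χ - (a : ℤ) • χ₁ ∈ Submodule.span ℤ (F : Set (L → ℂ)) :=
            Submodule.sub_mem _ (Submodule.subset_span hχF) (Submodule.smul_mem _ _ (Submodule.subset_span hχ₁F))
          have hs2 : χ - conjFun χ ∈ Submodule.span ℤ (F : Set (L → ℂ)) :=
            Submodule.sub_mem _ (Submodule.subset_span hχF) (Submodule.subset_span hcF)
          rw [hFI.sub hs1 hs2, hT1a, hFI.sub (Submodule.subset_span hχF) (Submodule.subset_span hcF), hTa _ hχF, hTa _ hcF, hTχ, hTc]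
          ring
      · exact absurd hφ' hφ1

end step

end Cfsg.Agent.H4
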