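import Cfsg.Agent.H4.Coh4
import Cfsg.Agent.H4.Odd1
import Cfsg.Agent.H4.Clifford1

set_option linter.all false
set_option autoImplicit false

/-! Coherence: sets of irreducible characters. -/

namespace Cfsg.Agent.H4

open Module
open scoped ComplexConjugate Pointwise

universe u v w

section irr
variable {L : Type u} [Group L] [Fintype L] {G : Type v} [Group G] [Fintype G]

theorem ii_self {χ : L → ℂ} (hχ : IsIrrCharacter L χ) : classInner χ χ = 1 := by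
  rw [inner_irr_eq hχ hχ, if_pos rfl]

theorem ii_ne {χ ψ : L → ℂ} (hχ : IsIrrCharacter L χ) (hψ : IsIrrCharacter L ψ) (h : χ ≠ ψ) : classInner χ ψ = 0 := by
  rw [inner_irr_eq hχ hψ, if_neg h]

theorem orthExt_agree {F : Finset (L → ℂ)} {T τ₁ : (L → ℂ) → (G → ℂ)} (horth : ∀ φ ∈ F, ∀ ψ ∈ F, φ ≠ ψ → classInner φ ψ = 0)
    (hne : ∀ φ ∈ F, classInner φ φ ≠ 0) (hT : ∀ φ ∈ F, ∀ ψ ∈ F, classInner (T φ) (T ψ) = classInner φ ψ)
    (hgen : ∀ φ ∈ F, IsGeneralizedCharacter G (T φ)) {S₁ : Set (L → ℂ)} (hS₁ : S₁ ⊆ (F : Set (L → ℂ)))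
    (hI : IsoOn (Submodule.span ℤ S₁) τ₁) (hT1 : ∀ φ ∈ S₁, T φ = τ₁ φ) : ∀ α ∈ zspan S₁, orthExt F T α = τ₁ α := by
  intro α hα
  have hFI := isoOn_span (coh_build F T horth hne hT hgen)
  refine zspan_induction (S := S₁) (p := fun α => orthExt F T α = τ₁ α) ?_ ?_ ?_ ?_ hα
  · intro b hb
    rw [orthExt_apply F T horth hne (hS₁ hb), hT1 b hb]
  · rw [hFI.zero, hI.zero]
  · intro b c hb hc h1 h2
    rw [orthExt_add, h1, h2, hI.add _ hb _ hc]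
  · intro z b hb h1
    rw [orthExt_smul, h1, hI.smul _ hb]

/-- S1530. -/
theorem coherent_step_irr (S₀ : Finset (L → ℂ)) (χ : L → ℂ) (hirr : ∀ ξ ∈ S₀, IsIrrCharacter L ξ) (hχ : IsIrrCharacter L χ)
    [DecidableEq (L → ℂ)]
    (hχS : χ ∉ S₀) (d : (L → ℂ) → ℕ) (hd : ∀ ξ ∈ insert χ S₀, ξ 1 = (d ξ : ℂ)) (τ : (L → ℂ) → (G → ℂ))
    (hτ : IsLinearIsometryOn (zspanOn (↑(insert χ S₀) : Set (L → ℂ)) {1}ᶜ) τ)
    (hτ1 : ∀ α ∈ zspanOn (↑(insert χ S₀) : Set (L → ℂ)) {1}ᶜ, τ α 1 = 0)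
    (hcoh : IsCoherent (↑S₀ : Set (L → ℂ)) {1}ᶜ τ) (ψ : L → ℂ) (hψ : ψ ∈ S₀) (hdvd : d ψ ∣ d χ)
    (hlt : 2 * d ψ * d χ < ∑ ξ ∈ S₀, d ξ ^ 2) : IsCoherent (↑(insert χ S₀) : Set (L → ℂ)) {1}ᶜ τ := by
  obtain ⟨hne0, τ₁, hτ₁, hag⟩ := hcoh
  have hI := isoOn_span hτ₁
  have hiso := isoOn_zsub hτ
  obtain ⟨a, ha⟩ := hdvd
  have hS₀F : (↑S₀ : Set (L → ℂ)) ⊆ ↑(insert χ S₀) := by
    rw [Finset.coe_insert]; exact Set.subset_insert _ _
  have hχF : χ ∈ insert χ S₀ := Finset.mem_insert_self _ _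
  have hmF : ∀ {φ}, φ ∈ S₀ → φ ∈ insert χ S₀ := fun h => Finset.mem_insert_of_mem h
  have hsp : ∀ {φ}, φ ∈ S₀ → φ ∈ zspan (↑S₀ : Set (L → ℂ)) := fun h => zspan_mem h
  have hirrF : ∀ φ ∈ insert χ S₀, IsIrrCharacter L φ := by
    intro φ hφ
    rcases Finset.mem_insert.mp hφ with rfl | h
    · exact hχ
    · exact hirr φ h
  have hd0 : ∀ φ ∈ insert χ S₀, 0 < d φ := by
    intro φ hφ
    rcases Nat.eq_zero_or_pos (d φ) with h | h
    · exact absurd (by rw [hd φ hφ, h]; simp) (IsIrr.degree_ne_zero (hirrF φ hφ))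
    · exact h
  have hψ0 : 0 < d ψ := hd0 ψ (hmF hψ)
  have hψc : (d ψ : ℂ) ≠ 0 := by exact_mod_cast hψ0.ne'
  have hψr : (d ψ : ℝ) ≠ 0 := by exact_mod_cast hψ0.ne'
  have ha0 : 0 < a := by
    rcases Nat.eq_zero_or_pos a with h | h
    · rw [h, mul_zero] at ha; exact absurd ha (hd0 χ hχF).ne'
    · exact h
  have hne1 : ∀ φ ∈ S₀, χ ≠ φ := fun φ hφ h => hχS (h ▸ hφ)
  have hm1 : χ - (a : ℤ) • ψ ∈ zspanOn (↑(insert χ S₀) : Set (L → ℂ)) {1}ᶜ := by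
    rw [mem_zspanOn_one]
    refine ⟨zspan_sub (zspan_mem hχF) (zspan_smul _ (zspan_mem (hmF hψ))), ?_⟩
    rw [Pi.sub_apply, zs_apply, hd χ hχF, hd ψ (hmF hψ), ha]
    push_cast; ring
  set β := τ (χ - (a : ℤ) • ψ) with hβ
  have hβgen : IsGeneralizedCharacter G β := hiso.gen _ hm1
  have i1 : classInner χ ψ = 0 := ii_ne hχ (hirr ψ hψ) (hne1 ψ hψ)
  have i2 : classInner ψ χ = 0 := ii_ne (hirr ψ hψ) hχ (hne1 ψ hψ).symm
  have hβn : classInner β β = 1 + (a : ℂ) ^ 2 := by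
    rw [hβ, hiso.inner _ hm1 _ hm1, zs_eq, H5.classInner_sub_left, H5.classInner_sub_right, H5.classInner_sub_right,
      H5.classInner_smul_left, H5.classInner_smul_left, H5.classInner_smul_right, H5.classInner_smul_right, i1, i2, ii_self hχ, ii_self (hirr ψ hψ)]
    simp
    ring
  obtain ⟨k, hk⟩ := gen_gen_int hβgen (hI.gen _ (hsp hψ))
  have hu : ∀ φ ∈ S₀, classInner β (τ₁ φ) = -((d φ * (-k - a) / d ψ + (if φ = ψ then (a : ℝ) else 0) : ℝ) : ℂ) := by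
    intro φ hφ
    have hb : (d φ : ℤ) • ψ - (d ψ : ℤ) • φ ∈ zspanOn (↑S₀ : Set (L → ℂ)) {1}ᶜ := by
      rw [mem_zspanOn_one]
      refine ⟨zspan_sub (zspan_smul _ (hsp hψ)) (zspan_smul _ (hsp hφ)), ?_⟩
      rw [Pi.sub_apply, zs_apply, zs_apply, hd φ (hmF hφ), hd ψ (hmF hψ)]
      push_cast; ring
    have e1 : classInner β (τ ((d φ : ℤ) • ψ - (d ψ : ℤ) • φ)) = -(a : ℂ) * d φ + a * d ψ * classInner ψ φ := by
      rw [hβ, hiso.inner _ hm1 _ (zspanOn_mono hS₀F hb), zs_eq, zs_eq, zs_eq, H5.classInner_sub_left, H5.classInner_sub_right, H5.classInner_sub_right]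
      simp only [H5.classInner_smul_left, H5.classInner_smul_right]
      rw [i1, ii_ne hχ (hirr φ hφ) (hne1 φ hφ), ii_self (hirr ψ hψ)]
      simp
      ring
    have e2 : classInner β (τ ((d φ : ℤ) • ψ - (d ψ : ℤ) • φ)) = d φ * k - d ψ * classInner β (τ₁ φ) := by
      rw [← hag _ hb, hI.sub (zspan_smul _ (hsp hψ)) (zspan_smul _ (hsp hφ)), hI.smul _ (hsp hψ), hI.smul _ (hsp hφ), zs_eq, zs_eq,
        H5.classInner_sub_right, H5.classInner_smul_right, H5.classInner_smul_right, hk]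
      simp
    have e3 : classInner ψ φ = if φ = ψ then (1 : ℂ) else 0 := by
      split_ifs with h
      · rw [h, ii_self (hirr ψ hψ)]
      · exact ii_ne (hirr ψ hψ) (hirr φ hφ) (Ne.symm h)
    rw [e2, e3] at e1
    have e4 : (d ψ : ℂ) * classInner β (τ₁ φ) = d ψ * (-((d φ * (-k - a) / d ψ + (if φ = ψ then (a : ℝ) else 0) : ℝ) : ℂ)) := by
      split_ifs at e1 ⊢ with h
      · rw [h, hk]
        push_cast
        field_simp
        ring
      · push_cast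
        field_simp
        linear_combination -e1
    exact mul_left_cancel₀ hψc e4
  set m : ℝ := -k - a with hm
  have horth1 : ∀ i ∈ S₀, ∀ j ∈ S₀, i ≠ j → classInner (τ₁ i) (τ₁ j) = 0 := by
    intro i hi j hj hne
    rw [hI.inner _ (hsp hi) _ (hsp hj)]
    exact ii_ne (hirr i hi) (hirr j hj) hne
  have hnorm1 : ∀ i ∈ S₀, classInner (τ₁ i) (τ₁ i) = (((1 : ℝ)) : ℂ) := by
    intro i hi
    rw [hI.inner _ (hsp hi) _ (hsp hi), ii_self (hirr i hi)]; simp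
  have hn0 : ∀ i ∈ S₀, (1 : ℝ) ≠ 0 := fun _ _ => one_ne_zero
  have hle := bessel_orth_le S₀ τ₁ (fun i => (1 : ℝ)) hn0 hnorm1 horth1 β
  have heq := bessel_orth_eq S₀ τ₁ (fun i => (1 : ℝ)) hn0 hnorm1 horth1 β
  have hsum : ∑ φ ∈ S₀, ‖classInner β (τ₁ φ)‖ ^ 2 / (1 : ℝ) =
      (m / d ψ) ^ 2 * ∑ φ ∈ S₀, (d φ : ℝ) ^ 2 + 2 * a * m + a ^ 2 := by
    have h1 : ∀ φ ∈ S₀, ‖classInner β (τ₁ φ)‖ ^ 2 / (1 : ℝ) = (m / d ψ) ^ 2 * (d φ : ℝ) ^ 2 +
        (if φ = ψ then 2 * a * m + a ^ 2 else 0) := by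
      intro φ hφ
      rw [hu φ hφ, norm_neg, Complex.norm_real, Real.norm_eq_abs, sq_abs]
      split_ifs with h
      · rw [h]
        field_simp
        ring
      · rw [add_zero, add_zero]
        field_simp
    rw [Finset.sum_congr rfl h1, Finset.sum_add_distrib, ← Finset.mul_sum, Finset.sum_ite_eq' S₀ ψ, if_pos hψ]
    ring
  have hβre : (classInner β β).re = 1 + (a : ℝ) ^ 2 := by
    rw [hβn]
    have h9 : (1 + (a : ℂ) ^ 2) = ((1 + (a : ℝ) ^ 2 : ℝ) : ℂ) := by push_cast; rfl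
    rw [h9, Complex.ofReal_re]
  rw [hsum, hβre] at hle
  have hltR : (2 * d ψ * d χ : ℝ) < ∑ ξ ∈ S₀, (d ξ : ℝ) ^ 2 := by exact_mod_cast hlt
  have har : (1 : ℝ) ≤ a := by exact_mod_cast ha0
  set Z := β - ∑ φ ∈ S₀, (classInner β (τ₁ φ) / (1 : ℝ)) • τ₁ φ with hZ
  have hZgen : IsGeneralizedCharacter G Z := by
    have : ∑ φ ∈ S₀, (classInner β (τ₁ φ) / (1 : ℝ)) • τ₁ φ = ∑ φ ∈ S₀, (Classical.choose (show ∃ z : ℤ, φ ∈ S₀ → classInner β (τ₁ φ) = z from by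
        by_cases h : φ ∈ S₀
        · obtain ⟨z, hz⟩ := gen_gen_int hβgen (hI.gen _ (hsp h)); exact ⟨z, fun _ => hz⟩
        · exact ⟨0, fun h' => absurd h' h⟩)) • τ₁ φ := by
      apply Finset.sum_congr rfl; intro φ hφ
      have hch := Classical.choose_spec (show ∃ z : ℤ, φ ∈ S₀ → classInner β (τ₁ φ) = z from by
        by_cases h : φ ∈ S₀
        · obtain ⟨z, hz⟩ := gen_gen_int hβgen (hI.gen _ (hsp h)); exact ⟨z, fun _ => hz⟩
        · exact ⟨0, fun h' => absurd h' h⟩) hφ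
      conv_lhs => rw [hch]
      rw [zs_eq]; simp
    rw [hZ, this]
    apply H5.isGeneralized_sub hβgen
    have hg : ∀ (s : Finset (L → ℂ)) (c : (L → ℂ) → ℤ), s ⊆ S₀ → IsGeneralizedCharacter G (∑ φ ∈ s, c φ • τ₁ φ) := by
      intro s c
      induction s using Finset.induction_on with
      | empty => intro _; rw [Finset.sum_empty]; exact gen_zero
      | insert b s hb ih =>
        intro hs
        rw [Finset.sum_insert hb]
        exact H5.isGeneralized_add (gen_zsmul _ (hI.gen _ (hsp (hs (Finset.mem_insert_self _ _))))) (ih (fun x hx => hs (Finset.mem_insert_of_mem hx)))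
    exact hg S₀ _ (le_refl _)
  have hZn : classInner Z Z = ((1 - ((m / d ψ) ^ 2 * ∑ φ ∈ S₀, (d φ : ℝ) ^ 2 + 2 * a * m) : ℝ) : ℂ) := by
    rw [hZ, heq, ← Complex.ofReal_sum, hsum, hβn]
    push_cast; ring
  have hmz : m = 0 := by
    by_contra hm0
    have hmi : ∃ z : ℤ, m = z := ⟨-k - a, by rw [hm]; push_cast; ring⟩
    obtain ⟨z, hz⟩ := hmi
    have hz0 : z ≠ 0 := by rintro rfl; exact hm0 (by rw [hz]; simp)
    have h2 : 0 < (m / d ψ) ^ 2 := by positivity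
    have h3 : (m / d ψ) ^ 2 * (2 * d ψ * d χ : ℝ) < (m / d ψ) ^ 2 * ∑ φ ∈ S₀, (d φ : ℝ) ^ 2 :=
      mul_lt_mul_of_pos_left hltR h2
    have h4 : (m / d ψ) ^ 2 * (2 * d ψ * d χ : ℝ) = 2 * a * m ^ 2 := by
      rw [ha]; push_cast; field_simp
    rw [h4] at h3
    have h5 : 2 * a * (m * (m + 1)) < 1 := by nlinarith
    have h6 : z = -1 := by
      by_contra hz1
      have h7 : 1 ≤ z * (z + 1) := by
        rcases lt_or_gt_of_ne hz0 with h | h
        · have : z ≤ -2 := by omega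
          nlinarith
        · nlinarith
      have h8 : (1 : ℝ) ≤ m * (m + 1) := by rw [hz]; exact_mod_cast h7
      nlinarith
    have hm1' : m = -1 := by rw [hz, h6]; simp
    -- norm of Z is zero
    obtain ⟨z', hz'⟩ := gen_gen_int hZgen hZgen
    have hZz : Z = 0 := by
      apply H5.classInner_self_eq_zero
      rw [hz']
      have h9 : (z' : ℝ) = 1 - ((m / d ψ) ^ 2 * ∑ φ ∈ S₀, (d φ : ℝ) ^ 2 + 2 * a * m) := by
        have : ((z' : ℝ) : ℂ) = ((1 - ((m / d ψ) ^ 2 * ∑ φ ∈ S₀, (d φ : ℝ) ^ 2 + 2 * a * m) : ℝ) : ℂ) := by rw [← hZn, hz']; simp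
        exact_mod_cast this
      have h10 : (z' : ℝ) < 1 := by rw [h9]; rw [hm1'] at h3 ⊢; nlinarith
      have h11 : (0 : ℝ) ≤ z' := by
        have := inner_self_nonneg' Z
        rw [hz'] at this
        simpa using this
      have h12 : z' = 0 := by
        have a1 : z' < 1 := by exact_mod_cast h10
        have a2 : 0 ≤ z' := by exact_mod_cast h11
        omega
      rw [h12]; simp
    -- degrees
    have hτ₁1 : ∀ φ ∈ S₀, τ₁ φ 1 = (d φ / d ψ : ℂ) * τ₁ ψ 1 := by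
      intro φ hφ
      have hb : (d φ : ℤ) • ψ - (d ψ : ℤ) • φ ∈ zspanOn (↑S₀ : Set (L → ℂ)) {1}ᶜ := by
        rw [mem_zspanOn_one]
        refine ⟨zspan_sub (zspan_smul _ (hsp hψ)) (zspan_smul _ (hsp hφ)), ?_⟩
        rw [Pi.sub_apply, zs_apply, zs_apply, hd φ (hmF hφ), hd ψ (hmF hψ)]
        push_cast; ring
      have e1 := hτ1 _ (zspanOn_mono hS₀F hb)
      rw [← hag _ hb, hI.sub (zspan_smul _ (hsp hψ)) (zspan_smul _ (hsp hφ)), hI.smul _ (hsp hψ), hI.smul _ (hsp hφ), Pi.sub_apply, zs_apply, zs_apply] at e1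
      push_cast at e1
      field_simp
      linear_combination -e1
    have hβ1 : β 1 = 0 := hτ1 _ hm1
    have hβe : β = ∑ φ ∈ S₀, (classInner β (τ₁ φ) / (1 : ℝ)) • τ₁ φ := sub_eq_zero.mp hZz
    have e5 : β 1 = (((∑ φ ∈ S₀, (d φ : ℝ) ^ 2) / (d ψ) ^ 2 - a : ℝ) : ℂ) * τ₁ ψ 1 := by
      have e6 : β 1 = ∑ φ ∈ S₀, ((d φ : ℂ) ^ 2 / d ψ ^ 2 - (if φ = ψ then (a : ℂ) else 0)) * τ₁ ψ 1 := by
        conv_lhs => rw [hβe]
        rw [Finset.sum_apply]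
        apply Finset.sum_congr rfl; intro φ hφ
        rw [Pi.smul_apply, smul_eq_mul, hu φ hφ, hτ₁1 φ hφ, hm1']
        split_ifs with h
        · rw [h]; push_cast; field_simp; ring
        · push_cast; field_simp; ring
      rw [e6, ← Finset.sum_mul, Finset.sum_sub_distrib, Finset.sum_ite_eq' S₀ ψ, if_pos hψ, ← Finset.sum_div]
      push_cast; rfl
    rw [hβ1] at e5
    have hτψ : τ₁ ψ 1 ≠ 0 := by
      obtain ⟨e, he, he1, _⟩ := irr_signed_degree (gen_norm_one (hI.gen _ (hsp hψ)) (by rw [hI.inner _ (hsp hψ) _ (hsp hψ), ii_self (hirr ψ hψ)]))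
      rw [he1]; exact_mod_cast he
    have e7 := (mul_eq_zero.mp e5.symm).resolve_right hτψ
    have e8 : (∑ φ ∈ S₀, (d φ : ℝ) ^ 2) / (d ψ) ^ 2 - a = 0 := by exact_mod_cast e7
    have e9 : (∑ φ ∈ S₀, (d φ : ℝ) ^ 2) = a * (d ψ) ^ 2 := by
      field_simp at e8; linarith
    rw [e9, ha] at hltR
    push_cast at hltR
    have : (0 : ℝ) < d ψ ^ 2 := by positivity
    nlinarith
  -- final part
  have hu0 : ∀ φ ∈ S₀, classInner β (τ₁ φ) = -(if φ = ψ then (a : ℂ) else 0) := by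
    intro φ hφ
    rw [hu φ hφ, hmz]
    split_ifs <;> simp
  have hZe : Z = β + (a : ℂ) • τ₁ ψ := by
    rw [hZ, Finset.sum_eq_single ψ]
    · rw [hu0 ψ hψ, if_pos rfl]
      simp
    · intro φ hφ hne
      rw [hu0 φ hφ, if_neg hne]; simp
    · intro h; exact absurd hψ h
  have hZ1 : classInner Z Z = 1 := by rw [hZn, hmz]; simp
  have hZτ : ∀ φ ∈ S₀, classInner Z (τ₁ φ) = 0 := by
    intro φ hφ
    rw [hZe, H5.classInner_add_left, hu0 φ hφ, H5.classInner_smul_left, hI.inner _ (hsp hψ) _ (hsp hφ)]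
    split_ifs with h
    · rw [h, ii_self (hirr ψ hψ)]; ring
    · rw [ii_ne (hirr ψ hψ) (hirr φ hφ) (Ne.symm h)]; ring
  let T : (L → ℂ) → (G → ℂ) := fun φ => if φ = χ then Z else τ₁ φ
  have hTχ : T χ = Z := if_pos rfl
  have hT1 : ∀ φ ∈ S₀, T φ = τ₁ φ := by
    intro φ hφ
    have n1 : φ ≠ χ := (hne1 φ hφ).symm
    show (if φ = χ then Z else τ₁ φ) = _
    rw [if_neg n1]
  have horth : ∀ φ ∈ insert χ S₀, ∀ ψ ∈ insert χ S₀, φ ≠ ψ → classInner φ ψ = 0 := fun φ hφ ψ hψ h => ii_ne (hirrF φ hφ) (hirrF ψ hψ) h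
  have hne : ∀ φ ∈ insert χ S₀, classInner φ φ ≠ 0 := fun φ hφ => by rw [ii_self (hirrF φ hφ)]; exact one_ne_zero
  have hT : ∀ φ ∈ insert χ S₀, ∀ ψ ∈ insert χ S₀, classInner (T φ) (T ψ) = classInner φ ψ := by
    intro φ hφ ψ' hψ'
    rw [Finset.mem_insert] at hφ hψ'
    rcases hφ with rfl | hφ <;> rcases hψ' with rfl | hψ'
    · rw [hTχ, hZ1, ii_self hχ]
    · rw [hTχ, hT1 _ hψ', hZτ _ hψ', ii_ne hχ (hirr _ hψ') (hne1 _ hψ')]
    · rw [hTχ, hT1 _ hφ, ← H5.classInner_conj_symm, hZτ _ hφ, ii_ne (hirr _ hφ) hχ (hne1 _ hφ).symm, map_zero]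
    · rw [hT1 _ hφ, hT1 _ hψ', hI.inner _ (hsp hφ) _ (hsp hψ')]
  have hgen : ∀ φ ∈ insert χ S₀, IsGeneralizedCharacter G (T φ) := by
    intro φ hφ
    rcases Finset.mem_insert.mp hφ with rfl | hφ
    · rw [hTχ]; exact hZgen
    · rw [hT1 _ hφ]; exact hI.gen _ (hsp hφ)
  have hbuild := coh_build (insert χ S₀) T horth hne hT hgen
  have hFI := isoOn_span hbuild
  refine ⟨?_, orthExt (insert χ S₀) T, hbuild, ?_⟩
  · obtain ⟨α, hα, hα0⟩ := hne0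
    exact ⟨α, zspanOn_mono hS₀F hα, hα0⟩
  · have hag1 := orthExt_agree horth hne hT hgen hS₀F hI hT1
    apply glue hS₀F hiso hFI
    · intro α hα
      rw [hag1 α hα.1, hag α hα]
    · intro φ hφ hφ1
      rcases Finset.mem_insert.mp hφ with rfl | hφ'
      · refine ⟨(a : ℤ) • ψ, zspan_smul _ (hsp hψ), ((mem_zspanOn_one _ _).mp hm1).2, ?_⟩
        rw [hFI.sub (Submodule.subset_span hχF) (Submodule.smul_mem _ _ (Submodule.subset_span (hmF hψ))), orthExt_smul,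
          orthExt_apply _ _ horth hne hχF, orthExt_apply _ _ horth hne (hmF hψ), hTχ, hT1 ψ hψ, hZe, zs_eq, ← hβ]
        simp
      · exact absurd hφ' hφ1

end irr

end Cfsg.Agent.H4
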