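import Cfsg.Agent.H4.Coh5

set_option linter.all false
set_option autoImplicit false

/-! Coherence: joining two coherent sets. -/

namespace Cfsg.Agent.H4

open Module
open scoped ComplexConjugate Pointwise

universe u v w

section join
variable {L : Type u} [Group L] [Fintype L] {G : Type v} [Group G] [Fintype G]

theorem zspan_union {X : Type u} {S T : Set (X → ℂ)} {a : X → ℂ} (ha : a ∈ zspan (S ∪ T)) :
    ∃ b ∈ zspan S, ∃ c ∈ zspan T, a = b + c := by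
  have : a ∈ Submodule.span ℤ (S ∪ T) := ha
  rw [Submodule.span_union, Submodule.mem_sup] at this
  obtain ⟨b, hb, c, hc, h⟩ := this
  exact ⟨b, hb, c, hc, h.symm⟩

theorem zspan_int_value {X : Type u} [One X] {S : Set (X → ℂ)} (hS : ∀ φ ∈ S, ∃ z : ℤ, φ 1 = z) {a : X → ℂ} (ha : a ∈ zspan S) :
    ∃ z : ℤ, a 1 = z := by
  refine zspan_induction (S := S) (p := fun a => ∃ z : ℤ, a 1 = z) hS ⟨0, by simp⟩ ?_ ?_ ha
  · rintro b c _ _ ⟨z, hz⟩ ⟨w, hw⟩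
    exact ⟨z + w, by rw [Pi.add_apply, hz, hw]; push_cast; rfl⟩
  · rintro n b _ ⟨z, hz⟩
    exact ⟨n * z, by rw [zs_apply, hz]; push_cast; rfl⟩

theorem signed_pair {χ ψ : G → ℂ} (hχ : IsIrrCharacter G χ ∨ IsIrrCharacter G (-χ)) (hψ : IsIrrCharacter G ψ ∨ IsIrrCharacter G (-ψ))
    (h : classInner χ ψ ≠ 0) : (χ = ψ ∧ classInner χ ψ = 1) ∨ (χ = -ψ ∧ classInner χ ψ = -1) := by
  rcases hχ with hχ | hχ <;> rcases hψ with hψ | hψ
  · left
    have : χ = ψ := by by_contra hne; exact h (ii_ne hχ hψ hne)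
    exact ⟨this, by rw [this, ii_self hψ]⟩
  · right
    have h1 : classInner χ (-ψ) ≠ 0 := by rw [inner_neg_right]; exact neg_ne_zero.mpr h
    have : χ = -ψ := by by_contra hne; exact h1 (ii_ne hχ hψ hne)
    refine ⟨this, ?_⟩
    have h2 : classInner χ (-ψ) = 1 := by rw [← this, ii_self hχ]
    rw [inner_neg_right] at h2
    linear_combination -h2
  · right
    have h1 : classInner (-χ) ψ ≠ 0 := by rw [inner_neg_left]; exact neg_ne_zero.mpr h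
    have : -χ = ψ := by by_contra hne; exact h1 (ii_ne hχ hψ hne)
    refine ⟨by rw [← this, neg_neg], ?_⟩
    have h2 : classInner (-χ) ψ = 1 := by rw [← this, ii_self hχ]
    rw [inner_neg_left] at h2
    linear_combination -h2
  · left
    have h1 : classInner (-χ) (-ψ) ≠ 0 := by rw [inner_neg_left, inner_neg_right, neg_neg]; exact h
    have : -χ = -ψ := by by_contra hne; exact h1 (ii_ne hχ hψ hne)
    have h3 : χ = ψ := neg_injective this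
    refine ⟨h3, ?_⟩
    have h2 : classInner (-χ) (-ψ) = 1 := by rw [← this, ii_self hχ]
    rw [inner_neg_left, inner_neg_right, neg_neg] at h2
    exact h2

theorem iso_signed {E : Submodule ℤ (L → ℂ)} {σ : (L → ℂ) → (G → ℂ)} (h : IsoOn E σ) {χ : L → ℂ} (hχE : χ ∈ E) (hχ : IsIrrCharacter L χ) :
    IsIrrCharacter G (σ χ) ∨ IsIrrCharacter G (-σ χ) :=
  gen_norm_one (h.gen _ hχE) (by rw [h.inner _ hχE _ hχE, ii_self hχ])

theorem join_perp (S X Y : Set (L → ℂ)) (hirr : ∀ ξ ∈ S, IsIrrCharacter L ξ) (hXS : X ⊆ S) (hYS : Y ⊆ S)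
    (hXY : Disjoint X Y) (hX2 : ∃ a ∈ X, ∃ b ∈ X, a ≠ b) (hY2 : ∃ a ∈ Y, ∃ b ∈ Y, a ≠ b)
    (α : (L → ℂ) → (G → ℂ)) (hα : IsLinearIsometryOn (zspanOn S {1}ᶜ) α) (hα1 : ∀ θ ∈ zspanOn S {1}ᶜ, α θ 1 = 0)
    (σ τ : (L → ℂ) → (G → ℂ)) (hσ : IsLinearIsometryOn (zspan X) σ) (hσα : ∀ θ ∈ zspanOn X {1}ᶜ, σ θ = α θ)
    (hτ : IsLinearIsometryOn (zspan Y) τ) (hτα : ∀ θ ∈ zspanOn Y {1}ᶜ, τ θ = α θ) :
    ∀ χ ∈ X, ∀ η ∈ Y, classInner (σ χ) (τ η) = 0 := by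
  intro χ hχ η hη
  by_contra hne
  have hσI := isoOn_span hσ
  have hτI := isoOn_span hτ
  have hαI := isoOn_zsub hα
  obtain ⟨χ', hχ', hχχ'⟩ : ∃ χ' ∈ X, χ' ≠ χ := by
    obtain ⟨a, ha, b, hb, hab⟩ := hX2
    by_cases h : a = χ
    · exact ⟨b, hb, fun h' => hab (by rw [h, h'])⟩
    · exact ⟨a, ha, h⟩
  obtain ⟨η', hη', hηη'⟩ : ∃ η' ∈ Y, η' ≠ η := by
    obtain ⟨a, ha, b, hb, hab⟩ := hY2
    by_cases h : a = η
    · exact ⟨b, hb, fun h' => hab (by rw [h, h'])⟩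
    · exact ⟨a, ha, h⟩
  have cχ := hirr χ (hXS hχ)
  have cχ' := hirr χ' (hXS hχ')
  have cη := hirr η (hYS hη)
  have cη' := hirr η' (hYS hη')
  obtain ⟨d, hd, hd1⟩ := IsIrr.exists_degree cχ
  obtain ⟨d', hd', hd1'⟩ := IsIrr.exists_degree cχ'
  obtain ⟨e, he, he1⟩ := IsIrr.exists_degree cη
  obtain ⟨e', he', he1'⟩ := IsIrr.exists_degree cη'
  have mX : ∀ {χ}, χ ∈ X → χ ∈ zspan X := fun h => zspan_mem h
  have mY : ∀ {χ}, χ ∈ Y → χ ∈ zspan Y := fun h => zspan_mem h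
  have hb1 : (d : ℤ) • χ' - (d' : ℤ) • χ ∈ zspanOn X {1}ᶜ := by
    rw [mem_zspanOn_one]
    refine ⟨zspan_sub (zspan_smul _ (mX hχ')) (zspan_smul _ (mX hχ)), ?_⟩
    rw [Pi.sub_apply, zs_apply, zs_apply, hd1, hd1']; push_cast; ring
  have hb2 : (e : ℤ) • η' - (e' : ℤ) • η ∈ zspanOn Y {1}ᶜ := by
    rw [mem_zspanOn_one]
    refine ⟨zspan_sub (zspan_smul _ (mY hη')) (zspan_smul _ (mY hη)), ?_⟩
    rw [Pi.sub_apply, zs_apply, zs_apply, he1, he1']; push_cast; ring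
  have sσ : ∀ {χ}, χ ∈ X → _ := fun {χ} h => iso_signed hσI (mX h) (hirr χ (hXS h))
  have sτ : ∀ {χ}, χ ∈ Y → _ := fun {χ} h => iso_signed hτI (mY h) (hirr χ (hYS h))
  have hXYne : ∀ {χ η}, χ ∈ X → η ∈ Y → χ ≠ η := fun h h' e => Set.disjoint_left.mp hXY h (e ▸ h')
  have z : ∀ {χ η}, χ ∈ X → η ∈ Y → classInner χ η = 0 := fun {χ η} h h' => ii_ne (hirr χ (hXS h)) (hirr η (hYS h')) (hXYne h h')
  have e1 : classInner (σ ((d : ℤ) • χ' - (d' : ℤ) • χ)) (τ ((e : ℤ) • η' - (e' : ℤ) • η)) = 0 := by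
    rw [hσα _ hb1, hτα _ hb2, hα.2.2.1 _ (zspanOn_mono hXS hb1) _ (zspanOn_mono hYS hb2)]
    simp only [zs_eq, H5.classInner_sub_left, H5.classInner_sub_right, H5.classInner_smul_left, H5.classInner_smul_right]
    rw [z hχ' hη', z hχ' hη, z hχ hη', z hχ hη]; ring
  have x1 : classInner (σ χ') (τ η) = 0 := by
    rcases signed_pair (sσ hχ) (sτ hη) hne with ⟨h, _⟩ | ⟨h, _⟩
    · rw [← h, hσI.inner _ (mX hχ') _ (mX hχ), ii_ne cχ' cχ hχχ']
    · have : τ η = -σ χ := by rw [h, neg_neg]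
      rw [this, inner_neg_right, hσI.inner _ (mX hχ') _ (mX hχ), ii_ne cχ' cχ hχχ', neg_zero]
  have x2 : classInner (σ χ) (τ η') = 0 := by
    rcases signed_pair (sσ hχ) (sτ hη) hne with ⟨h, _⟩ | ⟨h, _⟩
    · rw [h, hτI.inner _ (mY hη) _ (mY hη'), ii_ne cη cη' (Ne.symm hηη')]
    · rw [h, inner_neg_left, hτI.inner _ (mY hη) _ (mY hη'), ii_ne cη cη' (Ne.symm hηη'), neg_zero]
  rw [hσI.sub (zspan_smul _ (mX hχ')) (zspan_smul _ (mX hχ)), hσI.smul _ (mX hχ'), hσI.smul _ (mX hχ),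
    hτI.sub (zspan_smul _ (mY hη')) (zspan_smul _ (mY hη)), hτI.smul _ (mY hη'), hτI.smul _ (mY hη)] at e1
  simp only [zs_eq, H5.classInner_sub_left, H5.classInner_sub_right, H5.classInner_smul_left, H5.classInner_smul_right] at e1
  rw [x1, x2] at e1
  have v1 : (d : ℂ) * σ χ' 1 = d' * σ χ 1 := by
    have := hα1 _ (zspanOn_mono hXS hb1)
    rw [← hσα _ hb1, hσI.sub (zspan_smul _ (mX hχ')) (zspan_smul _ (mX hχ)), hσI.smul _ (mX hχ'), hσI.smul _ (mX hχ), Pi.sub_apply, zs_apply, zs_apply] at this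
    push_cast at this
    exact sub_eq_zero.mp this
  have v2 : (e : ℂ) * τ η' 1 = e' * τ η 1 := by
    have := hα1 _ (zspanOn_mono hYS hb2)
    rw [← hτα _ hb2, hτI.sub (zspan_smul _ (mY hη')) (zspan_smul _ (mY hη)), hτI.smul _ (mY hη'), hτI.smul _ (mY hη), Pi.sub_apply, zs_apply, zs_apply] at this
    push_cast at this
    exact sub_eq_zero.mp this
  have dc : (d : ℂ) ≠ 0 := by exact_mod_cast hd.ne'
  have dc' : (d' : ℂ) ≠ 0 := by exact_mod_cast hd'.ne'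
  have ec : (e : ℂ) ≠ 0 := by exact_mod_cast he.ne'
  have ec' : (e' : ℂ) ≠ 0 := by exact_mod_cast he'.ne'
  simp only [map_intCast, map_natCast, Int.cast_natCast, mul_zero, sub_zero, zero_sub, sub_neg_eq_add, neg_neg] at e1
  have e2 : (d : ℂ) * e * classInner (σ χ') (τ η') = - (d' * e' * classInner (σ χ) (τ η)) := by linear_combination e1
  have hne' : classInner (σ χ') (τ η') ≠ 0 := by
    intro h
    rw [h, mul_zero] at e2
    have : (d' : ℂ) * e' * classInner (σ χ) (τ η) = 0 := by linear_combination e2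
    rcases mul_eq_zero.mp this with h | h
    · exact (mul_ne_zero dc' ec') h
    · exact hne h
  obtain ⟨t, ht, ht1, _⟩ := irr_signed_degree (sτ hη)
  have tc : (t : ℂ) ≠ 0 := by exact_mod_cast ht
  -- positivity contradiction helper
  have fin : ∀ {a b : ℕ}, 0 < a → 0 < b → (a : ℂ) = -b → False := by
    intro a b ha hb h
    have : (a : ℤ) = -(b : ℤ) := by exact_mod_cast h
    omega
  rcases signed_pair (sσ hχ) (sτ hη) hne with ⟨h, hv⟩ | ⟨h, hv⟩ <;> rcases signed_pair (sσ hχ') (sτ hη') hne' with ⟨h', hv'⟩ | ⟨h', hv'⟩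
  · rw [hv, hv'] at e2
    exact fin (Nat.mul_pos hd he) (Nat.mul_pos hd' he') (by push_cast; linear_combination e2)
  · rw [h, h', Pi.neg_apply] at v1
    rw [ht1] at v1 v2
    have : (d : ℂ) * e' * t = -(d' * e) * t := by linear_combination (-(e : ℂ)) * v1 - (d : ℂ) * v2
    have := mul_right_cancel₀ tc this
    exact fin (Nat.mul_pos hd he') (Nat.mul_pos hd' he) (by push_cast; linear_combination this)
  · rw [h, h', Pi.neg_apply] at v1
    rw [ht1] at v1 v2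
    have : (d : ℂ) * e' * t = -(d' * e) * t := by linear_combination ((e : ℂ)) * v1 - (d : ℂ) * v2
    have := mul_right_cancel₀ tc this
    exact fin (Nat.mul_pos hd he') (Nat.mul_pos hd' he) (by push_cast; linear_combination this)
  · rw [hv, hv'] at e2
    exact fin (Nat.mul_pos hd he) (Nat.mul_pos hd' he') (by push_cast; linear_combination -e2)

theorem finite_irr_set (S : Set (L → ℂ)) (hirr : ∀ ξ ∈ S, IsIrrCharacter L ξ) : S.Finite :=
  finite_of_orthogonal S (fun φ hφ ψ hψ h => ii_ne (hirr φ hφ) (hirr ψ hψ) h)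
    (fun φ hφ => by rw [ii_self (hirr φ hφ)]; exact one_ne_zero)

theorem join_coherent (S X Y : Set (L → ℂ)) (hirr : ∀ ξ ∈ S, IsIrrCharacter L ξ) (hXS : X ⊆ S) (hYS : Y ⊆ S)
    (hXY : Disjoint X Y) (hX2 : ∃ a ∈ X, ∃ b ∈ X, a ≠ b)
    (α : (L → ℂ) → (G → ℂ)) (hα : IsLinearIsometryOn (zspanOn S {1}ᶜ) α)
    (σ τ : (L → ℂ) → (G → ℂ)) (hσ : IsLinearIsometryOn (zspan X) σ) (hσα : ∀ θ ∈ zspanOn X {1}ᶜ, σ θ = α θ)
    (hτ : IsLinearIsometryOn (zspan Y) τ) (hτα : ∀ θ ∈ zspanOn Y {1}ᶜ, τ θ = α θ)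
    (hperp : ∀ χ ∈ X, ∀ η ∈ Y, classInner (σ χ) (τ η) = 0)
    {χ₀ η₀ : L → ℂ} (hχ₀ : χ₀ ∈ X) (hη₀ : η₀ ∈ Y) (h0 : α (χ₀ 1 • η₀ - η₀ 1 • χ₀) = χ₀ 1 • τ η₀ - η₀ 1 • σ χ₀) :
    IsCoherent (X ∪ Y) {1}ᶜ α := by
  classical
  have hσI := isoOn_span hσ
  have hτI := isoOn_span hτ
  have hαI := isoOn_zsub hα
  have hXYS : X ∪ Y ⊆ S := Set.union_subset hXS hYS
  have hfin := finite_irr_set (X ∪ Y) (fun ξ h => hirr ξ (hXYS h))
  set F := hfin.toFinset with hF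
  have hFS : (F : Set (L → ℂ)) = X ∪ Y := hfin.coe_toFinset
  have hmemF : ∀ φ, φ ∈ F ↔ φ ∈ X ∪ Y := fun φ => hfin.mem_toFinset
  have hXYne : ∀ {χ η}, χ ∈ X → η ∈ Y → χ ≠ η := fun h h' e => Set.disjoint_left.mp hXY h (e ▸ h')
  let T : (L → ℂ) → (G → ℂ) := fun φ => if φ ∈ X then σ φ else τ φ
  have hTX : ∀ φ ∈ X, T φ = σ φ := fun φ h => if_pos h
  have hTY : ∀ φ ∈ Y, T φ = τ φ := fun φ h => if_neg (fun h' => hXYne h' h rfl)
  have hirrF : ∀ φ ∈ F, IsIrrCharacter L φ := fun φ h => hirr φ (hXYS ((hmemF φ).mp h))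
  have horth : ∀ φ ∈ F, ∀ ψ ∈ F, φ ≠ ψ → classInner φ ψ = 0 := fun φ hφ ψ hψ h => ii_ne (hirrF φ hφ) (hirrF ψ hψ) h
  have hne : ∀ φ ∈ F, classInner φ φ ≠ 0 := fun φ hφ => by rw [ii_self (hirrF φ hφ)]; exact one_ne_zero
  have mX : ∀ {χ}, χ ∈ X → χ ∈ zspan X := fun h => zspan_mem h
  have mY : ∀ {χ}, χ ∈ Y → χ ∈ zspan Y := fun h => zspan_mem h
  have hT : ∀ φ ∈ F, ∀ ψ ∈ F, classInner (T φ) (T ψ) = classInner φ ψ := by
    intro φ hφ ψ hψ
    have hφ' := (hmemF φ).mp hφ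
    have hψ' := (hmemF ψ).mp hψ
    rcases hφ' with h | h <;> rcases hψ' with h' | h'
    · rw [hTX φ h, hTX ψ h', hσI.inner _ (mX h) _ (mX h')]
    · rw [hTX φ h, hTY ψ h', hperp φ h ψ h', ii_ne (hirrF φ hφ) (hirrF ψ hψ) (hXYne h h')]
    · rw [hTY φ h, hTX ψ h', ← H5.classInner_conj_symm, hperp ψ h' φ h, ii_ne (hirrF φ hφ) (hirrF ψ hψ) (hXYne h' h).symm, map_zero]
    · rw [hTY φ h, hTY ψ h', hτI.inner _ (mY h) _ (mY h')]
  have hgen : ∀ φ ∈ F, IsGeneralizedCharacter G (T φ) := by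
    intro φ hφ
    rcases (hmemF φ).mp hφ with h | h
    · rw [hTX φ h]; exact hσI.gen _ (mX h)
    · rw [hTY φ h]; exact hτI.gen _ (mY h)
  have hbuild := coh_build F T horth hne hT hgen
  have hFI := isoOn_span hbuild
  have hXF : X ⊆ (F : Set (L → ℂ)) := by rw [hFS]; exact Set.subset_union_left
  have hYF : Y ⊆ (F : Set (L → ℂ)) := by rw [hFS]; exact Set.subset_union_right
  have hagX := orthExt_agree horth hne hT hgen hXF hσI hTX
  have hagY := orthExt_agree horth hne hT hgen hYF hτI hTY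
  obtain ⟨d, hd, hd1⟩ := IsIrr.exists_degree (hirr χ₀ (hXS hχ₀))
  obtain ⟨e, he, he1⟩ := IsIrr.exists_degree (hirr η₀ (hYS hη₀))
  have h0' : α ((d : ℤ) • η₀ - (e : ℤ) • χ₀) = (d : ℤ) • τ η₀ - (e : ℤ) • σ χ₀ := by
    rw [hd1, he1] at h0
    simp only [zs_eq, Int.cast_natCast]
    exact h0
  refine ⟨?_, orthExt F T, ?_, ?_⟩
  · obtain ⟨a, ha, b, hb, hab⟩ := hX2
    obtain ⟨p, hp, hp1⟩ := IsIrr.exists_degree (hirr a (hXS ha))
    obtain ⟨q, hq, hq1⟩ := IsIrr.exists_degree (hirr b (hXS hb))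
    refine ⟨(q : ℤ) • a - (p : ℤ) • b, ?_, ?_⟩
    · rw [mem_zspanOn_one]
      refine ⟨zspan_sub (zspan_smul _ (zspan_mem (Or.inl ha))) (zspan_smul _ (zspan_mem (Or.inl hb))), ?_⟩
      rw [Pi.sub_apply, zs_apply, zs_apply, hp1, hq1]; push_cast; ring
    · intro h
      have h1 : classInner ((q : ℤ) • a - (p : ℤ) • b) a = q := by
        rw [zs_eq, zs_eq, H5.classInner_sub_left, H5.classInner_smul_left, H5.classInner_smul_left, ii_self (hirr a (hXS ha)),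
          ii_ne (hirr b (hXS hb)) (hirr a (hXS ha)) hab.symm]
        push_cast; ring
      rw [h, H5.classInner_zero_left] at h1
      exact hq.ne' (by exact_mod_cast h1.symm)
  · rw [← hFS]; exact hbuild
  · intro θ hθ
    rw [mem_zspanOn_one] at hθ
    obtain ⟨hθ, hθ1⟩ := hθ
    obtain ⟨b, hb, c, hc, hbc⟩ := zspan_union hθ
    obtain ⟨z, hz⟩ := zspan_int_value (fun φ hφ => by
      obtain ⟨n, _, hn⟩ := IsIrr.exists_degree (hirr φ (hXS hφ)); exact ⟨n, by rw [hn]; simp⟩) hb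
    have hcz : c 1 = -z := by
      rw [hbc, Pi.add_apply, hz] at hθ1
      linear_combination hθ1
    have m1 : ((d * e : ℕ) : ℤ) • b - (z * e : ℤ) • χ₀ ∈ zspanOn X {1}ᶜ := by
      rw [mem_zspanOn_one]
      refine ⟨zspan_sub (zspan_smul _ hb) (zspan_smul _ (mX hχ₀)), ?_⟩
      rw [Pi.sub_apply, zs_apply, zs_apply, hz, hd1]; push_cast; ring
    have m2 : ((d * e : ℕ) : ℤ) • c + (z * d : ℤ) • η₀ ∈ zspanOn Y {1}ᶜ := by
      rw [mem_zspanOn_one]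
      refine ⟨zspan_add (zspan_smul _ hc) (zspan_smul _ (mY hη₀)), ?_⟩
      rw [Pi.add_apply, zs_apply, zs_apply, hcz, he1]; push_cast; ring
    have m3 : (d : ℤ) • η₀ - (e : ℤ) • χ₀ ∈ zspanOn S {1}ᶜ := by
      rw [mem_zspanOn_one]
      refine ⟨zspan_sub (zspan_smul _ (zspan_mem (hYS hη₀))) (zspan_smul _ (zspan_mem (hXS hχ₀))), ?_⟩
      rw [Pi.sub_apply, zs_apply, zs_apply, hd1, he1]; push_cast; ring
    have hdec : ((d * e : ℕ) : ℤ) • θ = (((d * e : ℕ) : ℤ) • b - (z * e : ℤ) • χ₀) + (((d * e : ℕ) : ℤ) • c + (z * d : ℤ) • η₀) +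
        (-z) • ((d : ℤ) • η₀ - (e : ℤ) • χ₀) := by
      rw [hbc]
      funext x
      simp only [zs_apply, Pi.add_apply, Pi.sub_apply]
      push_cast; ring
    have hθS : θ ∈ zspanOn S {1}ᶜ := (mem_zspanOn_one _ _).mpr ⟨zspan_mono hXYS hθ, hθ1⟩
    have hθF : θ ∈ Submodule.span ℤ (F : Set (L → ℂ)) := by rw [hFS]; exact hθ
    have n1 := zspanOn_mono hXS m1
    have n2 := zspanOn_mono hYS m2
    have hmm : ∀ {a}, a ∈ zspan X → a ∈ Submodule.span ℤ (F : Set (L → ℂ)) := fun h => zspan_mono hXF h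
    have hmm' : ∀ {a}, a ∈ zspan Y → a ∈ Submodule.span ℤ (F : Set (L → ℂ)) := fun h => zspan_mono hYF h
    have f3 : (d : ℤ) • η₀ - (e : ℤ) • χ₀ ∈ Submodule.span ℤ (F : Set (L → ℂ)) :=
      Submodule.sub_mem _ (Submodule.smul_mem _ _ (hmm' (mY hη₀))) (Submodule.smul_mem _ _ (hmm (mX hχ₀)))
    have eα : ((d * e : ℕ) : ℤ) • α θ = ((d * e : ℕ) : ℤ) • orthExt F T θ := by
      rw [← hαI.smul _ hθS, ← orthExt_smul, hdec, hαI.add _ ((zsubOn S {1}ᶜ).add_mem n1 n2) _ ((zsubOn S {1}ᶜ).smul_mem _ m3),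
        hαI.add _ n1 _ n2, hαI.smul _ m3, h0', orthExt_add, orthExt_add, orthExt_smul, ← hσα _ m1, ← hτα _ m2, hagX _ m1.1, hagY _ m2.1]
      congr 2
      rw [hFI.sub (Submodule.smul_mem _ _ (hmm' (mY hη₀))) (Submodule.smul_mem _ _ (hmm (mX hχ₀))), orthExt_smul, orthExt_smul,
        hagX _ (mX hχ₀), hagY _ (mY hη₀)]
    have hde : ((d * e : ℕ) : ℂ) ≠ 0 := by exact_mod_cast (Nat.mul_pos hd he).ne'
    funext x
    have := congrFun eα x
    rw [zs_apply, zs_apply] at this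
    push_cast at this hde
    exact (mul_left_cancel₀ hde this).symm

end join

end Cfsg.Agent.H4
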