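import Cfsg.Agent.H4.Deg1
import Cfsg.Agent.H4.Coh6

set_option linter.all false
set_option autoImplicit false

/-! Coherence: chains, and the sets of induced characters above a normal subgroup. -/

namespace Cfsg.Agent.H4

open Module
open scoped ComplexConjugate Pointwise

universe u v w

section chain
variable {L : Type u} [Group L] [Fintype L] {G : Type v} [Group G] [Fintype G] {τ : (L → ℂ) → (G → ℂ)}
variable {S : Set (L → ℂ)} {R : (L → ℂ) → Finset (G → ℂ)}

theorem coherent_mono (hS : IsCoherenceSystem S τ R) {S' S'' : Set (L → ℂ)} (h1 : S' ⊆ S'') (h2 : S'' ⊆ S) (hne : S'.Nonempty)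
    (hc : ∀ φ ∈ S', conjFun φ ∈ S') (hcoh : IsCoherent S'' {1}ᶜ τ) : IsCoherent S' {1}ᶜ τ := by
  obtain ⟨_, τ₁, hτ₁, hag⟩ := hcoh
  obtain ⟨χ, hχ⟩ := hne
  refine ⟨⟨χ - conjFun χ, ?_, ?_⟩, τ₁, ?_, fun α hα => hag α (zspanOn_mono h1 hα)⟩
  · rw [mem_zspanOn_one]
    refine ⟨zspan_sub (zspan_mem hχ) (zspan_mem (hc χ hχ)), ?_⟩
    rw [Pi.sub_apply, degree_char_conj (hS.isCharacter χ (h2 (h1 hχ))), sub_self]
  · intro h; exact hS.conj_ne χ (h2 (h1 hχ)) (sub_eq_zero.mp h).symm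
  · exact ((isoOn_span hτ₁).mono (Submodule.span_mono h1)).to_span

theorem coherent_chain (hS : IsCoherenceSystem S τ R) (d n : (L → ℂ) → ℕ) (hd : ∀ φ ∈ S, φ 1 = (d φ : ℂ))
    (hn : ∀ φ ∈ S, classInner φ φ = (n φ : ℂ)) [DecidableEq (L → ℂ)] (S₀ U : Finset (L → ℂ)) (hU : ↑U ⊆ S) (hUc : ∀ φ ∈ U, conjFun φ ∈ U)
    (hineq : ∀ χ ∈ U, ∃ χ₁ ∈ S₀, d χ₁ ∣ d χ ∧ (2 * d χ * d χ₁ : ℝ) < ∑ φ ∈ S₀, ((d φ : ℝ) ^ 2 / (n φ : ℝ))) :
    ∀ (m : ℕ) (S₁ : Finset (L → ℂ)), S₀ ⊆ S₁ → ↑S₁ ⊆ S → (∀ φ ∈ S₁, conjFun φ ∈ S₁) → IsCoherent (↑S₁ : Set (L → ℂ)) {1}ᶜ τ →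
      (U \ S₁).card ≤ m → IsCoherent (↑S₁ ∪ ↑U : Set (L → ℂ)) {1}ᶜ τ := by
  intro m
  induction m with
  | zero =>
    intro S₁ h0 hS₁ hc hcoh hm
    have h1 : U \ S₁ = ∅ := Finset.card_eq_zero.mp (Nat.le_zero.mp hm)
    have h2 : U ⊆ S₁ := Finset.sdiff_eq_empty_iff_subset.mp h1
    have h3 : (↑S₁ ∪ ↑U : Set (L → ℂ)) = ↑S₁ := Set.union_eq_left.mpr (by exact_mod_cast h2)
    rw [h3]; exact hcoh
  | succ m ih =>
    intro S₁ h0 hS₁ hc hcoh hm
    by_cases hsub : U ⊆ S₁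
    · have h3 : (↑S₁ ∪ ↑U : Set (L → ℂ)) = ↑S₁ := Set.union_eq_left.mpr (by exact_mod_cast hsub)
      rw [h3]; exact hcoh
    obtain ⟨χ, hχU, hχ1⟩ := Finset.not_subset.mp hsub
    have hχS : χ ∈ S := hU hχU
    have hχ2 : conjFun χ ∉ S₁ := by
      intro h; apply hχ1
      have := hc _ h
      rwa [conj_conj_fun] at this
    obtain ⟨χ₁, hχ₁, hdvd, hlt⟩ := hineq χ hχU
    have hle : ∑ φ ∈ S₀, ((d φ : ℝ) ^ 2 / (n φ : ℝ)) ≤ ∑ φ ∈ S₁, ((d φ : ℝ) ^ 2 / (n φ : ℝ)) :=
      Finset.sum_le_sum_of_subset_of_nonneg h0 (fun _ _ _ => by positivity)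
    have hstep := coherent_step hS d n hd hn S₁ hS₁ hc hcoh χ hχS hχ1 hχ2 χ₁ (h0 hχ₁) hdvd (lt_of_lt_of_le hlt hle)
    have hF : ((insert χ (insert (conjFun χ) S₁) : Finset (L → ℂ)) : Set (L → ℂ)) = ↑S₁ ∪ {χ, conjFun χ} := by
      ext φ
      simp only [Finset.coe_insert, Set.mem_insert_iff, Finset.mem_coe, Set.mem_union, Set.mem_singleton_iff]
      tauto
    rw [← hF] at hstep
    have hres := ih (insert χ (insert (conjFun χ) S₁)) ?_ ?_ ?_ hstep ?_
    · have h4 : (↑(insert χ (insert (conjFun χ) S₁)) ∪ ↑U : Set (L → ℂ)) = ↑S₁ ∪ ↑U := by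
        ext φ
        simp only [Finset.coe_insert, Set.mem_union, Set.mem_insert_iff, Finset.mem_coe]
        constructor
        · rintro ((rfl | rfl | h) | h)
          · exact Or.inr hχU
          · exact Or.inr (hUc _ hχU)
          · exact Or.inl h
          · exact Or.inr h
        · rintro (h | h)
          · exact Or.inl (Or.inr (Or.inr h))
          · exact Or.inr h
      rw [h4] at hres; exact hres
    · intro φ hφ
      exact Finset.mem_insert_of_mem (Finset.mem_insert_of_mem (h0 hφ))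
    · intro φ hφ
      simp only [Finset.coe_insert, Set.mem_insert_iff, Finset.mem_coe] at hφ
      rcases hφ with rfl | rfl | h
      · exact hχS
      · exact hS.conj_mem _ hχS
      · exact hS₁ h
    · intro φ hφ
      simp only [Finset.mem_insert] at hφ ⊢
      rcases hφ with rfl | rfl | h
      · exact Or.inr (Or.inl rfl)
      · left; exact conj_conj_fun _
      · exact Or.inr (Or.inr (hc _ h))
    · have h5 : (U \ insert χ (insert (conjFun χ) S₁)) ⊆ (U \ S₁).erase χ := by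
        intro φ hφ
        simp only [Finset.mem_sdiff, Finset.mem_insert, not_or, Finset.mem_erase] at hφ ⊢
        exact ⟨hφ.2.1, hφ.1, hφ.2.2.2⟩
      have h6 := Finset.card_le_card h5
      rw [Finset.card_erase_of_mem (Finset.mem_sdiff.mpr ⟨hχU, hχ1⟩)] at h6
      omega

end chain

section above
variable {L : Type u} [Group L] [Fintype L] {K : Subgroup L}

theorem above_anti {A B : Subgroup L} (h : A ≤ B) : inducedIrrAbove K B ⊆ inducedIrrAbove K A := by
  rintro φ ⟨θ, h1, h2, h3, rfl⟩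
  exact ⟨θ, h1, h2, fun a ha => h3 a (h ha), rfl⟩

theorem above_sub (A : Subgroup L) : inducedIrrAbove K A ⊆ inducedIrrAbove K ⊥ := above_anti bot_le

theorem above_conj {A : Subgroup L} {φ : L → ℂ} (h : φ ∈ inducedIrrAbove K A) : conjFun φ ∈ inducedIrrAbove K A := by
  obtain ⟨θ, h1, h2, h3, rfl⟩ := h
  refine ⟨conjFun θ, conj_irr h1, ?_, ?_, (ind_conjFun θ).symm⟩
  · intro h4
    apply h2
    funext x
    have := congrArg (starRingEnd ℂ) (congrFun h4 x)
    simpa [conjFun] using this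
  · intro a ha
    show (starRingEnd ℂ) (θ a) = (starRingEnd ℂ) (θ 1)
    rw [h3 a ha]

theorem mem_above_iff (hK : K.Normal) {A : Subgroup L} (hA : A.Normal) {θ : K → ℂ} (hθ : IsIrrCharacter K θ) :
    indFun K θ ∈ inducedIrrAbove K A ↔ θ ≠ (fun _ => 1) ∧ ∀ a : K, (a : L) ∈ A → θ a = θ 1 := by
  haveI : Fintype K := Fintype.ofFinite K
  constructor
  · rintro ⟨θ', h1, h2, h3, h4⟩
    obtain ⟨g, rfl⟩ := (ind_eq_iff_conj hK h1 hθ).mp h4
    refine ⟨?_, ?_⟩
    · intro h5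
      apply h2
      funext x
      have h6 := congrFun h5 (conjAut hK g⁻¹ x)
      rw [conjBy_apply] at h6
      have h7 : conjAut hK g (conjAut hK g⁻¹ x) = x := by
        apply Subtype.ext
        rw [conjAut_coe, conjAut_coe]; group
      rw [h7] at h6
      exact h6
    · intro a ha
      rw [conjBy_apply, conjBy_apply, map_one]
      apply h3
      rw [conjAut_coe]
      exact hA.conj_mem _ ha g
  · rintro ⟨h1, h2⟩
    exact ⟨θ, hθ, h1, h2, rfl⟩

theorem above_sum (hK : K.Normal) {A : Subgroup L} (hA : A.Normal) (F : Finset (L → ℂ)) (hF : (F : Set (L → ℂ)) = inducedIrrAbove K A) :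
    ∑ φ ∈ F, (φ 1) ^ 2 / classInner φ φ = (K.index : ℂ) * ((A.relIndex K : ℂ) - 1) := by
  classical
  haveI : Fintype K := Fintype.ofFinite K
  have hF' : ∀ φ, φ ∈ F ↔ φ ∈ inducedIrrAbove K A := fun φ => by rw [← hF]; rfl
  rw [sum_weight hK F (fun φ hφ => by
    obtain ⟨θ, h1, _, _, h4⟩ := (hF' φ).mp hφ
    exact ⟨θ, h1, h4⟩)]
  congr 1
  have hNn : (A.subgroupOf K).Normal := hA.subgroupOf K
  have h1 := sum_sq_above (A.subgroupOf K) hNn
  have h2 : ∀ θ : IrrCharacter K, (if indFun K (θ : K → ℂ) ∈ F then ((θ : K → ℂ) 1) ^ 2 else 0) =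
      (if ∀ n ∈ A.subgroupOf K, (θ : K → ℂ) n = (θ : K → ℂ) 1 then ((θ : K → ℂ) 1) ^ 2 else 0) -
      (if θ = ⟨fun _ => 1, H5.isIrrCharacter_trivial⟩ then 1 else 0) := by
    intro θ
    by_cases h0 : θ = ⟨fun _ => 1, H5.isIrrCharacter_trivial⟩
    · rw [if_pos h0, if_neg, if_pos]
      · rw [h0]; simp
      · intro n _; rw [h0]
      · rw [hF', mem_above_iff hK hA θ.2]
        rintro ⟨h, _⟩
        exact h (by rw [h0])
    · rw [if_neg h0, sub_zero]
      congr 1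
      rw [hF', mem_above_iff hK hA θ.2]
      apply propext
      constructor
      · rintro ⟨_, h⟩ n hn
        exact h n (Subgroup.mem_subgroupOf.mp hn)
      · intro h
        exact ⟨fun h' => h0 (Subtype.ext h'), fun a ha => h a (Subgroup.mem_subgroupOf.mpr ha)⟩
  rw [Finset.sum_congr rfl (fun θ _ => h2 θ), Finset.sum_sub_distrib, h1]
  rw [Finset.sum_ite_eq' Finset.univ]
  simp [Subgroup.relIndex]

/-- a nontrivial solvable quotient has a nontrivial linear character. -/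
theorem exists_linear_above (hsolv : Group.IsSolvable K) {A : Subgroup L} (hA : (A.subgroupOf K).Normal) (hAK : A < K) :
    ∃ θ : K → ℂ, IsIrrCharacter K θ ∧ θ ≠ (fun _ => 1) ∧ (∀ a : K, (a : L) ∈ A → θ a = θ 1) ∧ θ 1 = 1 := by
  have hs : IsSolvable K := hsolv
  have hne : A.subgroupOf K ≠ ⊤ := by
    rw [Ne, Subgroup.subgroupOf_eq_top]
    exact not_le_of_gt hAK
  haveI : Nontrivial (K ⧸ A.subgroupOf K) := by
    rw [← not_subsingleton_iff_nontrivial]
    intro h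
    exact hne (QuotientGroup.subgroup_eq_top_of_subsingleton _ h)
  have hcomm : commutator (K ⧸ A.subgroupOf K) < ⊤ := IsSolvable.commutator_lt_top_of_nontrivial _
  have hcard : 1 < Nat.card ((K ⧸ A.subgroupOf K) →* ℂˣ) := by
    rw [card_hom_units]
    have h1 : (commutator (K ⧸ A.subgroupOf K)).index ≠ 0 := Subgroup.index_ne_zero_of_finite
    have h2 : (commutator (K ⧸ A.subgroupOf K)).index ≠ 1 := fun h => hcomm.ne (Subgroup.index_eq_one.mp h)
    omega
  haveI : Finite ((K ⧸ A.subgroupOf K) →* ℂˣ) := Nat.finite_of_card_ne_zero (by omega)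
  haveI : Nontrivial ((K ⧸ A.subgroupOf K) →* ℂˣ) := Finite.one_lt_card_iff_nontrivial.mp hcard
  obtain ⟨lam, hlam⟩ := exists_ne (1 : (K ⧸ A.subgroupOf K) →* ℂˣ)
  refine ⟨fun g => ((lam.comp (QuotientGroup.mk' _) g : ℂˣ) : ℂ), isIrr_hom _, ?_, ?_, ?_⟩
  · intro h
    apply hlam
    refine MonoidHom.ext fun x => ?_
    obtain ⟨x, rfl⟩ := QuotientGroup.mk'_surjective _ x
    have h5 := congrFun h x
    apply Units.ext
    exact h5
  · intro a ha
    have : (QuotientGroup.mk' (A.subgroupOf K)) a = 1 := by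
      rw [QuotientGroup.mk'_apply, QuotientGroup.eq_one_iff]
      exact Subgroup.mem_subgroupOf.mpr ha
    simp only [MonoidHom.comp_apply, this, map_one]
  · simp

end above

section main
variable {L : Type u} [Group L] [Fintype L] {G : Type v} [Group G] [Fintype G] {τ : (L → ℂ) → (G → ℂ)}
variable {R : (L → ℂ) → Finset (G → ℂ)} {K : Subgroup L}

theorem above_nonempty (hsolv : Group.IsSolvable K) {A : Subgroup L} (hA : A.Normal) (hAK : A < K) : (inducedIrrAbove K A).Nonempty := by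
  obtain ⟨θ, h1, h2, h3, h4⟩ := exists_linear_above hsolv (hA.subgroupOf K) hAK
  exact ⟨indFun K θ, θ, h1, h2, h3, rfl⟩

theorem cs_finite {S : Set (L → ℂ)} (hS : IsCoherenceSystem S τ R) : S.Finite :=
  finite_of_orthogonal S (fun φ hφ ψ hψ h => hS.orthogonal φ hφ ψ hψ h) (fun φ hφ => cs_ne_zero hS hφ)

/-- Peterfalvi (6.2). -/
theorem coherent_62 (hK : K.Normal) (hsolv : Group.IsSolvable K) (hS : IsCoherenceSystem (inducedIrrAbove K ⊥) τ R)
    (A B C D : Subgroup L) (hA : A.Normal) (hB : B.Normal) (hAK : A < K) (hBK : B < K) (hDC : D ≤ C) (hCK : C ≤ K)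
    (hcent : ∀ x ∈ D, ∀ y ∈ C, x * y * x⁻¹ * y⁻¹ ∈ B) (hcoh : IsCoherent (inducedIrrAbove K A) {1}ᶜ τ)
    (hlt : 4 * C.index ^ 2 * D.relIndex C < (A.relIndex K - 1) ^ 2) : IsCoherent (inducedIrrAbove K B) {1}ᶜ τ := by
  classical
  have hfin := cs_finite hS
  have hfA : (inducedIrrAbove K A).Finite := hfin.subset (above_sub A)
  have hfB : (inducedIrrAbove K B).Finite := hfin.subset (above_sub B)
  set FA := hfA.toFinset with hFA
  set FB := hfB.toFinset with hFB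
  have eA : (FA : Set (L → ℂ)) = inducedIrrAbove K A := hfA.coe_toFinset
  have eB : (FB : Set (L → ℂ)) = inducedIrrAbove K B := hfB.coe_toFinset
  have mA : ∀ φ, φ ∈ FA ↔ φ ∈ inducedIrrAbove K A := fun φ => hfA.mem_toFinset
  have mB : ∀ φ, φ ∈ FB ↔ φ ∈ inducedIrrAbove K B := fun φ => hfB.mem_toFinset
  have hdex : ∀ φ : L → ℂ, ∃ d : ℕ, φ ∈ inducedIrrAbove K ⊥ → φ 1 = (d : ℂ) := by
    intro φ
    by_cases h : φ ∈ inducedIrrAbove K ⊥
    · obtain ⟨d, hd⟩ := IsChar.exists_degree (hS.isCharacter φ h)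
      exact ⟨d, fun _ => hd⟩
    · exact ⟨0, fun h' => absurd h' h⟩
  choose d hd using hdex
  have hnex : ∀ φ : L → ℂ, ∃ n : ℕ, φ ∈ inducedIrrAbove K ⊥ → classInner φ φ = (n : ℂ) := by
    intro φ
    by_cases h : φ ∈ inducedIrrAbove K ⊥
    · obtain ⟨n, _, hn, _⟩ := cs_norm_nat hS h
      exact ⟨n, fun _ => hn⟩
    · exact ⟨0, fun h' => absurd h' h⟩
  choose n hn using hnex
  obtain ⟨θ₁, a1, a2, a3, a4⟩ := exists_linear_above hsolv (hA.subgroupOf K) hAK
  have hχ₁ : indFun K θ₁ ∈ inducedIrrAbove K A := ⟨θ₁, a1, a2, a3, rfl⟩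
  have hd₁ : d (indFun K θ₁) = K.index := by
    have h1 := hd _ (above_sub A hχ₁)
    rw [indFun_one, a4, mul_one] at h1
    exact_mod_cast h1.symm
  have hsumA : ∑ φ ∈ FA, ((d φ : ℝ) ^ 2 / (n φ : ℝ)) = (K.index : ℝ) * ((A.relIndex K : ℝ) - 1) := by
    have h1 := above_sum hK hA FA eA
    have h2 : ∑ φ ∈ FA, (φ 1) ^ 2 / classInner φ φ = ((∑ φ ∈ FA, ((d φ : ℝ) ^ 2 / (n φ : ℝ)) : ℝ) : ℂ) := by
      push_cast
      apply Finset.sum_congr rfl; intro φ hφ
      rw [hd φ (above_sub A ((mA φ).mp hφ)), hn φ (above_sub A ((mA φ).mp hφ))]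
    rw [h2] at h1
    exact_mod_cast h1
  have hidx : C.index = C.relIndex K * K.index := (Subgroup.relIndex_mul_index hCK).symm
  have he : 0 < K.index := Nat.pos_of_ne_zero Subgroup.index_ne_zero_of_finite
  have hineq : ∀ χ ∈ FB, ∃ χ₁ ∈ FA, d χ₁ ∣ d χ ∧ (2 * d χ * d χ₁ : ℝ) < ∑ φ ∈ FA, ((d φ : ℝ) ^ 2 / (n φ : ℝ)) := by
    intro χ hχ
    obtain ⟨θ, b1, b2, b3, rfl⟩ := (mB χ).mp hχ
    obtain ⟨b, hb, hb1⟩ := IsIrr.exists_degree b1
    have hdχ : d (indFun K θ) = K.index * b := by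
      have h1 := hd _ (above_sub B ((mB _).mp hχ))
      rw [indFun_one, hb1] at h1
      exact_mod_cast h1.symm
    have hbb := degree_bound b1 (C.subgroupOf K) (D.subgroupOf K) (Subgroup.comap_mono hDC) (by
      intro x hx y hy
      apply b3
      have := hcent x (Subgroup.mem_subgroupOf.mp hx) y (Subgroup.mem_subgroupOf.mp hy)
      simpa using this) b hb1
    rw [Subgroup.relIndex_subgroupOf hCK] at hbb
    haveI : Fintype K := Fintype.ofFinite K
    refine ⟨indFun K θ₁, (mA _).mpr hχ₁, ?_, ?_⟩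
    · rw [hd₁, hdχ]; exact dvd_mul_right _ _
    · rw [hd₁, hdχ, hsumA]
      have h1 : (2 * K.index * b) ^ 2 < (A.relIndex K - 1) ^ 2 := by
        calc (2 * K.index * b) ^ 2 = 4 * K.index ^ 2 * b ^ 2 := by ring
          _ ≤ 4 * K.index ^ 2 * ((C.subgroupOf K).index ^ 2 * D.relIndex C) := Nat.mul_le_mul_left _ hbb
          _ = 4 * C.index ^ 2 * D.relIndex C := by
            rw [hidx, show C.relIndex K = (C.subgroupOf K).index from rfl]; ring
          _ < _ := hlt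
      have h2 : 2 * K.index * b < A.relIndex K - 1 := lt_of_pow_lt_pow_left₀ 2 (Nat.zero_le _) h1
      have h3 : ((2 * K.index * b : ℕ) : ℝ) < (A.relIndex K : ℝ) - 1 := by
        have : 2 * K.index * b + 1 < A.relIndex K := by omega
        have : ((2 * K.index * b + 1 : ℕ) : ℝ) < (A.relIndex K : ℝ) := by exact_mod_cast this
        push_cast at this ⊢; linarith
      push_cast at h3 ⊢
      have her : (0 : ℝ) < K.index := by exact_mod_cast he
      nlinarith
  have hAS : (FA : Set (L → ℂ)) ⊆ inducedIrrAbove K ⊥ := by rw [eA]; exact above_sub A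
  have hBS : (FB : Set (L → ℂ)) ⊆ inducedIrrAbove K ⊥ := by rw [eB]; exact above_sub B
  have hch := coherent_chain hS d n hd hn FA FB hBS (fun φ hφ => (mB _).mpr (above_conj ((mB _).mp hφ))) hineq _ FA (le_refl _)
    hAS (fun φ hφ => (mA _).mpr (above_conj ((mA _).mp hφ))) (by rw [eA]; exact hcoh) (le_refl _)
  rw [eA, eB] at hch
  exact coherent_mono hS Set.subset_union_right (Set.union_subset (above_sub A) (above_sub B)) (above_nonempty hsolv hB hBK)
    (fun φ hφ => above_conj hφ) hch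

end main

end Cfsg.Agent.H4
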