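import Cfsg.Agent.H4.Coh7

set_option linter.all false
set_option autoImplicit false

/-! Coherence: Peterfalvi (6.3). -/

namespace Cfsg.Agent.H4

open Module
open scoped ComplexConjugate Pointwise commutatorElement

universe u v w

theorem relIndex_ne_zero_fin {L : Type u} [Group L] [Finite L] (H K : Subgroup L) : H.relIndex K ≠ 0 :=
  Subgroup.index_ne_zero_of_finite

theorem card_lt_of_lt_fin {L : Type u} [Group L] [Finite L] {H K : Subgroup L} (h : H < K) : Nat.card H < Nat.card K := by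
  have h1 := Subgroup.card_le_of_le h.le
  rcases h1.lt_or_eq with h2 | h2
  · exact h2
  · exact absurd (Subgroup.eq_of_le_of_card_ge h.le h2.ge) h.ne

section nil
variable {L : Type u} [Group L]

theorem lcs_le_of_quot {H M : Subgroup L} [(M.subgroupOf H).Normal] (hnil : Group.IsNilpotent (↥H ⧸ M.subgroupOf H)) :
    ∃ n, H.lowerCentralSeries n ≤ M := by
  obtain ⟨n, hn⟩ := Subgroup.nilpotent_iff_lowerCentralSeries.mp hnil
  refine ⟨n, ?_⟩
  rw [← Subgroup.top_subtype_lowerCentralSeries]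
  have h1 : ((⊤ : Subgroup H).lowerCentralSeries n).map (QuotientGroup.mk' (M.subgroupOf H)) = ⊥ := by
    rw [Subgroup.map_lowerCentralSeries, Subgroup.map_top_of_surjective _ (QuotientGroup.mk'_surjective _), hn]
  have h2 : (⊤ : Subgroup H).lowerCentralSeries n ≤ M.subgroupOf H := by
    rw [(Subgroup.map_eq_bot_iff _), QuotientGroup.ker_mk'] at h1
    exact h1
  rintro _ ⟨x, hx, rfl⟩
  exact Subgroup.mem_subgroupOf.mp (h2 hx)

theorem commutator_sup_le {X B H : Subgroup L} (hB : B.Normal) : ⁅X ⊔ B, H⁆ ≤ ⁅X, H⁆ ⊔ B := by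
  rw [Subgroup.commutator_le]
  intro g hg h hh
  obtain ⟨x, hx, b, hb, rfl⟩ := Subgroup.mem_sup_of_normal_right.mp hg
  have e : ⁅x * b, h⁆ = (x * (b * (h * b⁻¹ * h⁻¹)) * x⁻¹) * ⁅x, h⁆ := by
    rw [commutatorElement_def, commutatorElement_def]; group
  rw [e]
  apply Subgroup.mul_mem
  · apply Subgroup.mem_sup_right
    apply hB.conj_mem
    exact B.mul_mem hb (hB.conj_mem _ (B.inv_mem hb) h)
  · exact Subgroup.mem_sup_left (Subgroup.commutator_mem_commutator hx hh)

theorem le_of_le_commutator_sup {H A B : Subgroup L} (hB : B.Normal) {n : ℕ} (hn : H.lowerCentralSeries n ≤ B) (hAH : A ≤ H)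
    (h : A ≤ ⁅A, H⁆ ⊔ B) : A ≤ B := by
  have key : ∀ k, A ≤ H.lowerCentralSeries k ⊔ B := by
    intro k
    induction k with
    | zero => exact hAH.trans le_sup_left
    | succ k ih =>
      calc A ≤ ⁅A, H⁆ ⊔ B := h
        _ ≤ ⁅H.lowerCentralSeries k ⊔ B, H⁆ ⊔ B := sup_le_sup_right (Subgroup.commutator_mono ih (le_refl _)) _
        _ ≤ (⁅H.lowerCentralSeries k, H⁆ ⊔ B) ⊔ B := sup_le_sup_right (commutator_sup_le hB) _
        _ = H.lowerCentralSeries (k + 1) ⊔ B := by rw [sup_assoc, sup_idem, Subgroup.lowerCentralSeries_succ]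
  exact (key n).trans (sup_le hn (le_refl _))

end nil

section main
variable {L : Type u} [Group L] [Fintype L] {G : Type v} [Group G] [Fintype G] {τ : (L → ℂ) → (G → ℂ)}
variable {R : (L → ℂ) → Finset (G → ℂ)} {K : Subgroup L}

/-- Peterfalvi (6.3). -/
theorem coherent_63 (hK : K.Normal) (hsolv : Group.IsSolvable K) (hS : IsCoherenceSystem (inducedIrrAbove K ⊥) τ R)
    (M H₁ H : Subgroup L) (hM : M.Normal) (hH₁ : H₁.Normal) (hH : H.Normal) (hMH₁ : M ≤ H₁) (hH₁H : H₁ ≤ H) (hHK : H ≤ K)
    (hnil : ∃ n, H.lowerCentralSeries n ≤ M) (hcoh : IsCoherent (inducedIrrAbove K H₁) {1}ᶜ τ)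
    (hbig : 4 * K.index ^ 2 + 1 < H₁.relIndex H) : IsCoherent (inducedIrrAbove K M) {1}ᶜ τ := by
  obtain ⟨n, hn⟩ := hnil
  have key : ∀ (m : ℕ) (A : Subgroup L), A.Normal → M ≤ A → A ≤ H₁ → IsCoherent (inducedIrrAbove K A) {1}ᶜ τ → Nat.card A ≤ m →
      IsCoherent (inducedIrrAbove K M) {1}ᶜ τ := by
    intro m
    induction m with
    | zero => intro A _ _ _ _ h; exact absurd h (by have := Nat.card_pos (α := A); omega)
    | succ m ih =>
      intro A hA hMA hAH₁ hcohA hcard
      by_cases hMA' : A = M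
      · rw [← hMA']; exact hcohA
      have hMltA : M < A := lt_of_le_of_ne hMA (Ne.symm hMA')
      have hfin : {B : Subgroup L | B.Normal ∧ M ≤ B ∧ B < A}.Finite := Set.toFinite _
      obtain ⟨B, hBmax⟩ := hfin.exists_maximal ⟨M, hM, le_refl _, hMltA⟩
      obtain ⟨hB, hMB, hBA⟩ := hBmax.prop
      have hcomm : ⁅A, H⁆ ≤ B := by
        have hX : (⁅A, H⁆ ⊔ B).Normal := by
          haveI := hA; haveI := hH; haveI := hB
          infer_instance
        have hXA : ⁅A, H⁆ ⊔ B ≤ A := by
          haveI := hA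
          exact sup_le (Subgroup.commutator_le_left A H) hBA.le
        rcases eq_or_lt_of_le hXA with h | h
        · exact absurd (le_of_le_commutator_sup hB (hn.trans hMB) (hAH₁.trans hH₁H) h.ge) (not_le_of_gt hBA)
        · have := hBmax.le_of_ge (show (⁅A, H⁆ ⊔ B) ∈ {B : Subgroup L | B.Normal ∧ M ≤ B ∧ B < A} from ⟨hX, hMB.trans le_sup_right, h⟩) le_sup_right
          exact le_sup_left.trans this
      have hAH : A ≤ H := hAH₁.trans hH₁H
      have hbig' : 4 * K.index ^ 2 + 2 ≤ A.relIndex H := by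
        have h1 : H₁.relIndex H ∣ A.relIndex H := Subgroup.relIndex_dvd_of_le_left H hAH₁
        have h2 : A.relIndex H ≠ 0 := (relIndex_ne_zero_fin _ _)
        have := Nat.le_of_dvd (Nat.pos_of_ne_zero h2) h1
        omega
      have hAK : A < K := by
        refine lt_of_le_of_ne (hAH.trans hHK) ?_
        rintro rfl
        have : H = A := le_antisymm hHK hAH
        rw [this, Subgroup.relIndex_self] at hbig'
        have : 0 < A.index := Nat.pos_of_ne_zero Subgroup.index_ne_zero_of_finite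
        omega
      have hk : 1 ≤ H.relIndex K := Nat.one_le_iff_ne_zero.mpr (relIndex_ne_zero_fin _ _)
      have he : 1 ≤ K.index := Nat.one_le_iff_ne_zero.mpr Subgroup.index_ne_zero_of_finite
      have hcohB := coherent_62 hK hsolv hS A B H A hA hB hAK (hBA.trans hAK) hAH hHK (fun x hx y hy => hcomm (Subgroup.commutator_mem_commutator hx hy)) hcohA (by
        rw [← Subgroup.relIndex_mul_index hHK, ← Subgroup.relIndex_mul_relIndex A H K hAH hHK]
        generalize A.relIndex H = h at hbig' ⊢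
        generalize H.relIndex K = k at hk ⊢
        generalize K.index = e at hbig' he ⊢
        obtain ⟨u, hu⟩ : ∃ u, h * k = u + 1 := ⟨h * k - 1, by
          have : 1 ≤ h * k := Nat.mul_pos (by omega) hk
          omega⟩
        rw [hu, Nat.add_sub_cancel]
        have h1 : (4 * e ^ 2 + 2) * (k ^ 2 * h) ≤ (u + 1) ^ 2 := by
          calc (4 * e ^ 2 + 2) * (k ^ 2 * h) ≤ h * (k ^ 2 * h) := Nat.mul_le_mul_right _ hbig'
            _ = (h * k) ^ 2 := by ring
            _ = (u + 1) ^ 2 := by rw [hu]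
        have h2 : 2 * (u + 1) ≤ 2 * (k ^ 2 * h) := by
          rw [← hu]
          have : h * k ≤ k ^ 2 * h := by
            calc h * k = h * k * 1 := by ring
              _ ≤ h * k * k := Nat.mul_le_mul_left _ hk
              _ = k ^ 2 * h := by ring
          omega
        have h3 : 4 * (k * e) ^ 2 * h = 4 * e ^ 2 * (k ^ 2 * h) := by ring
        rw [h3]
        have h4 : (u + 1) ^ 2 = u ^ 2 + 2 * u + 1 := by ring
        have h5 : (4 * e ^ 2 + 2) * (k ^ 2 * h) = 4 * e ^ 2 * (k ^ 2 * h) + 2 * (k ^ 2 * h) := by ring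
        omega)
      refine ih B hB hMB (hBA.le.trans hAH₁) hcohB ?_
      have : Nat.card B < Nat.card A := by
        have h1 := card_lt_of_lt_fin hBA
        exact h1
      omega
  exact key _ H₁ hH₁ hMH₁ (le_refl _) hcoh (le_refl _)

end main

end Cfsg.Agent.H4
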