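import Cfsg.Agent.H4.PowMap

namespace Cfsg.Agent.H4
open scoped ComplexConjugate
universe u
variable {G : Type u} [Group G]

section
variable [Fintype G] {χ : G → ℂ}

theorem char_cyc {χ : G → ℂ} (h : IsClassFunction G χ) (a b : G) : χ (a * b) = χ (b * a) := by
  have := h (a * b) a⁻¹
  rw [← this]; congr 1; group

theorem sum_inv_mul (hχ : IsIrrCharacter G χ) (h : G) :
    ∑ x : G, χ x * χ (x⁻¹ * h) = Nat.card G * χ h / χ 1 := by
  have hcl := H5.IsCharacter.classFun (H5.IsIrr.isCharacter hχ)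
  have hG : (Nat.card G : ℂ) ≠ 0 := by exact_mod_cast Nat.card_pos.ne'
  have h1 := H5.IsIrr.one_ne_zero hχ
  have e1 : ∀ t : G, ∑ x : G, χ x * χ (x⁻¹ * h) = ∑ x : G, χ x * χ (t * x⁻¹ * t⁻¹ * h) := by
    intro t
    rw [← Equiv.sum_comp (MulAut.conj t).toEquiv]
    refine Finset.sum_congr rfl fun x _ => ?_
    have h2 : χ ((MulAut.conj t) x) = χ x := by
      rw [MulAut.conj_apply]; exact hcl x t
    show χ ((MulAut.conj t) x) * χ (((MulAut.conj t) x)⁻¹ * h) = _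
    rw [h2, MulAut.conj_apply]
    congr 2; group
  have e2 : (Nat.card G : ℂ) * ∑ x : G, χ x * χ (x⁻¹ * h) = ∑ x : G, χ x * ∑ t : G, χ (t * x⁻¹ * t⁻¹ * h) := by
    simp only [Finset.mul_sum]
    rw [Finset.sum_comm (s := (Finset.univ : Finset G)) (t := (Finset.univ : Finset G)) (f := fun x t => χ x * χ (t * x⁻¹ * t⁻¹ * h))]
    rw [← Finset.mul_sum, Finset.sum_congr rfl (fun t _ => (e1 t).symm), Finset.sum_const, Finset.card_univ, nsmul_eq_mul,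
      Nat.card_eq_fintype_card]
  have e3 : ∑ x : G, χ x * χ x⁻¹ = Nat.card G := by
    have h3 : classInner χ χ = 1 := H5.classInner_irr_self ⟨χ, hχ⟩
    rw [H5.classInner_def] at h3
    field_simp at h3
    rw [← h3]
    refine Finset.sum_congr rfl fun x _ => ?_
    rw [H5.IsCharacter.inv_eq_conj (H5.IsIrr.isCharacter hχ)]
  have e4 : (Nat.card G : ℂ) * ∑ x : G, χ x * χ (x⁻¹ * h) = (Nat.card G : ℂ) * (Nat.card G * χ h / χ 1) := by
    rw [e2]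
    simp only [H5.irr_sum_conj_mul hχ]
    have : ∑ x : G, χ x * ((Nat.card G : ℂ) * χ x⁻¹ * χ h / χ 1) = (∑ x : G, χ x * χ x⁻¹) * ((Nat.card G : ℂ) * χ h / χ 1) := by
      rw [Finset.sum_mul]
      refine Finset.sum_congr rfl fun x _ => by ring
    rw [this, e3]
  exact mul_left_cancel₀ hG e4

/-- sum over all commutators -/
theorem sum_comm_mul (hχ : IsIrrCharacter G χ) (h : G) :
    ∑ x : G, ∑ y : G, χ (y * x * y⁻¹ * x⁻¹ * h) = Nat.card G ^ 2 * χ h / χ 1 ^ 2 := by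
  have h1 := H5.IsIrr.one_ne_zero hχ
  have e1 : ∀ x : G, ∑ y : G, χ (y * x * y⁻¹ * x⁻¹ * h) = Nat.card G * (χ x * χ (x⁻¹ * h)) / χ 1 := by
    intro x
    have := H5.irr_sum_conj_mul hχ x (x⁻¹ * h)
    simp only [← mul_assoc] at this ⊢
    rw [this]
  simp only [e1]
  rw [← Finset.sum_div, ← Finset.mul_sum, sum_inv_mul hχ]
  field_simp

open Classical in
theorem count_comm (z : G) : (Nat.card {xy : G × G // xy.1 * xy.2 * xy.1⁻¹ * xy.2⁻¹ = z} : ℂ)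
    = Nat.card G * ∑ χ : IrrCharacter G, (χ : G → ℂ) z / (χ : G → ℂ) 1 := by
  have hG : (Nat.card G : ℂ) ≠ 0 := by exact_mod_cast Nat.card_pos.ne'
  have e1 : (Nat.card {xy : G × G // xy.1 * xy.2 * xy.1⁻¹ * xy.2⁻¹ = z} : ℂ)
      = ∑ x : G, ∑ y : G, if (y * x * y⁻¹ * x⁻¹ * z = 1) then (1 : ℂ) else 0 := by
    rw [Nat.card_eq_fintype_card, Fintype.card_subtype, Finset.card_filter, ← Finset.sum_product']
    push_cast
    rw [Finset.univ_product_univ]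
    refine Finset.sum_congr rfl fun p _ => ?_
    have : (p.1 * p.2 * p.1⁻¹ * p.2⁻¹ = z) ↔ (p.2 * p.1 * p.2⁻¹ * p.1⁻¹ * z = 1) := by
      constructor
      · rintro rfl; group
      · intro h
        have h2 : z = (p.2 * p.1 * p.2⁻¹ * p.1⁻¹)⁻¹ := by
          rw [eq_inv_iff_mul_eq_one]
          have := congrArg (fun t => (p.2 * p.1 * p.2⁻¹ * p.1⁻¹)⁻¹ * t * (p.2 * p.1 * p.2⁻¹ * p.1⁻¹)) h
          simpa [mul_assoc] using this
        rw [h2]; group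
    simp only [this]
  have e2 : ∀ u : G, (if u = 1 then (1 : ℂ) else 0) = (Nat.card G : ℂ)⁻¹ * ∑ χ : IrrCharacter G, (χ : G → ℂ) 1 * (χ : G → ℂ) u := by
    intro u
    rw [H5.sum_irr_one_mul]
    split_ifs <;> simp [hG]
  rw [e1]
  simp only [e2]
  have e3 : ∑ x : G, ∑ y : G, (Nat.card G : ℂ)⁻¹ * ∑ χ : IrrCharacter G, (χ : G → ℂ) 1 * (χ : G → ℂ) (y * x * y⁻¹ * x⁻¹ * z)
      = (Nat.card G : ℂ)⁻¹ * ∑ χ : IrrCharacter G, (χ : G → ℂ) 1 * ∑ x : G, ∑ y : G, (χ : G → ℂ) (y * x * y⁻¹ * x⁻¹ * z) := by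
    simp only [Finset.mul_sum]
    rw [Finset.sum_comm' (t' := Finset.univ) (s' := fun _ => Finset.univ) (by simp)]
    rw [Finset.sum_comm]
    conv_rhs => rw [Finset.sum_comm]
    refine Finset.sum_congr rfl fun x _ => ?_
    rw [Finset.sum_comm]
  rw [e3]
  simp only [fun χ : IrrCharacter G => sum_comm_mul χ.2 z]
  rw [Finset.mul_sum, Finset.mul_sum]
  refine Finset.sum_congr rfl fun χ _ => ?_
  have h1 := H5.IsIrr.one_ne_zero χ.2
  field_simp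

open Classical in
theorem sum_comm4 (hχ : IsIrrCharacter G χ) (h : G) :
    ∑ a : G, ∑ b : G, ∑ x : G, ∑ y : G, χ ((y * x * y⁻¹ * x⁻¹) * (b * a * b⁻¹ * a⁻¹ * h)) = Nat.card G ^ 4 * χ h / χ 1 ^ 4 := by
  have h1 := H5.IsIrr.one_ne_zero hχ
  simp only [sum_comm_mul hχ]
  rw [show ∑ a : G, ∑ b : G, (Nat.card G : ℂ) ^ 2 * χ (b * a * b⁻¹ * a⁻¹ * h) / χ 1 ^ 2 =
    (Nat.card G : ℂ) ^ 2 * (∑ a : G, ∑ b : G, χ (b * a * b⁻¹ * a⁻¹ * h)) / χ 1 ^ 2 by
    simp only [Finset.mul_sum, Finset.sum_div], sum_comm_mul hχ]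
  field_simp

open Classical in
theorem exists_comm4 (g : G) (hne : ∑ χ : IrrCharacter G, (χ : G → ℂ) g / (χ : G → ℂ) 1 ^ 3 ≠ 0) :
    ∃ a b c d : G, (a * b * a⁻¹ * b⁻¹) * (c * d * c⁻¹ * d⁻¹) = g := by
  by_contra hcon
  push Not at hcon
  apply hne
  have hG : (Nat.card G : ℂ) ≠ 0 := by exact_mod_cast Nat.card_pos.ne'
  have e1 : ∀ a b x y : G, ∑ χ : IrrCharacter G, (χ : G → ℂ) 1 * (χ : G → ℂ) ((y * x * y⁻¹ * x⁻¹) * (b * a * b⁻¹ * a⁻¹ * g)) = 0 := by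
    intro a b x y
    rw [H5.sum_irr_one_mul, if_neg]
    intro h
    apply hcon a b x y
    have h2 : g = ((y * x * y⁻¹ * x⁻¹) * (b * a * b⁻¹ * a⁻¹))⁻¹ := by
      rw [eq_inv_iff_mul_eq_one]
      have := congrArg (fun t => ((y * x * y⁻¹ * x⁻¹) * (b * a * b⁻¹ * a⁻¹))⁻¹ * t * ((y * x * y⁻¹ * x⁻¹) * (b * a * b⁻¹ * a⁻¹))) h
      simpa [mul_assoc] using this
    rw [h2]; group
  have e2 : ∑ χ : IrrCharacter G, (χ : G → ℂ) 1 * (∑ a : G, ∑ b : G, ∑ x : G, ∑ y : G, (χ : G → ℂ) ((y * x * y⁻¹ * x⁻¹) * (b * a * b⁻¹ * a⁻¹ * g))) = 0 := by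
    simp only [Finset.mul_sum]
    rw [Finset.sum_comm]
    apply Finset.sum_eq_zero; intro a _
    rw [Finset.sum_comm]
    apply Finset.sum_eq_zero; intro b _
    rw [Finset.sum_comm]
    apply Finset.sum_eq_zero; intro x _
    rw [Finset.sum_comm]
    apply Finset.sum_eq_zero; intro y _
    exact e1 a b x y
  simp only [fun χ : IrrCharacter G => sum_comm4 χ.2 g] at e2
  have e3 : (Nat.card G : ℂ) ^ 4 * ∑ χ : IrrCharacter G, (χ : G → ℂ) g / (χ : G → ℂ) 1 ^ 3 = 0 := by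
    rw [← e2, Finset.mul_sum]
    refine Finset.sum_congr rfl fun χ _ => ?_
    have h1 := H5.IsIrr.one_ne_zero χ.2
    field_simp
  exact (mul_eq_zero.1 e3).resolve_left (pow_ne_zero _ hG)

open Classical in
theorem comm4_of_lt (h : ∑ χ : IrrCharacter G, 1 / ‖(χ : G → ℂ) 1‖ ^ 2 < (2 : ℝ)) (g : G) :
    ∃ a b c d : G, (a * b * a⁻¹ * b⁻¹) * (c * d * c⁻¹ * d⁻¹) = g := by
  apply exists_comm4
  intro h0
  let t : IrrCharacter G := ⟨_, H5.isIrrCharacter_trivial⟩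
  have ht : ∀ x, (t : G → ℂ) x = 1 := fun x => rfl
  rw [← Finset.add_sum_erase _ _ (Finset.mem_univ t), ht] at h0
  rw [← Finset.add_sum_erase _ _ (Finset.mem_univ t), ht] at h
  have h1 : ‖∑ χ ∈ Finset.univ.erase t, (χ : G → ℂ) g / (χ : G → ℂ) 1 ^ 3‖ = 1 := by
    have h2 : ∑ χ ∈ Finset.univ.erase t, (χ : G → ℂ) g / (χ : G → ℂ) 1 ^ 3 = -1 := by
      have := h0
      simp only [one_pow, div_one] at this
      linear_combination this
    rw [h2]; simp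
  have h3 : ‖∑ χ ∈ Finset.univ.erase t, (χ : G → ℂ) g / (χ : G → ℂ) 1 ^ 3‖ ≤ ∑ χ ∈ Finset.univ.erase t, 1 / ‖(χ : G → ℂ) 1‖ ^ 2 := by
    refine (norm_sum_le _ _).trans (Finset.sum_le_sum fun χ _ => ?_)
    have hpos : 0 < ‖(χ : G → ℂ) 1‖ := norm_pos_iff.2 (H5.IsIrr.one_ne_zero χ.2)
    rw [norm_div, norm_pow, div_le_div_iff₀ (by positivity) (by positivity)]
    have := IsChar.norm_le (H5.IsIrr.isCharacter χ.2) g
    nlinarith [sq_nonneg ‖(χ : G → ℂ) 1‖, mul_le_mul_of_nonneg_right this (sq_nonneg ‖(χ : G → ℂ) 1‖)]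
  rw [h1] at h3
  simp only [norm_one, one_pow, div_one] at h
  linarith
end

section
open Classical in
theorem sum_norm_le [Finite G] (g : G) : ∑ χ : IrrCharacter G, ‖(χ : G → ℂ) g‖ ≤
    Real.sqrt ((Nat.card (ConjClasses G) : ℝ) * (Nat.card ↥(Subgroup.centralizer ({g} : Set G)) : ℝ)) := by
  have h1 := H5.second_orthogonality g g
  rw [if_pos (IsConj.refl _)] at h1
  have h2 : ∑ χ : IrrCharacter G, ‖(χ : G → ℂ) g‖ ^ 2 = (Nat.card (Subgroup.centralizer ({g} : Set G)) : ℝ) := by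
    have : ((∑ χ : IrrCharacter G, ‖(χ : G → ℂ) g‖ ^ 2 : ℝ) : ℂ) = ((Nat.card (Subgroup.centralizer ({g} : Set G)) : ℝ) : ℂ) := by
      push_cast
      rw [← h1]
      apply Finset.sum_congr rfl; intro χ _
      rw [Complex.mul_conj, Complex.normSq_eq_norm_sq]; push_cast; rfl
    exact_mod_cast this
  apply Real.le_sqrt_of_sq_le
  have h3 := sq_sum_le_card_mul_sum_sq (s := (Finset.univ : Finset (IrrCharacter G))) (f := fun χ => ‖(χ : G → ℂ) g‖)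
  rw [h2, Finset.card_univ, ← Nat.card_eq_fintype_card, H5.card_irr_eq_card_conjClasses] at h3
  exact h3
end

end Cfsg.Agent.H4
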