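import Cfsg.Agent.H3.FH
import Cfsg.Agent.H2.FusZJ
import Cfsg.Agent.L0.Coprime
import Cfsg.Agent.L0.Core
import Cfsg.Agent.H4.Parts
import Cfsg.Prelude.Def_LieExceptional

set_option linter.all false
set_option autoImplicit false

/-! CN-groups of odd order. -/

namespace Cfsg.Agent.H4

open Cfsg
open scoped Pointwise

universe u v w

theorem nil_image {A : Type u} {B : Type v} [Group A] [Group B] (f : A →* B) {H : Subgroup A} (h : Group.IsNilpotent H) : Group.IsNilpotent (H.map f) := by
  haveI := h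
  exact Group.nilpotent_of_surjective (f.subgroupMap H) (f.subgroupMap_surjective H)

theorem nil_of_map {A : Type u} {B : Type v} [Group A] [Group B] (f : A →* B) (hf : Function.Injective f) {H : Subgroup A} (h : Group.IsNilpotent (H.map f)) : Group.IsNilpotent H := by
  haveI := h
  exact Group.nilpotent_of_mulEquiv (H.equivMapOfInjective f hf).symm

theorem cn_of_inj {A : Type u} {B : Type v} [Group A] [Group B] (f : A →* B) (hf : Function.Injective f) (h : IsCNGroup B) : IsCNGroup A := by
  intro g hg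
  have h1 := h (f g) (fun h0 => hg (hf (by rw [h0, map_one])))
  apply nil_of_map f hf
  apply L0.isNilpotent_of_le h1
  rintro _ ⟨x, hx, rfl⟩
  rw [SetLike.mem_coe, Subgroup.mem_centralizer_singleton_iff] at hx
  rw [Subgroup.mem_centralizer_singleton_iff, ← map_mul, ← map_mul, hx]

theorem cn_sub {G : Type u} [Group G] (h : IsCNGroup G) (H : Subgroup G) : IsCNGroup H := cn_of_inj H.subtype H.subtype_injective h

theorem cn_comm {G : Type u} [Group G] [Finite G] (h : IsCNGroup G) {z x y : G} (hz : z ≠ 1) (hx : x * z = z * x) (hy : y * z = z * y)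
    (hc : (orderOf x).Coprime (orderOf y)) : x * y = y * x := by
  have h1 := H3.commute_of_coprime_of_nilpotent (h z hz) ⟨x, Subgroup.mem_centralizer_singleton_iff.mpr hx⟩ ⟨y, Subgroup.mem_centralizer_singleton_iff.mpr hy⟩
    (by rw [← Subgroup.orderOf_coe, ← Subgroup.orderOf_coe]; exact hc)
  exact congrArg Subtype.val h1

theorem eq_top_of_elts {C : Type u} [Group C] [Finite C] {p : ℕ} [hp : Fact p.Prime] (T : Sylow p C) {E : Subgroup C} (h1 : (T : Subgroup C) ≤ E)
    (h2 : ∀ y : C, (orderOf y).Coprime p → y ∈ E) : E = ⊤ := by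
  rw [← Subgroup.index_eq_one]
  by_contra hne
  obtain ⟨q, hq, hqd⟩ := Nat.exists_prime_and_dvd hne
  by_cases hqp : q = p
  · subst hqp
    exact T.not_dvd_index (hqd.trans (Subgroup.index_dvd_of_le h1))
  · haveI : Fact q.Prime := ⟨hq⟩
    obtain ⟨Q⟩ : Nonempty (Sylow q C) := inferInstance
    have h3 : (Q : Subgroup C) ≤ E := by
      intro y hy
      apply h2
      obtain ⟨k, hk⟩ := Q.isPGroup' ⟨y, hy⟩
      have h4 : y ^ q ^ k = 1 := congrArg Subtype.val hk
      exact Nat.Coprime.coprime_dvd_left (orderOf_dvd_of_pow_eq_one h4) (Nat.Coprime.pow_left k ((Nat.coprime_primes hq hp.out).mpr hqp))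
    exact Q.not_dvd_index (hqd.trans (Subgroup.index_dvd_of_le h3))

theorem isPGroup_zpowers {G : Type u} [Group G] {p : ℕ} {w : G} (hw : ∃ k, w ^ p ^ k = 1) : IsPGroup p (Subgroup.zpowers w) := by
  obtain ⟨k, hk⟩ := hw
  intro ⟨g, hg⟩
  obtain ⟨m, rfl⟩ := hg
  refine ⟨k, ?_⟩
  apply Subtype.ext
  show (w ^ m) ^ (p ^ k) = 1
  rw [← zpow_natCast, zpow_comm, zpow_natCast, hk, one_zpow]

theorem pelt_order {G : Type u} [Group G] [Finite G] {p : ℕ} (hp : p.Prime) {w : G} (hw : ∃ k, w ^ p ^ k = 1) {y : G} (hy : (orderOf y).Coprime p) : (orderOf w).Coprime (orderOf y) := by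
  obtain ⟨k, hk⟩ := hw
  exact Nat.Coprime.coprime_dvd_left (orderOf_dvd_of_pow_eq_one hk) (Nat.Coprime.pow_left k hy.symm)

theorem pgrp_pelt {G : Type u} [Group G] {p : ℕ} {V : Subgroup G} (hV : IsPGroup p V) {v : G} (hv : v ∈ V) : ∃ k, v ^ p ^ k = 1 := by
  obtain ⟨k, hk⟩ := hV ⟨v, hv⟩
  exact ⟨k, congrArg Subtype.val hk⟩

theorem pgrp_coprime {G : Type u} [Group G] [Finite G] {p : ℕ} [hp : Fact p.Prime] {V : Subgroup G} (hV : IsPGroup p V) {y : G} (hy : (orderOf y).Coprime p) :
    (Nat.card (Subgroup.zpowers y)).Coprime (Nat.card V) := by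
  obtain ⟨n, hn⟩ := IsPGroup.iff_card.mp hV
  rw [Nat.card_zpowers, hn]
  exact Nat.Coprime.pow_right n hy

/-- the p'-part -/
theorem pparts {G : Type u} [Group G] [Finite G] {p : ℕ} (hp : p.Prime) (x : G) : ∃ s t : G, x = s * t ∧ Commute s t ∧ (∃ k, s ^ p ^ k = 1) ∧ (orderOf t).Coprime p ∧
    s ∈ Subgroup.zpowers x ∧ t ∈ Subgroup.zpowers x := by
  obtain ⟨a, b, hb, hab⟩ := Nat.exists_eq_pow_mul_and_not_dvd (n := Nat.card G) Nat.card_pos.ne' p hp.ne_one
  have hcop : Nat.Coprime (p ^ a) b := Nat.Coprime.pow_left a ((Nat.Prime.coprime_iff_not_dvd hp).mpr hb)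
  obtain ⟨s, t, h1, h2, h3, h4, h5, h6⟩ := exists_parts hcop x (by rw [← hab]; exact orderOf_dvd_natCard x)
  refine ⟨s, t, h1, h2, ⟨a, orderOf_dvd_iff_pow_eq_one.mp h3⟩, ?_, h5, h6⟩
  exact Nat.Coprime.coprime_dvd_left h4 ((Nat.Prime.coprime_iff_not_dvd hp).mpr hb).symm

theorem solvable_zpowers {G : Type u} [Group G] (y : G) : Group.IsSolvable (Subgroup.zpowers y) := by
  exact Group.isSolvable_of_comm (fun a b => by
    letI := IsCyclic.commGroup (α := Subgroup.zpowers y)
    exact mul_comm a b)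

theorem cn_quot {G : Type u} [Group G] [Finite G] (hCN : IsCNGroup G) {p : ℕ} [hp : Fact p.Prime] (V : Subgroup G) [hV : V.Normal] (hVp : IsPGroup p V)
    (hVab : ∀ a ∈ V, ∀ b ∈ V, a * b = b * a) (hV1 : V ≠ ⊥) : IsCNGroup (G ⧸ V) := by
  intro xb hxb
  obtain ⟨x, rfl⟩ := QuotientGroup.mk_surjective xb
  have hxV : x ∉ V := fun h => hxb ((QuotientGroup.eq_one_iff x).mpr h)
  obtain ⟨s, t, hst, hcst, hs, ht, hs', ht'⟩ := pparts hp.out x
  by_cases htV : t ∈ V
  · -- x is a p-element
    have ht1 : t = 1 := by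
      obtain ⟨k, hk⟩ := pgrp_pelt hVp htV
      have h1 : orderOf t ∣ p ^ k := orderOf_dvd_of_pow_eq_one hk
      have h2 := Nat.Coprime.pow_right k ht
      exact orderOf_eq_one_iff.mp (Nat.eq_one_of_dvd_coprimes h2 dvd_rfl h1)
    rw [ht1, mul_one] at hst
    rw [← hst] at hs
    set C := (Subgroup.centralizer ({(x : G ⧸ V)} : Set (G ⧸ V))).comap (QuotientGroup.mk' V) with hC
    have hVC : V ≤ C := by
      intro v hv
      rw [hC, Subgroup.mem_comap, Subgroup.mem_centralizer_singleton_iff]
      have : (QuotientGroup.mk' V) v = 1 := (QuotientGroup.eq_one_iff v).mpr hv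
      rw [this]; simp
    set X := Subgroup.zpowers x ⊔ V with hX
    have hXp : IsPGroup p X := IsPGroup.to_sup_of_normal_right (isPGroup_zpowers hs) hVp
    have hmemC : ∀ g, g ∈ C ↔ g * x * g⁻¹ * x⁻¹ ∈ V := by
      intro g
      rw [hC, Subgroup.mem_comap, Subgroup.mem_centralizer_singleton_iff, ← QuotientGroup.eq_one_iff]
      constructor
      · intro h
        show ((g * x * g⁻¹ * x⁻¹ : G) : G ⧸ V) = 1
        rw [QuotientGroup.mk_mul, QuotientGroup.mk_mul, QuotientGroup.mk_mul, QuotientGroup.mk_inv, QuotientGroup.mk_inv]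
        have h' : (g : G ⧸ V) * x = x * g := h
        rw [h']; group
      · intro h
        rw [QuotientGroup.mk_mul, QuotientGroup.mk_mul, QuotientGroup.mk_mul, QuotientGroup.mk_inv, QuotientGroup.mk_inv] at h
        show (g : G ⧸ V) * x = x * g
        calc (g : G ⧸ V) * x = ((g : G ⧸ V) * x * (g : G ⧸ V)⁻¹ * (x : G ⧸ V)⁻¹) * (x * g) := by group
          _ = _ := by rw [h, one_mul]
    have hxC : x ∈ C := by rw [hmemC]; simp
    have hXC : X ≤ C := sup_le (by rw [Subgroup.zpowers_le]; exact hxC) hVC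
    have hCX : C ≤ Subgroup.normalizer (X : Set G) := by
      have h1 : ∀ g ∈ C, ∀ w ∈ X, g * w * g⁻¹ ∈ X := by
        intro g hg w hw
        have h2 : X ≤ X.comap (MulAut.conj g).toMonoidHom := by
          rw [hX]
          apply sup_le
          · rw [Subgroup.zpowers_le, Subgroup.mem_comap]
            show g * x * g⁻¹ ∈ _
            have h3 := (hmemC g).mp hg
            have h4 : g * x * g⁻¹ = (g * x * g⁻¹ * x⁻¹) * x := by group
            rw [h4]
            exact Subgroup.mul_mem _ (Subgroup.mem_sup_right h3) (Subgroup.mem_sup_left (Subgroup.mem_zpowers x))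
          · intro v hv
            rw [Subgroup.mem_comap]
            exact Subgroup.mem_sup_right (hV.conj_mem v hv g)
        exact h2 hw
      intro g hg
      rw [Subgroup.mem_normalizer_iff]
      intro w
      refine ⟨h1 g hg w, fun h => ?_⟩
      have h2 := h1 g⁻¹ (C.inv_mem hg) _ h
      have h3 : g⁻¹ * (g * w * g⁻¹) * g⁻¹⁻¹ = w := by group
      rwa [h3] at h2
    obtain ⟨T⟩ : Nonempty (Sylow p C) := inferInstance
    have hT'p : IsPGroup p ((T : Subgroup C).map C.subtype) := T.isPGroup'.map _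
    have hXT : X ≤ (T : Subgroup C).map C.subtype := by
      haveI : (X.subgroupOf C).Normal := (Subgroup.normal_subgroupOf_iff_le_normalizer hXC).mpr hCX
      have h1 : X.subgroupOf C ≤ (T : Subgroup C) := L0.normal_le_sylow (L0.isPGroup_subgroupOf hXp) T
      intro w hw
      exact ⟨⟨w, hXC hw⟩, h1 (Subgroup.mem_subgroupOf.mpr hw), rfl⟩
    have hXne : X ≠ ⊥ := by
      intro h
      apply hV1
      rw [← le_bot_iff, ← h]
      exact le_sup_right
    have hz := H2.inf_cent_ne_bot hT'p hXT ((Subgroup.map_subtype_le _).trans hCX) hXne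
    obtain ⟨z, hz2⟩ := Subgroup.ne_bot_iff_exists_ne_one.mp hz
    have hz1 := z.2
    -- p'-elements
    have hclaim : ∀ y ∈ C, (orderOf y).Coprime p → ∀ w ∈ X, y * w = w * y := by
      intro y hyC hy
      have hAn : Subgroup.zpowers y ≤ Subgroup.normalizer (X : Set G) := by rw [Subgroup.zpowers_le]; exact hCX hyC
      have hAV : Subgroup.zpowers y ≤ Subgroup.normalizer (V : Set G) := by rw [Subgroup.normalizer_eq_top]; exact le_top
      have hcopX := pgrp_coprime hXp hy
      have hAC : Subgroup.zpowers y ≤ C := by rw [Subgroup.zpowers_le]; exact hyC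
      have hi : ∀ v ∈ V, y * v = v * y := by
        by_contra hcon
        push Not at hcon
        obtain ⟨v₀, hv₀, hv₀y⟩ := hcon
        have hno : ∀ v ∈ V, v ≠ 1 → y * v ≠ v * y := by
          intro v hv hv1 hc
          apply hv₀y
          exact (cn_comm hCN hv1 (hVab v₀ hv₀ v hv) hc (pelt_order hp.out (pgrp_pelt hVp hv₀) hy)).symm
        obtain ⟨m, hm, c, hc, hmc⟩ := L0.exists_mul_centralizer_of_comm_mem hAn hAV le_sup_right hcopX (Or.inl (solvable_zpowers y))
          (n := x) (Subgroup.mem_sup_left (Subgroup.mem_zpowers x)) (by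
            intro a ha
            have h1 := (hmemC a).mp (hAC ha)
            have h2 : x * a * x⁻¹ * a⁻¹ = (a * x * a⁻¹ * x⁻¹)⁻¹ := by group
            rw [h2]; exact V.inv_mem h1)
        have hcV : c ∉ V := by
          intro h
          apply hxV
          rw [hmc]; exact V.mul_mem hm h
        have hc1 : c ≠ 1 := fun h => hcV (by rw [h]; exact V.one_mem)
        have hv := H2.inf_cent_ne_bot hXp (le_sup_right : V ≤ X) (by rw [Subgroup.normalizer_eq_top]; exact le_top) hV1
        obtain ⟨⟨v, hv⟩, hv1⟩ := Subgroup.ne_bot_iff_exists_ne_one.mp hv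
        have hv1' : v ≠ 1 := fun h => hv1 (Subtype.ext h)
        apply hno v hv.1 hv1'
        have h1 : v * c = c * v := ((Subgroup.mem_centralizer_iff.mp hv.2) c hc.1).symm
        have h2 : y * c = c * y := (Subgroup.mem_centralizer_iff.mp hc.2) y (Subgroup.mem_zpowers y)
        exact (cn_comm hCN hc1 h1 h2 (pelt_order hp.out (pgrp_pelt hVp hv.1) hy)).symm
      have h1 : ⁅X, Subgroup.zpowers y⁆ ≤ V := by
        rw [Subgroup.commutator_le]
        intro w hw a ha
        rw [← QuotientGroup.eq_one_iff]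
        have h2 : (w : G ⧸ V) ∈ Subgroup.zpowers (x : G ⧸ V) := by
          have h3 : X ≤ (Subgroup.zpowers (x : G ⧸ V)).comap (QuotientGroup.mk' V) := by
            rw [hX]
            apply sup_le
            · rw [Subgroup.zpowers_le, Subgroup.mem_comap]
              exact Subgroup.mem_zpowers _
            · intro v hv
              rw [Subgroup.mem_comap]
              have : (QuotientGroup.mk' V) v = 1 := (QuotientGroup.eq_one_iff v).mpr hv
              rw [this]; exact Subgroup.one_mem _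
          exact h3 hw
        have h4 : (a : G ⧸ V) ∈ Subgroup.centralizer ({(x : G ⧸ V)} : Set (G ⧸ V)) := hAC ha
        have h5 : (a : G ⧸ V) * x = x * a := Subgroup.mem_centralizer_singleton_iff.mp h4
        obtain ⟨k, hk⟩ := Subgroup.mem_zpowers_iff.mp h2
        have h6 : Commute (w : G ⧸ V) (a : G ⧸ V) := by
          rw [← hk]
          exact Commute.zpow_left (show Commute (x : G ⧸ V) a from h5.symm) k
        rw [commutatorElement_def]
        show ((w * a * w⁻¹ * a⁻¹ : G) : G ⧸ V) = 1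
        rw [QuotientGroup.mk_mul, QuotientGroup.mk_mul, QuotientGroup.mk_mul, QuotientGroup.mk_inv, QuotientGroup.mk_inv, h6.eq]
        group
      have h2 : ⁅V, Subgroup.zpowers y⁆ = ⊥ := by
        rw [Subgroup.commutator_eq_bot_iff_le_centralizer]
        intro v hv
        rw [Subgroup.mem_centralizer_iff]
        intro a ha
        obtain ⟨k, rfl⟩ := Subgroup.mem_zpowers_iff.mp ha
        exact (Commute.zpow_left (show Commute y v from hi v hv) k).eq
      have h3 := L0.commutator_eq_bot_of_series hAn hcopX (Or.inl (solvable_zpowers y)) h1 h2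
      rw [Subgroup.commutator_eq_bot_iff_le_centralizer] at h3
      intro w hw
      exact (Subgroup.mem_centralizer_iff.mp (h3 hw)) y (Subgroup.mem_zpowers y)
    have hzz : (z : G) ≠ 1 := fun h => hz2 (Subtype.ext h)
    have hCz : C ≤ Subgroup.centralizer ({(z : G)} : Set G) := by
      have h1 := eq_top_of_elts T (E := (Subgroup.centralizer ({(z : G)} : Set G)).subgroupOf C) (by
        intro t ht
        rw [Subgroup.mem_subgroupOf, Subgroup.mem_centralizer_singleton_iff]
        exact (Subgroup.mem_centralizer_iff.mp hz1.2) t ⟨t, ht, rfl⟩) (by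
        intro y hy
        rw [Subgroup.mem_subgroupOf, Subgroup.mem_centralizer_singleton_iff]
        exact hclaim y y.2 (by rw [Subgroup.orderOf_coe]; exact hy) z hz1.1)
      intro c hc
      have h2 : (⟨c, hc⟩ : C) ∈ (Subgroup.centralizer ({(z : G)} : Set G)).subgroupOf C := by rw [h1]; exact Subgroup.mem_top _
      exact Subgroup.mem_subgroupOf.mp h2
    have hCnil : Group.IsNilpotent C := L0.isNilpotent_of_le (hCN z hzz) hCz
    have h1 : Subgroup.centralizer ({(x : G ⧸ V)} : Set (G ⧸ V)) = C.map (QuotientGroup.mk' V) := by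
      rw [hC, Subgroup.map_comap_eq_self_of_surjective (QuotientGroup.mk'_surjective V)]
    rw [h1]
    exact nil_image _ hCnil
  · -- p'-part
    have ht1 : t ≠ 1 := fun h => htV (by rw [h]; exact V.one_mem)
    apply L0.isNilpotent_of_le (nil_image (QuotientGroup.mk' V) (hCN t ht1))
    intro yb hyb
    obtain ⟨y, rfl⟩ := QuotientGroup.mk_surjective yb
    rw [Subgroup.mem_centralizer_singleton_iff] at hyb
    have hyt : (y : G ⧸ V) * t = t * y := by
      obtain ⟨k, hk⟩ := Subgroup.mem_zpowers_iff.mp ht'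
      rw [← hk]
      exact (Commute.zpow_right (show Commute (y : G ⧸ V) x from hyb) k).eq
    have hcop := pgrp_coprime hVp ht
    have hyt' : y * t * y⁻¹ * t⁻¹ ∈ V := by
      rw [← QuotientGroup.eq_one_iff]
      show ((y * t * y⁻¹ * t⁻¹ : G) : G ⧸ V) = 1
      rw [QuotientGroup.mk_mul, QuotientGroup.mk_mul, QuotientGroup.mk_mul, QuotientGroup.mk_inv, QuotientGroup.mk_inv, hyt]; group
    obtain ⟨m, hm, hmB⟩ := L0.exists_conj_eq_of_le_sup (M := V) (A := Subgroup.zpowers t) (B := Subgroup.zpowers (y * t * y⁻¹))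
      (by rw [Subgroup.normalizer_eq_top]; exact le_top) hcop (Or.inl (solvable_zpowers t))
      (by
        rw [Subgroup.zpowers_le]
        have : y * t * y⁻¹ = (y * t * y⁻¹ * t⁻¹) * t := by group
        rw [this]
        exact Subgroup.mul_mem_sup hyt' (Subgroup.mem_zpowers t))
      (by
        rw [Nat.card_zpowers, Nat.card_zpowers]
        exact orderOf_injective (MulAut.conj y).toMonoidHom (MulAut.conj y).injective t)
    have h1 : m * t * m⁻¹ ∈ Subgroup.zpowers (y * t * y⁻¹) := by
      rw [← hmB]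
      exact ⟨t, Subgroup.mem_zpowers t, rfl⟩
    obtain ⟨j, hj⟩ := Subgroup.mem_zpowers_iff.mp h1
    have hmt : m * t * m⁻¹ * t⁻¹ ∈ V := by
      have : m * t * m⁻¹ * t⁻¹ = m * (t * m⁻¹ * t⁻¹) := by group
      rw [this]
      exact V.mul_mem hm (hV.conj_mem _ (V.inv_mem hm) t)
    have hinf : Subgroup.zpowers t ⊓ V = ⊥ := L0.inf_eq_bot_of_coprime' hcop
    have hj1 : t ^ (j - 1) = 1 := by
      have h2 : t ^ (j - 1) ∈ V := by
        rw [← QuotientGroup.eq_one_iff]
        have h3 : ((y * t * y⁻¹ : G) : G ⧸ V) = t := by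
          rw [QuotientGroup.mk_mul, QuotientGroup.mk_mul, QuotientGroup.mk_inv, hyt]; group
        have h4 : ((m * t * m⁻¹ : G) : G ⧸ V) = t := by
          have h5 := (QuotientGroup.eq_one_iff _).mpr hmt
          rw [QuotientGroup.mk_mul, QuotientGroup.mk_inv] at h5
          exact mul_inv_eq_one.mp h5
        have h5 : ((t : G ⧸ V)) ^ j = t := by
          have h6 := congrArg (fun w : G => (w : G ⧸ V)) hj
          simp only [QuotientGroup.mk_zpow] at h6
          rw [h3, h4] at h6
          exact h6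
        have h6 : ((t ^ (j - 1) : G) : G ⧸ V) = (t : G ⧸ V) ^ (j - 1) := QuotientGroup.mk_zpow V t (j - 1)
        rw [h6, zpow_sub_one, h5, mul_inv_cancel]
      have h7 : t ^ (j - 1) ∈ Subgroup.zpowers t ⊓ V := ⟨Subgroup.zpow_mem_zpowers t _, h2⟩
      rw [hinf] at h7
      exact Subgroup.mem_bot.mp h7
    have hj2 : (y * t * y⁻¹) ^ j = y * t * y⁻¹ := by
      have h2 : t ^ j = t := by
        have := congrArg (fun w => w * t) hj1
        simpa [zpow_sub_one] using this
      rw [conj_zpow, h2]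
    rw [hj2] at hj
    refine ⟨m⁻¹ * y, ?_, ?_⟩
    · rw [SetLike.mem_coe, Subgroup.mem_centralizer_singleton_iff]
      calc m⁻¹ * y * t = m⁻¹ * (y * t * y⁻¹) * y := by group
        _ = m⁻¹ * (m * t * m⁻¹) * y := by rw [hj]
        _ = t * (m⁻¹ * y) := by group
    · show ((m⁻¹ * y : G) : G ⧸ V) = y
      rw [QuotientGroup.mk_mul, QuotientGroup.mk_inv]
      have : (m : G ⧸ V) = 1 := (QuotientGroup.eq_one_iff m).mpr hm
      rw [this]; simp

end Cfsg.Agent.H4
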