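import Mathlib
import Cfsg.Agent.H4.OC1
import Cfsg.Agent.H3.Basic
set_option autoImplicit false
set_option linter.unusedVariables false
/-! Conjugates of a proper subgroup do not cover. Groups in which the classes of `p'`-elements have size prime to `p`. -/
open Subgroup Pointwise
namespace Cfsg.Agent.H4
universe u

theorem cover_top {G : Type u} [Group G] [Finite G] (H : Subgroup G) (h : ∀ g : G, ∃ x : G, x⁻¹ * g * x ∈ H) : H = ⊤ := by
  classical
  haveI : Fintype G := Fintype.ofFinite G
  haveI : Fintype (G ⧸ H) := Fintype.ofFinite _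
  haveI : ∀ g : G, Fintype (MulAction.fixedBy (G ⧸ H) g) := fun g => Fintype.ofFinite _
  haveI : Fintype (Quotient (MulAction.orbitRel G (G ⧸ H))) := Fintype.ofFinite _
  have h1 := MulAction.sum_card_fixedBy_eq_card_orbits_mul_card_group G (G ⧸ H)
  have horb : Fintype.card (Quotient (MulAction.orbitRel G (G ⧸ H))) = 1 := by
    rw [Fintype.card_eq_one_iff]
    refine ⟨Quotient.mk _ ((1 : G) : G ⧸ H), ?_⟩
    intro y
    induction y using Quotient.inductionOn with
    | _ y =>
      apply Quotient.sound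
      exact MulAction.exists_smul_eq G _ _
  rw [horb, one_mul] at h1
  have hpos : ∀ g : G, 1 ≤ Fintype.card (MulAction.fixedBy (G ⧸ H) g) := by
    intro g
    obtain ⟨x, hx⟩ := h g
    apply Fintype.card_pos_iff.mpr
    refine ⟨⟨(x : G ⧸ H), ?_⟩⟩
    rw [MulAction.mem_fixedBy]
    show ((g * x : G) : G ⧸ H) = (x : G ⧸ H)
    rw [eq_comm, QuotientGroup.eq]
    rwa [← mul_assoc]
  have hone : Fintype.card (MulAction.fixedBy (G ⧸ H) (1 : G)) = Fintype.card (G ⧸ H) := by
    apply Fintype.card_congr
    exact (Equiv.subtypeUnivEquiv (fun x => by rw [MulAction.mem_fixedBy, one_smul]))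
  have hle : Fintype.card (G ⧸ H) ≤ 1 := by
    by_contra hcon
    push Not at hcon
    have h2 : ∑ g : G, 1 < ∑ g : G, Fintype.card (MulAction.fixedBy (G ⧸ H) g) := by
      apply Finset.sum_lt_sum (fun g _ => hpos g)
      exact ⟨1, Finset.mem_univ _, by rw [hone]; exact hcon⟩
    rw [h1] at h2
    simp at h2
  rw [← Subgroup.index_eq_one, Subgroup.index, Nat.card_eq_fintype_card]
  have : 0 < Fintype.card (G ⧸ H) := Fintype.card_pos
  omega

/-- If every class of `p'`-elements has size prime to `p`, then the Sylow `p`-subgroup is normal. -/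
theorem sylow_normal_of_class {M : Type u} [Group M] [Finite M] {p : ℕ} [hp : Fact p.Prime]
    (h : ∀ y : M, (orderOf y).Coprime p → ¬ p ∣ (centralizer ({y} : Set M)).index) (T : Sylow p M) : (T : Subgroup M).Normal := by
  have hN : normalizer ((T : Subgroup M) : Set M) = ⊤ := by
    apply cover_top
    intro g
    obtain ⟨s, t, hg, hst, ⟨k, hk⟩, ht, hs', ht'⟩ := pparts hp.out g
    have hsC : s ∈ centralizer ({t} : Set M) := by
      rw [mem_centralizer_singleton_iff]; exact hst.eq
    have hzp : IsPGroup p (zpowers (⟨s, hsC⟩ : centralizer ({t} : Set M))) := by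
      have h1 : orderOf (⟨s, hsC⟩ : centralizer ({t} : Set M)) ∣ p ^ k := by
        rw [Subgroup.orderOf_mk]; exact orderOf_dvd_of_pow_eq_one hk
      obtain ⟨j, hj, hj2⟩ := (Nat.dvd_prime_pow hp.out).mp h1
      exact IsPGroup.of_card (n := j) (by rw [Nat.card_zpowers, hj2])
    obtain ⟨S, hS⟩ := hzp.exists_le_sylow
    have hSp : IsPGroup p ((S : Subgroup (centralizer ({t} : Set M))).map (centralizer ({t} : Set M)).subtype) := IsPGroup.map S.2 _
    have hSi : ¬ p ∣ ((S : Subgroup (centralizer ({t} : Set M))).map (centralizer ({t} : Set M)).subtype).index := by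
      rw [Subgroup.index_map_subtype]
      intro hd
      rcases hp.out.dvd_mul.mp hd with h1 | h1
      · exact S.not_dvd_index h1
      · exact h t ht h1
    obtain ⟨m, hm⟩ := MulAction.exists_smul_eq M (hSp.toSylow hSi) T
    refine ⟨m⁻¹, ?_⟩
    rw [inv_inv, ← hm]
    have hgN : g ∈ normalizer (((hSp.toSylow hSi : Sylow p M) : Subgroup M) : Set M) := by
      rw [hg]
      apply mul_mem
      · apply Subgroup.le_normalizer
        rw [IsPGroup.toSylow_coe]
        exact ⟨⟨s, hsC⟩, hS (mem_zpowers _), rfl⟩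
      · rw [mem_normalizer_iff]
        have hcm : ∀ z ∈ ((hSp.toSylow hSi : Sylow p M) : Subgroup M), t * z = z * t := by
          rw [IsPGroup.toSylow_coe]
          rintro _ ⟨w, hw, rfl⟩
          exact ((mem_centralizer_singleton_iff.mp w.2).symm)
        intro z
        constructor
        · intro hz
          rw [hcm z hz, mul_inv_cancel_right]; exact hz
        · intro hz
          have h2 := hcm _ hz
          have h3 : z = t * z * t⁻¹ := by
            have h4 : t * (t * z * t⁻¹) * t⁻¹ = t * z * t⁻¹ := by rw [h2]; group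
            have h5 : t * (t * z * t⁻¹) * t⁻¹ = t * (t * z * t⁻¹) * t⁻¹ := rfl
            have h6 : t * z * t⁻¹ = z := by
              have h7 : t⁻¹ * (t * (t * z * t⁻¹) * t⁻¹) * t = t⁻¹ * (t * z * t⁻¹) * t := by rw [h4]
              calc t * z * t⁻¹ = t⁻¹ * (t * (t * z * t⁻¹) * t⁻¹) * t := by group
                _ = t⁻¹ * (t * z * t⁻¹) * t := h7
                _ = z := by group
            exact h6.symm
          rw [h3]; exact hz
    rw [Sylow.coe_subgroup_smul]
    rw [mem_normalizer_iff] at hgN ⊢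
    intro z
    rw [Subgroup.mem_pointwise_smul_iff_inv_smul_mem, Subgroup.mem_pointwise_smul_iff_inv_smul_mem, ← map_inv, MulAut.smul_def, MulAut.smul_def,
      MulAut.conj_apply, MulAut.conj_apply, inv_inv]
    have h1 := hgN (m⁻¹ * z * m)
    rw [h1]
    have e : g * (m⁻¹ * z * m) * g⁻¹ = m⁻¹ * (m * g * m⁻¹ * z * (m * g * m⁻¹)⁻¹) * m := by group
    rw [e]
  exact Subgroup.normalizer_eq_top_iff.mp hN

theorem sylow_le_of_class {M : Type u} [Group M] [Finite M] {p : ℕ} [hp : Fact p.Prime]
    {N : Subgroup M} [hN : N.Normal] (hNp : IsPGroup p N) {H : Subgroup M} (hH : ¬ p ∣ H.index) : N ≤ H := by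
  have h1 := H3.relIndex_dvd_index_of_normal_right H N
  obtain ⟨k, hk⟩ := hNp.index (H.subgroupOf N)
  have h2 : H.relIndex N = p ^ k := hk
  rcases Nat.eq_zero_or_pos k with h3 | h3
  · rw [h3, pow_zero] at h2
    exact Subgroup.relIndex_eq_one.mp h2
  · exfalso
    exact hH (dvd_trans (h2 ▸ dvd_pow_self p h3.ne') h1)

end Cfsg.Agent.H4
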