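import Cfsg.Agent.H4.Coh1
import Cfsg.Agent.H4.TI
import Cfsg.Agent.H4.LinChar

set_option linter.all false
set_option autoImplicit false

/-! Characters of a finite abelian group `W = A × B` (internal). -/

namespace Cfsg.Agent.H4

open Module
open scoped ComplexConjugate Pointwise

universe u v w

section
variable {W : Type u} [Group W]

theorem hom_norm_one [Finite W] (φ : W →* ℂˣ) (w : W) : ‖(φ w : ℂ)‖ = 1 := by
  have h11 : (φ w : ℂ) ^ (Nat.card W) = 1 := by
    rw [← Units.val_pow_eq_pow_val, ← map_pow, pow_card_eq_one', map_one, Units.val_one]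
  exact Complex.norm_eq_one_of_pow_eq_one h11 Nat.card_pos.ne'

theorem hom_mul_conj [Finite W] (φ : W →* ℂˣ) (w : W) : (φ w : ℂ) * conj (φ w : ℂ) = 1 := by
  rw [Complex.mul_conj, Complex.normSq_eq_norm_sq, hom_norm_one]; norm_num

theorem hom_conj [Finite W] (φ : W →* ℂˣ) (w : W) : conj (φ w : ℂ) = (φ w : ℂ)⁻¹ :=
  eq_inv_of_mul_eq_one_right (hom_mul_conj φ w)

theorem hom_inner [Fintype W] (φ ψ : W →* ℂˣ) [Decidable (φ = ψ)] :
    classInner (fun w => (φ w : ℂ)) (fun w => (ψ w : ℂ)) = if φ = ψ then 1 else 0 := by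
  classical
  rw [inner_irr_eq (isIrr_hom φ) (isIrr_hom ψ)]
  by_cases h : φ = ψ
  · rw [if_pos h, if_pos (by rw [h])]
  · rw [if_neg h, if_neg]
    intro h'
    apply h
    ext w
    exact congrFun h' w

theorem hom_inner_one [Fintype W] (φ : W →* ℂˣ) [Decidable (φ = 1)] :
    classInner (fun w => (φ w : ℂ)) (fun _ => 1) = if φ = 1 then 1 else 0 := by
  have h := hom_inner φ 1
  simpa using h

/-- separation of points by characters trivial on a subgroup -/
theorem exists_hom_ne [Finite W] (hc : ∀ a b : W, a * b = b * a) (K : Subgroup W) (w : W) (hw : w ∉ K) :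
    ∃ φ : W →* ℂˣ, (∀ k ∈ K, φ k = 1) ∧ φ w ≠ 1 := by
  have hK : K.Normal := ⟨fun n hn g => by rw [hc g n, mul_inv_cancel_right]; exact hn⟩
  by_contra hcon
  push Not at hcon
  apply hw
  rw [← QuotientGroup.eq_one_iff]
  apply eq_one_of_forall_irr (G := W ⧸ K)
  intro χ
  have hcq : ∀ a b : W ⧸ K, a * b = b * a := by
    intro a b
    induction a using QuotientGroup.induction_on with
    | H a => induction b using QuotientGroup.induction_on with
      | H b => rw [← QuotientGroup.mk_mul, hc, QuotientGroup.mk_mul]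
  obtain ⟨lam, hlam⟩ := H5.irr_of_comm hcq χ.2
  have h1 := hcon (lam.comp (QuotientGroup.mk' K)) (by
    intro k hk
    rw [MonoidHom.comp_apply]
    have : (QuotientGroup.mk' K) k = 1 := (QuotientGroup.eq_one_iff k).mpr hk
    rw [this, map_one])
  rw [MonoidHom.comp_apply] at h1
  rw [hlam]
  show (lam (w : W ⧸ K) : ℂ) = (lam 1 : ℂ)
  have h2 : lam (w : W ⧸ K) = 1 := h1
  rw [h2, map_one]

theorem card_hom_trivial [Finite W] (hc : ∀ a b : W, a * b = b * a) (K : Subgroup W) :
    Nat.card {φ : W →* ℂˣ // ∀ k ∈ K, φ k = 1} = K.index := by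
  have hK : K.Normal := ⟨fun n hn g => by rw [hc g n, mul_inv_cancel_right]; exact hn⟩
  have hcq : ∀ a b : W ⧸ K, a * b = b * a := by
    intro a b
    induction a using QuotientGroup.induction_on with
    | H a => induction b using QuotientGroup.induction_on with
      | H b => rw [← QuotientGroup.mk_mul, hc, QuotientGroup.mk_mul]
  have h1 : Nat.card {φ : W →* ℂˣ // ∀ k ∈ K, φ k = 1} = Nat.card (W ⧸ K →* ℂˣ) := by
    symm
    apply Nat.card_congr
    refine Equiv.ofBijective (fun lam => ⟨lam.comp (QuotientGroup.mk' K), fun k hk => by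
      rw [MonoidHom.comp_apply]
      have : (QuotientGroup.mk' K) k = 1 := (QuotientGroup.eq_one_iff k).mpr hk
      rw [this, map_one]⟩) ⟨?_, ?_⟩
    · intro lam mu h
      apply QuotientGroup.monoidHom_ext
      exact congrArg Subtype.val h
    · rintro ⟨φ, hφ⟩
      refine ⟨QuotientGroup.lift K φ (fun k hk => hφ k hk), ?_⟩
      apply Subtype.ext
      ext w
      rfl
  rw [h1, card_hom_units]
  have h2 : commutator (W ⧸ K) = ⊥ := by
    rw [eq_bot_iff]
    have : (commutator (W ⧸ K)) ≤ ⊥ := by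
      rw [commutator_def, Subgroup.commutator_le]
      intro a _ b _
      rw [Subgroup.mem_bot]
      show a * b * a⁻¹ * b⁻¹ = 1
      rw [hcq a b]; group
    exact this
  rw [h2, Subgroup.index_bot]
  rfl

theorem mem_of_all_hom [Finite W] (hc : ∀ a b : W, a * b = b * a) (K : Subgroup W) (w : W)
    (h : ∀ φ : W →* ℂˣ, (∀ k ∈ K, φ k = 1) → φ w = 1) : w ∈ K := by
  by_contra hw
  obtain ⟨φ, h1, h2⟩ := exists_hom_ne hc K w hw
  exact h2 (h φ h1)

instance finite_hom [Finite W] : Finite (W →* ℂˣ) := by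
  have h := Finite.of_equiv {χ : IrrCharacter W // (χ : W → ℂ) 1 = 1} linCharEquiv
  exact h

open Classical in
theorem hom_sum [Finite W] [Fintype (W →* ℂˣ)] (hc : ∀ a b : W, a * b = b * a) (K : Subgroup W) (w : W) :
    ∑ φ ∈ (Finset.univ : Finset (W →* ℂˣ)).filter (fun φ => ∀ k ∈ K, φ k = 1), (φ w : ℂ) =
      if w ∈ K then (K.index : ℂ) else 0 := by
  by_cases hw : w ∈ K
  · rw [if_pos hw, Finset.sum_congr rfl (fun φ hφ => by rw [(Finset.mem_filter.mp hφ).2 w hw, Units.val_one]),
      Finset.sum_const, nsmul_eq_mul, mul_one]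
    congr 1
    rw [← card_hom_trivial hc K, ← Fintype.card_subtype, ← Nat.card_eq_fintype_card]
  · rw [if_neg hw]
    obtain ⟨φ₀, h1, h2⟩ := exists_hom_ne hc K w hw
    have h3 : (φ₀ w : ℂ) * ∑ φ ∈ (Finset.univ : Finset (W →* ℂˣ)).filter (fun φ => ∀ k ∈ K, φ k = 1), (φ w : ℂ) =
        ∑ φ ∈ (Finset.univ : Finset (W →* ℂˣ)).filter (fun φ => ∀ k ∈ K, φ k = 1), (φ w : ℂ) := by
      rw [Finset.mul_sum]
      apply Finset.sum_bij' (fun φ _ => φ₀ * φ) (fun φ _ => φ₀⁻¹ * φ)
      · intro φ hφ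
        rw [Finset.mem_filter] at hφ ⊢
        refine ⟨Finset.mem_univ _, fun k hk => ?_⟩
        rw [MonoidHom.mul_apply, h1 k hk, hφ.2 k hk, mul_one]
      · intro φ hφ
        rw [Finset.mem_filter] at hφ ⊢
        refine ⟨Finset.mem_univ _, fun k hk => ?_⟩
        rw [MonoidHom.mul_apply, MonoidHom.inv_apply, h1 k hk, hφ.2 k hk, inv_one, mul_one]
      · intro φ _
        refine MonoidHom.ext fun w => ?_
        rw [MonoidHom.mul_apply, MonoidHom.mul_apply, MonoidHom.inv_apply, inv_mul_cancel_left]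
      · intro φ _
        refine MonoidHom.ext fun w => ?_
        rw [MonoidHom.mul_apply, MonoidHom.mul_apply, MonoidHom.inv_apply, mul_inv_cancel_left]
      · intro φ _; rw [MonoidHom.mul_apply, Units.val_mul]
    have h4 : ((φ₀ w : ℂ) - 1) * ∑ φ ∈ (Finset.univ : Finset (W →* ℂˣ)).filter (fun φ => ∀ k ∈ K, φ k = 1), (φ w : ℂ) = 0 := by
      rw [sub_mul, h3, one_mul, sub_self]
    rcases mul_eq_zero.mp h4 with h5 | h5
    · exfalso; apply h2
      exact Units.ext (by rw [Units.val_one]; exact sub_eq_zero.mp h5)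
    · exact h5

end

end Cfsg.Agent.H4
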