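import Cfsg.Agent.H4.MaxCl2

set_option linter.all false
set_option autoImplicit false

namespace Cfsg.Agent.H4
universe u
variable {G : Type u} [Group G]

theorem sup_top_of_index_prime [Finite G] {p : ℕ} (hp : p.Prime) {C : Subgroup G} (hC : C.index = p) {t : G} (ht : t ∉ C) :
    C ⊔ Subgroup.zpowers t = ⊤ := by
  have h1 : C < C ⊔ Subgroup.zpowers t := by
    refine lt_of_le_of_ne le_sup_left ?_
    intro h
    exact ht (h ▸ Subgroup.mem_sup_right (Subgroup.mem_zpowers t))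
  have h2 := Subgroup.relIndex_mul_index h1.le
  rw [hC] at h2
  have h3 : C.relIndex (C ⊔ Subgroup.zpowers t) ≠ 1 := by
    intro h
    rw [Subgroup.relIndex_eq_one] at h
    exact h1.not_ge h
  have h4 : (C ⊔ Subgroup.zpowers t).index ∣ p := Dvd.intro_left _ h2
  rcases (Nat.dvd_prime hp).mp h4 with h | h
  · exact Subgroup.index_eq_one.mp h
  · exfalso
    rw [h] at h2
    apply h3
    exact Nat.eq_of_mul_eq_mul_right hp.pos (by rw [h2, one_mul])

/-- data for a nonabelian `p`-group with a cyclic subgroup of index `p` -/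
theorem cyc_idx_data [Finite G] {p : ℕ} [hpf : Fact p.Prime] {n : ℕ} (hn : 3 ≤ n) (hG : Nat.card G = p ^ n) (C : Subgroup G) (hC : IsCyclic C)
    (hCi : C.index = p) (hna : ∃ x y : G, x * y ≠ y * x) :
    ∃ a y : G, ∃ r : ℤ, orderOf a = p ^ (n - 1) ∧ C = Subgroup.zpowers a ∧ y ∉ C ∧ y * a * y⁻¹ = a ^ r ∧ ¬ ((p ^ (n - 1) : ℕ) : ℤ) ∣ r - 1 ∧
      C.Normal := by
  classical
  have hp : p.Prime := Fact.out
  have hCn : C.Normal := by
    apply Subgroup.normal_of_index_eq_minFac_card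
    rw [hCi, hG, hp.pow_minFac (by omega)]
  obtain ⟨⟨a, haC⟩, hgen⟩ := hC.exists_generator
  have hCz : C = Subgroup.zpowers a := by
    apply le_antisymm
    · intro x hx
      obtain ⟨i, hi⟩ := Subgroup.mem_zpowers_iff.mp (hgen ⟨x, hx⟩)
      have : x = a ^ i := (congrArg Subtype.val hi).symm
      rw [this]; exact Subgroup.zpow_mem_zpowers a i
    · exact Subgroup.zpowers_le.mpr haC
  have hoa : orderOf a = p ^ (n - 1) := by
    have h1 := C.card_mul_index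
    rw [hCi, hG, hCz, Nat.card_zpowers] at h1
    have h3 : p ^ n = p ^ (n - 1) * p := by rw [← pow_succ]; congr 1; omega
    rw [h3] at h1
    exact Nat.eq_of_mul_eq_mul_right hp.pos h1
  obtain ⟨y, hy⟩ : ∃ y, y ∉ C := by
    by_contra hcon
    push Not at hcon
    have : C = ⊤ := by rw [eq_top_iff]; exact fun x _ => hcon x
    rw [this, Subgroup.index_top] at hCi
    exact hp.one_lt.ne hCi
  obtain ⟨r, hr⟩ : ∃ r : ℤ, y * a * y⁻¹ = a ^ r := by
    have h1 := hCn.conj_mem a haC y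
    rw [hCz] at h1
    obtain ⟨r, hr⟩ := Subgroup.mem_zpowers_iff.mp h1
    exact ⟨r, hr.symm⟩
  refine ⟨a, y, r, hoa, hCz, hy, hr, ?_, hCn⟩
  intro hdvd
  have h1 : a ^ r = a := by
    have h2 : a ^ (r - 1) = 1 := by
      rw [← orderOf_dvd_iff_zpow_eq_one, hoa]; exact hdvd
    rw [show r = (r - 1) + 1 by ring, zpow_add, h2, one_mul, zpow_one]
  have h2 : y * a = a * y := by
    rw [h1, mul_inv_eq_iff_eq_mul] at hr; exact hr
  have hCcomm : ∀ x ∈ C, ∀ y ∈ C, x * y = y * x := by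
    intro x hx y hy
    rw [hCz] at hx hy
    obtain ⟨i, rfl⟩ := Subgroup.mem_zpowers_iff.mp hx
    obtain ⟨j, rfl⟩ := Subgroup.mem_zpowers_iff.mp hy
    rw [← zpow_add, ← zpow_add, add_comm]
  have htop := sup_top_of_index_prime hp hCi hy
  have hyC : ∀ c ∈ C, y * c = c * y := by
    intro c hc
    rw [hCz] at hc
    obtain ⟨i, rfl⟩ := Subgroup.mem_zpowers_iff.mp hc
    exact ((show Commute y a from h2).zpow_right i)
  have h3 : ∀ c ∈ C, c ∈ Subgroup.center G := fun c hc => (comm_card C hCcomm y htop).1 c hc (hyC c hc)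
  have h4 : y ∈ Subgroup.center G := by
    rw [Subgroup.mem_center_iff]
    intro g
    have h5 : C ⊔ Subgroup.zpowers y ≤ Subgroup.centralizer {y} := by
      refine sup_le ?_ (Subgroup.zpowers_le.mpr ?_)
      · intro x hx
        rw [Subgroup.mem_centralizer_singleton_iff]; exact (hyC x hx).symm
      · rw [Subgroup.mem_centralizer_singleton_iff]
    rw [htop] at h5
    exact Subgroup.mem_centralizer_singleton_iff.mp (h5 (Subgroup.mem_top g))
  have h5 : C ⊔ Subgroup.zpowers y ≤ Subgroup.center G := sup_le h3 (Subgroup.zpowers_le.mpr h4)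
  rw [htop] at h5
  obtain ⟨u, v, huv⟩ := hna
  exact huv ((Subgroup.mem_center_iff.mp (h5 (Subgroup.mem_top v))) u)

theorem conj_pow_zpow {a y : G} {r : ℤ} (hr : y * a * y⁻¹ = a ^ r) (i : ℕ) (j : ℤ) : y ^ i * a ^ j * (y ^ i)⁻¹ = a ^ (j * r ^ i) := by
  induction i with
  | zero => simp
  | succ i ih =>
    rw [pow_succ', mul_inv_rev, show y * y ^ i * a ^ j * ((y ^ i)⁻¹ * y⁻¹) = y * (y ^ i * a ^ j * (y ^ i)⁻¹) * y⁻¹ by group, ih,
      ← conj_zpow, hr, ← zpow_mul]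
    congr 1; ring

theorem mul_pow_geom {a y : G} {r : ℤ} (hr : y * a * y⁻¹ = a ^ r) (t : ℤ) (k : ℕ) :
    (a ^ t * y) ^ k = a ^ (t * ∑ i ∈ Finset.range k, r ^ i) * y ^ k := by
  induction k with
  | zero => simp
  | succ k ih =>
    rw [pow_succ', ih, show a ^ t * y * (a ^ (t * ∑ i ∈ Finset.range k, r ^ i) * y ^ k) =
      a ^ t * (y * a ^ (t * ∑ i ∈ Finset.range k, r ^ i) * y⁻¹) * (y * y ^ k) by group, ← conj_zpow, hr, ← zpow_mul, ← zpow_add, ← pow_succ']
    congr 2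
    rw [Finset.sum_range_succ', pow_zero]
    simp only [pow_succ, ← Finset.sum_mul]
    ring

theorem one_add_pow_mod (p m : ℕ) (hm : 1 ≤ m) (k : ℤ) (j : ℕ) : (1 + k * (p : ℤ) ^ m) ^ j ≡ 1 + j * k * (p : ℤ) ^ m [ZMOD (p : ℤ) ^ (m + 1)] := by
  induction j with
  | zero => simp
  | succ j ih =>
    rw [pow_succ (1 + k * (p : ℤ) ^ m) j]
    have h1 := ih.mul_right (1 + k * (p : ℤ) ^ m)
    refine h1.trans ?_
    obtain ⟨l, rfl⟩ : ∃ l, m = l + 1 := ⟨m - 1, by omega⟩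
    rw [Int.modEq_iff_dvd]
    refine ⟨- (j * k * k * (p : ℤ) ^ l), ?_⟩
    push_cast
    ring

theorem geom_mod (p m : ℕ) (hp2 : p.Prime) (hp : p ≠ 2) (hm : 1 ≤ m) : ∑ i ∈ Finset.range p, (1 + (p : ℤ) ^ m) ^ i ≡ p [ZMOD (p : ℤ) ^ (m + 1)] := by
  have h1 : ∑ i ∈ Finset.range p, (1 + (p : ℤ) ^ m) ^ i ≡ ∑ i ∈ Finset.range p, (1 + (i : ℤ) * (p : ℤ) ^ m) [ZMOD (p : ℤ) ^ (m + 1)] := by
    apply Int.ModEq.sum
    intro i _
    have := one_add_pow_mod p m hm 1 i
    simpa using this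
  refine h1.trans ?_
  rw [Finset.sum_add_distrib, ← Finset.sum_mul]
  simp only [Finset.sum_const, Finset.card_range, nsmul_eq_mul, mul_one]
  have h2 : ∃ q : ℤ, ∑ i ∈ Finset.range p, (i : ℤ) = p * q := by
    have h3 := Finset.sum_range_id_mul_two p
    obtain ⟨q, hq⟩ := hp2.odd_of_ne_two hp
    have h4 : (∑ i ∈ Finset.range p, i) = p * q := by
      rw [show p - 1 = 2 * q by omega] at h3
      have : (∑ i ∈ Finset.range p, i) * 2 = (p * q) * 2 := by rw [h3]; ring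
      omega
    refine ⟨q, ?_⟩
    have h5 := congrArg (fun t : ℕ => (t : ℤ)) h4
    push_cast at h5
    exact h5
  obtain ⟨q, hq⟩ := h2
  rw [hq, Int.modEq_iff_dvd]
  refine ⟨- q, ?_⟩
  ring

theorem odd_cyc_idx [Finite G] {p : ℕ} [hpf : Fact p.Prime] (hp2 : p ≠ 2) (n : ℕ) (hn : 3 ≤ n) (hG : Nat.card G = p ^ n) (C : Subgroup G) (hC : IsCyclic C)
    (hCi : C.index = p) (hna : ∃ x y : G, x * y ≠ y * x) :
    ∃ a b : G, orderOf a = p ^ (n - 1) ∧ orderOf b = p ∧ b ∉ Subgroup.zpowers a ∧ b * a * b⁻¹ = a ^ (1 + p ^ (n - 2)) := by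
  classical
  have hp : p.Prime := Fact.out
  obtain ⟨a, y, r, hoa, hCz, hy, hr, hr1, hCn⟩ := cyc_idx_data hn hG C hC hCi hna
  obtain ⟨m, rfl⟩ : ∃ m, n = m + 2 := ⟨n - 2, by omega⟩
  simp only [show m + 2 - 1 = m + 1 by omega, show m + 2 - 2 = m by omega] at *
  have hm : 1 ≤ m := by omega
  have hone : ∀ i : ℤ, a ^ i = 1 ↔ ((p : ℤ) ^ (m + 1)) ∣ i := by
    intro i
    rw [← orderOf_dvd_iff_zpow_eq_one, hoa]; push_cast; rfl
  have heq : ∀ i j : ℤ, i ≡ j [ZMOD (p : ℤ) ^ (m + 1)] → a ^ i = a ^ j := by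
    intro i j h
    have h1 := h.symm.dvd
    rw [← hone, zpow_sub, mul_inv_eq_one] at h1
    exact h1
  have heq' : ∀ i j : ℤ, a ^ i = a ^ j → ((p : ℤ) ^ (m + 1)) ∣ i - j := by
    intro i j h
    rw [← hone, zpow_sub, h, mul_inv_cancel]
  have hyp : ∀ x : G, x ^ p ∈ C := fun x => by
    have := C.pow_index_mem x
    rwa [hCi] at this
  have hCcomm : ∀ x ∈ C, x * a = a * x := by
    intro x hx
    rw [hCz] at hx
    obtain ⟨i, rfl⟩ := Subgroup.mem_zpowers_iff.mp hx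
    exact (Commute.refl a).zpow_left i
  -- `r ^ p ≡ 1`
  have hrp : ((p : ℤ) ^ (m + 1)) ∣ r ^ p - 1 := by
    apply heq'
    have h1 := conj_pow_zpow hr p 1
    rw [zpow_one, one_mul, hCcomm _ (hyp y), mul_inv_cancel_right] at h1
    rw [zpow_one]; exact h1.symm
  have hpr : (p : ℤ) ∣ r - 1 := by
    have h1 : (p : ℤ) ∣ r ^ p - 1 := (dvd_pow_self _ (by omega)).trans hrp
    have h2 := ZMod.pow_card (r : ZMod p)
    have h3 : ((r ^ p - 1 : ℤ) : ZMod p) = 0 := (ZMod.intCast_zmod_eq_zero_iff_dvd _ p).mpr h1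
    have h4 : ((r - 1 : ℤ) : ZMod p) = 0 := by
      push_cast at h3 ⊢
      rw [h2] at h3
      exact h3
    exact (ZMod.intCast_zmod_eq_zero_iff_dvd _ p).mp h4
  have hpnr : ¬ (p : ℤ) ∣ r := by
    intro h
    have h1 : (p : ℤ) ∣ 1 := by
      have := dvd_sub h hpr
      simpa using this
    have := Int.natAbs_dvd_natAbs.mpr h1
    simp at this
    exact hp.one_lt.ne' this
  have hk : ((p : ℤ) ^ m) ∣ r - 1 := by
    have h1 := Int.emultiplicity_pow_sub_pow hp (hp.odd_of_ne_two hp2) (x := r) (y := 1) hpr hpnr p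
    rw [one_pow] at h1
    have h2 : ((m + 1 : ℕ) : ℕ∞) ≤ emultiplicity (p : ℤ) (r ^ p - 1) := le_emultiplicity_of_pow_dvd hrp
    rw [h1] at h2
    have h3 : emultiplicity p p = 1 := by
      have := (Nat.finiteMultiplicity_iff.mpr ⟨hp.ne_one, hp.pos⟩).emultiplicity_self
      exact this
    rw [h3] at h2
    apply pow_dvd_of_le_emultiplicity
    have h4 : ((m : ℕ) : ℕ∞) + 1 ≤ emultiplicity (p : ℤ) (r - 1) + 1 := by
      have : ((m + 1 : ℕ) : ℕ∞) = (m : ℕ∞) + 1 := by push_cast; rfl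
      rwa [this] at h2
    exact (ENat.add_le_add_iff_right ENat.one_ne_top).mp h4
  obtain ⟨k, hk⟩ := hk
  have hpk : ¬ (p : ℤ) ∣ k := by
    rintro ⟨l, rfl⟩
    apply hr1
    rw [hk]
    refine ⟨l, ?_⟩
    push_cast; ring
  have hrk : r = 1 + k * (p : ℤ) ^ m := by linear_combination hk
  -- `j`
  obtain ⟨j, hj⟩ : ∃ j : ℕ, (j : ℤ) * k ≡ 1 [ZMOD p] := by
    have h1 : (k : ZMod p) ≠ 0 := by
      intro h
      exact hpk ((ZMod.intCast_zmod_eq_zero_iff_dvd _ p).mp h)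
    refine ⟨((k : ZMod p)⁻¹).val, ?_⟩
    rw [← ZMod.intCast_eq_intCast_iff]
    push_cast
    rw [ZMod.natCast_zmod_val, inv_mul_cancel₀ h1]
  have hpj : ¬ p ∣ j := by
    rintro ⟨l, rfl⟩
    have h1 : (p : ℤ) ∣ 1 := by
      have h2 := hj.dvd
      have h3 : (p : ℤ) ∣ ((p * l : ℕ) : ℤ) * k := ⟨l * k, by push_cast; ring⟩
      have := dvd_add h2 h3
      simpa using this
    have := Int.natAbs_dvd_natAbs.mpr h1
    simp at this
    exact hp.one_lt.ne' this
  set y' := y ^ j with hy'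
  have hy'C : y' ∉ C := by
    intro h
    apply hy
    have hcop : Nat.Coprime j p := ((Nat.Prime.coprime_iff_not_dvd hp).mpr hpj).symm
    have h3 := Nat.gcd_eq_gcd_ab j p
    rw [hcop] at h3
    have h4 : y = (y ^ j) ^ (Nat.gcdA j p) * (y ^ p) ^ (Nat.gcdB j p) := by
      rw [← zpow_natCast, ← zpow_natCast, ← zpow_mul, ← zpow_mul, ← zpow_add, ← h3]
      simp
    rw [h4]
    exact Subgroup.mul_mem _ (Subgroup.zpow_mem _ h _) (Subgroup.zpow_mem _ (hyp y) _)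
  have hR : y' * a * y'⁻¹ = a ^ (1 + (p : ℤ) ^ m) := by
    have h1 := conj_pow_zpow hr j 1
    rw [zpow_one, one_mul] at h1
    rw [hy', h1]
    apply heq
    rw [hrk]
    refine (one_add_pow_mod p m hm k j).trans ?_
    obtain ⟨q, hq⟩ := hj.symm.dvd
    rw [Int.modEq_iff_dvd]
    refine ⟨- q, ?_⟩
    have : (j : ℤ) * k = 1 + p * q := by linear_combination hq
    rw [this]; ring
  obtain ⟨s, hs⟩ : ∃ s : ℤ, a ^ s = y' ^ p := by
    have := hyp y'
    rw [hCz] at this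
    exact Subgroup.mem_zpowers_iff.mp this
  have hps : (p : ℤ) ∣ s := by
    have h1 : y' * a ^ s * y'⁻¹ = a ^ s := by
      rw [hs, ← pow_succ', pow_succ, mul_inv_cancel_right]
    rw [← conj_zpow, hR, ← zpow_mul] at h1
    have h2 := heq' _ _ h1
    have h3 : (1 + (p : ℤ) ^ m) * s - s = (p : ℤ) ^ m * s := by ring
    rw [h3, pow_succ] at h2
    have h4 : (p : ℤ) ^ m ≠ 0 := pow_ne_zero _ (by exact_mod_cast hp.ne_zero)
    exact (mul_dvd_mul_iff_left h4).mp h2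
  obtain ⟨s', rfl⟩ := hps
  refine ⟨a, a ^ (- s') * y', hoa, ?_, ?_, ?_⟩
  · apply orderOf_eq_prime
    · rw [mul_pow_geom hR, ← hs, ← zpow_add]
      rw [hone]
      have h1 := geom_mod p m hp hp2 hm
      obtain ⟨q, hq⟩ := h1.symm.dvd
      refine ⟨- s' * q, ?_⟩
      have : ∑ i ∈ Finset.range p, (1 + (p : ℤ) ^ m) ^ i = p + (p : ℤ) ^ (m + 1) * q := by linear_combination hq
      rw [this]; ring
    · intro h
      apply hy'C
      have : y' = a ^ s' := by
        rw [zpow_neg, inv_mul_eq_one] at h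
        exact h.symm
      rw [this, hCz]; exact Subgroup.zpow_mem_zpowers a s'
  · intro h
    apply hy'C
    rw [hCz]
    have h1 := Subgroup.mul_mem _ (Subgroup.zpow_mem_zpowers a s') h
    rw [← mul_assoc, ← zpow_add, add_neg_cancel, zpow_zero, one_mul] at h1
    exact h1
  · rw [mul_inv_rev, show a ^ (-s') * y' * a * (y'⁻¹ * (a ^ (-s'))⁻¹) = a ^ (-s') * (y' * a * y'⁻¹) * (a ^ (-s'))⁻¹ by group, hR]
    rw [← zpow_natCast, ← zpow_neg, ← zpow_add, ← zpow_add]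
    congr 1
    push_cast; ring

end Cfsg.Agent.H4
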