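import Cfsg.Agent.H4.CycIdx

set_option linter.all false
set_option autoImplicit false

namespace Cfsg.Agent.H4
universe u
variable {G : Type u} [Group G]

theorem two_pow_dvd_mul {l : ℕ} {x y : ℤ} (hy : Odd y) (h : (2 : ℤ) ^ l ∣ x * y) : (2 : ℤ) ^ l ∣ x := by
  apply IsCoprime.dvd_of_dvd_mul_right _ h
  apply IsCoprime.pow_left
  obtain ⟨t, rfl⟩ := hy
  exact ⟨-t, 1, by ring⟩

theorem sq_one_cases {m : ℕ} (hm : 1 ≤ m) {r : ℤ} (h : (2 : ℤ) ^ (m + 1) ∣ r ^ 2 - 1) (h1 : ¬ (2 : ℤ) ^ (m + 1) ∣ r - 1) :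
    (2 : ℤ) ^ (m + 1) ∣ r - (-1) ∨ (2 ≤ m ∧ (2 : ℤ) ^ (m + 1) ∣ r - (1 + 2 ^ m)) ∨ (2 ≤ m ∧ (2 : ℤ) ^ (m + 1) ∣ r - (-1 + 2 ^ m)) := by
  have hodd : Odd r := by
    rw [← Int.not_even_iff_odd]
    rintro ⟨q, rfl⟩
    obtain ⟨c, hc⟩ := (dvd_pow_self (2 : ℤ) (by omega)).trans h
    have : (q + q) ^ 2 - 1 = 2 * c := hc
    have h3 : (1 : ℤ) = 2 * (2 * q ^ 2 - c) := by linear_combination (-1) * this
    omega
  obtain ⟨q, rfl⟩ := hodd
  obtain ⟨l, rfl⟩ : ∃ l, m = l + 1 := ⟨m - 1, by omega⟩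
  have h2 : (2 : ℤ) ^ l ∣ q * (q + 1) := by
    have h3 : (2 * q + 1) ^ 2 - 1 = 2 ^ 2 * (q * (q + 1)) := by ring
    rw [h3, show l + 1 + 1 = 2 + l by ring, pow_add] at h
    exact (mul_dvd_mul_iff_left (by norm_num)).mp h
  have hpar : ∀ u : ℤ, Even u ∨ Odd u := Int.even_or_odd
  rcases Int.even_or_odd q with hq | hq
  · -- `q + 1` odd
    have h3 : (2 : ℤ) ^ l ∣ q := two_pow_dvd_mul (Even.add_one hq) h2
    obtain ⟨u, rfl⟩ := h3
    rcases hpar u with ⟨v, rfl⟩ | ⟨v, rfl⟩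
    · exfalso; apply h1
      refine ⟨v, ?_⟩; ring
    · by_cases hl : l = 0
      · subst hl
        left
        refine ⟨v + 1, ?_⟩; ring
      · right; left
        refine ⟨by omega, v, ?_⟩; ring
  · have h3 : (2 : ℤ) ^ l ∣ q + 1 := two_pow_dvd_mul hq (by rwa [mul_comm] at h2)
    obtain ⟨u, hu⟩ := h3
    rcases hpar u with ⟨v, rfl⟩ | ⟨v, rfl⟩
    · left
      refine ⟨v, ?_⟩
      have : q = 2 ^ l * (v + v) - 1 := by linear_combination hu
      rw [this]; ring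
    · have hq' : q = 2 ^ l * (2 * v + 1) - 1 := by linear_combination hu
      by_cases hl : l = 0
      · subst hl
        exfalso; apply h1
        refine ⟨v, ?_⟩
        rw [hq']; ring
      · right; right
        refine ⟨by omega, v, ?_⟩
        rw [hq']; ring

theorem two_cyc_idx [Finite G] (n : ℕ) (hn : 3 ≤ n) (hG : Nat.card G = 2 ^ n) (C : Subgroup G) (hC : IsCyclic C) (hCi : C.index = 2)
    (hna : ∃ x y : G, x * y ≠ y * x) : ∃ a b : G, orderOf a = 2 ^ (n - 1) ∧ b ∉ Subgroup.zpowers a ∧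
      ((b ^ 2 = 1 ∧ b * a * b⁻¹ = a⁻¹) ∨ (b ^ 2 = a ^ (2 ^ (n - 2)) ∧ b * a * b⁻¹ = a⁻¹) ∨
        (4 ≤ n ∧ b ^ 2 = 1 ∧ b * a * b⁻¹ = a ^ (1 + 2 ^ (n - 2))) ∨ (4 ≤ n ∧ b ^ 2 = 1 ∧ b * a * b⁻¹ = a ^ (2 ^ (n - 2) - 1))) := by
  classical
  haveI : Fact (Nat.Prime 2) := ⟨Nat.prime_two⟩
  obtain ⟨a, y, r, hoa, hCz, hy, hr, hr1, hCn⟩ := cyc_idx_data hn hG C hC hCi hna
  obtain ⟨m, rfl⟩ : ∃ m, n = m + 2 := ⟨n - 2, by omega⟩
  simp only [show m + 2 - 1 = m + 1 by omega, show m + 2 - 2 = m by omega] at *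
  have hm : 1 ≤ m := by omega
  have hone : ∀ i : ℤ, a ^ i = 1 ↔ ((2 : ℤ) ^ (m + 1)) ∣ i := by
    intro i
    rw [← orderOf_dvd_iff_zpow_eq_one, hoa]; push_cast; rfl
  have heq : ∀ i j : ℤ, ((2 : ℤ) ^ (m + 1)) ∣ i - j → a ^ i = a ^ j := by
    intro i j h
    rw [← hone, zpow_sub, mul_inv_eq_one] at h
    exact h
  have heq' : ∀ i j : ℤ, a ^ i = a ^ j → ((2 : ℤ) ^ (m + 1)) ∣ i - j := by
    intro i j h
    rw [← hone, zpow_sub, h, mul_inv_cancel]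
  have hyp : y ^ 2 ∈ C := by
    have := C.pow_index_mem y
    rwa [hCi] at this
  have hCcomm : ∀ x ∈ C, x * a = a * x := by
    intro x hx
    rw [hCz] at hx
    obtain ⟨i, rfl⟩ := Subgroup.mem_zpowers_iff.mp hx
    exact (Commute.refl a).zpow_left i
  have hrp : ((2 : ℤ) ^ (m + 1)) ∣ r ^ 2 - 1 := by
    apply heq'
    have h1 := conj_pow_zpow hr 2 1
    rw [zpow_one, one_mul, hCcomm _ hyp, mul_inv_cancel_right] at h1
    rw [zpow_one]; exact h1.symm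
  obtain ⟨s, hs⟩ : ∃ s : ℤ, a ^ s = y ^ 2 := by
    rw [hCz] at hyp
    exact Subgroup.mem_zpowers_iff.mp hyp
  have hsr : ((2 : ℤ) ^ (m + 1)) ∣ r * s - s := by
    apply heq'
    have h1 : y * a ^ s * y⁻¹ = a ^ s := by
      rw [hs, ← pow_succ', pow_succ, mul_inv_cancel_right]
    rw [← conj_zpow, hr, ← zpow_mul] at h1
    exact h1
  have hyz : y ∉ Subgroup.zpowers a := hCz ▸ hy
  have htz : ∀ t : ℤ, a ^ t * y ∉ Subgroup.zpowers a := by
    intro t h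
    apply hyz
    have h1 := Subgroup.mul_mem _ (Subgroup.zpow_mem_zpowers a (-t)) h
    rw [← mul_assoc, ← zpow_add, neg_add_cancel, zpow_zero, one_mul] at h1
    exact h1
  have hconj : ∀ t : ℤ, a ^ t * y * a * (a ^ t * y)⁻¹ = a ^ r := by
    intro t
    rw [mul_inv_rev, show a ^ t * y * a * (y⁻¹ * (a ^ t)⁻¹) = a ^ t * (y * a * y⁻¹) * (a ^ t)⁻¹ by group, hr]
    rw [← zpow_neg, ← zpow_add, ← zpow_add]
    congr 1; ring
  have hsq : ∀ t : ℤ, (a ^ t * y) ^ 2 = a ^ (t * (1 + r) + s) := by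
    intro t
    rw [mul_pow_geom hr, ← hs, ← zpow_add]
    congr 2
    rw [Finset.sum_range_succ, Finset.sum_range_one, pow_zero, pow_one]
  rcases sq_one_cases hm hrp (by have := hr1; push_cast at this; exact this) with hA | ⟨hm2, hB⟩ | ⟨hm2, hB⟩
  · -- inverting
    have hinv : a ^ r = a⁻¹ := by rw [heq r (-1) hA]; simp
    have h2s : (2 : ℤ) ^ m ∣ s := by
      obtain ⟨c, hc⟩ := hA
      obtain ⟨d, hd⟩ := hsr
      have : s * 2 = 2 ^ (m + 1) * (c * s - d) := by linear_combination hc * s - hd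
      have h3 : s = 2 ^ m * (c * s - d) := by
        have : s * 2 = (2 ^ m * (c * s - d)) * 2 := by rw [this]; ring
        exact mul_right_cancel₀ (by norm_num) this
      exact ⟨_, h3⟩
    obtain ⟨u, rfl⟩ := h2s
    refine ⟨a, y, hoa, hyz, ?_⟩
    rcases Int.even_or_odd u with ⟨v, rfl⟩ | ⟨v, rfl⟩
    · left
      refine ⟨?_, hr.trans hinv⟩
      rw [← hs, hone]
      exact ⟨v, by ring⟩
    · right; left
      refine ⟨?_, hr.trans hinv⟩
      rw [← hs, ← zpow_natCast]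
      apply heq
      refine ⟨v, ?_⟩
      push_cast; ring
  · have hval : a ^ r = a ^ (1 + 2 ^ m) := by
      rw [← zpow_natCast]
      apply heq
      push_cast; exact hB
    have h2s : (2 : ℤ) ∣ s := by
      obtain ⟨c, hc⟩ := hB
      obtain ⟨d, hd⟩ := hsr
      have h3 : (2 : ℤ) ^ m * s = 2 ^ m * (2 * (d - c * s)) := by
        have : (2 : ℤ) ^ (m + 1) = 2 ^ m * 2 := pow_succ _ _
        rw [this] at hc hd
        linear_combination hd - hc * s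
      exact ⟨_, mul_left_cancel₀ (by positivity) h3⟩
    obtain ⟨s', rfl⟩ := h2s
    refine ⟨a, a ^ (- s' * (1 - 2 ^ (m - 1)) : ℤ) * y, hoa, htz _, ?_⟩
    right; right; left
    refine ⟨by omega, ?_, (hconj _).trans hval⟩
    rw [hsq, hone]
    obtain ⟨c, hc⟩ := hB
    obtain ⟨l, rfl⟩ : ∃ l, m = l + 2 := ⟨m - 2, by omega⟩
    have hr' : r = 1 + 2 ^ (l + 2) + 2 ^ (l + 2 + 1) * c := by linear_combination hc
    rw [hr', show l + 2 - 1 = l + 1 by omega]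
    refine ⟨s' * 2 ^ l - s' * (1 - 2 ^ (l + 1)) * c, ?_⟩
    ring
  · have hval : a ^ r = a ^ (2 ^ m - 1) := by
      rw [← zpow_natCast]
      apply heq
      have : ((2 ^ m - 1 : ℕ) : ℤ) = -1 + 2 ^ m := by
        rw [Nat.cast_sub (Nat.one_le_two_pow)]; push_cast; ring
      rw [this]; exact hB
    have h2s : (2 : ℤ) ^ m ∣ s := by
      obtain ⟨l, rfl⟩ : ∃ l, m = l + 2 := ⟨m - 2, by omega⟩
      obtain ⟨c, hc⟩ := hB
      obtain ⟨d, hd⟩ := hsr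
      have h3 : s * (2 ^ (l + 1) - 1) * 2 = (2 ^ (l + 2) * (d - c * s)) * 2 := by
        linear_combination hd - hc * s
      have h4 := mul_right_cancel₀ (by norm_num) h3
      have hodd : Odd ((2 : ℤ) ^ (l + 1) - 1) := ⟨2 ^ l - 1, by ring⟩
      exact two_pow_dvd_mul hodd ⟨_, h4⟩
    obtain ⟨u, rfl⟩ := h2s
    rcases Int.even_or_odd u with ⟨v, rfl⟩ | ⟨v, rfl⟩
    · refine ⟨a, y, hoa, hyz, ?_⟩
      right; right; right
      refine ⟨by omega, ?_, hr.trans hval⟩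
      rw [← hs, hone]
      exact ⟨v, by ring⟩
    · refine ⟨a, a ^ (1 : ℤ) * y, hoa, htz _, ?_⟩
      right; right; right
      refine ⟨by omega, ?_, (hconj _).trans hval⟩
      rw [hsq, hone]
      obtain ⟨c, hc⟩ := hB
      have hr' : r = -1 + 2 ^ m + 2 ^ (m + 1) * c := by linear_combination hc
      rw [hr']
      refine ⟨c + v + 1, ?_⟩
      ring

end Cfsg.Agent.H4
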