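import Cfsg.Agent.H4.Clifford2
import Cfsg.Agent.H4.Cliff3
import Cfsg.Agent.H4.Mult
import Cfsg.Agent.H4.Gallagher
import Cfsg.Agent.H4.Coh5

set_option linter.all false
set_option autoImplicit false

/-! Degree sums and degree bounds. -/

namespace Cfsg.Agent.H4

open Module
open scoped ComplexConjugate Pointwise

universe u v w

section K
variable {K : Type u} [Group K] [Fintype K]

theorem ker_constituent {χ ψ : K → ℂ} (hχ : IsCharacter K χ) (hψ : IsIrrCharacter K ψ) (h : classInner χ ψ ≠ 0) {g : K}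
    (hg : χ g = χ 1) : ψ g = ψ 1 := by
  classical
  obtain ⟨m, hm1, hm2⟩ := IsChar.exists_mult hχ
  have hre : ∀ φ : IrrCharacter K, ((φ : K → ℂ) g).re ≤ ((φ : K → ℂ) 1).re := by
    intro φ
    obtain ⟨d, hd, hd1⟩ := IsIrr.exists_degree φ.2
    have h1 := IsChar.norm_le (IsIrr.isCharacter φ.2) g
    rw [hd1] at h1 ⊢
    have h2 := Complex.re_le_norm ((φ : K → ℂ) g)
    rw [Complex.norm_natCast] at h1
    rw [Complex.natCast_re]
    linarith
  have hsum : ∑ φ : IrrCharacter K, (m φ : ℝ) * (((φ : K → ℂ) 1).re - ((φ : K → ℂ) g).re) = 0 := by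
    have h1 := congrArg Complex.re hg
    rw [hm2 g, hm2 1, Complex.re_sum, Complex.re_sum] at h1
    have h2 : ∀ x, ∑ φ : IrrCharacter K, ((m φ : ℂ) * (φ : K → ℂ) x).re = ∑ φ : IrrCharacter K, (m φ : ℝ) * ((φ : K → ℂ) x).re := by
      intro x
      apply Finset.sum_congr rfl; intro φ _
      simp [Complex.mul_re]
    rw [h2, h2] at h1
    simp only [mul_sub, Finset.sum_sub_distrib]
    linarith
  have h0 := (Finset.sum_eq_zero_iff_of_nonneg (fun φ _ => mul_nonneg (Nat.cast_nonneg _) (sub_nonneg.mpr (hre φ)))).mp hsum ⟨ψ, hψ⟩ (Finset.mem_univ _)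
  have hm0 : (m ⟨ψ, hψ⟩ : ℝ) ≠ 0 := by
    intro h'
    apply h
    have := hm1 ⟨ψ, hψ⟩
    rw [show classInner χ ψ = (m ⟨ψ, hψ⟩ : ℂ) from this]
    exact_mod_cast h'
  have h1 := (mul_eq_zero.mp h0).resolve_left hm0
  have h2 : (ψ g).re = (ψ 1).re := by
    have : (ψ 1).re - (ψ g).re = 0 := h1
    linarith
  obtain ⟨d, hd, hd1⟩ := IsIrr.exists_degree hψ
  have h3 := IsChar.norm_le (IsIrr.isCharacter hψ) g
  rw [hd1] at h2 h3
  rw [Complex.norm_natCast] at h3
  rw [Complex.natCast_re] at h2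
  have h4 : (ψ g).im = 0 := by
    have h5 := Complex.sq_norm (ψ g)
    rw [Complex.normSq_apply] at h5
    have h6 : ‖ψ g‖ ^ 2 ≤ (d : ℝ) ^ 2 := by
      apply pow_le_pow_left₀ (norm_nonneg _) h3
    rw [h2] at h5
    nlinarith
  rw [hd1]
  apply Complex.ext
  · rw [h2]; simp
  · rw [h4]; simp

theorem sum_sq_above (N : Subgroup K) (hN : N.Normal) [DecidablePred fun θ : IrrCharacter K => ∀ n ∈ N, (θ : K → ℂ) n = (θ : K → ℂ) 1] :
    ∑ θ : IrrCharacter K, (if ∀ n ∈ N, (θ : K → ℂ) n = (θ : K → ℂ) 1 then ((θ : K → ℂ) 1) ^ 2 else 0) = (N.index : ℂ) := by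
  classical
  have hcl := indFun_isClassFunction N (fun _ => (1 : ℂ))
  have h1 := congrFun (H5.classFun_expansion hcl) 1
  rw [indFun_one, mul_one, Finset.sum_apply] at h1
  rw [h1]
  apply Finset.sum_congr rfl; intro θ _
  rw [Pi.smul_apply, smul_eq_mul, frobenius_reciprocity N _ _ (IsIrr.isClassFunction θ.2)]
  obtain ⟨d, hd, hd1⟩ := IsIrr.exists_degree θ.2
  by_cases h : ∀ n ∈ N, (θ : K → ℂ) n = (θ : K → ℂ) 1
  · rw [if_pos h]
    have h2 : (fun h : N => (θ : K → ℂ) h) = (d : ℂ) • (fun _ : N => (1 : ℂ)) := by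
      funext n
      rw [h n n.2, hd1]; simp
    rw [h2, H5.classInner_smul_right, hd1]
    have h3 : classInner (fun _ : N => (1 : ℂ)) (fun _ => 1) = 1 := ii_self (H5.isIrrCharacter_trivial)
    rw [h3]; simp; ring
  · rw [if_neg h]
    have h4 : classInner (fun n : N => (θ : K → ℂ) n) (fun _ : N => (1 : ℂ)) = 0 := by
      by_contra hne
      apply h
      have h5 := clifford_restrict hN (θ : K → ℂ) θ.2 (fun _ => 1) (H5.isIrrCharacter_trivial) hne
      intro n hn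
      have h6 : {ψ : N → ℂ | ∃ g : K, ψ = conjBy hN g (fun _ => (1 : ℂ))} = {fun _ => 1} := by
        ext ψ
        simp only [Set.mem_setOf_eq, Set.mem_singleton_iff]
        constructor
        · rintro ⟨g, rfl⟩; rfl
        · rintro rfl; exact ⟨1, rfl⟩
      rw [h6, finsum_mem_singleton] at h5
      have e1 := congrFun h5 ⟨n, hn⟩
      have e2 := congrFun h5 1
      simp only [Pi.smul_apply] at e1 e2
      rw [OneMemClass.coe_one] at e2
      exact e1.trans e2.symm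
    rw [← H5.classInner_conj_symm, h4]; simp

theorem norm_sum_sq {χ : K → ℂ} (hχ : IsIrrCharacter K χ) : ∑ g : K, ‖χ g‖ ^ 2 = (Nat.card K : ℝ) := by
  have h := H5.classInner_self_re χ
  rw [ii_self hχ] at h
  have h1 : (1 : ℝ) = (Nat.card K : ℝ)⁻¹ * ∑ g : K, ‖χ g‖ ^ 2 := by exact_mod_cast h
  have hc : (Nat.card K : ℝ) ≠ 0 := by exact_mod_cast Nat.card_pos.ne'
  field_simp at h1
  linarith

theorem degree_sq_le_of_scalar {χ : K → ℂ} (hχ : IsIrrCharacter K χ) (D : Subgroup K) (hD : ∀ x ∈ D, ‖χ x‖ = ‖χ 1‖)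
    (d : ℕ) (hd : χ 1 = d) : d ^ 2 ≤ D.index := by
  classical
  have h1 := norm_sum_sq hχ
  have h2 : ∑ g ∈ (Finset.univ.filter (fun g : K => g ∈ D)), ‖χ g‖ ^ 2 ≤ ∑ g : K, ‖χ g‖ ^ 2 :=
    Finset.sum_le_sum_of_subset_of_nonneg (Finset.filter_subset _ _) (fun _ _ _ => by positivity)
  have h3 : ∑ g ∈ (Finset.univ.filter (fun g : K => g ∈ D)), ‖χ g‖ ^ 2 = (Nat.card D : ℝ) * d ^ 2 := by
    rw [Finset.sum_congr rfl (g := fun _ => (d : ℝ) ^ 2), Finset.sum_const, nsmul_eq_mul]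
    · congr 2
      rw [Nat.card_eq_fintype_card, Fintype.card_subtype]
    · intro g hg
      rw [Finset.mem_filter] at hg
      rw [hD g hg.2, hd, Complex.norm_natCast]
  rw [h1, h3] at h2
  have h4 : Nat.card D * d ^ 2 ≤ Nat.card K := by exact_mod_cast h2
  rw [← Subgroup.card_mul_index D] at h4
  exact Nat.le_of_mul_le_mul_left h4 Nat.card_pos

theorem scalar_of_comm_ker {χ : K → ℂ} (hχ : IsIrrCharacter K χ) (x : K) (h : ∀ y : K, χ (x * y * x⁻¹ * y⁻¹) = χ 1) :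
    ‖χ x‖ = ‖χ 1‖ := by
  obtain ⟨n, ρ, hρ, rfl⟩ := hχ
  have h1 : ∀ y : K, ρ x * ρ y = ρ y * ρ x := by
    intro y
    have h2 := (IsChar.eq_one_iff_rep ρ _).mp (h y)
    have h3 : x * y = (x * y * x⁻¹ * y⁻¹) * (y * x) := by group
    rw [← map_mul, h3, map_mul, h2, one_mul, map_mul]
  obtain ⟨c, hc⟩ := H5.schur_scalar ρ hρ (ρ x) (fun y v => by
      have := congrArg (fun T : Module.End ℂ (Fin n → ℂ) => T v) (h1 y)
      exact this)
  rw [Representation.char_one]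
  rw [(norm_char_eq_iff ρ x).mpr ⟨c, LinearMap.ext hc⟩]
  simp

theorem degree_bound {θ : K → ℂ} (hθ : IsIrrCharacter K θ) (C D : Subgroup K) (hDC : D ≤ C)
    (h : ∀ x ∈ D, ∀ y ∈ C, θ (x * y * x⁻¹ * y⁻¹) = θ 1) (d : ℕ) (hd : θ 1 = d) : d ^ 2 ≤ C.index ^ 2 * D.relIndex C := by
  classical
  have hres : IsCharacter C (fun c : C => θ c) := IsChar.restrict C (IsIrr.isCharacter hθ)
  obtain ⟨m, hm1, hm2⟩ := IsChar.exists_mult hres
  obtain ⟨ψ, hψ⟩ : ∃ ψ : IrrCharacter C, m ψ ≠ 0 := by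
    by_contra hcon
    push Not at hcon
    have h1 := hm2 1
    rw [Finset.sum_eq_zero (fun φ _ => by rw [hcon φ]; simp)] at h1
    exact IsIrr.degree_ne_zero hθ (by simpa using h1)
  have hψ0 : classInner (fun c : C => θ c) (ψ : C → ℂ) ≠ 0 := by rw [hm1]; exact_mod_cast hψ
  obtain ⟨b, hb, hb1⟩ := IsIrr.exists_degree ψ.2
  have h2 : b ^ 2 ≤ D.relIndex C := by
    apply degree_sq_le_of_scalar ψ.2 (D.subgroupOf C) _ b hb1
    intro x hx
    apply scalar_of_comm_ker ψ.2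
    intro y
    apply ker_constituent hres ψ.2 hψ0
    have := h x (Subgroup.mem_subgroupOf.mp hx) y y.2
    simpa using this
  have h3 : d ≤ C.index * b := by
    have hInd := IsChar.induce C (ψ : C → ℂ) (IsIrr.isCharacter ψ.2)
    obtain ⟨m', hm1', hm2'⟩ := IsChar.exists_mult hInd
    have h4 : m' ⟨θ, hθ⟩ ≠ 0 := by
      intro h0
      have h5 := hm1' ⟨θ, hθ⟩
      rw [h0, frobenius_reciprocity C _ _ (IsIrr.isClassFunction hθ)] at h5
      apply hψ0
      rw [← H5.classInner_conj_symm, h5]; simp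
    have h5 := hm2' 1
    rw [indFun_one, hb1] at h5
    have h6 : ((C.index * b : ℕ) : ℝ) = ∑ φ : IrrCharacter K, (m' φ : ℝ) * ((φ : K → ℂ) 1).re := by
      have := congrArg Complex.re h5
      rw [Complex.re_sum] at this
      have e1 : ((C.index : ℂ) * b).re = ((C.index * b : ℕ) : ℝ) := by
        rw [← Nat.cast_mul, Complex.natCast_re]
      rw [e1] at this
      rw [this]
      apply Finset.sum_congr rfl; intro φ _
      simp [Complex.mul_re]
    have h7 : (d : ℝ) ≤ ∑ φ : IrrCharacter K, (m' φ : ℝ) * ((φ : K → ℂ) 1).re := by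
      have h8 : ∀ φ : IrrCharacter K, 0 ≤ (m' φ : ℝ) * ((φ : K → ℂ) 1).re := by
        intro φ
        obtain ⟨e, he, he1⟩ := IsIrr.exists_degree φ.2
        rw [he1, Complex.natCast_re]; positivity
      have h9 := Finset.single_le_sum (fun φ _ => h8 φ) (Finset.mem_univ (⟨θ, hθ⟩ : IrrCharacter K))
      have h10 : (d : ℝ) ≤ (m' ⟨θ, hθ⟩ : ℝ) * (((⟨θ, hθ⟩ : IrrCharacter K) : K → ℂ) 1).re := by
        show (d : ℝ) ≤ (m' ⟨θ, hθ⟩ : ℝ) * (θ 1).re
        rw [hd, Complex.natCast_re]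
        have : (1 : ℝ) ≤ m' ⟨θ, hθ⟩ := by exact_mod_cast Nat.one_le_iff_ne_zero.mpr h4
        nlinarith [Nat.cast_nonneg (α := ℝ) d]
      linarith
    rw [← h6] at h7
    exact_mod_cast h7
  calc d ^ 2 ≤ (C.index * b) ^ 2 := Nat.pow_le_pow_left h3 2
    _ = C.index ^ 2 * b ^ 2 := by ring
    _ ≤ C.index ^ 2 * D.relIndex C := Nat.mul_le_mul_left _ h2

end K

section L
variable {L : Type u} [Group L] [Fintype L] {K : Subgroup L}

theorem ind_eq_iff_conj (hK : K.Normal) {θ φ : K → ℂ} (hθ : IsIrrCharacter K θ) (hφ : IsIrrCharacter K φ) :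
    indFun K φ = indFun K θ ↔ ∃ g : L, φ = conjBy hK g θ := by
  classical
  constructor
  · intro h
    by_contra hne
    have h1 := inner_ind_eq_zero hK θ φ hθ hφ hne
    rw [h] at h1
    have h2 := H5.classInner_self_eq_zero h1
    have h3 := congrFun h2 1
    rw [indFun_one] at h3
    rcases mul_eq_zero.mp h3 with h4 | h4
    · exact Subgroup.index_ne_zero_of_finite (H := K) (by exact_mod_cast h4)
    · exact IsIrr.degree_ne_zero hθ h4
  · rintro ⟨g, rfl⟩
    exact indFun_conjBy hK g θ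

theorem fibre_weight [Fintype K] (hK : K.Normal) {θ₀ : K → ℂ} (hθ₀ : IsIrrCharacter K θ₀) [DecidableEq (L → ℂ)] :
    (indFun K θ₀ 1) ^ 2 / classInner (indFun K θ₀) (indFun K θ₀) =
      (K.index : ℂ) * ∑ θ : IrrCharacter K, (if indFun K (θ : K → ℂ) = indFun K θ₀ then ((θ : K → ℂ) 1) ^ 2 else 0) := by
  classical
  have h1 : ∑ θ : IrrCharacter K, (if indFun K (θ : K → ℂ) = indFun K θ₀ then ((θ : K → ℂ) 1) ^ 2 else 0) =
      ((inertia hK θ₀).index : ℂ) * (θ₀ 1) ^ 2 := by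
    rw [← Finset.sum_filter, Finset.sum_congr rfl (g := fun _ => (θ₀ 1) ^ 2), Finset.sum_const, nsmul_eq_mul]
    · congr 2
      rw [← card_conj_orbit hK θ₀]
      rw [← Fintype.card_subtype, ← Nat.card_eq_fintype_card]
      apply Nat.card_congr
      exact {
        toFun := fun θ => ⟨(θ.1 : K → ℂ), (ind_eq_iff_conj hK hθ₀ θ.1.2).mp θ.2⟩
        invFun := fun ψ => ⟨⟨ψ.1, by obtain ⟨g, hg⟩ := ψ.2; rw [hg]; exact conjBy_irr hK g hθ₀⟩, by
          obtain ⟨g, hg⟩ := ψ.2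
          show indFun K ψ.1 = _
          rw [hg]; exact indFun_conjBy hK g θ₀⟩
        left_inv := fun θ => rfl
        right_inv := fun ψ => rfl }
    · intro θ hθ
      rw [Finset.mem_filter] at hθ
      have h2 := congrFun hθ.2 1
      rw [indFun_one, indFun_one] at h2
      have h3 : (K.index : ℂ) ≠ 0 := by exact_mod_cast Subgroup.index_ne_zero_of_finite (H := K)
      rw [mul_left_cancel₀ h3 h2]
  have h2 := norm_sq_induced hK θ₀ hθ₀
  have h3 : (Nat.card (inertia hK θ₀) : ℂ) * (inertia hK θ₀).index = (Nat.card K : ℂ) * K.index := by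
    exact_mod_cast (Subgroup.card_mul_index (inertia hK θ₀)).trans (Subgroup.card_mul_index K).symm
  have h4 : (Nat.card K : ℂ) ≠ 0 := by exact_mod_cast Nat.card_pos.ne'
  have h5 : (Nat.card (inertia hK θ₀) : ℂ) ≠ 0 := by exact_mod_cast Nat.card_pos.ne'
  have h6 : classInner (indFun K θ₀) (indFun K θ₀) ≠ 0 := by
    intro h0; rw [h0, mul_zero] at h2; exact h5 h2.symm
  have h7 : (K.index : ℂ) = classInner (indFun K θ₀) (indFun K θ₀) * (inertia hK θ₀).index := by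
    apply mul_left_cancel₀ h4
    rw [← mul_assoc, h2, h3]
  rw [h1, indFun_one, div_eq_iff h6]
  linear_combination ((K.index : ℂ) * θ₀ 1 ^ 2) * h7

/-- the basic degree-sum formula. -/
theorem sum_weight [Fintype K] (hK : K.Normal) (F : Finset (L → ℂ)) (hF : ∀ φ ∈ F, ∃ θ : K → ℂ, IsIrrCharacter K θ ∧ φ = indFun K θ)
    [DecidableEq (L → ℂ)] : ∑ φ ∈ F, (φ 1) ^ 2 / classInner φ φ =
      (K.index : ℂ) * ∑ θ : IrrCharacter K, (if indFun K (θ : K → ℂ) ∈ F then ((θ : K → ℂ) 1) ^ 2 else 0) := by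
  have h1 : ∀ φ ∈ F, (φ 1) ^ 2 / classInner φ φ =
      (K.index : ℂ) * ∑ θ : IrrCharacter K, (if indFun K (θ : K → ℂ) = φ then ((θ : K → ℂ) 1) ^ 2 else 0) := by
    intro φ hφ
    obtain ⟨θ, hθ, rfl⟩ := hF φ hφ
    exact fibre_weight hK hθ
  rw [Finset.sum_congr rfl h1, ← Finset.mul_sum, Finset.sum_comm]
  congr 1
  apply Finset.sum_congr rfl; intro θ _
  rw [Finset.sum_ite_eq]

theorem ind_conjFun (θ : K → ℂ) : indFun K (conjFun θ) = conjFun (indFun K θ) := by
  classical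
  funext g
  unfold indFun conjFun
  simp only [map_mul, map_inv₀, map_natCast, map_sum]
  congr 1
  apply Finset.sum_congr rfl; intro x _
  by_cases h : x⁻¹ * g * x ∈ K
  · rw [extendByZero_mem K _ h, extendByZero_mem K _ h]
  · rw [extendByZero_not_mem K _ h, extendByZero_not_mem K _ h, map_zero]

theorem conj_irr {K : Type v} [Group K] [Finite K] {θ : K → ℂ} (hθ : IsIrrCharacter K θ) : IsIrrCharacter K (conjFun θ) := IsIrr.conj hθ

end L

end Cfsg.Agent.H4
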