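import Cfsg.Agent.H4.Feit2
import Cfsg.Agent.H3.Kegel

set_option linter.all false
set_option autoImplicit false

/-! Feit's coherence theorem for nilpotent Frobenius kernels: the main case distinction. -/

namespace Cfsg.Agent.H4

open Module
open scoped ComplexConjugate Pointwise commutatorElement

universe u v w

section grp
variable {L : Type u} [Group L] [Finite L] {K : Subgroup L}

/-- Thompson: Frobenius kernels are nilpotent. -/
theorem nil_of_cent (hK : K.Normal) (hC : ∀ k ∈ K, k ≠ 1 → Subgroup.centralizer ({k} : Set L) ≤ K) (hKt : K ≠ ⊤) :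
    Group.IsNilpotent K := by
  haveI := hK
  obtain ⟨_, hcop⟩ := cop_of_cent hK hC
  have h1 : K.index ≠ 1 := fun h => hKt (Subgroup.index_eq_one.mp h)
  obtain ⟨p, hp, hpd⟩ := Nat.exists_prime_and_dvd h1
  haveI : Fact p.Prime := ⟨hp⟩
  obtain ⟨t, ht⟩ := exists_prime_orderOf_dvd_card' (G := L) p (hpd.trans K.index_dvd_card)
  have htK : t ∉ K := by
    intro h
    have h3 : p ∣ Nat.card K := by
      rw [← ht]; exact Subgroup.orderOf_dvd_natCard K h
    have h4 := Nat.dvd_gcd h3 hpd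
    rw [hcop] at h4
    exact hp.one_lt.ne' (Nat.dvd_one.mp h4)
  have htp : t ^ p = 1 := by rw [← ht]; exact pow_orderOf_eq_one _
  apply H3.nilpotent_of_fpf (MulAut.conjNormal t : MulAut K) p
  · rw [← map_pow, htp, map_one]
  · intro k hk
    have h4 := congrArg Subtype.val hk
    rw [MulAut.conjNormal_apply] at h4
    have h5 : t * k = k * t := mul_inv_eq_iff_eq_mul.mp h4
    by_contra hk1
    apply htK
    apply hC k k.2 (fun h => hk1 (Subtype.ext h))
    rw [Subgroup.mem_centralizer_singleton_iff]; exact h5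

/-- splitting of a nilpotent normal subgroup. -/
theorem split_nil (hK : K.Normal) (hnil : Group.IsNilpotent K) (p : ℕ) [hp : Fact p.Prime] :
    ∃ P Q : Subgroup L, P.Normal ∧ Q.Normal ∧ P ≤ K ∧ Q ≤ K ∧ P ⊔ Q = K ∧ P ⊓ Q = ⊥ ∧ IsPGroup p P ∧ (Nat.card Q).Coprime p ∧
      ∀ a ∈ P, ∀ b ∈ Q, a * b = b * a := by
  haveI := hK
  have hP : ((pCore p K).map K.subtype).Normal := L0.normal_map_subtype_of_characteristic _
  have hQ : ((pPrimeCore p K).map K.subtype).Normal := L0.normal_map_subtype_of_characteristic _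
  have hsup : (pCore p K).map K.subtype ⊔ (pPrimeCore p K).map K.subtype = K := by
    rw [← Subgroup.map_sup, sup_comm, H3.nilpotent_sup_pPrime hnil p, ← MonoidHom.range_eq_map, Subgroup.range_subtype]
  have hpP : IsPGroup p ((pCore p K).map K.subtype) := L0.isPGroup_map_of_le (L0.pCore_isPGroup p K) _
  have hcQ : (Nat.card ((pPrimeCore p K).map K.subtype)).Coprime p := by
    rw [L0.card_map_subtype]; exact L0.pPrimeCore_coprime p K
  have hinf : (pCore p K).map K.subtype ⊓ (pPrimeCore p K).map K.subtype = ⊥ := by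
    rw [Subgroup.eq_bot_iff_forall]
    intro x hx
    obtain ⟨h1, h2⟩ := Subgroup.mem_inf.mp hx
    obtain ⟨k, hk⟩ := hpP.exists_card_eq
    have d1 : orderOf x ∣ p ^ k := by rw [← hk]; exact Subgroup.orderOf_dvd_natCard _ h1
    have d2 : orderOf x ∣ Nat.card ((pPrimeCore p K).map K.subtype) := Subgroup.orderOf_dvd_natCard _ h2
    have := Nat.Coprime.eq_one_of_dvd (Nat.Coprime.coprime_dvd_right d1 (Nat.Coprime.coprime_dvd_left d2 (hcQ.pow_right k))) (dvd_refl _)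
    exact orderOf_eq_one_iff.mp this
  refine ⟨_, _, hP, hQ, (Subgroup.map_subtype_le _), (Subgroup.map_subtype_le _), hsup, hinf, hpP, hcQ, ?_⟩
  intro a ha b hb
  have h1 : a * b * a⁻¹ * b⁻¹ ∈ (pCore p K).map K.subtype ⊓ (pPrimeCore p K).map K.subtype := by
    refine Subgroup.mem_inf.mpr ⟨?_, ?_⟩
    · have : a * b * a⁻¹ * b⁻¹ = a * (b * a⁻¹ * b⁻¹) := by group
      rw [this]
      exact Subgroup.mul_mem _ ha (hP.conj_mem _ (Subgroup.inv_mem _ ha) b)
    · exact Subgroup.mul_mem _ (hQ.conj_mem _ hb a) (Subgroup.inv_mem _ hb)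
  rw [hinf, Subgroup.mem_bot] at h1
  have h2 : a * b = b * a := by
    have : a * b = (a * b * a⁻¹ * b⁻¹) * (b * a) := by group
    rw [this, h1, one_mul]
  exact h2

/-- the commutator of a commuting product. -/
theorem comm_split {P Q : Subgroup L} (hP : P.Normal) (hQ : Q.Normal) (hPQ : ∀ a ∈ P, ∀ b ∈ Q, a * b = b * a) :
    ⁅P ⊔ Q, P ⊔ Q⁆ ≤ ⁅P, P⁆ ⊔ ⁅Q, Q⁆ := by
  haveI := hP
  haveI := hQ
  rw [Subgroup.commutator_le]
  intro x hx y hy
  obtain ⟨a, ha, b, hb, rfl⟩ := Subgroup.mem_sup_of_normal_right.mp hx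
  obtain ⟨c, hc, d, hd, rfl⟩ := Subgroup.mem_sup_of_normal_right.mp hy
  have e1 : ⁅a * b, c * d⁆ = ⁅a, c⁆ * ⁅b, d⁆ := by
    have h1 := hPQ a ha b hb
    have h2 := hPQ a ha d hd
    have h3 := hPQ c hc b hb
    have h4 := hPQ c hc d hd
    have h5 := hPQ a⁻¹ (P.inv_mem ha) d hd
    have h6 := hPQ _ (P.inv_mem ha) _ (Q.inv_mem hb)
    have h7 := hPQ _ (P.inv_mem hc) _ (Q.inv_mem hb)
    have h8 := hPQ _ (P.inv_mem hc) _ (Q.inv_mem hd)
    have h9 := hPQ _ (P.mul_mem (P.inv_mem ha) (P.inv_mem hc)) _ (Q.mul_mem hb hd)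
    rw [commutatorElement_def, commutatorElement_def, commutatorElement_def, mul_inv_rev, mul_inv_rev]
    calc a * b * (c * d) * (b⁻¹ * a⁻¹) * (d⁻¹ * c⁻¹) = a * (b * c) * d * (b⁻¹ * a⁻¹) * (d⁻¹ * c⁻¹) := by group
      _ = a * (c * b) * d * (a⁻¹ * b⁻¹) * (c⁻¹ * d⁻¹) := by rw [h3, h6, h8]
      _ = a * c * (b * d * a⁻¹) * (b⁻¹ * c⁻¹) * d⁻¹ := by group
      _ = a * c * (b * d * a⁻¹) * (c⁻¹ * b⁻¹) * d⁻¹ := by rw [h7]
      _ = a * c * (b * d * (a⁻¹ * c⁻¹)) * b⁻¹ * d⁻¹ := by group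
      _ = a * c * ((a⁻¹ * c⁻¹) * (b * d)) * b⁻¹ * d⁻¹ := by rw [h9]
      _ = a * c * a⁻¹ * c⁻¹ * (b * d * b⁻¹ * d⁻¹) := by group
  rw [e1]
  exact Subgroup.mul_mem_sup (Subgroup.commutator_mem_commutator ha hc) (Subgroup.commutator_mem_commutator hb hd)

end grp

section coh
variable {L : Type u} [Group L] [Fintype L] {G : Type v} [Group G] [Fintype G] {τ : (L → ℂ) → (G → ℂ)}
variable {K : Subgroup L}

theorem feit_mixed (hK : K.Normal) (hC : ∀ k ∈ K, k ≠ 1 → Subgroup.centralizer ({k} : Set L) ≤ K) (hnil : Group.IsNilpotent K)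
    (hτ : IsLinearIsometryOn (zspanOn (inducedIrrAbove K ⊥) {1}ᶜ) τ) (hτ1 : ∀ α ∈ zspanOn (inducedIrrAbove K ⊥) {1}ᶜ, τ α 1 = 0)
    (he3 : 3 ≤ K.index) (P Q : Subgroup L) (hP : P.Normal) (hQ : Q.Normal) (hPK : P ≤ K) (hQK : Q ≤ K) (hsup : P ⊔ Q = K) (hinf : P ⊓ Q = ⊥)
    (hPQ : ∀ a ∈ P, ∀ b ∈ Q, a * b = b * a) (hPb : P ≠ ⊥) (hQb : Q ≠ ⊥) : IsCoherent (inducedIrrAbove K ⊥) {1}ᶜ τ := by
  haveI := hK
  haveI := hP
  haveI := hQ
  haveI : Group.IsNilpotent K := hnil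
  have hPn : Group.IsNilpotent P := L0.isNilpotent_of_le hnil hPK
  have hQn : Group.IsNilpotent Q := L0.isNilpotent_of_le hnil hQK
  obtain ⟨_, hcop⟩ := cop_of_cent hK hC
  have hPP := comm_lt_of_nil hPn hPb
  have hQQ := comm_lt_of_nil hQn hQb
  have hKK' : ⁅K, K⁆ ≤ ⁅P, P⁆ ⊔ ⁅Q, Q⁆ := by
    have := comm_split hP hQ hPQ
    rwa [hsup] at this
  have hQQK : ⁅Q, Q⁆ ≤ ⁅K, K⁆ := Subgroup.commutator_mono hQK hQK
  have hPPK : ⁅P, P⁆ ≤ ⁅K, K⁆ := Subgroup.commutator_mono hPK hPK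
  -- modular facts
  have hnP : ¬ P ≤ ⁅P, P⁆ ⊔ Q := by
    intro h
    apply hPP.not_ge
    intro x hx
    obtain ⟨a, ha, b, hb, hab⟩ := Subgroup.mem_sup_of_normal_right.mp (h hx)
    have hb' : b ∈ P ⊓ Q := by
      refine Subgroup.mem_inf.mpr ⟨?_, hb⟩
      have : b = a⁻¹ * x := by rw [← hab]; group
      rw [this]; exact P.mul_mem (P.inv_mem (hPP.le ha)) hx
    rw [hinf, Subgroup.mem_bot] at hb'
    rw [← hab, hb', mul_one]; exact ha
  have hnQ : ¬ Q ≤ P ⊔ ⁅Q, Q⁆ := by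
    intro h
    apply hQQ.not_ge
    intro x hx
    obtain ⟨a, ha, b, hb, hab⟩ := Subgroup.mem_sup_of_normal_left.mp (h hx)
    have ha' : a ∈ P ⊓ Q := by
      refine Subgroup.mem_inf.mpr ⟨ha, ?_⟩
      have : a = x * b⁻¹ := by rw [← hab]; group
      rw [this]; exact Q.mul_mem hx (Q.inv_mem (hQQ.le hb))
    rw [hinf, Subgroup.mem_bot] at ha'
    rw [← hab, ha', one_mul]; exact hb
  have hnQ' : ¬ Q ≤ ⁅K, K⁆ := fun h => hnQ ((h.trans hKK').trans (sup_le_sup_right hPP.le _))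
  have hnK : ¬ K ≤ ⁅K, K⁆ ⊔ Q := by
    intro h
    apply hnP
    refine hPK.trans (h.trans (sup_le (hKK'.trans (sup_le_sup_left hQQ.le _)) le_sup_right))
  have hab : ∀ x ∈ K, ∀ y ∈ K, x * y * x⁻¹ * y⁻¹ ∈ ⁅K, K⁆ := fun x hx y hy => Subgroup.commutator_mem_commutator hx hy
  -- step 1
  have hbig : K.index + 1 < (⁅K, K⁆).relIndex K := by
    have hle : ⁅K, K⁆ ⊔ Q ≤ K := sup_le (Subgroup.commutator_le_self K) hQK
    have h1 : K.index + 1 ≤ (⁅K, K⁆).relIndex (⁅K, K⁆ ⊔ Q) :=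
      frob_ge inferInstance inferInstance hle (Subgroup.commutator_le_self K) (frob_quot hcop hC hK inferInstance (Subgroup.commutator_le_self K))
        (fun h => hnQ' (le_sup_right.trans h))
    have h2 : K.index + 1 ≤ (⁅K, K⁆ ⊔ Q).relIndex K :=
      frob_ge inferInstance hK (le_refl _) hle (frob_quot hcop hC hK inferInstance hle) hnK
    rw [← Subgroup.relIndex_mul_relIndex (⁅K, K⁆) (⁅K, K⁆ ⊔ Q) K le_sup_left hle]
    have h3 := Nat.mul_le_mul h1 h2
    nlinarith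
  have hs1 : IsCoherent (inducedIrrAbove K ⁅K, K⁆) {1}ᶜ τ :=
    feit_equal hK hC hτ hτ1 _ inferInstance hab (above_two hK hC inferInstance hab hbig)
  -- step 2
  have hQK' : ⁅Q, K⁆ ≤ ⁅Q, Q⁆ := by
    rw [Subgroup.commutator_le]
    intro q hq k hk
    rw [← hsup] at hk
    obtain ⟨a, ha, b, hb, rfl⟩ := Subgroup.mem_sup_of_normal_right.mp hk
    have e1 : ⁅q, a * b⁆ = a * ⁅q, b⁆ * a⁻¹ := by
      have h1 := hPQ a ha q hq
      rw [commutatorElement_def, commutatorElement_def, mul_inv_rev]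
      calc q * (a * b) * q⁻¹ * (b⁻¹ * a⁻¹) = (q * a) * b * q⁻¹ * (b⁻¹ * a⁻¹) := by group
        _ = (a * q) * b * q⁻¹ * (b⁻¹ * a⁻¹) := by rw [h1]
        _ = a * (q * b * q⁻¹ * b⁻¹) * a⁻¹ := by group
    rw [e1]
    have hn : (⁅Q, Q⁆).Normal := inferInstance
    exact hn.conj_mem _ (Subgroup.commutator_mem_commutator hq hb) a
  have hs2 : IsCoherent (inducedIrrAbove K ⁅Q, Q⁆) {1}ᶜ τ :=
    feit_mixed_step hK hC hnil hτ hτ1 he3 ⁅Q, Q⁆ ⁅K, K⁆ Q inferInstance inferInstance hQ hQQK (Subgroup.commutator_le_self K) hQK hQK' hnQ' hnK hs1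
  -- step 3
  have hZ : P ⊓ Subgroup.centralizer (K : Set L) ≠ ⊥ := by
    -- the centre of `P`
    haveI : Nontrivial P := (Subgroup.nontrivial_iff_ne_bot P).mpr hPb
    obtain ⟨z, hz, hz1⟩ := (Subgroup.center P).bot_or_exists_ne_one.resolve_left (by
      intro h
      haveI := hPn
      have := Group.IsNilpotent.center_ne_bot (G := P)
      exact this h)
    intro hbot
    have hz' : (z : L) ∈ P ⊓ Subgroup.centralizer (K : Set L) := by
      refine Subgroup.mem_inf.mpr ⟨z.2, ?_⟩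
      rw [Subgroup.mem_centralizer_iff]
      intro k hk
      rw [← hsup] at hk
      obtain ⟨a, ha, b, hb, rfl⟩ := Subgroup.mem_sup_of_normal_right.mp hk
      have h1 : a * z = z * a := by
        have := congrArg Subtype.val (Subgroup.mem_center_iff.mp hz ⟨a, ha⟩)
        exact this
      have h2 := hPQ z z.2 b hb
      rw [mul_assoc, ← h2, ← mul_assoc, h1, mul_assoc]
    rw [hbot, Subgroup.mem_bot] at hz'
    exact hz1 (Subtype.ext hz')
  have hcen : (Subgroup.centralizer (K : Set L)).Normal := Subgroup.normal_centralizer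
  have hEK : ⁅P ⊓ Subgroup.centralizer (K : Set L), K⁆ ≤ ⊥ := by
    rw [Subgroup.commutator_le]
    intro z hz k hk
    have := Subgroup.mem_centralizer_iff.mp (Subgroup.mem_inf.mp hz).2 k hk
    rw [Subgroup.mem_bot, commutatorElement_def, ← this]; group
  refine feit_mixed_step hK hC hnil hτ hτ1 he3 ⊥ ⁅Q, Q⁆ (P ⊓ Subgroup.centralizer (K : Set L)) inferInstance inferInstance inferInstance bot_le
    (hQQ.le.trans hQK) (inf_le_left.trans hPK) hEK ?_ ?_ hs2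
  · intro h
    apply hZ
    rw [eq_bot_iff, ← hinf]
    exact le_inf inf_le_left (h.trans hQQ.le)
  · intro h
    exact hnQ (hQK.trans (h.trans (sup_le le_sup_right (inf_le_left.trans le_sup_left))))

/-- **Feit's theorem**: coherence of the characters of a Frobenius group with nilpotent kernel. -/
theorem feit_nil (hK : K.Normal) (hC : ∀ k ∈ K, k ≠ 1 → Subgroup.centralizer ({k} : Set L) ≤ K) (hnil : Group.IsNilpotent K)
    (hK1 : K ≠ ⊥) (hKt : K ≠ ⊤)
    (hτ : IsLinearIsometryOn (zspanOn (inducedIrrAbove K ⊥) {1}ᶜ) τ) (hτ1 : ∀ α ∈ zspanOn (inducedIrrAbove K ⊥) {1}ᶜ, τ α 1 = 0) :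
    (Nat.card K = K.index + 1 ∧ ⁅K, K⁆ = ⊥) ∨ (∃ p : ℕ, p.Prime ∧ IsPGroup p K ∧ ⁅K, K⁆ ≠ ⊥ ∧ (⁅K, K⁆).relIndex K ≤ 4 * K.index ^ 2 + 1) ∨
      IsCoherent (inducedIrrAbove K ⊥) {1}ᶜ τ := by
  haveI := hK
  by_cases hab : ⁅K, K⁆ = ⊥
  · rcases Nat.lt_or_ge (K.index + 1) (Nat.card K) with h | h
    · right; right
      have hc : ∀ x ∈ K, ∀ y ∈ K, x * y * x⁻¹ * y⁻¹ ∈ (⊥ : Subgroup L) := fun x hx y hy => by
        rw [← hab]; exact Subgroup.commutator_mem_commutator hx hy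
      exact feit_equal hK hC hτ hτ1 _ inferInstance hc (above_two hK hC inferInstance hc (by rwa [Subgroup.relIndex_bot_left]))
    · left
      refine ⟨?_, hab⟩
      obtain ⟨h1, _⟩ := cop_of_cent hK hC
      have h2 : 1 < Nat.card K := Subgroup.one_lt_card_iff_ne_bot K |>.mpr hK1
      have := Nat.le_of_dvd (by omega) h1
      omega
  · right
    have hodd := odd_of_nonab hK hC hab
    have he1 : K.index ≠ 1 := fun h => hKt (Subgroup.index_eq_one.mp h)
    have he3 : 3 ≤ K.index := by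
      obtain ⟨m, hm⟩ := hodd
      omega
    have h2 : 1 < Nat.card K := Subgroup.one_lt_card_iff_ne_bot K |>.mpr hK1
    obtain ⟨p, hp, hpd⟩ := Nat.exists_prime_and_dvd h2.ne'
    haveI : Fact p.Prime := ⟨hp⟩
    by_cases hpK : IsPGroup p K
    · rcases Nat.lt_or_ge (4 * K.index ^ 2 + 1) ((⁅K, K⁆).relIndex K) with h | h
      · right; exact feit_63 hK hC hnil hK1 hτ hτ1 h
      · left; exact ⟨p, hp, hpK, hab, h⟩
    · right
      obtain ⟨P, Q, hP, hQ, hPK, hQK, hsup, hinf, hpP, hcQ, hPQ⟩ := split_nil hK hnil p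
      refine feit_mixed hK hC hnil hτ hτ1 he3 P Q hP hQ hPK hQK hsup hinf hPQ ?_ ?_
      · rintro rfl
        rw [bot_sup_eq] at hsup
        rw [hsup] at hcQ
        exact hp.one_lt.ne' (Nat.Coprime.eq_one_of_dvd hcQ.symm hpd)
      · rintro rfl
        rw [sup_bot_eq] at hsup
        rw [hsup] at hpP
        exact hpK hpP

end coh

end Cfsg.Agent.H4
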