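import Cfsg.Agent.H4.Coh8
import Cfsg.Agent.H3.Basic

set_option linter.all false
set_option autoImplicit false

/-! Congruences for Frobenius-type actions and abelianizations of nilpotent groups. -/

namespace Cfsg.Agent.H4

open Module
open scoped Pointwise commutatorElement

universe u v w

section cong
variable {Q : Type u} [Group Q] [Finite Q]

theorem cong_of_centralizer (N : Subgroup Q) (hN : N.Normal) (e : ℕ)
    (h : ∀ n ∈ N, n ≠ 1 → e ∣ (Subgroup.centralizer ({n} : Set Q)).index) : e ∣ Nat.card N - 1 := by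
  classical
  haveI := Fintype.ofFinite Q
  haveI : Fintype (ConjClasses Q) := Fintype.ofFinite _
  set F : Finset Q := Finset.univ.filter (fun n => n ∈ N ∧ n ≠ 1) with hF
  have hcard : F.card = Nat.card N - 1 := by
    have h1 : (Finset.univ.filter (fun n : Q => n ∈ N)) = insert 1 F := by
      ext x
      simp only [hF, Finset.mem_filter, Finset.mem_univ, true_and, Finset.mem_insert]
      constructor
      · intro hx
        by_cases hx1 : x = 1
        · exact Or.inl hx1
        · exact Or.inr ⟨hx, hx1⟩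
      · rintro (rfl | hx)
        · exact N.one_mem
        · exact hx.1
    have h2 : (Finset.univ.filter (fun n : Q => n ∈ N)).card = Nat.card N := by
      rw [Nat.card_eq_fintype_card, ← Fintype.card_subtype]
    rw [← h2, h1, Finset.card_insert_of_notMem (by simp [hF])]
    rfl
  rw [← hcard, Finset.card_eq_sum_card_fiberwise (f := ConjClasses.mk) (t := Finset.univ) (fun _ _ => Finset.mem_univ _)]
  apply Finset.dvd_sum
  intro c _
  by_cases hemp : (F.filter (fun x => ConjClasses.mk x = c)) = ∅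
  · rw [hemp]; simp
  · obtain ⟨n, hn⟩ := Finset.nonempty_iff_ne_empty.mpr hemp
    rw [Finset.mem_filter, hF, Finset.mem_filter] at hn
    obtain ⟨⟨_, hnN, hn1⟩, hnc⟩ := hn
    have h3 : (F.filter (fun x => ConjClasses.mk x = c)) = Finset.univ.filter (fun y => IsConj n y) := by
      ext y
      simp only [hF, Finset.mem_filter, Finset.mem_univ, true_and]
      constructor
      · rintro ⟨_, h4⟩
        rw [← hnc] at h4
        exact (ConjClasses.mk_eq_mk_iff_isConj.mp h4).symm
      · intro h4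
        obtain ⟨g, hg⟩ := isConj_iff.mp h4
        refine ⟨⟨?_, ?_⟩, ?_⟩
        · rw [← hg]; exact hN.conj_mem n hnN g
        · rintro rfl
          apply hn1
          have : n = g⁻¹ * 1 * g := by rw [← hg]; group
          rw [this]; group
        · rw [← hnc]; exact (ConjClasses.mk_eq_mk_iff_isConj.mpr h4).symm
    have h5 : (Finset.univ.filter (fun y => IsConj n y)).card = (Subgroup.centralizer ({n} : Set Q)).index := by
      rw [← H3.card_isConj n, Nat.card_eq_fintype_card, Fintype.card_subtype]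
    rw [h3, h5]
    exact h n hnN hn1

end cong

section frob
variable {L : Type u} [Group L] [Finite L] {K : Subgroup L}

theorem card_map_mk {H₁ : Subgroup L} [H₁.Normal] (N : Subgroup L) : Nat.card (N.map (QuotientGroup.mk' H₁)) = H₁.relIndex N := by
  rw [← Subgroup.relIndex_ker, QuotientGroup.ker_mk']

theorem frob_cong {H₁ N : Subgroup L} (hH₁ : H₁.Normal) (hN : N.Normal) (hHN : H₁ ≤ N) (hNK : N ≤ K)
    (hab : ∀ x ∈ K, ∀ y ∈ K, x * y * x⁻¹ * y⁻¹ ∈ H₁)
    (hfrob : ∀ k ∈ K, k ∉ H₁ → ∀ x : L, x * k * x⁻¹ * k⁻¹ ∈ H₁ → x ∈ K) : K.index ∣ H₁.relIndex N - 1 := by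
  haveI := hH₁
  rw [← card_map_mk]
  apply cong_of_centralizer _ (Subgroup.Normal.map hN _ (QuotientGroup.mk'_surjective _))
  rintro _ ⟨n, hn, rfl⟩ hn1
  have hn1' : n ∉ H₁ := by
    intro h
    apply hn1
    rw [QuotientGroup.mk'_apply, QuotientGroup.eq_one_iff]; exact h
  have h1 : (Subgroup.centralizer ({QuotientGroup.mk' H₁ n} : Set (L ⧸ H₁))).comap (QuotientGroup.mk' H₁) = K := by
    ext x
    rw [Subgroup.mem_comap, Subgroup.mem_centralizer_singleton_iff]
    have h2 : (QuotientGroup.mk' H₁ x * QuotientGroup.mk' H₁ n = QuotientGroup.mk' H₁ n * QuotientGroup.mk' H₁ x) ↔ x * n * x⁻¹ * n⁻¹ ∈ H₁ := by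
      rw [← map_mul, ← map_mul, QuotientGroup.mk'_apply, QuotientGroup.mk'_apply, eq_comm, QuotientGroup.eq]
      constructor
      · intro h
        have := hH₁.conj_mem _ h (n * x)
        convert this using 1; group
      · intro h
        have := hH₁.conj_mem _ h (n * x)⁻¹
        convert this using 1; group
    rw [h2]
    exact ⟨hfrob n (hNK hn) hn1' x, fun hx => hab x hx n (hNK hn)⟩
  rw [← Subgroup.index_comap_of_surjective _ (QuotientGroup.mk'_surjective H₁), h1]

theorem frob_big {H₁ N : Subgroup L} (hodd : Odd (Nat.card L)) (hH₁ : H₁.Normal) (hN : N.Normal) (hK : K.Normal) (hHN : H₁ < N) (hNK : N < K)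
    (hab : ∀ x ∈ K, ∀ y ∈ K, x * y * x⁻¹ * y⁻¹ ∈ H₁)
    (hfrob : ∀ k ∈ K, k ∉ H₁ → ∀ x : L, x * k * x⁻¹ * k⁻¹ ∈ H₁ → x ∈ K) : 4 * K.index ^ 2 + 1 < H₁.relIndex K := by
  have h1 := frob_cong hH₁ hN hHN.le hNK.le hab hfrob
  have h2 := frob_cong hH₁ hK (hHN.trans hNK).le (le_refl _) hab hfrob
  have h3 := Subgroup.relIndex_mul_relIndex H₁ N K hHN.le hNK.le
  have he : Odd K.index := Odd.of_dvd_nat hodd K.index_dvd_card
  have ho1 : Odd (H₁.relIndex N) := by
    have : H₁.relIndex N ∣ Nat.card L := (Subgroup.relIndex_dvd_card H₁ N).trans (Subgroup.card_subgroup_dvd_card N)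
    exact Odd.of_dvd_nat hodd this
  have ho2 : Odd (N.relIndex K) := by
    have : N.relIndex K ∣ Nat.card L := (Subgroup.relIndex_dvd_card N K).trans (Subgroup.card_subgroup_dvd_card K)
    exact Odd.of_dvd_nat hodd this
  have hne1 : H₁.relIndex N ≠ 1 := fun h => absurd (Subgroup.relIndex_eq_one.mp h) (not_le_of_gt hHN)
  have hne2 : N.relIndex K ≠ 1 := fun h => absurd (Subgroup.relIndex_eq_one.mp h) (not_le_of_gt hNK)
  generalize K.index = e at *
  generalize H₁.relIndex K = c at *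
  generalize H₁.relIndex N = a at *
  generalize N.relIndex K = b at *
  obtain ⟨e', rfl⟩ := he
  obtain ⟨a', rfl⟩ := ho1
  obtain ⟨b', rfl⟩ := ho2
  have ha' : 0 < a' := by omega
  have hb' : 0 < b' := by omega
  rw [Nat.add_sub_cancel] at h1
  -- (2e'+1) | 2a' → (2e'+1) | a'
  have hc1 : Nat.Coprime (2 * e' + 1) 2 := by
    rw [Nat.coprime_comm]; exact (Nat.coprime_two_left (n := 2 * e' + 1)).mpr ⟨e', rfl⟩
  have h1' : (2 * e' + 1) ∣ a' := hc1.dvd_of_dvd_mul_left h1
  have h4 : (2 * e' + 1) ∣ 2 * b' := by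
    have e1 : c - 1 = 2 * a' * (2 * b' + 1) + 2 * b' := by
      rw [← h3]
      have : (2 * a' + 1) * (2 * b' + 1) = 2 * a' * (2 * b' + 1) + 2 * b' + 1 := by ring
      omega
    rw [e1] at h2
    have h5 : (2 * e' + 1) ∣ 2 * a' * (2 * b' + 1) := Dvd.dvd.mul_right (Dvd.dvd.mul_left h1' 2) _
    exact (Nat.dvd_add_right h5).mp h2
  have h4' : (2 * e' + 1) ∣ b' := hc1.dvd_of_dvd_mul_left h4
  have h6 : 2 * e' + 1 ≤ a' := Nat.le_of_dvd ha' h1'
  have h7 : 2 * e' + 1 ≤ b' := Nat.le_of_dvd hb' h4'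
  rw [← h3]
  nlinarith

end frob

section nilab

theorem prime_dvd_abelianization {Q : Type u} [Group Q] [Finite Q] (hnil : Group.IsNilpotent Q) {q : ℕ} (hq : q.Prime)
    (hdvd : q ∣ Nat.card Q) : q ∣ (commutator Q).index := by
  haveI : Fact q.Prime := ⟨hq⟩
  obtain ⟨φ⟩ := (Group.isNilpotent_of_finite_tfae (G := Q)).out 0 4 rfl rfl |>.mp hnil
  let P : Sylow q Q := default
  have hqm : q ∈ (Nat.card Q).primeFactors := Nat.mem_primeFactors.mpr ⟨hq, hdvd, Nat.card_pos.ne'⟩
  let f : Q →* (P : Subgroup Q) :=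
    ((Pi.evalMonoidHom (fun P : Sylow q Q => (P : Subgroup Q)) P).comp
      (Pi.evalMonoidHom (fun p : (Nat.card Q).primeFactors => ∀ P : Sylow p Q, (↑P : Subgroup Q)) ⟨q, hqm⟩)).comp φ.symm.toMonoidHom
  have hf : Function.Surjective f := by
    intro y
    obtain ⟨g, hg⟩ : ∃ g : (∀ p : (Nat.card Q).primeFactors, ∀ P : Sylow p Q, (↑P : Subgroup Q)), g ⟨q, hqm⟩ P = y := by
      classical
      exact ⟨Function.update 1 ⟨q, hqm⟩ (Function.update 1 P y), by simp⟩
    refine ⟨φ g, ?_⟩
    show (φ.symm (φ g)) ⟨q, hqm⟩ P = y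
    rw [MulEquiv.symm_apply_apply, hg]
  have hP : IsPGroup q (P : Subgroup Q) := P.isPGroup'
  have hPne : Nontrivial (P : Subgroup Q) := by
    rw [← Finite.one_lt_card_iff_nontrivial]
    have h1 : q ∣ Nat.card (P : Subgroup Q) := P.dvd_card_of_dvd_card hdvd
    exact lt_of_lt_of_le hq.one_lt (Nat.le_of_dvd Nat.card_pos h1)
  haveI : Group.IsNilpotent (P : Subgroup Q) := hP.isNilpotent
  have hlt : commutator (P : Subgroup Q) < ⊤ := IsSolvable.commutator_lt_top_of_nontrivial _
  have hqd : q ∣ (commutator (P : Subgroup Q)).index := by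
    have h2 : (commutator (P : Subgroup Q)).index ∣ Nat.card (P : Subgroup Q) := Subgroup.index_dvd_card _
    obtain ⟨k, hk⟩ := hP.exists_card_eq
    rw [hk] at h2
    obtain ⟨j, hj, hj'⟩ := (Nat.dvd_prime_pow hq).mp h2
    rw [hj']
    apply dvd_pow_self
    rintro rfl
    exact hlt.ne (Subgroup.index_eq_one.mp (by rw [hj', pow_zero]))
  have h3 : commutator Q ≤ (commutator (P : Subgroup Q)).comap f := by
    rw [← Subgroup.map_le_iff_le_comap, commutator_def, Subgroup.map_commutator, Subgroup.map_top_of_surjective f hf]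
    exact le_refl _
  have h4 := Subgroup.index_dvd_of_le h3
  rw [Subgroup.index_comap_of_surjective _ hf] at h4
  exact hqd.trans h4

theorem le_commutator_gen {Q : Type u} [Group Q] [Finite Q] (hnil : Group.IsNilpotent Q) (A : Subgroup Q) (h : A ⊔ commutator Q = ⊤) : A = ⊤ := by
  by_contra hA
  obtain ⟨M, hM, hAM⟩ := (eq_top_or_exists_le_coatom A).resolve_left hA
  have hMn : M.Normal := (Group.isNilpotent_of_finite_tfae (G := Q)).out 0 2 rfl rfl |>.mp hnil M hM
  have h1 : commutator Q ≤ M := by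
    rw [commutator_def, Subgroup.commutator_le]
    intro x _ y _
    rw [commutatorElement_def]
    by_cases hx : x ∈ M
    · have e : x * y * x⁻¹ * y⁻¹ = x * (y * x⁻¹ * y⁻¹) := by group
      rw [e]
      exact M.mul_mem hx (hMn.conj_mem _ (M.inv_mem hx) y)
    · have h3 : M ⊔ Subgroup.zpowers x = ⊤ := by
        apply hM.2
        refine lt_of_le_of_ne le_sup_left ?_
        intro h'
        apply hx
        rw [h']
        exact Subgroup.mem_sup_right (Subgroup.mem_zpowers x)
      have hy : y ∈ M ⊔ Subgroup.zpowers x := by rw [h3]; trivial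
      obtain ⟨m, hm, z, hz, rfl⟩ := Subgroup.mem_sup_of_normal_left.mp hy
      obtain ⟨k, rfl⟩ := hz
      have e : x * (m * x ^ k) * x⁻¹ * (m * x ^ k)⁻¹ = (x * m * x⁻¹) * m⁻¹ := by
        have e1 : x ^ k * x⁻¹ = x⁻¹ * x ^ k := ((Commute.refl x).zpow_left k).inv_right
        rw [mul_inv_rev]
        calc x * (m * x ^ k) * x⁻¹ * ((x ^ k)⁻¹ * m⁻¹) = x * m * (x ^ k * x⁻¹) * (x ^ k)⁻¹ * m⁻¹ := by group
          _ = x * m * (x⁻¹ * x ^ k) * (x ^ k)⁻¹ * m⁻¹ := by rw [e1]
          _ = _ := by group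
      simp only at e ⊢
      rw [e]
      exact M.mul_mem (hMn.conj_mem _ hm x) (M.inv_mem hm)
  exact hM.1 (top_le_iff.mp (h ▸ sup_le hAM h1))

theorem comm_of_prime_abelianization {Q : Type u} [Group Q] [Finite Q] (hnil : Group.IsNilpotent Q) {p : ℕ} (hp : p.Prime)
    (h : (commutator Q).index = p) (x y : Q) : x * y = y * x := by
  have hne : commutator Q ≠ ⊤ := by
    intro h'; rw [h', Subgroup.index_top] at h; exact hp.one_lt.ne h
  obtain ⟨z, hz⟩ : ∃ z, z ∉ commutator Q := by
    by_contra hcon; push Not at hcon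
    exact hne ((Subgroup.eq_top_iff' _).mpr hcon)
  have h1 : Subgroup.zpowers z ⊔ commutator Q = ⊤ := by
    have h2 : (Subgroup.zpowers z ⊔ commutator Q).index ∣ (commutator Q).index := Subgroup.index_dvd_of_le le_sup_right
    rw [h] at h2
    rcases (Nat.dvd_prime hp).mp h2 with h3 | h3
    · exact Subgroup.index_eq_one.mp h3
    · exfalso
      apply hz
      have h4 := Subgroup.relIndex_mul_index (le_sup_right : commutator Q ≤ Subgroup.zpowers z ⊔ commutator Q)
      rw [h3, h] at h4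
      have h5 : (commutator Q).relIndex (Subgroup.zpowers z ⊔ commutator Q) = 1 := Nat.eq_of_mul_eq_mul_right hp.pos (by rw [h4, one_mul])
      exact (Subgroup.relIndex_eq_one.mp h5) (Subgroup.mem_sup_left (Subgroup.mem_zpowers z))
  have h2 := le_commutator_gen hnil _ h1
  have hx : x ∈ Subgroup.zpowers z := by rw [h2]; trivial
  have hy : y ∈ Subgroup.zpowers z := by rw [h2]; trivial
  obtain ⟨a, rfl⟩ := hx
  obtain ⟨b, rfl⟩ := hy
  exact ((Commute.refl z).zpow_left a).zpow_right b

end nilab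

end Cfsg.Agent.H4
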