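import Cfsg.Agent.H4.Gallagher
import Cfsg.Agent.H4.Count
import Cfsg.Agent.H4.Cyc1
import Cfsg.Agent.L0.Coprime
import Cfsg.Agent.S0867

set_option linter.all false
set_option autoImplicit false

/-! The Glauberman correspondence: invariant classes. -/

namespace Cfsg.Agent.H4

open Module
open scoped ComplexConjugate Pointwise

universe u v w

variable {Γ : Type u} [Group Γ]

/-- `S`-invariance of a function on `G` -/
def Inv (S G : Subgroup Γ) {α : Type v} (χ : G → α) : Prop := ∀ s ∈ S, ∀ g g' : G, (g' : Γ) = s * g * s⁻¹ → χ g' = χ g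

/-- the group as a set with conjugation action -/
structure CX (Γ : Type u) : Type u where
  val : Γ

noncomputable instance instCXAct : MulAction Γ (CX Γ) where
  smul a x := ⟨a * x.val * a⁻¹⟩
  one_smul x := by
    cases x with
    | mk x => show CX.mk (1 * x * 1⁻¹) = CX.mk x; simp
  mul_smul a b x := by
    cases x with
    | mk x => show CX.mk (a * b * x * (a * b)⁻¹) = CX.mk (a * (b * x * b⁻¹) * a⁻¹); congr 1; group

theorem cx_smul (a x : Γ) : a • (CX.mk x) = CX.mk (a * x * a⁻¹) := rfl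

theorem glau_conj_exists [Finite Γ] {A N : Subgroup Γ} (hAN : A ≤ Subgroup.normalizer (N : Set Γ))
    (hcop : (Nat.card A).Coprime (Nat.card N)) (hs : Group.IsSolvable A ∨ Group.IsSolvable N)
    (Ω : Set Γ) (hne : Ω.Nonempty) (hA : ∀ a ∈ A, ∀ ω ∈ Ω, a * ω * a⁻¹ ∈ Ω) (hN : ∀ n ∈ N, ∀ ω ∈ Ω, n * ω * n⁻¹ ∈ Ω)
    (htr : ∀ ω ∈ Ω, ∀ ω' ∈ Ω, ∃ n ∈ N, n * ω * n⁻¹ = ω') : ∃ ω ∈ Ω, ∀ a ∈ A, a * ω * a⁻¹ = ω := by
  obtain ⟨ω₀, hω₀⟩ := hne
  obtain ⟨⟨ω⟩, hω, hfix⟩ := L0.glauberman_exists (X := CX Γ) hAN hcop hs {x : CX Γ | x.val ∈ Ω} ⟨⟨ω₀⟩, hω₀⟩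
    (fun a ha x hx => hA a ha x.val hx) (fun a ha x hx => hN a ha x.val hx) (fun x hx y hy => by
      obtain ⟨n, hn, h⟩ := htr x.val hx y.val hy
      exact ⟨n, hn, congrArg CX.mk h⟩)
  exact ⟨ω, hω, fun a ha => congrArg CX.val (hfix a ha)⟩

theorem glau_conj_transitive [Finite Γ] {A N : Subgroup Γ} (hAN : A ≤ Subgroup.normalizer (N : Set Γ))
    (hcop : (Nat.card A).Coprime (Nat.card N)) (hs : Group.IsSolvable A ∨ Group.IsSolvable N)
    {ω ω' : Γ} {n : Γ} (hn : n ∈ N) (hnω : n * ω * n⁻¹ = ω')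
    (hfix : ∀ a ∈ A, a * ω * a⁻¹ = ω) (hfix' : ∀ a ∈ A, a * ω' * a⁻¹ = ω') :
    ∃ c ∈ N ⊓ Subgroup.centralizer (A : Set Γ), c * ω * c⁻¹ = ω' := by
  obtain ⟨c, hc, h⟩ := L0.glauberman_transitive (X := CX Γ) (ω := ⟨ω⟩) (ω' := ⟨ω'⟩) hAN hcop hs hn (congrArg CX.mk hnω)
    (fun a ha => congrArg CX.mk (hfix a ha)) (fun a ha => congrArg CX.mk (hfix' a ha))
  exact ⟨c, hc, congrArg CX.val h⟩

theorem le_norm_of_conj [Finite Γ] {S G : Subgroup Γ} (hnorm : ∀ s ∈ S, ∀ g ∈ G, s * g * s⁻¹ ∈ G) : S ≤ Subgroup.normalizer (G : Set Γ) := by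
  rw [Subgroup.le_normalizer_iff]
  exact hnorm

theorem mem_cent_iff' {S : Subgroup Γ} {c : Γ} : c ∈ Subgroup.centralizer (S : Set Γ) ↔ ∀ s ∈ S, s * c * s⁻¹ = c := by
  rw [Subgroup.mem_centralizer_iff]
  constructor
  · intro h s hs
    rw [h s hs]; group
  · intro h s hs
    have := h s hs
    calc s * c = (s * c * s⁻¹) * s := by group
      _ = c * s := by rw [this]

theorem card_inv_classes [Finite Γ] {G S : Subgroup Γ} (hnorm : ∀ s ∈ S, ∀ g ∈ G, s * g * s⁻¹ ∈ G) (hcop : (Nat.card G).Coprime (Nat.card S))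
    (hs : Group.IsSolvable S ∨ Group.IsSolvable G) (C : Subgroup Γ) (hC : C = G ⊓ Subgroup.centralizer (S : Set Γ)) :
    Nat.card {K : ConjClasses G // ∀ s ∈ S, ∀ g g' : G, (g' : Γ) = s * g * s⁻¹ → ConjClasses.mk g = K → ConjClasses.mk g' = K} =
      Nat.card (ConjClasses C) := by
  classical
  have hCG : C ≤ G := by rw [hC]; exact inf_le_left
  have hmC : ∀ x, x ∈ C ↔ x ∈ G ∧ ∀ s ∈ S, s * x * s⁻¹ = x := fun x => by rw [hC, Subgroup.mem_inf, mem_cent_iff']
  have hSG := le_norm_of_conj hnorm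
  symm
  let F : ConjClasses C → {K : ConjClasses G // ∀ s ∈ S, ∀ g g' : G, (g' : Γ) = s * g * s⁻¹ → ConjClasses.mk g = K → ConjClasses.mk g' = K} :=
    fun K => ⟨ConjClasses.map (Subgroup.inclusion hCG) K, by
      obtain ⟨c, rfl⟩ := ConjClasses.exists_rep K
      · intro s hs g g' hg' hg
        rw [← hg]
        have h1 : ConjClasses.mk g = ConjClasses.mk (Subgroup.inclusion hCG c) := hg
        rw [ConjClasses.mk_eq_mk_iff_isConj, isConj_iff_exists] at h1 ⊢
        obtain ⟨x, hx⟩ := h1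
        have hx' : (x : Γ) * g * (x : Γ)⁻¹ = c := congrArg Subtype.val hx
        have hc := ((hmC c).mp c.2).2 s hs
        refine ⟨⟨(x : Γ)⁻¹ * (s * x * s⁻¹), G.mul_mem (G.inv_mem x.2) (hnorm s hs _ x.2)⟩, ?_⟩
        apply Subtype.ext
        show (x : Γ)⁻¹ * (s * x * s⁻¹) * g' * ((x : Γ)⁻¹ * (s * x * s⁻¹))⁻¹ = g
        rw [hg']
        calc (x : Γ)⁻¹ * (s * x * s⁻¹) * (s * g * s⁻¹) * ((x : Γ)⁻¹ * (s * x * s⁻¹))⁻¹ = (x : Γ)⁻¹ * (s * (x * g * (x : Γ)⁻¹) * s⁻¹) * x := by group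
          _ = (x : Γ)⁻¹ * (x * g * (x : Γ)⁻¹) * x := by rw [hx', hc]
          _ = g := by group⟩
  apply Nat.card_congr
  refine Equiv.ofBijective F ⟨?_, ?_⟩
  · intro K K' h
    obtain ⟨c, rfl⟩ := ConjClasses.exists_rep K
    · obtain ⟨c', rfl⟩ := ConjClasses.exists_rep K'
      · have h1 : ConjClasses.mk (Subgroup.inclusion hCG c) = ConjClasses.mk (Subgroup.inclusion hCG c') := congrArg Subtype.val h
        rw [ConjClasses.mk_eq_mk_iff_isConj, isConj_iff_exists] at h1 ⊢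
        obtain ⟨x, hx⟩ := h1
        have hx' : (x : Γ) * c * (x : Γ)⁻¹ = c' := congrArg Subtype.val hx
        obtain ⟨d, hd, hdc⟩ := glau_conj_transitive hSG hcop.symm hs x.2 hx' (((hmC c).mp c.2).2) (((hmC c').mp c'.2).2)
        refine ⟨⟨d, by rw [hC]; exact hd⟩, Subtype.ext hdc⟩
  · rintro ⟨K, hK⟩
    obtain ⟨g, rfl⟩ := ConjClasses.exists_rep K
    · obtain ⟨ω, ⟨y, hy, rfl⟩, hfix⟩ := glau_conj_exists hSG hcop.symm hs {z : Γ | ∃ y : G, ConjClasses.mk y = ConjClasses.mk g ∧ (y : Γ) = z}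
        ⟨g, g, rfl, rfl⟩ (by
          rintro s hs _ ⟨y, hy, rfl⟩
          exact ⟨⟨s * y * s⁻¹, hnorm s hs y y.2⟩, hK s hs y _ rfl hy, rfl⟩) (by
          rintro n hn _ ⟨y, hy, rfl⟩
          refine ⟨⟨n, hn⟩ * y * ⟨n, hn⟩⁻¹, ?_, rfl⟩
          rw [← hy, ConjClasses.mk_eq_mk_iff_isConj, isConj_iff_exists]
          exact ⟨⟨n, hn⟩⁻¹, by group⟩) (by
          rintro _ ⟨y, hy, rfl⟩ _ ⟨z, hz, rfl⟩
          have h1 : ConjClasses.mk y = ConjClasses.mk z := by rw [hy, hz]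
          rw [ConjClasses.mk_eq_mk_iff_isConj, isConj_iff_exists] at h1
          obtain ⟨x, hx⟩ := h1
          exact ⟨x, x.2, congrArg Subtype.val hx⟩)
      refine ⟨ConjClasses.mk ⟨y, (hmC y).mpr ⟨y.2, hfix⟩⟩, ?_⟩
      apply Subtype.ext
      exact hy

theorem inv_zpowers {S G : Subgroup Γ} {s : Γ} (hnorm : ∀ s ∈ S, ∀ g ∈ G, s * g * s⁻¹ ∈ G) (hs : Subgroup.zpowers s = S) {α : Type v} {χ : G → α}
    (h : ∀ g g' : G, (g' : Γ) = s * g * s⁻¹ → χ g' = χ g) : Inv S G χ := by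
  -- the set of elements which preserve χ is a subgroup
  have hsS : s ∈ S := by rw [← hs]; exact Subgroup.mem_zpowers s
  have hpow : ∀ n : ℕ, ∀ g g' : G, (g' : Γ) = s ^ n * g * (s ^ n)⁻¹ → χ g' = χ g := by
    intro n
    induction n with
    | zero =>
      intro g g' hg
      have : g' = g := Subtype.ext (by rw [hg]; simp)
      rw [this]
    | succ n ih =>
      intro g g' hg
      have h1 : s ^ n * g * (s ^ n)⁻¹ ∈ G := hnorm _ (S.pow_mem hsS n) _ g.2
      rw [h ⟨_, h1⟩ g' (by rw [hg, pow_succ']; group), ih g ⟨_, h1⟩ rfl]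
  have hpow' : ∀ n : ℕ, ∀ g g' : G, (g' : Γ) = (s ^ n)⁻¹ * g * (s ^ n) → χ g' = χ g := by
    intro n g g' hg
    exact (hpow n g' g (by rw [hg]; group)).symm
  intro t ht g g' hg
  rw [← hs] at ht
  obtain ⟨k, rfl⟩ := Subgroup.mem_zpowers_iff.mp ht
  obtain ⟨n, hn | hn⟩ := k.eq_nat_or_neg
  · subst hn
    rw [zpow_natCast] at hg
    exact hpow n g g' hg
  · subst hn
    rw [zpow_neg, zpow_natCast, inv_inv] at hg
    exact hpow' n g g' hg

theorem card_inv_irr_cyclic [Finite Γ] {G S : Subgroup Γ} (hnorm : ∀ s ∈ S, ∀ g ∈ G, s * g * s⁻¹ ∈ G) (hcyc : IsCyclic S) :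
    Nat.card {χ : IrrCharacter G // Inv S G (χ : G → ℂ)} =
      Nat.card {K : ConjClasses G // ∀ s ∈ S, ∀ g g' : G, (g' : Γ) = s * g * s⁻¹ → ConjClasses.mk g = K → ConjClasses.mk g' = K} := by
  classical
  obtain ⟨⟨s, hsS⟩, hs⟩ := hcyc.exists_generator
  have hzp : Subgroup.zpowers s = S := by
    apply le_antisymm
    · rw [Subgroup.zpowers_le]; exact hsS
    · intro x hx
      obtain ⟨k, hk⟩ := Subgroup.mem_zpowers_iff.mp (hs ⟨x, hx⟩)
      exact Subgroup.mem_zpowers_iff.mpr ⟨k, congrArg Subtype.val hk⟩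
  let α : G ≃* G := 
    { toFun := fun g => ⟨s * g * s⁻¹, hnorm s hsS g g.2⟩
      invFun := fun g => ⟨s⁻¹ * g * s, by
        have := hnorm s⁻¹ (S.inv_mem hsS) g g.2
        rwa [inv_inv] at this⟩
      left_inv := fun g => Subtype.ext (by show s⁻¹ * (s * g * s⁻¹) * s = g; group)
      right_inv := fun g => Subtype.ext (by show s * (s⁻¹ * g * s) * s⁻¹ = g; group)
      map_mul' := fun g h => Subtype.ext (by show s * (g * h) * s⁻¹ = (s * g * s⁻¹) * (s * h * s⁻¹); group) }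
  have hα : ∀ g, (α g : Γ) = s * g * s⁻¹ := fun g => rfl
  have h1 := brauer_perm_aut α
  have h2 : Nat.card {χ : IrrCharacter G // Inv S G (χ : G → ℂ)} = Nat.card {χ : IrrCharacter G // (χ : G → ℂ) ∘ α = (χ : G → ℂ)} := by
    apply Nat.card_congr
    apply Equiv.subtypeEquivRight
    intro χ
    constructor
    · intro h
      funext g
      exact h s hsS g (α g) (hα g)
    · intro h
      apply inv_zpowers hnorm hzp
      intro g g' hg
      have : g' = α g := Subtype.ext hg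
      rw [this]
      exact congrFun h g
  have h3 : Nat.card {K : ConjClasses G // ∀ s ∈ S, ∀ g g' : G, (g' : Γ) = s * g * s⁻¹ → ConjClasses.mk g = K → ConjClasses.mk g' = K} =
      Nat.card {C : ConjClasses G // ConjClasses.map α.toMonoidHom C = C} := by
    apply Nat.card_congr
    apply Equiv.subtypeEquivRight
    intro K
    obtain ⟨g₀, rfl⟩ := ConjClasses.exists_rep K
    · constructor
      · intro h
        exact h s hsS g₀ (α g₀) (hα g₀) rfl
      · intro h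
        have key : Inv S G (fun g : G => (ConjClasses.mk g = ConjClasses.mk g₀)) := by
          apply inv_zpowers hnorm hzp
          intro g g' hg
          have hg' : g' = α g := Subtype.ext hg
          have h4 : ConjClasses.mk (α g₀) = ConjClasses.mk g₀ := h
          apply propext
          rw [hg', ← h4]
          rw [ConjClasses.mk_eq_mk_iff_isConj, ConjClasses.mk_eq_mk_iff_isConj] 
          constructor
          · intro h5
            have h6 : IsConj g g₀ := by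
              rw [isConj_iff_exists] at h5 ⊢
              obtain ⟨x, hx⟩ := h5
              refine ⟨α.symm x, ?_⟩
              apply α.injective
              rw [map_mul, map_mul, map_inv, MulEquiv.apply_symm_apply]; exact hx
            exact h6.trans (ConjClasses.mk_eq_mk_iff_isConj.mp h4.symm)
          · intro h5
            have h6 : IsConj g g₀ := h5.trans (ConjClasses.mk_eq_mk_iff_isConj.mp h4)
            rw [isConj_iff_exists] at h6 ⊢
            obtain ⟨x, hx⟩ := h6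
            refine ⟨α x, ?_⟩
            rw [← map_inv, ← map_mul, ← map_mul, hx]
        intro t ht g g' hg hgK
        exact (key t ht g g' hg).mpr hgK
  rw [h2, h3, h1]

end Cfsg.Agent.H4
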