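import Cfsg.Agent.H4.Glau9
import Cfsg.Agent.H5.K0

set_option linter.all false
set_option autoImplicit false

/-! The Glauberman correspondence for solvable groups of operators: counting, and invariant characters over invariant ones. -/

namespace Cfsg.Agent.H4

open Module
open scoped ComplexConjugate Pointwise

universe u v w

section solv
variable {Γ : Type u} [Group Γ] [Fintype Γ]

/-- bijection in the basic step -/
theorem step_bij {p : ℕ} (hp : p.Prime) {G S P D : Subgroup Γ} [Fintype D] (hnorm : ∀ s ∈ S, ∀ g ∈ G, s * g * s⁻¹ ∈ G)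
    (hPS : P ≤ S) {hDG : D ≤ G} (hgp : GP p P hDG) (hnD : ∀ s ∈ S, ∀ d ∈ D, s * d * s⁻¹ ∈ D)
    (hPinv : ∀ s ∈ S, ∀ N : Subgroup Γ, (hN : N ≤ G) → (hsN : s ∈ Subgroup.normalizer (N : Set Γ)) → ∀ χ : N → ℂ, Inv P N χ → Inv P N (cj hsN χ)) :
    (∀ χ : G → ℂ, IsIrrCharacter G χ → Inv S G χ → ∃ β : D → ℂ, Corr p hDG χ β ∧ Inv S D β) ∧
    (∀ β : D → ℂ, IsIrrCharacter D β → Inv S D β → ∃ χ : G → ℂ, IsIrrCharacter G χ ∧ Inv S G χ ∧ Corr p hDG χ β) := by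
  obtain ⟨g1, g2, g3⟩ := hgp
  have hnG : ∀ x ∈ S, x ∈ Subgroup.normalizer (G : Set Γ) := fun x hx => le_norm_of_conj hnorm hx
  have hnD' : ∀ x ∈ S, x ∈ Subgroup.normalizer (D : Set Γ) := fun x hx => le_norm_of_conj hnD hx
  refine ⟨?_, ?_⟩
  · intro χ hχ hinv
    obtain ⟨β, hβ⟩ := g1 χ hχ (inv_mono hPS hinv)
    refine ⟨β, hβ, ?_⟩
    rw [inv_iff_cj hnD']
    intro s hs
    have h1 := corr_cj hβ (hnG s hs) (hnD' s hs)
    rw [(inv_iff_cj hnG χ).mp hinv s hs] at h1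
    exact corr_unique hp h1 hβ
  · intro β hβ hinv
    obtain ⟨χ, hχ, hχi, hcorr⟩ := g3 β hβ
    refine ⟨χ, hχ, ?_, hcorr⟩
    rw [inv_iff_cj hnG]
    intro s hs
    have h1 := corr_cj hcorr (hnG s hs) (hnD' s hs)
    rw [(inv_iff_cj hnD' β).mp hinv s hs] at h1
    exact g2 _ _ (cj_irr _ hχ) hχ (hPinv s hs G le_rfl _ χ hχi) hχi β h1 hcorr

theorem card_inv_irr {S : Subgroup Γ} (hsolv : Group.IsSolvable S) : ∀ (n : ℕ) (G : Subgroup Γ), Nat.card G ≤ n → (∀ s ∈ S, ∀ g ∈ G, s * g * s⁻¹ ∈ G) → (Nat.card G).Coprime (Nat.card S) →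
    ∀ (C : Subgroup Γ), C = G ⊓ Subgroup.centralizer (S : Set Γ) → Nat.card {χ : IrrCharacter G // Inv S G (χ : G → ℂ)} = Nat.card (IrrCharacter C) := by
  classical
  intro n
  induction n with
  | zero =>
    intro G h
    have : 0 < Nat.card G := Nat.card_pos
    omega
  | succ n ih =>
    intro G hcard hnorm hcop C hC
    by_cases hne : S ≤ Subgroup.centralizer (G : Set Γ)
    · have h1 : G ≤ Subgroup.centralizer (S : Set Γ) := Subgroup.le_centralizer_iff.mp hne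
      have h2 : C = G := by rw [hC]; exact inf_of_le_left h1
      subst h2
      apply Nat.card_congr
      apply Equiv.subtypeUnivEquiv
      intro χ s hs g g' hg
      have h3 := mem_cent_iff'.mp (h1 g.2) s hs
      exact congrArg (χ : C → ℂ) (Subtype.ext (hg.trans h3))
    · obtain ⟨p, P, D, hp, hPS, hPp, hpG, hD, hDlt, hnD, hPinv⟩ := exists_step' hnorm hcop hsolv hne
      have hDG : D ≤ G := hDlt.le
      haveI : Fintype D := Fintype.ofFinite _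
      have hgp := gp_pgroup hp (Nat.card P) P le_rfl hPp (fun s hs => hnorm s (hPS hs)) (hcop.coprime_dvd_right (Subgroup.card_dvd_of_le hPS)) D hD hDG
      obtain ⟨b1, b2⟩ := step_bij hp hnorm hPS hgp hnD hPinv
      have hCD : C = D ⊓ Subgroup.centralizer (S : Set Γ) := by
        rw [hC, hD, inf_assoc]
        congr 1
        exact (inf_of_le_right (Subgroup.centralizer_le hPS)).symm
      have hlt : Nat.card D < Nat.card G := by
        refine lt_of_le_of_ne (Subgroup.card_le_of_le hDG) ?_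
        intro h
        exact hDlt.ne (Subgroup.eq_of_le_of_card_ge hDG h.ge)
      rw [← ih D (by omega) hnD (hcop.coprime_dvd_left (Subgroup.card_dvd_of_le hDG)) C hCD]
      choose Φ hΦ1 hΦ2 using b1
      apply Nat.card_congr
      refine Equiv.ofBijective (fun χ => ⟨⟨Φ χ.1 χ.1.2 χ.2, (hΦ1 χ.1 χ.1.2 χ.2).1⟩, hΦ2 χ.1 χ.1.2 χ.2⟩) ⟨?_, ?_⟩
      · intro χ χ' h
        have h1 : Φ χ.1 χ.1.2 χ.2 = Φ χ'.1 χ'.1.2 χ'.2 := congrArg (fun x => ((x.1 : IrrCharacter D) : D → ℂ)) h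
        have h2 := hΦ1 χ.1 χ.1.2 χ.2
        have h3 := hΦ1 χ'.1 χ'.1.2 χ'.2
        rw [← h1] at h3
        exact Subtype.ext (Subtype.ext (hgp.2.1 _ _ χ.1.2 χ'.1.2 (inv_mono hPS χ.2) (inv_mono hPS χ'.2) _ h2 h3))
      · intro β
        obtain ⟨χ, hχ, hinv, hcorr⟩ := b2 β.1 β.1.2 β.2
        refine ⟨⟨⟨χ, hχ⟩, hinv⟩, ?_⟩
        exact Subtype.ext (Subtype.ext (corr_unique hp (hΦ1 χ hχ hinv) hcorr))

end solv

section expand
variable {Γ : Type u} [Group Γ]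

theorem inner_expand {C D G : Subgroup Γ} [Fintype C] [Fintype D] (hCD : C ≤ D) (hDG : D ≤ G) (hCG : C ≤ G) {χ : G → ℂ} (hχ : IsCharacter G χ) {γ : C → ℂ} (hγ : IsCharacter C γ) :
    ∃ (m n : IrrCharacter D → ℕ), (∀ δ : IrrCharacter D, classInner (rs hDG χ) (δ : D → ℂ) = m δ) ∧ (∀ δ : IrrCharacter D, classInner (rs hCD (δ : D → ℂ)) γ = n δ) ∧
      classInner (rs hCG χ) γ = ((∑ δ : IrrCharacter D, m δ * n δ : ℕ) : ℂ) := by
  classical
  have hm : ∀ δ : IrrCharacter D, ∃ m : ℕ, classInner (rs hDG χ) (δ : D → ℂ) = m := fun δ => inner_char_nat (rs_char hDG hχ) (IsIrr.isCharacter δ.2)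
  have hn : ∀ δ : IrrCharacter D, ∃ m : ℕ, classInner (rs hCD (δ : D → ℂ)) γ = m := fun δ => inner_char_nat (rs_char hCD (IsIrr.isCharacter δ.2)) hγ
  choose m hm using hm
  choose n hn using hn
  refine ⟨m, n, hm, hn, ?_⟩
  have hexp : rs hCG χ = ∑ δ : IrrCharacter D, (m δ : ℂ) • rs hCD (δ : D → ℂ) := by
    funext c
    have h3 := H5.classFun_expansion_apply (IsChar.isClassFunction (rs_char hDG hχ)) ⟨c, hCD c.2⟩
    have h4 : rs hDG χ ⟨c, hCD c.2⟩ = χ ⟨c, hCG c.2⟩ := rfl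
    show χ ⟨c, _⟩ = _
    rw [← h4, h3, Finset.sum_apply]
    apply Finset.sum_congr rfl
    intro δ _
    rw [hm, Pi.smul_apply, smul_eq_mul]; rfl
  rw [hexp, H5.classInner_sum_left]
  push_cast
  apply Finset.sum_congr rfl
  intro δ _
  rw [H5.classInner_smul_left, hn]

/-- action on irreducible characters -/
noncomputable def irrAct {S G : Subgroup Γ} (hn : ∀ s ∈ S, s ∈ Subgroup.normalizer (G : Set Γ)) : MulAction S (IrrCharacter G) where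
  smul s χ := ⟨cj (Subgroup.inv_mem _ (hn s s.2)) (χ : G → ℂ), cj_irr _ χ.2⟩
  one_smul χ := by
    apply Subtype.ext
    funext g
    refine congrArg (χ : G → ℂ) (Subtype.ext ?_ : (⟨((1 : S) : Γ)⁻¹ * g * ((1 : S) : Γ)⁻¹⁻¹, norm_mem (Subgroup.inv_mem _ (hn (1 : S) (1 : S).2)) g.2⟩ : G) = g)
    show ((1 : S) : Γ)⁻¹ * g * ((1 : S) : Γ)⁻¹⁻¹ = g
    simp
  mul_smul a b χ := by
    apply Subtype.ext
    funext g
    refine congrArg (χ : G → ℂ) (Subtype.ext ?_ : (⟨((a * b : S) : Γ)⁻¹ * g * ((a * b : S) : Γ)⁻¹⁻¹, norm_mem (Subgroup.inv_mem _ (hn (a * b : S) (a * b : S).2)) g.2⟩ : G) =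
      ⟨(b : Γ)⁻¹ * ((a : Γ)⁻¹ * g * (a : Γ)⁻¹⁻¹) * (b : Γ)⁻¹⁻¹, norm_mem (Subgroup.inv_mem _ (hn b b.2)) (norm_mem (Subgroup.inv_mem _ (hn a a.2)) g.2)⟩)
    show ((a * b : S) : Γ)⁻¹ * g * ((a * b : S) : Γ)⁻¹⁻¹ = (b : Γ)⁻¹ * ((a : Γ)⁻¹ * g * (a : Γ)⁻¹⁻¹) * (b : Γ)⁻¹⁻¹
    push_cast; group

theorem irrAct_apply {S G : Subgroup Γ} (hn : ∀ s ∈ S, s ∈ Subgroup.normalizer (G : Set Γ)) (s : S) (χ : IrrCharacter G) (g : G) :
    letI := irrAct hn; ((s • χ : IrrCharacter G) : G → ℂ) g = (χ : G → ℂ) ⟨(s : Γ)⁻¹ * g * s, norm_mem' (hn s s.2) g.2⟩ := by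
  refine congrArg (χ : G → ℂ) (Subtype.ext ?_ : (⟨(s : Γ)⁻¹ * g * (s : Γ)⁻¹⁻¹, norm_mem (Subgroup.inv_mem _ (hn s s.2)) g.2⟩ : G) = _)
  show (s : Γ)⁻¹ * g * (s : Γ)⁻¹⁻¹ = (s : Γ)⁻¹ * g * s
  rw [inv_inv]

theorem irrAct_fixed {S G : Subgroup Γ} (hn : ∀ s ∈ S, s ∈ Subgroup.normalizer (G : Set Γ)) (χ : IrrCharacter G) :
    letI := irrAct hn; χ ∈ MulAction.fixedPoints S (IrrCharacter G) ↔ Inv S G (χ : G → ℂ) := by
  letI := irrAct hn
  rw [MulAction.mem_fixedPoints]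
  constructor
  · intro h s hs g g' hg
    have h1 := congrFun (congrArg Subtype.val (h ⟨s, hs⟩)) g'
    have h2 : (χ : G → ℂ) ⟨(s : Γ)⁻¹ * g' * s, norm_mem' (hn s hs) g'.2⟩ = (χ : G → ℂ) g' := by
      rw [← irrAct_apply hn ⟨s, hs⟩ χ g']
      exact h1
    rw [← h2]
    refine congrArg (χ : G → ℂ) (Subtype.ext ?_)
    show s⁻¹ * g' * s = g
    rw [hg]; group
  · intro h s
    apply Subtype.ext
    funext g
    refine (irrAct_apply hn s χ g).trans ?_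
    exact (h s s.2 ⟨(s : Γ)⁻¹ * g * s, norm_mem' (hn s s.2) g.2⟩ g (by show (g : Γ) = s * ((s : Γ)⁻¹ * g * s) * (s : Γ)⁻¹; group)).symm

end expand

end Cfsg.Agent.H4
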