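import Cfsg.Agent.H4.Glau10

set_option linter.all false
set_option autoImplicit false

/-! The Glauberman correspondence and normal subgroups. -/

namespace Cfsg.Agent.H4

open Module
open scoped ComplexConjugate Pointwise

universe u v w

theorem exists_over {G : Type u} [Group G] [Fintype G] (N : Subgroup G) [Fintype N] {θ : N → ℂ} (hθ : IsIrrCharacter N θ) :
    ∃ χ : IrrCharacter G, classInner (fun n : N => (χ : G → ℂ) n) θ ≠ 0 := by
  classical
  by_contra hcon
  push Not at hcon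
  have h1 := H5.classFun_expansion_apply (IsChar.isClassFunction (IsChar.induce N θ (IsIrr.isCharacter hθ))) 1
  rw [Finset.sum_eq_zero, indFun_one] at h1
  · have h2 : (N.index : ℂ) ≠ 0 := by exact_mod_cast Subgroup.index_ne_zero_of_finite
    have h3 := charDeg_eq (IsIrr.isCharacter hθ)
    have h4 := IsIrr.degree_pos hθ
    rw [h3] at h1
    have h5 : (charDegree θ : ℂ) ≠ 0 := by exact_mod_cast h4.ne'
    exact (mul_ne_zero h2 h5) h1
  · intro χ _
    rw [frobenius_reciprocity N θ _ (IsIrr.isClassFunction χ.2)]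
    have h2 := hcon χ
    rw [← H5.classInner_conj_symm, h2, map_zero, zero_mul]

section compat
variable {Γ : Type u} [Group Γ] [Fintype Γ]

theorem sum_mod_fixed {p : ℕ} (hp : p.Prime) {S G : Subgroup Γ} (hSp : IsPGroup p S) (hn : ∀ s ∈ S, s ∈ Subgroup.normalizer (G : Set Γ)) (f : IrrCharacter G → ℕ)
    (hf : ∀ s (hs : s ∈ S) (χ χ' : IrrCharacter G), (χ' : G → ℂ) = cj (hn s hs) (χ : G → ℂ) → f χ' = f χ)
    (hz : ∀ χ : IrrCharacter G, Inv S G (χ : G → ℂ) → p ∣ f χ) : p ∣ ∑ χ : IrrCharacter G, f χ := by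
  classical
  haveI : Fact p.Prime := ⟨hp⟩
  letI := irrAct hn
  have h1 := H5.ksum_fixedPoints (k := ZMod p) (p := p) hSp (Ω := IrrCharacter G) (V := ZMod p) (fun χ => (f χ : ZMod p)) (by
    intro s χ
    have := hf ((s : Γ)⁻¹) (S.inv_mem s.2) χ (s • χ) (by
      funext g
      refine (irrAct_apply hn s χ g).trans ?_
      refine congrArg (χ : G → ℂ) (Subtype.ext ?_)
      show (s : Γ)⁻¹ * g * s = (s : Γ)⁻¹ * g * (s : Γ)⁻¹⁻¹
      rw [inv_inv])
    rw [this])
  rw [← CharP.cast_eq_zero_iff (ZMod p) p, Nat.cast_sum, h1]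
  apply Finset.sum_eq_zero
  intro χ _
  split_ifs with h2
  · rw [CharP.cast_eq_zero_iff (ZMod p) p]
    exact hz χ ((irrAct_fixed hn χ).mp h2)
  · rfl

theorem dvd_sum_iff {ι : Type*} [Fintype ι] [DecidableEq ι] {p : ℕ} (f : ι → ℕ) (i : ι) (h : p ∣ ∑ j ∈ Finset.univ.erase i, f j) : p ∣ ∑ j, f j ↔ p ∣ f i := by
  rw [← Finset.add_sum_erase Finset.univ f (Finset.mem_univ i)]
  exact (Nat.dvd_add_iff_left h).symm

theorem glau_compat {p : ℕ} (hp : p.Prime) {P N G D ND : Subgroup Γ} (hPp : IsPGroup p P) (hnN : ∀ s ∈ P, s ∈ Subgroup.normalizer (N : Set Γ)) [Fintype N] [Fintype D] [Fintype ND]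
    (hNG : N ≤ G) (hDG : D ≤ G) (hNDN : ND ≤ N) (hNDD : ND ≤ D) (hcent : ∀ s ∈ P, ∀ x ∈ ND, s * x * s⁻¹ = x) (hgp : GP p P hNDN)
    {χ : G → ℂ} (hχ : IsIrrCharacter G χ) (hinv : Inv P G χ) {β : D → ℂ} (hβ : Corr p hDG χ β) {θ : N → ℂ} (hθ : IsIrrCharacter N θ) (hθi : Inv P N θ)
    {θs : ND → ℂ} (hθs : Corr p hNDN θ θs) {a b : ℕ} (ha : classInner (rs hNG χ) θ = a) (hb : classInner (rs hNDD β) θs = b) : p ∣ a ↔ p ∣ b := by
  classical
  have hNDG : ND ≤ G := hNDN.trans hNG
  have hχc := IsIrr.isCharacter hχ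
  obtain ⟨m₁, n₁, h1, h2, h3⟩ := inner_expand hNDD hDG hNDG hχc (IsIrr.isCharacter hθs.1)
  obtain ⟨m₂, n₂, k1, k2, k3⟩ := inner_expand hNDN hNG hNDG hχc (IsIrr.isCharacter hθs.1)
  have heq : (∑ δ : IrrCharacter D, m₁ δ * n₁ δ) = ∑ δ : IrrCharacter N, m₂ δ * n₂ δ := by
    have : ((∑ δ : IrrCharacter D, m₁ δ * n₁ δ : ℕ) : ℂ) = ((∑ δ : IrrCharacter N, m₂ δ * n₂ δ : ℕ) : ℂ) := by rw [← h3, ← k3]
    exact_mod_cast this
  -- first side
  have e1 : p ∣ (∑ δ : IrrCharacter D, m₁ δ * n₁ δ) ↔ p ∣ b := by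
    rw [dvd_sum_iff _ (⟨β, hβ.1⟩ : IrrCharacter D)]
    · have a1 : n₁ ⟨β, hβ.1⟩ = b := by
        have : (n₁ ⟨β, hβ.1⟩ : ℂ) = b := by rw [← h2, ← hb]
        exact_mod_cast this
      obtain ⟨m', hm', hm1, _⟩ := hβ.2 β hβ.1
      have a2 : m₁ ⟨β, hβ.1⟩ = m' := by
        have : (m₁ ⟨β, hβ.1⟩ : ℂ) = m' := by rw [← h1, ← hm']
        exact_mod_cast this
      have a3 := pm_not_dvd hp (hm1 rfl)
      rw [a1, a2, hp.dvd_mul]
      constructor
      · rintro (h | h)
        · exact absurd h a3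
        · exact h
      · exact Or.inr
    · apply Finset.dvd_sum
      intro δ hδ
      have h6 : (δ : D → ℂ) ≠ β := fun h => (Finset.ne_of_mem_erase hδ) (Subtype.ext h)
      obtain ⟨m', hm', _, h7⟩ := hβ.2 δ δ.2
      have h8 : m₁ δ = m' := by
        have := h1 δ
        rw [hm'] at this
        exact_mod_cast this.symm
      rw [h8]
      exact (h7 h6).mul_right _
  have e2 : p ∣ (∑ δ : IrrCharacter N, m₂ δ * n₂ δ) ↔ p ∣ a := by
    have hmθ : m₂ ⟨θ, hθ⟩ = a := by
      have : (m₂ ⟨θ, hθ⟩ : ℂ) = a := by rw [← k1, ← ha]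
      exact_mod_cast this
    obtain ⟨m', hm', hm1, _⟩ := hθs.2 θs hθs.1
    have hnθ : n₂ ⟨θ, hθ⟩ = m' := by
      have : (n₂ ⟨θ, hθ⟩ : ℂ) = m' := by rw [← k2, ← hm']
      exact_mod_cast this
    have a3 := pm_not_dvd hp (hm1 rfl)
    -- replace by a function vanishing at θ
    have e3 : ∑ δ : IrrCharacter N, m₂ δ * n₂ δ = m₂ ⟨θ, hθ⟩ * n₂ ⟨θ, hθ⟩ + ∑ δ : IrrCharacter N, (if δ = ⟨θ, hθ⟩ then 0 else m₂ δ * n₂ δ) := by
      rw [← Finset.add_sum_erase Finset.univ _ (Finset.mem_univ (⟨θ, hθ⟩ : IrrCharacter N)),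
        ← Finset.add_sum_erase Finset.univ (fun δ : IrrCharacter N => if δ = ⟨θ, hθ⟩ then 0 else m₂ δ * n₂ δ) (Finset.mem_univ (⟨θ, hθ⟩ : IrrCharacter N)), if_pos rfl, zero_add]
      congr 1
      apply Finset.sum_congr rfl
      intro δ hδ
      rw [if_neg (Finset.ne_of_mem_erase hδ)]
    have e4 : p ∣ ∑ δ : IrrCharacter N, (if δ = ⟨θ, hθ⟩ then 0 else m₂ δ * n₂ δ) := by
      apply sum_mod_fixed hp hPp hnN
      · intro s hs η η' hη
        -- multiplicities are invariant
        have b1 : m₂ η' = m₂ η := by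
          have b2 : rs hNG χ = cj (hnN s hs) (rs hNG χ) := by
            funext n
            show χ _ = χ _
            exact (hinv s hs ⟨n, hNG n.2⟩ ⟨s * n * s⁻¹, hNG (norm_mem (hnN s hs) n.2)⟩ rfl).symm
          have b3 : (m₂ η' : ℂ) = m₂ η := by
            rw [← k1, ← k1, hη]
            conv_lhs => rw [b2]
            exact cj_inner _ _ _
          exact_mod_cast b3
        have b4 : n₂ η' = n₂ η := by
          have b5 : rs hNDN (η' : N → ℂ) = rs hNDN (η : N → ℂ) := by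
            funext n
            rw [hη]
            show (η : N → ℂ) _ = (η : N → ℂ) _
            exact congrArg (η : N → ℂ) (Subtype.ext (hcent s hs n n.2))
          have b3 : (n₂ η' : ℂ) = n₂ η := by
            rw [← k2, ← k2, b5]
          exact_mod_cast b3
        have b6 : η' = ⟨θ, hθ⟩ ↔ η = ⟨θ, hθ⟩ := by
          have c1 : cj (hnN s hs) θ = θ := (inv_iff_cj hnN θ).mp hθi s hs
          constructor
          · intro h
            apply Subtype.ext
            show (η : N → ℂ) = θ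
            have c2 : cj (hnN s hs) (η : N → ℂ) = θ := by rw [← hη, h]
            have c3 : (cjE (hnN s hs)).toFun.Surjective := (cjE (hnN s hs)).surjective
            funext n
            obtain ⟨n', hn'⟩ := c3 n
            have c4 := congrFun c2 n'
            have c5 := congrFun c1 n'
            rw [← c4] at c5
            rw [← hn']
            exact c5.symm
          · intro h
            apply Subtype.ext
            rw [hη, h]
            exact c1
        rw [b1, b4]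
        by_cases c : η = ⟨θ, hθ⟩
        · rw [if_pos c, if_pos (b6.mpr c)]
        · rw [if_neg c, if_neg (fun h => c (b6.mp h))]
      · intro η hη
        by_cases c : η = ⟨θ, hθ⟩
        · rw [if_pos c]; exact dvd_zero _
        · rw [if_neg c]
          obtain ⟨ηs, hηs⟩ := hgp.1 η η.2 hη
          have c1 : θs ≠ ηs := by
            rintro rfl
            exact c (Subtype.ext (hgp.2.1 η θ η.2 hθ hη hθi _ hηs hθs))
          obtain ⟨m'', hm'', _, c2⟩ := hηs.2 θs hθs.1
          have c3 : n₂ η = m'' := by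
            have : (n₂ η : ℂ) = m'' := by rw [← k2, ← hm'']
            exact_mod_cast this
          rw [c3]
          exact (c2 c1).mul_left _
    rw [e3, ← Nat.dvd_add_iff_left e4, hmθ, hnθ, hp.dvd_mul]
    constructor
    · rintro (h | h)
      · exact h
      · exact absurd h a3
    · exact Or.inl
  rw [← e2, ← heq, e1]

/-- multiplicities divide the index. -/
theorem mult_dvd {N G : Subgroup Γ} [Fintype N] (hNG : N ≤ G) (hn : ∀ g ∈ G, ∀ n ∈ N, g * n * g⁻¹ ∈ N) {χ : G → ℂ} (hχ : IsIrrCharacter G χ) {θ : N → ℂ} (hθ : IsIrrCharacter N θ)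
    {a : ℕ} (ha : classInner (rs hNG χ) θ = a) (ha0 : a ≠ 0) : a ∣ Nat.card G := by
  classical
  haveI : Fintype G := Fintype.ofFinite _
  haveI : Fintype (N.subgroupOf G) := Fintype.ofFinite _
  have hN' : (N.subgroupOf G).Normal := by
    constructor
    intro n hn' g
    rw [Subgroup.mem_subgroupOf] at hn' ⊢
    exact hn g g.2 n hn'
  have h1 : classInner (fun n : N.subgroupOf G => χ n) (toSub θ) = a := by
    rw [← ha, ← classInner_toSub hNG]
    rfl
  have h2 : classInner (fun n : N.subgroupOf G => χ n) (toSub θ) ≠ 0 := by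
    rw [h1]; exact_mod_cast ha0
  have h3 := clifford_degree hN' χ hχ (toSub θ) (toSub_irr hNG hθ) h2
  obtain ⟨e, he, hed⟩ := ratio_dvd_index hN' χ hχ (toSub θ) (toSub_irr hNG hθ) h2
  have h4 := IsIrr.degree_pos (toSub_irr hNG hθ)
  have h5 := charDeg_eq (IsIrr.isCharacter (toSub_irr hNG hθ))
  rw [h3, h1, h5] at he
  have h6 : a * (inertia hN' (toSub θ : N.subgroupOf G → ℂ)).index = e := by
    have h7 : (charDegree (toSub θ : N.subgroupOf G → ℂ) : ℂ) ≠ 0 := by exact_mod_cast h4.ne'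
    have h8 := mul_right_cancel₀ h7 he
    exact_mod_cast h8
  exact ((Dvd.intro _ h6).trans hed).trans (Subgroup.index_dvd_card _)

/-- an invariant irreducible character over an invariant irreducible character of a normal subgroup -/
theorem exists_inv_over {S : Subgroup Γ} (hsolv : Group.IsSolvable S) : ∀ (n : ℕ) (G N : Subgroup Γ) [Fintype N] (hNG : N ≤ G), Nat.card G ≤ n → (∀ s ∈ S, ∀ g ∈ G, s * g * s⁻¹ ∈ G) →
    (∀ g ∈ G, ∀ n ∈ N, g * n * g⁻¹ ∈ N) → (∀ s ∈ S, ∀ n ∈ N, s * n * s⁻¹ ∈ N) → (Nat.card G).Coprime (Nat.card S) → ∀ θ : N → ℂ, IsIrrCharacter N θ → Inv S N θ →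
    ∃ χ : G → ℂ, IsIrrCharacter G χ ∧ classInner (rs hNG χ) θ ≠ 0 ∧ Inv S G χ := by
  classical
  intro n
  induction n with
  | zero =>
    intro G N _ hNG h
    have : 0 < Nat.card G := Nat.card_pos
    omega
  | succ n ih =>
    intro G N _ hNG hcard hnorm hNn hNS hcop θ hθ hθi
    by_cases hne : S ≤ Subgroup.centralizer (G : Set Γ)
    · have h1 : G ≤ Subgroup.centralizer (S : Set Γ) := Subgroup.le_centralizer_iff.mp hne
      haveI : Fintype G := Fintype.ofFinite _
      haveI : Fintype (N.subgroupOf G) := Fintype.ofFinite _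
      obtain ⟨χ, hχ⟩ := exists_over (N.subgroupOf G) (toSub_irr hNG hθ)
      refine ⟨χ, χ.2, ?_, ?_⟩
      · have h2 : classInner (fun n : N.subgroupOf G => (χ : G → ℂ) n) (toSub θ) = classInner (rs hNG (χ : G → ℂ)) θ := by
          rw [← classInner_toSub hNG]; rfl
        rw [← h2]; exact hχ
      · intro s hs g g' hg
        have h3 := mem_cent_iff'.mp (h1 g.2) s hs
        exact congrArg (χ : G → ℂ) (Subtype.ext (hg.trans h3))
    · obtain ⟨p, P, D, hp, hPS, hPp, hpG, hD, hDlt, hnD, hPinv⟩ := exists_step' hnorm hcop hsolv hne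
      have hDG : D ≤ G := hDlt.le
      haveI : Fintype D := Fintype.ofFinite _
      have hcopP := hcop.coprime_dvd_right (Subgroup.card_dvd_of_le hPS)
      have hgp := gp_pgroup hp (Nat.card P) P le_rfl hPp (fun s hs => hnorm s (hPS hs)) hcopP D hD hDG
      obtain ⟨b1, b2⟩ := step_bij hp hnorm hPS hgp hnD hPinv
      have hlt : Nat.card D < Nat.card G := by
        refine lt_of_le_of_ne (Subgroup.card_le_of_le hDG) ?_
        intro h
        exact hDlt.ne (Subgroup.eq_of_le_of_card_ge hDG h.ge)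
      set ND : Subgroup Γ := N ⊓ D with hNDdef
      haveI : Fintype ND := Fintype.ofFinite _
      have hNDN : ND ≤ N := inf_le_left
      have hNDD : ND ≤ D := inf_le_right
      have hND : ND = N ⊓ Subgroup.centralizer (P : Set Γ) := by
        rw [hNDdef, hD, ← inf_assoc, inf_of_le_left hNG]
      have hcopN : (Nat.card N).Coprime (Nat.card P) := hcopP.coprime_dvd_left (Subgroup.card_dvd_of_le hNG)
      have hgpN := gp_pgroup hp (Nat.card P) P le_rfl hPp (fun s hs => hNS s (hPS hs)) hcopN ND hND hNDN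
      have hnND : ∀ s ∈ S, ∀ d ∈ ND, s * d * s⁻¹ ∈ ND := fun s hs d hd => ⟨hNS s hs d hd.1, hnD s hs d hd.2⟩
      obtain ⟨c1, c2⟩ := step_bij (G := N) hp hNS hPS hgpN hnND (fun s hs N' hN' hsN' χ hχ => hPinv s hs N' (hN'.trans hNG) hsN' χ hχ)
      obtain ⟨θs, hθs, hθsi⟩ := c1 θ hθ hθi
      obtain ⟨β, hβ, hβ0, hβi⟩ := ih D ND hNDD (by omega) hnD (fun g hg n hn => ⟨hNn g (hDG hg) n hn.1, D.mul_mem (D.mul_mem hg hn.2) (D.inv_mem hg)⟩) hnND
        (hcop.coprime_dvd_left (Subgroup.card_dvd_of_le hDG)) θs hθs.1 hθsi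
      obtain ⟨χ, hχ, hχi, hcorr⟩ := b2 β hβ hβi
      refine ⟨χ, hχ, ?_, hχi⟩
      obtain ⟨a, ha⟩ : ∃ a : ℕ, classInner (rs hNG χ) θ = a := inner_char_nat (rs_char hNG (IsIrr.isCharacter hχ)) (IsIrr.isCharacter hθ)
      obtain ⟨b, hb⟩ : ∃ b : ℕ, classInner (rs hNDD β) θs = b := inner_char_nat (rs_char hNDD (IsIrr.isCharacter hβ)) (IsIrr.isCharacter hθs.1)
      have hiff := glau_compat hp hPp (fun s hs => le_norm_of_conj hNS (hPS hs)) hNG hDG hNDN hNDD (by
          intro s hs x hx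
          rw [hND, Subgroup.mem_inf, mem_cent_iff'] at hx
          exact hx.2 s hs) hgpN hχ (inv_mono hPS hχi) hcorr hθ (inv_mono hPS hθi) hθs ha hb
      have hb0 : b ≠ 0 := by
        rintro rfl
        exact hβ0 (by rw [hb]; simp)
      have hbd := mult_dvd hNDD (fun g hg n hn => ⟨hNn g (hDG hg) n hn.1, D.mul_mem (D.mul_mem hg hn.2) (D.inv_mem hg)⟩) hβ hθs.1 hb hb0
      have hbp : ¬ p ∣ b := by
        intro h
        have h5 : p ∣ Nat.card G := (h.trans hbd).trans (Subgroup.card_dvd_of_le hDG)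
        have h6 := Nat.dvd_gcd dvd_rfl h5
        rw [hpG] at h6
        exact hp.one_lt.ne' (Nat.dvd_one.mp h6)
      rw [ha]
      intro h0
      have h7 : a = 0 := by exact_mod_cast h0
      exact hbp (hiff.mp (by rw [h7]; exact dvd_zero _))

end compat

end Cfsg.Agent.H4
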