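import Cfsg.Agent.H4.Glau11

set_option linter.all false
set_option autoImplicit false

/-! Characters of degree prime to the order of a complement. -/

namespace Cfsg.Agent.H4

open Module
open scoped ComplexConjugate Pointwise

universe u v w

theorem exists_under {G : Type u} [Group G] (N : Subgroup G) [Fintype N] {χ : G → ℂ} (hχ : IsIrrCharacter G χ) :
    ∃ θ : IrrCharacter N, classInner (fun n : N => χ n) (θ : N → ℂ) ≠ 0 := by
  classical
  by_contra hcon
  push Not at hcon
  have hc : IsCharacter N (fun n : N => χ n) := IsChar.restrict N (IsIrr.isCharacter hχ)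
  have h1 := H5.classFun_expansion_apply (IsChar.isClassFunction hc) 1
  rw [Finset.sum_eq_zero (fun θ _ => by rw [hcon θ, zero_mul])] at h1
  have h3 := charDeg_eq (IsIrr.isCharacter hχ)
  have h4 := IsIrr.degree_pos hχ
  have h5 : (charDegree χ : ℂ) ≠ 0 := by exact_mod_cast h4.ne'
  apply h5
  rw [← h3]
  exact h1

section cop
variable {Γ : Type u} [Group Γ] [Fintype Γ] {G S : Subgroup Γ}

/-- homs trivial on the normal complement -/
theorem card_triv_hom (hnorm : ∀ s ∈ S, ∀ g ∈ G, s * g * s⁻¹ ∈ G) (hcop : (Nat.card G).Coprime (Nat.card S)) (htop : G ⊔ S = ⊤) :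
    Nat.card {lam : Γ →* ℂˣ // ∀ g ∈ G, lam g = 1} = Nat.card (S →* ℂˣ) := by
  haveI hG := glau_normal hnorm htop
  have hinf := glau_inf (G := G) (S := S) hcop
  let f : S →* Γ ⧸ G := (QuotientGroup.mk' G).comp S.subtype
  have hf : Function.Bijective f := by
    constructor
    · rw [injective_iff_map_eq_one]
      intro s hs
      have h1 : (s : Γ) ∈ G := (QuotientGroup.eq_one_iff (s : Γ)).mp hs
      have h2 : (s : Γ) ∈ G ⊓ S := ⟨h1, s.2⟩
      rw [hinf] at h2
      exact Subtype.ext (Subgroup.mem_bot.mp h2)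
    · intro q
      obtain ⟨x, rfl⟩ := QuotientGroup.mk_surjective q
      obtain ⟨g, hg, s, hs, rfl⟩ := glau_decomp hnorm htop x
      refine ⟨⟨s, hs⟩, ?_⟩
      show (QuotientGroup.mk s : Γ ⧸ G) = QuotientGroup.mk (g * s)
      rw [QuotientGroup.mk_mul, (QuotientGroup.eq_one_iff g).mpr hg, one_mul]
  let e : S ≃* Γ ⧸ G := MulEquiv.ofBijective f hf
  have hker : ∀ lam : {lam : Γ →* ℂˣ // ∀ g ∈ G, lam g = 1}, G ≤ lam.1.ker := fun lam g hg => lam.2 g hg
  apply Nat.card_congr
  refine Equiv.ofBijective (fun lam => (lam.1).comp S.subtype) ⟨?_, ?_⟩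
  · intro lam mu h
    apply Subtype.ext
    apply MonoidHom.ext
    intro x
    obtain ⟨g, hg, s, hs, rfl⟩ := glau_decomp hnorm htop x
    rw [map_mul, map_mul, lam.2 g hg, mu.2 g hg]
    have := congrArg (fun F : S →* ℂˣ => F ⟨s, hs⟩) h
    exact congrArg (fun t => 1 * t) this
  · intro nu
    refine ⟨⟨(nu.comp e.symm.toMonoidHom).comp (QuotientGroup.mk' G), ?_⟩, ?_⟩
    · intro g hg
      show nu (e.symm (QuotientGroup.mk g)) = 1
      rw [(QuotientGroup.eq_one_iff g).mpr hg, map_one, map_one]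
    · apply MonoidHom.ext
      intro s
      show nu (e.symm (e s)) = nu s
      rw [MulEquiv.symm_apply_apply]

/-- the number of irreducible characters of degree prime to `|S|`. -/
theorem card_coprime_deg (hnorm : ∀ s ∈ S, ∀ g ∈ G, s * g * s⁻¹ ∈ G) (hcop : (Nat.card G).Coprime (Nat.card S)) (htop : G ⊔ S = ⊤) :
    Nat.card {χ : IrrCharacter Γ // (charDegree (χ : Γ → ℂ)).Coprime (Nat.card S)} = Nat.card {θ : IrrCharacter G // Inv S G (θ : G → ℂ)} * Nat.card (S →* ℂˣ) := by
  classical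
  haveI hG := glau_normal hnorm htop
  haveI : Fintype G := Fintype.ofFinite _
  have hidx := glau_index hnorm hcop htop
  rw [← card_triv_hom hnorm hcop htop, ← Nat.card_prod]
  symm
  have hex : ∀ θ : {θ : IrrCharacter G // Inv S G (θ : G → ℂ)}, ∃ χh : Γ → ℂ, IsIrrCharacter Γ χh ∧ (∀ g : G, χh g = (θ.1 : G → ℂ) g) := by
    intro θ
    obtain ⟨χh, h1, h2, _⟩ := canon_exists hnorm hcop htop θ.1 θ.1.2 θ.2
    exact ⟨χh, h1, h2⟩
  choose E hE1 hE2 using hex
  have hdegθ : ∀ θ : {θ : IrrCharacter G // Inv S G (θ : G → ℂ)}, (charDegree (θ.1 : G → ℂ)).Coprime (Nat.card S) := fun θ =>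
    hcop.coprime_dvd_left (IsIrr.degree_dvd θ.1.2)
  have hE0 : ∀ θ : {θ : IrrCharacter G // Inv S G (θ : G → ℂ)}, E θ 1 = (charDegree (θ.1 : G → ℂ) : ℂ) := by
    intro θ
    rw [← charDeg_eq (IsIrr.isCharacter θ.1.2), ← hE2 θ 1]
    rfl
  have hprod : ∀ q : {θ : IrrCharacter G // Inv S G (θ : G → ℂ)} × {lam : Γ →* ℂˣ // ∀ g ∈ G, lam g = 1}, IsIrrCharacter Γ (fun x => E q.1 x * (q.2.1 x : ℂ)) :=
    fun q => irr_mul_hom (hE1 q.1) q.2.1
  have hprodres : ∀ (q : {θ : IrrCharacter G // Inv S G (θ : G → ℂ)} × {lam : Γ →* ℂˣ // ∀ g ∈ G, lam g = 1}) (g : G), E q.1 g * (q.2.1 g : ℂ) = (q.1.1 : G → ℂ) g := by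
    intro q g
    rw [q.2.2 g g.2, hE2]; simp
  have hdeg : ∀ q : {θ : IrrCharacter G // Inv S G (θ : G → ℂ)} × {lam : Γ →* ℂˣ // ∀ g ∈ G, lam g = 1}, charDegree (fun x => E q.1 x * (q.2.1 x : ℂ)) = charDegree (q.1.1 : G → ℂ) := by
    intro q
    have h1 := charDeg_eq (IsIrr.isCharacter (hprod q))
    have h2 : (charDegree (fun x => E q.1 x * (q.2.1 x : ℂ)) : ℂ) = (charDegree (q.1.1 : G → ℂ) : ℂ) := by
      rw [← h1, ← hE0]; simp
    exact_mod_cast h2
  apply Nat.card_congr
  refine Equiv.ofBijective (fun q => ⟨⟨fun x => E q.1 x * (q.2.1 x : ℂ), hprod q⟩, by rw [hdeg q]; exact hdegθ q.1⟩) ⟨?_, ?_⟩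
  · intro q q' h
    have h1 : (fun x => E q.1 x * (q.2.1 x : ℂ)) = (fun x => E q'.1 x * (q'.2.1 x : ℂ)) := congrArg (fun z => ((z.1 : IrrCharacter Γ) : Γ → ℂ)) h
    have h2 : q.1 = q'.1 := by
      apply Subtype.ext
      apply Subtype.ext
      funext g
      rw [← hprodres q g, ← hprodres q' g]
      exact congrFun h1 g
    have h3 : q.2 = q'.2 := by
      have h4 := congrArg detChar h1
      have h5 : ∀ r : {θ : IrrCharacter G // Inv S G (θ : G → ℂ)} × {lam : Γ →* ℂˣ // ∀ g ∈ G, lam g = 1}, detChar (fun x => E r.1 x * (r.2.1 x : ℂ)) = detChar (E r.1) * homFun Γ (r.2.1 ^ charDegree (r.1.1 : G → ℂ)) :=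
        fun r => detChar_mul_linear (IsIrr.isCharacter (hE1 r.1)) _ (hE0 r.1) r.2.1
      rw [h5, h5, ← h2] at h4
      obtain ⟨nu, hnu⟩ := detChar_hom (IsIrr.isCharacter (hE1 q.1))
      rw [hnu, ← map_mul, ← map_mul] at h4
      set d := charDegree (q.1.1 : G → ℂ) with hd
      have h6 : q.2.1 ^ d = q'.2.1 ^ d := by
        apply MonoidHom.ext
        intro x
        have := congrFun h4 x
        rw [homFun_apply, homFun_apply] at this
        have h7 := Units.ext this
        rw [hom_mul_apply, hom_mul_apply] at h7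
        exact mul_left_cancel h7
      have h7 : q.2.1 * q'.2.1⁻¹ = 1 := by
        apply hom_root_unique hG _ _ d
        · rw [hidx]; exact (hdegθ q.1).symm
        · apply MonoidHom.ext
          intro x
          have h8 := congrArg (fun F : Γ →* ℂˣ => F x) h6
          simp only [hom_pow_apply] at h8
          rw [hom_pow_apply, hom_mul_apply, hom_inv_apply, mul_pow, h8, hom_one_apply, inv_pow, mul_inv_cancel]
        · intro n
          rw [hom_mul_apply, hom_inv_apply, q.2.2 n n.2, q'.2.2 n n.2, inv_one, mul_one]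
      apply Subtype.ext
      apply MonoidHom.ext
      intro x
      have h8 := congrArg (fun F : Γ →* ℂˣ => F x) h7
      simp only [hom_mul_apply, hom_inv_apply, hom_one_apply] at h8
      exact mul_inv_eq_one.mp h8
    exact Prod.ext h2 h3
  · rintro ⟨χ, hχd⟩
    obtain ⟨θ, hθ⟩ := exists_under G χ.2
    have h1 := clifford_degree hG (χ : Γ → ℂ) χ.2 θ θ.2 hθ
    obtain ⟨e, he⟩ := inner_nat (N := G) (IsIrr.isCharacter χ.2) θ.2
    rw [he, charDeg_eq (IsIrr.isCharacter χ.2), charDeg_eq (IsIrr.isCharacter θ.2)] at h1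
    have h2 : charDegree (χ : Γ → ℂ) = e * (inertia hG (θ : G → ℂ)).index * charDegree (θ : G → ℂ) := by exact_mod_cast h1
    have h3 : (inertia hG (θ : G → ℂ)).index ∣ Nat.card S := by
      rw [← hidx]
      exact Subgroup.index_dvd_of_le (le_inertia hG (IsIrr.isClassFunction θ.2))
    have h4 : (inertia hG (θ : G → ℂ)).index = 1 := by
      apply Nat.Coprime.eq_one_of_dvd _ h3
      apply hχd.coprime_dvd_left
      rw [h2]
      exact Dvd.intro_left (e * charDegree (θ : G → ℂ)) (by ring)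
    have h5 : inertia hG (θ : G → ℂ) = ⊤ := Subgroup.index_eq_one.mp h4
    have hinv : Inv S G (θ : G → ℂ) := by
      intro s hs g g' hg
      have h6 : s ∈ inertia hG (θ : G → ℂ) := by rw [h5]; trivial
      rw [mem_inertia] at h6
      have h7 := congrFun h6 g
      rw [conjBy_apply] at h7
      rw [← h7]
      refine congrArg (θ : G → ℂ) (Subtype.ext ?_)
      rw [hg]; rfl
    obtain ⟨β, hβ, hβ1, hβ2⟩ := gallagher hG (θ : G → ℂ) θ.2 (E ⟨θ, hinv⟩) (hE1 ⟨θ, hinv⟩) (hE2 ⟨θ, hinv⟩) χ χ.2 hθ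
    have hβdeg : β 1 = 1 := by
      have k1 := charDeg_eq (IsIrr.isCharacter hβ)
      have k2 : classInner (fun n : G => β n) (fun _ => (1 : ℂ)) ≠ 0 := by
        have : (fun n : G => β n) = fun n : G => (charDegree β : ℂ) * 1 := by
          funext n
          rw [hβ1, k1, mul_one]
        have k5 : (fun n : G => (charDegree β : ℂ) * (1 : ℂ)) = (charDegree β : ℂ) • (fun _ : G => (1 : ℂ)) := rfl
        rw [this, k5, H5.classInner_smul_left]
        have k6 : classInner (fun _ : G => (1 : ℂ)) (fun _ => (1 : ℂ)) = 1 := by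
          exact (H5.isIrrCharacter_iff_inner.mp (H5.isIrrCharacter_trivial (G := G))).2
        rw [k6, mul_one]
        exact_mod_cast (IsIrr.degree_pos hβ).ne'
      obtain ⟨e', he', hed'⟩ := ratio_dvd_index hG β hβ (fun _ => (1 : ℂ)) (H5.isIrrCharacter_trivial (G := G)) k2
      rw [mul_one, k1] at he'
      have k3 : charDegree β = e' := by exact_mod_cast he'
      have k4 : charDegree β ∣ charDegree (χ : Γ → ℂ) := by
        have k7 : (charDegree (χ : Γ → ℂ) : ℂ) = (charDegree β : ℂ) * (charDegree (θ : G → ℂ) : ℂ) := by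
          rw [← charDeg_eq (IsIrr.isCharacter χ.2), hβ2, Pi.mul_apply, k1, hE0]
        have k8 : charDegree (χ : Γ → ℂ) = charDegree β * charDegree (θ : G → ℂ) := by exact_mod_cast k7
        exact Dvd.intro _ k8.symm
      have k5 : charDegree β = 1 := by
        apply Nat.Coprime.eq_one_of_dvd (hχd.coprime_dvd_left k4)
        rw [← hidx, k3]
        exact hed'
      rw [k1, k5]; simp
    obtain ⟨lam, hlam⟩ := exists_hom_of_degree_one (IsIrr.isCharacter hβ) hβdeg
    refine ⟨⟨⟨θ, hinv⟩, ⟨lam, ?_⟩⟩, ?_⟩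
    · intro g hg
      have k1 := hβ1 ⟨g, hg⟩
      rw [hβdeg, hlam] at k1
      exact Units.ext k1
    · apply Subtype.ext
      apply Subtype.ext
      show (fun x => E ⟨θ, hinv⟩ x * (lam x : ℂ)) = (χ : Γ → ℂ)
      rw [hβ2, hlam]
      funext x
      rw [Pi.mul_apply, mul_comm]

end cop

end Cfsg.Agent.H4
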