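import Cfsg.Agent.H4.Glau12
import Cfsg.Agent.H4.Cliff3

set_option linter.all false
set_option autoImplicit false

/-! Going up and down for invariant characters: using Glauberman's lemma. -/

namespace Cfsg.Agent.H4

open Module
open scoped ComplexConjugate Pointwise

universe u v w

section common
variable {G : Type u} [Group G] {N : Subgroup G}

theorem inner_ne_of_common {K : Type u} [Group K] [Fintype K] {χ χ' θ : K → ℂ} (hχ : IsCharacter K χ) (hχ' : IsCharacter K χ') (hθ : IsIrrCharacter K θ)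
    (h : classInner χ θ ≠ 0) (h' : classInner χ' θ ≠ 0) : classInner χ χ' ≠ 0 := by
  classical
  have hm : ∀ δ : IrrCharacter K, ∃ m : ℕ, classInner χ (δ : K → ℂ) = m := fun δ => inner_char_nat hχ (IsIrr.isCharacter δ.2)
  have hn : ∀ δ : IrrCharacter K, ∃ m : ℕ, classInner (δ : K → ℂ) χ' = m := fun δ => inner_char_nat (IsIrr.isCharacter δ.2) hχ'
  choose m hm using hm
  choose n hn using hn
  have hexp : χ = ∑ δ : IrrCharacter K, (m δ : ℂ) • (δ : K → ℂ) := by
    funext c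
    rw [H5.classFun_expansion_apply (IsChar.isClassFunction hχ) c, Finset.sum_apply]
    apply Finset.sum_congr rfl
    intro δ _
    rw [hm, Pi.smul_apply, smul_eq_mul]
  have hsum : classInner χ χ' = ((∑ δ : IrrCharacter K, m δ * n δ : ℕ) : ℂ) := by
    rw [hexp, H5.classInner_sum_left]
    push_cast
    apply Finset.sum_congr rfl
    intro δ _
    rw [H5.classInner_smul_left, hn]
  rw [hsum]
  have h1 : m ⟨θ, hθ⟩ ≠ 0 := by
    intro h0
    apply h
    have := hm ⟨θ, hθ⟩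
    rw [h0, Nat.cast_zero] at this
    exact this
  have h2 : n ⟨θ, hθ⟩ ≠ 0 := by
    intro h0
    apply h'
    have := hn ⟨θ, hθ⟩
    rw [h0, Nat.cast_zero] at this
    rw [← H5.classInner_conj_symm, this, map_zero]
  have h3 : m ⟨θ, hθ⟩ * n ⟨θ, hθ⟩ ≤ ∑ δ : IrrCharacter K, m δ * n δ :=
    Finset.single_le_sum (f := fun δ : IrrCharacter K => m δ * n δ) (fun _ _ => Nat.zero_le _) (Finset.mem_univ _)
  have h4 : 0 < m ⟨θ, hθ⟩ * n ⟨θ, hθ⟩ := Nat.mul_pos (Nat.pos_of_ne_zero h1) (Nat.pos_of_ne_zero h2)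
  exact_mod_cast (lt_of_lt_of_le h4 h3).ne'

theorem mul_linear_of_abelian' [Fintype G] [Fintype N] (hN : N.Normal) (θ : N → ℂ) (hθ : IsIrrCharacter N θ)
    (hab : ∀ x y : G, x * y * x⁻¹ * y⁻¹ ∈ N) (ψ ψ' : G → ℂ)
    (hψ : IsIrrCharacter G ψ) (hψ' : IsIrrCharacter G ψ') (h : classInner (fun n : N => ψ n) θ ≠ 0)
    (h' : classInner (fun n : N => ψ' n) θ ≠ 0) :
    ∃ lam : G →* ℂˣ, (∀ n : N, lam n = 1) ∧ ψ' = fun g => ψ g * (lam g : ℂ) := by
  classical
  have h3 : classInner (indFun N (fun n : N => ψ n)) ψ' ≠ 0 := by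
    rw [frobenius_reciprocity N _ _ (IsIrr.isClassFunction hψ')]
    exact inner_ne_of_common (IsChar.restrict N (IsIrr.isCharacter hψ)) (IsChar.restrict N (IsIrr.isCharacter hψ')) hθ h h'
  have h4 : indFun N (fun n : N => ψ n) = indFun N (fun _ : N => (1 : ℂ)) * ψ := by
    rw [← indFun_mul_restrict N (fun _ => 1) ψ (IsIrr.isClassFunction hψ)]
    simp
  obtain ⟨m, hm1, hm2⟩ := IsChar.exists_mult (IsChar.induce N (fun _ : N => (1 : ℂ)) H5.isCharacter_trivial)
  have h5 : indFun N (fun n : N => ψ n) = ∑ β : IrrCharacter G, (m β : ℂ) • ((β : G → ℂ) * ψ) := by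
    rw [h4]
    funext g
    rw [Pi.mul_apply, hm2, Finset.sum_mul, Finset.sum_apply]
    apply Finset.sum_congr rfl; intro β _
    simp [mul_assoc]
  rw [h5, H5.classInner_sum_left] at h3
  obtain ⟨β, -, hβ⟩ := Finset.exists_ne_zero_of_sum_ne_zero h3
  rw [H5.classInner_smul_left] at hβ
  have hmβ : classInner (indFun N (fun _ : N => (1 : ℂ))) (β : G → ℂ) ≠ 0 := by
    rw [hm1]; exact left_ne_zero_of_mul hβ
  rw [frobenius_reciprocity N _ _ (IsIrr.isClassFunction β.2)] at hmβ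
  have hmβ' : classInner (fun n : N => (β : G → ℂ) n) (fun _ : N => (1 : ℂ)) ≠ 0 := by
    rw [← H5.classInner_conj_symm]; exact (map_ne_zero _).mpr hmβ
  have hinv1 : inertia hN (fun _ : N => (1 : ℂ)) = ⊤ := inertia_eq_top_of hN _ (fun _ _ => rfl)
  have h6 := restrict_of_invariant hN β β.2 _ H5.isIrrCharacter_trivial hmβ' hinv1
  have h7 : ∀ n : N, (β : G → ℂ) n = (β : G → ℂ) 1 := by
    intro n
    have a1 := congrFun h6 n
    have a2 := congrFun h6 1
    simp only [Pi.smul_apply, smul_eq_mul, mul_one, Subgroup.coe_one] at a1 a2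
    rw [a1, a2]
  obtain ⟨lam, hlam⟩ := linear_of_comm_ker β.2 (fun x y => h7 ⟨_, hab x y⟩)
  refine ⟨lam, ?_, ?_⟩
  · intro n
    have := h7 n
    rw [hlam] at this
    simp only [map_one, Units.val_one] at this
    exact Units.ext this
  · have h8 : IsIrrCharacter G ((β : G → ℂ) * ψ) := by
      have : (β : G → ℂ) * ψ = fun g => ψ g * (lam g : ℂ) := by
        funext g
        rw [Pi.mul_apply, hlam, mul_comm]
      rw [this]
      exact irr_mul_hom hψ lam
    have h9 := right_ne_zero_of_mul hβ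
    rw [inner_irr_eq h8 hψ'] at h9
    have h10 : (β : G → ℂ) * ψ = ψ' := by
      by_contra hne
      rw [if_neg hne] at h9
      exact h9 rfl
    rw [← h10]
    funext g
    rw [Pi.mul_apply, hlam, mul_comm]

end common

section perm

/-- Glauberman's lemma for permutation groups -/
theorem glau_perm {X : Type u} [Finite X] {A B : Subgroup (Equiv.Perm X)} (hAB : A ≤ Subgroup.normalizer (B : Set (Equiv.Perm X)))
    (hcop : (Nat.card A).Coprime (Nat.card B)) (hs : Group.IsSolvable A ∨ Group.IsSolvable B)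
    (Ω : Set X) (hne : Ω.Nonempty) (hA : ∀ a ∈ A, ∀ ω ∈ Ω, a ω ∈ Ω) (hB : ∀ n ∈ B, ∀ ω ∈ Ω, n ω ∈ Ω)
    (htr : ∀ ω ∈ Ω, ∀ ω' ∈ Ω, ∃ n ∈ B, n ω = ω') : ∃ ω ∈ Ω, ∀ a ∈ A, a ω = ω :=
  L0.glauberman_exists (X := X) hAB hcop hs Ω hne hA hB htr

variable {Γ : Type u} [Group Γ] [Fintype Γ]

/-- `S` acting on the irreducible characters of `G` as a permutation group. -/
noncomputable def permIrr {S G : Subgroup Γ} (hn : ∀ s ∈ S, s ∈ Subgroup.normalizer (G : Set Γ)) : S →* Equiv.Perm (IrrCharacter G) :=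
  @MulAction.toPermHom S (IrrCharacter G) _ (irrAct hn)

theorem permIrr_apply {S G : Subgroup Γ} (hn : ∀ s ∈ S, s ∈ Subgroup.normalizer (G : Set Γ)) (s : S) (χ : IrrCharacter G) (g : G) :
    (permIrr hn s χ : G → ℂ) g = (χ : G → ℂ) ⟨(s : Γ)⁻¹ * g * s, norm_mem' (hn s s.2) g.2⟩ := irrAct_apply hn s χ g

theorem permIrr_fixed {S G : Subgroup Γ} (hn : ∀ s ∈ S, s ∈ Subgroup.normalizer (G : Set Γ)) (χ : IrrCharacter G) :
    (∀ a ∈ (permIrr hn).range, a χ = χ) ↔ Inv S G (χ : G → ℂ) := by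
  rw [← irrAct_fixed hn χ]
  letI := irrAct hn
  rw [MulAction.mem_fixedPoints]
  constructor
  · intro h s
    exact h (permIrr hn s) ⟨s, rfl⟩
  · rintro h a ⟨s, rfl⟩
    exact h s

/-- the order of the image divides the index of a subgroup acting trivially. -/
theorem card_permIrr_dvd {S G K : Subgroup Γ} (hn : ∀ s ∈ S, s ∈ Subgroup.normalizer (G : Set Γ)) (hK : ∀ s ∈ K, s ∈ S → ∀ χ : IrrCharacter G, ∀ g g' : G, (g' : Γ) = s * g * s⁻¹ → (χ : G → ℂ) g' = (χ : G → ℂ) g) :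
    Nat.card (permIrr hn).range ∣ K.relIndex S := by
  rw [← Subgroup.index_ker]
  apply Subgroup.index_dvd_of_le
  intro s hs
  rw [MonoidHom.mem_ker]
  apply Equiv.ext
  intro χ
  apply Subtype.ext
  funext g
  rw [permIrr_apply]
  show (χ : G → ℂ) _ = (χ : G → ℂ) g
  exact (hK s (Subgroup.mem_subgroupOf.mp hs) s.2 χ ⟨(s : Γ)⁻¹ * g * s, norm_mem' (hn s s.2) g.2⟩ g (by show (g : Γ) = s * ((s : Γ)⁻¹ * g * s) * (s : Γ)⁻¹; group)).symm

end perm

section down
variable {Γ : Type u} [Group Γ] [Fintype Γ]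

/-- going down -/
theorem glau_down {G S N : Subgroup Γ} [Fintype N] (hnorm : ∀ s ∈ S, ∀ g ∈ G, s * g * s⁻¹ ∈ G) (hNG : N ≤ G) (hNn : ∀ g ∈ G, ∀ n ∈ N, g * n * g⁻¹ ∈ N)
    (hNS : ∀ s ∈ S, ∀ n ∈ N, s * n * s⁻¹ ∈ N) (hcop : (N.relIndex G).Coprime (Nat.card S)) (hsolv : Group.IsSolvable S ∨ ((N.subgroupOf G).Normal ∧ ∀ [(N.subgroupOf G).Normal], Group.IsSolvable (G ⧸ N.subgroupOf G)))
    {χ : G → ℂ} (hχ : IsIrrCharacter G χ) (hinv : Inv S G χ) : ∃ θ : IrrCharacter N, classInner (rs hNG χ) (θ : N → ℂ) ≠ 0 ∧ Inv S N (θ : N → ℂ) := by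
  classical
  haveI : Fintype G := Fintype.ofFinite _
  have hnS : ∀ s ∈ S, s ∈ Subgroup.normalizer (N : Set Γ) := fun s hs => le_norm_of_conj hNS hs
  have hnG : ∀ s ∈ G, s ∈ Subgroup.normalizer (N : Set Γ) := fun s hs => le_norm_of_conj hNn hs
  set A := (permIrr hnS).range with hA
  set B := (permIrr hnG).range with hB
  have hcA : Nat.card A ∣ Nat.card S := by
    have := card_permIrr_dvd (K := ⊥) hnS (by
      intro s hs _ χ g g' hg
      rw [Subgroup.mem_bot] at hs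
      refine congrArg (χ : N → ℂ) (Subtype.ext ?_)
      rw [hg, hs]; simp)
    rwa [Subgroup.relIndex_bot_left] at this
  have hcB : Nat.card B ∣ N.relIndex G := card_permIrr_dvd (K := N) hnG (by
      intro s hs _ χ g g' hg
      have h1 := IsIrr.isClassFunction χ.2 g ⟨s, hs⟩
      rw [← h1]
      refine congrArg (χ : N → ℂ) (Subtype.ext ?_)
      rw [hg]; rfl)
  have hcop' : (Nat.card A).Coprime (Nat.card B) := (hcop.symm.coprime_dvd_left hcA).coprime_dvd_right hcB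
  have hAB : A ≤ Subgroup.normalizer (B : Set (Equiv.Perm (IrrCharacter N))) := by
    rw [Subgroup.le_normalizer_iff]
    rintro a ⟨s, rfl⟩ b ⟨g, rfl⟩
    refine ⟨⟨(s : Γ) * g * (s : Γ)⁻¹, hnorm s s.2 g g.2⟩, ?_⟩
    apply Equiv.ext
    intro η
    apply Subtype.ext
    funext n
    rw [Equiv.Perm.mul_apply, Equiv.Perm.mul_apply, permIrr_apply, permIrr_apply, permIrr_apply, ← map_inv, permIrr_apply]
    refine congrArg (η : N → ℂ) (Subtype.ext ?_)
    show ((s : Γ) * g * (s : Γ)⁻¹)⁻¹ * n * ((s : Γ) * g * (s : Γ)⁻¹) = ((s⁻¹ : S) : Γ)⁻¹ * ((g : Γ)⁻¹ * ((s : Γ)⁻¹ * n * s) * g) * ((s⁻¹ : S) : Γ)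
    push_cast
    group
  have hs : Group.IsSolvable A ∨ Group.IsSolvable B := by
    rcases hsolv with h | ⟨h1, h⟩
    · left
      haveI := h
      exact Group.isSolvable_of_surjective (permIrr hnS).rangeRestrict_surjective
    · right
      haveI := h1
      haveI := @h h1
      have hker : N.subgroupOf G ≤ (permIrr hnG).rangeRestrict.ker := by
        intro g hg
        rw [MonoidHom.mem_ker]
        apply Subtype.ext
        apply Equiv.ext
        intro η
        apply Subtype.ext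
        funext n
        show (permIrr hnG g η : N → ℂ) n = (η : N → ℂ) n
        rw [permIrr_apply]
        have h3 := IsIrr.isClassFunction η.2 n ⟨(g : Γ)⁻¹, N.inv_mem (Subgroup.mem_subgroupOf.mp hg)⟩
        rw [← h3]
        refine congrArg (η : N → ℂ) (Subtype.ext ?_)
        show (g : Γ)⁻¹ * n * g = (g : Γ)⁻¹ * n * ((g : Γ)⁻¹)⁻¹
        rw [inv_inv]
      exact Group.isSolvable_of_surjective (f := QuotientGroup.lift (N.subgroupOf G) (permIrr hnG).rangeRestrict hker)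
        (QuotientGroup.lift_surjective_of_surjective _ _ (permIrr hnG).rangeRestrict_surjective hker)
  -- the set
  have hN' : (N.subgroupOf G).Normal := by
    constructor
    intro n hn' g
    rw [Subgroup.mem_subgroupOf] at hn' ⊢
    exact hNn g g.2 n hn'
  haveI : Fintype (N.subgroupOf G) := Fintype.ofFinite _
  have hconv : ∀ η : N → ℂ, classInner (fun n : N.subgroupOf G => χ n) (toSub η) = classInner (rs hNG χ) η := by
    intro η
    rw [← classInner_toSub hNG]; rfl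
  set Ω : Set (IrrCharacter N) := {η | classInner (rs hNG χ) (η : N → ℂ) ≠ 0} with hΩ
  have hχcl := IsIrr.isClassFunction hχ
  have hinner : ∀ (x : Γ) (hx : x ∈ Subgroup.normalizer (N : Set Γ)) (hχx : rs hNG χ = cj hx (rs hNG χ)) (η : N → ℂ), classInner (rs hNG χ) (cj hx η) = classInner (rs hNG χ) η := by
    intro x hx hχx η
    conv_lhs => rw [hχx]
    exact cj_inner hx _ _
  have hcjG : ∀ (x : Γ) (hxG : x ∈ G) (hx : x ∈ Subgroup.normalizer (N : Set Γ)), rs hNG χ = cj hx (rs hNG χ) := by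
    intro x hxG hx
    funext n
    show χ _ = χ _
    rw [← hχcl ⟨n, hNG n.2⟩ ⟨x, hxG⟩]
    rfl
  have hcjS : ∀ (x : Γ) (hxG : x ∈ S) (hx : x ∈ Subgroup.normalizer (N : Set Γ)), rs hNG χ = cj hx (rs hNG χ) := by
    intro x hxG hx
    funext n
    show χ _ = χ _
    exact (hinv x hxG ⟨n, hNG n.2⟩ ⟨x * n * x⁻¹, hNG (norm_mem hx n.2)⟩ rfl).symm
  have hcjeq : ∀ (K : Subgroup Γ) (hK : ∀ s ∈ K, s ∈ Subgroup.normalizer (N : Set Γ)) (s : K) (η : IrrCharacter N), (permIrr hK s η : N → ℂ) = cj (hK _ (K.inv_mem s.2)) (η : N → ℂ) := by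
    intro K hK s η
    funext n
    rw [permIrr_apply]
    refine congrArg (η : N → ℂ) (Subtype.ext ?_)
    show (s : Γ)⁻¹ * n * s = (s : Γ)⁻¹ * n * ((s : Γ)⁻¹)⁻¹
    rw [inv_inv]
  obtain ⟨θ, hθΩ, hθ⟩ := glau_perm hAB hcop' hs Ω (by
      obtain ⟨η, hη⟩ := exists_under (N.subgroupOf G) hχ
      refine ⟨⟨frSub hNG (η : N.subgroupOf G → ℂ), frSub_irr hNG η.2⟩, ?_⟩
      show classInner (rs hNG χ) (frSub hNG (η : N.subgroupOf G → ℂ)) ≠ 0
      rw [← hconv, toSub_frSub]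
      exact hη) (by
      rintro a ⟨s, rfl⟩ η hη
      show classInner (rs hNG χ) _ ≠ 0
      rw [hcjeq, hinner _ _ (hcjS _ (S.inv_mem s.2) _)]
      exact hη) (by
      rintro a ⟨s, rfl⟩ η hη
      show classInner (rs hNG χ) _ ≠ 0
      rw [hcjeq, hinner _ _ (hcjG _ (G.inv_mem s.2) _)]
      exact hη) (by
      intro η hη η' hη'
      obtain ⟨g, hg⟩ := clifford_conj hN' χ hχ (toSub (η : N → ℂ)) (toSub (η' : N → ℂ)) (toSub_irr hNG η.2) (toSub_irr hNG η'.2) (by rw [hconv]; exact hη) (by rw [hconv]; exact hη')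
      refine ⟨permIrr hnG g⁻¹, ⟨g⁻¹, rfl⟩, ?_⟩
      apply Subtype.ext
      rw [hcjeq]
      have h1 : toSub (H := N) (K := G) (η' : N → ℂ) = toSub (cj (hnG _ (G.inv_mem (g⁻¹ : G).2)) (η : N → ℂ)) := by
        rw [hg]
        funext n
        rw [conjBy_apply]
        show (η : N → ℂ) _ = (η : N → ℂ) _
        refine congrArg (η : N → ℂ) (Subtype.ext ?_)
        show ((g : Γ) * n * (g : Γ)⁻¹) = ((g⁻¹ : G) : Γ)⁻¹ * n * (((g⁻¹ : G) : Γ)⁻¹)⁻¹
        push_cast
        rw [inv_inv]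
      exact (toSub_injective hNG h1).symm)
  exact ⟨θ, hθΩ, (permIrr_fixed hnS θ).mp hθ⟩

end down

end Cfsg.Agent.H4
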