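import Cfsg.Agent.H4.Glau13

set_option linter.all false
set_option autoImplicit false

/-! Going up: solvable quotient. -/

namespace Cfsg.Agent.H4

open Module
open scoped ComplexConjugate Pointwise

universe u v w

section linperm
variable {G : Type u} [Group G] [Finite G]

/-- multiplication by linear characters, as permutations of the irreducible characters -/
noncomputable def linPerm : (G →* ℂˣ) →* Equiv.Perm (IrrCharacter G) where
  toFun lam :=
    { toFun := fun χ => ⟨fun g => (χ : G → ℂ) g * (lam g : ℂ), irr_mul_hom χ.2 lam⟩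
      invFun := fun χ => ⟨fun g => (χ : G → ℂ) g * (lam⁻¹ g : ℂ), irr_mul_hom χ.2 lam⁻¹⟩
      left_inv := fun χ => by
        apply Subtype.ext
        funext g
        show ((χ : G → ℂ) g * (lam g : ℂ)) * ((lam⁻¹) g : ℂ) = (χ : G → ℂ) g
        rw [hom_inv_apply, mul_assoc]; simp
      right_inv := fun χ => by
        apply Subtype.ext
        funext g
        show ((χ : G → ℂ) g * ((lam⁻¹) g : ℂ)) * (lam g : ℂ) = (χ : G → ℂ) g
        rw [hom_inv_apply, mul_assoc]; simp }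
  map_one' := by
    apply Equiv.ext
    intro χ
    apply Subtype.ext
    funext g
    show (χ : G → ℂ) g * (((1 : G →* ℂˣ) g : ℂˣ) : ℂ) = (χ : G → ℂ) g
    rw [hom_one_apply]; simp
  map_mul' a b := by
    apply Equiv.ext
    intro χ
    apply Subtype.ext
    funext g
    show (χ : G → ℂ) g * (((a * b) g : ℂˣ) : ℂ) = ((χ : G → ℂ) g * (b g : ℂ)) * (a g : ℂ)
    rw [hom_mul_apply]; push_cast; ring

theorem linPerm_apply (lam : G →* ℂˣ) (χ : IrrCharacter G) (g : G) : (linPerm lam χ : G → ℂ) g = (χ : G → ℂ) g * (lam g : ℂ) := rfl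

end linperm

section up
variable {Γ : Type u} [Group Γ] [Fintype Γ]

/-- linear characters trivial on `M` -/
def trivLin (G M : Subgroup Γ) : Subgroup (G →* ℂˣ) where
  carrier := {lam | ∀ g : G, (g : Γ) ∈ M → lam g = 1}
  one_mem' := fun g _ => rfl
  mul_mem' := fun {a b} ha hb g hg => by rw [hom_mul_apply, ha g hg, hb g hg, one_mul]
  inv_mem' := fun {a} ha g hg => by rw [hom_inv_apply, ha g hg, inv_one]

theorem mem_trivLin {G M : Subgroup Γ} (lam : G →* ℂˣ) : lam ∈ trivLin G M ↔ ∀ g : G, (g : Γ) ∈ M → lam g = 1 := Iff.rfl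

/-- going up, abelian quotient. -/
theorem up_abelian {G S M : Subgroup Γ} [Fintype M] (hnorm : ∀ s ∈ S, ∀ g ∈ G, s * g * s⁻¹ ∈ G) (hMG : M ≤ G) (hMn : ∀ g ∈ G, ∀ n ∈ M, g * n * g⁻¹ ∈ M)
    (hMS : ∀ s ∈ S, ∀ n ∈ M, s * n * s⁻¹ ∈ M) (hab : ∀ x ∈ G, ∀ y ∈ G, x * y * x⁻¹ * y⁻¹ ∈ M) (hcop : (M.relIndex G).Coprime ((S ⊓ G).relIndex S))
    {ψ : M → ℂ} (hψ : IsIrrCharacter M ψ) (hinv : Inv S M ψ) : ∃ χ : IrrCharacter G, classInner (rs hMG (χ : G → ℂ)) ψ ≠ 0 ∧ Inv S G (χ : G → ℂ) := by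
  classical
  haveI : Fintype G := Fintype.ofFinite _
  haveI : Fintype (M.subgroupOf G) := Fintype.ofFinite _
  have hM' : (M.subgroupOf G).Normal := by
    constructor
    intro n hn' g
    rw [Subgroup.mem_subgroupOf] at hn' ⊢
    exact hMn g g.2 n hn'
  have hnS : ∀ s ∈ S, s ∈ Subgroup.normalizer (G : Set Γ) := fun s hs => le_norm_of_conj hnorm hs
  have hnSM : ∀ s ∈ S, s ∈ Subgroup.normalizer (M : Set Γ) := fun s hs => le_norm_of_conj hMS hs
  set A := (permIrr hnS).range with hA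
  set B := (trivLin G M).map linPerm with hB
  have hcA : Nat.card A ∣ (S ⊓ G).relIndex S := card_permIrr_dvd (K := S ⊓ G) hnS (by
      intro s hs _ χ g g' hg
      have h1 := IsIrr.isClassFunction χ.2 g ⟨s, hs.2⟩
      rw [← h1]
      refine congrArg (χ : G → ℂ) (Subtype.ext ?_)
      rw [hg]; rfl)
  have hBpow : ∀ b ∈ B, b ^ (M.relIndex G) = 1 := by
    rintro b ⟨lam, hlam, rfl⟩
    rw [← map_pow]
    have h1 : lam ^ (M.relIndex G) = 1 := by
      haveI := hM'
      exact hom_pow_index' (N := M.subgroupOf G) lam (fun n => hlam n (Subgroup.mem_subgroupOf.mp n.2))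
    rw [h1, map_one]
  have hcop' : (Nat.card A).Coprime (Nat.card B) := by
    apply Nat.Coprime.coprime_dvd_left hcA
    rw [Nat.coprime_iff_gcd_eq_one]
    by_contra hne
    obtain ⟨q, hq, hqd⟩ := Nat.exists_prime_and_dvd hne
    haveI : Fact q.Prime := ⟨hq⟩
    obtain ⟨b, hb⟩ := exists_prime_orderOf_dvd_card' (G := B) q (hqd.trans (Nat.gcd_dvd_right _ _))
    have h1 : b ^ (M.relIndex G) = 1 := Subtype.ext (hBpow b b.2)
    have h2 : q ∣ M.relIndex G := by rw [← hb]; exact orderOf_dvd_of_pow_eq_one h1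
    have h3 := Nat.dvd_gcd h2 (hqd.trans (Nat.gcd_dvd_left _ _))
    rw [hcop] at h3
    exact hq.one_lt.ne' (Nat.dvd_one.mp h3)
  have hBcomm : ∀ a b : B, a * b = b * a := by
    rintro ⟨a, lam, hlam, rfl⟩ ⟨b, mu, hmu, rfl⟩
    apply Subtype.ext
    show linPerm lam * linPerm mu = linPerm mu * linPerm lam
    have hc : lam * mu = mu * lam := by
      apply MonoidHom.ext
      intro x
      rw [hom_mul_apply, hom_mul_apply, mul_comm]
    rw [← map_mul, ← map_mul, hc]
  have hBsolv : Group.IsSolvable B := Group.isSolvable_of_comm hBcomm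
  have hAB : A ≤ Subgroup.normalizer (B : Set (Equiv.Perm (IrrCharacter G))) := by
    rw [Subgroup.le_normalizer_iff]
    rintro a ⟨s, rfl⟩ b ⟨lam, hlam, rfl⟩
    let e : G ≃* G := cjE (hnS _ (S.inv_mem s.2))
    refine ⟨lam.comp e.toMonoidHom, ?_, ?_⟩
    · intro g hg
      show lam (e g) = 1
      apply hlam
      exact hMS (s : Γ)⁻¹ (S.inv_mem s.2) g hg
    · apply Equiv.ext
      intro χ
      apply Subtype.ext
      funext g
      rw [Equiv.Perm.mul_apply, Equiv.Perm.mul_apply, permIrr_apply, linPerm_apply, linPerm_apply, ← map_inv, permIrr_apply]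
      congr 1
      · refine congrArg (χ : G → ℂ) (Subtype.ext ?_)
        show (g : Γ) = ((s⁻¹ : S) : Γ)⁻¹ * ((s : Γ)⁻¹ * g * s) * ((s⁻¹ : S) : Γ)
        push_cast
        group
      · show ((lam (e g) : ℂˣ) : ℂ) = ((lam _ : ℂˣ) : ℂ)
        refine congrArg (fun y : G => ((lam y : ℂˣ) : ℂ)) (Subtype.ext ?_)
        show (s : Γ)⁻¹ * g * ((s : Γ)⁻¹)⁻¹ = (s : Γ)⁻¹ * g * s
        rw [inv_inv]
  have hconv : ∀ χ : G → ℂ, classInner (fun n : M.subgroupOf G => χ n) (toSub ψ) = classInner (rs hMG χ) ψ := by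
    intro χ
    rw [← classInner_toSub hMG]; rfl
  set Ω : Set (IrrCharacter G) := {χ | classInner (rs hMG (χ : G → ℂ)) ψ ≠ 0} with hΩ
  obtain ⟨χ, hχΩ, hχ⟩ := glau_perm hAB hcop' (Or.inr hBsolv) Ω (by
      obtain ⟨χ, hχ⟩ := exists_over (M.subgroupOf G) (toSub_irr hMG hψ)
      refine ⟨χ, ?_⟩
      show classInner (rs hMG (χ : G → ℂ)) ψ ≠ 0
      rw [← hconv]; exact hχ) (by
      rintro a ⟨s, rfl⟩ χ hχ
      show classInner (rs hMG (permIrr hnS s χ : G → ℂ)) ψ ≠ 0
      have h1 : rs hMG (permIrr hnS s χ : G → ℂ) = cj (hnSM _ (S.inv_mem s.2)) (rs hMG (χ : G → ℂ)) := by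
        funext n
        show (permIrr hnS s χ : G → ℂ) _ = (χ : G → ℂ) _
        rw [permIrr_apply]
        refine congrArg (χ : G → ℂ) (Subtype.ext ?_)
        show (s : Γ)⁻¹ * n * s = (s : Γ)⁻¹ * n * ((s : Γ)⁻¹)⁻¹
        rw [inv_inv]
      have h2 : ψ = cj (hnSM _ (S.inv_mem s.2)) ψ := ((inv_iff_cj hnSM ψ).mp hinv _ (S.inv_mem s.2)).symm
      rw [h1, h2, cj_inner]
      exact hχ) (by
      rintro a ⟨lam, hlam, rfl⟩ χ hχ
      show classInner (rs hMG (linPerm lam χ : G → ℂ)) ψ ≠ 0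
      have h1 : rs hMG (linPerm lam χ : G → ℂ) = rs hMG (χ : G → ℂ) := by
        funext n
        show (χ : G → ℂ) _ * (lam _ : ℂ) = (χ : G → ℂ) _
        rw [hlam ⟨n, hMG n.2⟩ n.2]; simp
      rw [h1]; exact hχ) (by
      intro χ hχ χ' hχ'
      obtain ⟨lam, hlam, h⟩ := mul_linear_of_abelian' hM' (toSub ψ) (toSub_irr hMG hψ) (fun x y => Subgroup.mem_subgroupOf.mpr (hab x x.2 y y.2))
        (χ : G → ℂ) (χ' : G → ℂ) χ.2 χ'.2 (by rw [hconv]; exact hχ) (by rw [hconv]; exact hχ')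
      refine ⟨linPerm lam, ⟨lam, fun g hg => hlam ⟨g, Subgroup.mem_subgroupOf.mpr hg⟩, rfl⟩, ?_⟩
      apply Subtype.ext
      rw [h]; rfl)
  exact ⟨χ, hχΩ, (permIrr_fixed hnS χ).mp hχ⟩

theorem inner_trans {N M G : Subgroup Γ} [Fintype N] [Fintype M] (hNM : N ≤ M) (hMG : M ≤ G) (hNG : N ≤ G) {χ : G → ℂ} (hχ : IsCharacter G χ) {ψ : M → ℂ} (hψ : IsIrrCharacter M ψ) {θ : N → ℂ} (hθ : IsIrrCharacter N θ)
    (h1 : classInner (rs hMG χ) ψ ≠ 0) (h2 : classInner (rs hNM ψ) θ ≠ 0) : classInner (rs hNG χ) θ ≠ 0 := by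
  classical
  obtain ⟨m, n, hm, hn, hsum⟩ := inner_expand hNM hMG hNG hχ (IsIrr.isCharacter hθ)
  rw [hsum]
  have a1 : m ⟨ψ, hψ⟩ ≠ 0 := by
    intro h0
    apply h1
    have := hm ⟨ψ, hψ⟩
    rw [h0, Nat.cast_zero] at this
    exact this
  have a2 : n ⟨ψ, hψ⟩ ≠ 0 := by
    intro h0
    apply h2
    have := hn ⟨ψ, hψ⟩
    rw [h0, Nat.cast_zero] at this
    exact this
  have h3 : m ⟨ψ, hψ⟩ * n ⟨ψ, hψ⟩ ≤ ∑ δ : IrrCharacter M, m δ * n δ :=
    Finset.single_le_sum (f := fun δ : IrrCharacter M => m δ * n δ) (fun _ _ => Nat.zero_le _) (Finset.mem_univ _)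
  have h4 : 0 < m ⟨ψ, hψ⟩ * n ⟨ψ, hψ⟩ := Nat.mul_pos (Nat.pos_of_ne_zero a1) (Nat.pos_of_ne_zero a2)
  exact_mod_cast (lt_of_lt_of_le h4 h3).ne'

/-- going up, solvable quotient -/
theorem up_solvable {S N : Subgroup Γ} [Fintype N] (hNS : ∀ s ∈ S, ∀ n ∈ N, s * n * s⁻¹ ∈ N) : ∀ (k : ℕ) (G : Subgroup Γ) (hNG : N ≤ G), Nat.card G ≤ k → (∀ s ∈ S, ∀ g ∈ G, s * g * s⁻¹ ∈ G) →
    ∀ [hNn : (N.subgroupOf G).Normal], (N.relIndex G).Coprime ((S ⊓ N).relIndex S) → S ⊓ G ≤ N → Group.IsSolvable (G ⧸ N.subgroupOf G) → ∀ (θ : N → ℂ), IsIrrCharacter N θ → Inv S N θ →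
    ∃ χ : IrrCharacter G, classInner (rs hNG (χ : G → ℂ)) θ ≠ 0 ∧ Inv S G (χ : G → ℂ) := by
  classical
  intro k
  induction k with
  | zero =>
    intro G _ h
    have : 0 < Nat.card G := Nat.card_pos
    omega
  | succ k ih =>
    intro G hNG hcard hnorm hNn hcop hSG hsolv θ hθ hinv
    have hNn' : ∀ g ∈ G, ∀ n ∈ N, g * n * g⁻¹ ∈ N := fun g hg n hn =>
      Subgroup.mem_subgroupOf.mp (hNn.conj_mem ⟨n, hNG hn⟩ (Subgroup.mem_subgroupOf.mpr hn) ⟨g, hg⟩)
    by_cases heq : N = G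
    · subst heq
      refine ⟨⟨θ, hθ⟩, ?_, hinv⟩
      show classInner θ θ ≠ 0
      rw [inner_irr_eq hθ hθ, if_pos rfl]
      exact one_ne_zero
    · set D : Subgroup Γ := ⁅G, G⁆ with hD
      set M : Subgroup Γ := D ⊔ N with hM
      have hDG : D ≤ G := H1.commutator_self_le G
      have hMG : M ≤ G := sup_le hDG hNG
      have hNM : N ≤ M := le_sup_right
      haveI : Fintype M := Fintype.ofFinite _
      -- conjugation stability
      have hstab : ∀ x : Γ, (∀ g ∈ G, x * g * x⁻¹ ∈ G) → (∀ n ∈ N, x * n * x⁻¹ ∈ N) → ∀ m ∈ M, x * m * x⁻¹ ∈ M := by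
        intro x hxG hxN m hm
        have h1 : M.map (MulAut.conj x).toMonoidHom ≤ M := by
          rw [hM, Subgroup.map_sup, hD, Subgroup.map_commutator]
          have h2 : G.map (MulAut.conj x).toMonoidHom ≤ G := by
            rintro _ ⟨g, hg, rfl⟩
            exact hxG g hg
          have h3 : N.map (MulAut.conj x).toMonoidHom ≤ N := by
            rintro _ ⟨g, hg, rfl⟩
            exact hxN g hg
          exact sup_le_sup (Subgroup.commutator_mono h2 h2) h3
        exact h1 ⟨m, hm, rfl⟩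
      have hMn : ∀ g ∈ G, ∀ n ∈ M, g * n * g⁻¹ ∈ M := fun g hg => hstab g (fun g' hg' => G.mul_mem (G.mul_mem hg hg') (G.inv_mem hg)) (hNn' g hg)
      have hMS : ∀ s ∈ S, ∀ n ∈ M, s * n * s⁻¹ ∈ M := fun s hs => hstab s (hnorm s hs) (hNS s hs)
      have hab : ∀ x ∈ G, ∀ y ∈ G, x * y * x⁻¹ * y⁻¹ ∈ M := by
        intro x hx y hy
        rw [← commutatorElement_def]
        exact (le_sup_left : D ≤ M) (Subgroup.commutator_mem_commutator hx hy)
      -- M is proper
      have hMne : M ≠ G := by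
        intro hMG'
        haveI := hsolv
        haveI : Nontrivial (G ⧸ N.subgroupOf G) := by
          obtain ⟨x, hx, hxN⟩ : ∃ x ∈ G, x ∉ N := by
            by_contra hcon
            push Not at hcon
            exact heq (le_antisymm hNG hcon)
          refine ⟨⟨QuotientGroup.mk ⟨x, hx⟩, 1, ?_⟩⟩
          intro h
          exact hxN (Subgroup.mem_subgroupOf.mp ((QuotientGroup.eq_one_iff _).mp h))
        have h1 := Group.IsSolvable.commutator_lt_top_of_nontrivial (G ⧸ N.subgroupOf G)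
        apply h1.ne
        rw [Subgroup.eq_top_iff']
        intro q
        obtain ⟨x, rfl⟩ := QuotientGroup.mk_surjective q
        have hxM : (x : Γ) ∈ M := by rw [hMG']; exact x.2
        have h2 : G.subgroupOf G ⊓ (M.subgroupOf G) ≤ (commutator (G ⧸ N.subgroupOf G)).comap (QuotientGroup.mk' (N.subgroupOf G)) := by
          have h3 : M.subgroupOf G = (commutator G) ⊔ N.subgroupOf G := by
            apply Subgroup.map_injective G.subtype_injective
            rw [Subgroup.subgroupOf_map_subtype, inf_of_le_left hMG, Subgroup.map_sup, Subgroup.subgroupOf_map_subtype, inf_of_le_left hNG]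
            congr 1
            rw [commutator_def, Subgroup.map_commutator, ← MonoidHom.range_eq_map, Subgroup.range_subtype]
          rw [h3]
          refine inf_le_right.trans (sup_le ?_ ?_)
          · rw [← Subgroup.map_le_iff_le_comap, commutator_def, Subgroup.map_commutator, commutator_def]
            exact Subgroup.commutator_mono le_top le_top
          · intro y hy
            rw [Subgroup.mem_comap]
            have : QuotientGroup.mk' (N.subgroupOf G) y = 1 := (QuotientGroup.eq_one_iff y).mpr hy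
            rw [this]
            exact Subgroup.one_mem _
        exact h2 ⟨Subgroup.mem_subgroupOf.mpr x.2, Subgroup.mem_subgroupOf.mpr hxM⟩
      have hlt : Nat.card M < Nat.card G := by
        refine lt_of_le_of_ne (Subgroup.card_le_of_le hMG) ?_
        intro h
        exact hMne (Subgroup.eq_of_le_of_card_ge hMG h.ge)
      haveI hNM' : (N.subgroupOf M).Normal := by
        constructor
        intro n hn' g
        rw [Subgroup.mem_subgroupOf] at hn' ⊢
        exact hNn' g (hMG g.2) n hn'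
      have hsolvM : Group.IsSolvable (M ⧸ N.subgroupOf M) := by
        haveI := hsolv
        let f : M →* G ⧸ N.subgroupOf G := (QuotientGroup.mk' (N.subgroupOf G)).comp (Subgroup.inclusion hMG)
        have hk : f.ker = N.subgroupOf M := by
          ext x
          rw [MonoidHom.mem_ker, Subgroup.mem_subgroupOf]
          show (QuotientGroup.mk (Subgroup.inclusion hMG x) : G ⧸ N.subgroupOf G) = 1 ↔ _
          rw [QuotientGroup.eq_one_iff, Subgroup.mem_subgroupOf]
          rfl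
        have h1 : Group.IsSolvable (M ⧸ f.ker) := Group.isSolvable_of_isSolvable_injective (QuotientGroup.kerLift_injective f)
        exact Group.isSolvable_of_surjective (f := (QuotientGroup.quotientMulEquivOfEq hk).toMonoidHom) (QuotientGroup.quotientMulEquivOfEq hk).surjective
      have hrel : N.relIndex M * M.relIndex G = N.relIndex G := Subgroup.relIndex_mul_relIndex N M G hNM hMG
      obtain ⟨ψ, hψ1, hψ2⟩ := ih M hNM (by omega) hMS (hcop.coprime_dvd_left (Dvd.intro _ hrel)) ((inf_le_inf_left S hMG).trans hSG) hsolvM θ hθ hinv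
      have hSN : S ⊓ G = S ⊓ N := le_antisymm (le_inf inf_le_left hSG) (inf_le_inf_left S hNG)
      obtain ⟨χ, hχ1, hχ2⟩ := up_abelian hnorm hMG hMn hMS hab (by rw [hSN]; exact hcop.coprime_dvd_left (Dvd.intro_left _ hrel)) ψ.2 hψ2
      exact ⟨χ, inner_trans hNM hMG hNG (IsIrr.isCharacter χ.2) ψ.2 hθ hχ1 hψ1, hχ2⟩

end up

end Cfsg.Agent.H4

namespace Cfsg.Agent.H4

theorem inf_le_of_coprime {Γ : Type*} [Group Γ] [Finite Γ] {G S N : Subgroup Γ} (hNG : N ≤ G) [hNn : (N.subgroupOf G).Normal] (hcop : (N.relIndex G).Coprime (Nat.card S)) : S ⊓ G ≤ N := by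
  intro x hx
  obtain ⟨hxS, hxG⟩ := hx
  have h1 : orderOf (QuotientGroup.mk ⟨x, hxG⟩ : G ⧸ N.subgroupOf G) ∣ N.relIndex G := orderOf_dvd_natCard _
  have h2 : (⟨x, hxG⟩ : G) ^ Nat.card S = 1 := by
    apply Subtype.ext
    have := congrArg Subtype.val (pow_card_eq_one' (x := (⟨x, hxS⟩ : S)))
    exact this
  have h3 : orderOf (QuotientGroup.mk ⟨x, hxG⟩ : G ⧸ N.subgroupOf G) ∣ Nat.card S := by
    apply orderOf_dvd_of_pow_eq_one
    rw [← QuotientGroup.mk_pow, h2]; rfl
  have h4 := Nat.dvd_gcd h1 h3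
  rw [hcop] at h4
  have h5 := orderOf_eq_one_iff.mp (Nat.dvd_one.mp h4)
  exact Subgroup.mem_subgroupOf.mp ((QuotientGroup.eq_one_iff _).mp h5)

end Cfsg.Agent.H4
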