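import Cfsg.Agent.H4.Glau14

set_option linter.all false
set_option autoImplicit false

/-! Relative version: central case. -/

namespace Cfsg.Agent.H4

open Module
open scoped ComplexConjugate Pointwise

universe u v w

theorem exists_coprime_part (m : ℕ) : ∀ (n c : ℕ), c ≤ n → 0 < c → ∃ u v : ℕ, c = u * v ∧ v.Coprime m ∧ ∀ q : ℕ, q.Prime → q ∣ u → q ∣ m := by
  intro n
  induction n with
  | zero => intro c h1 h2; omega
  | succ n ih =>
    intro c hc hc0
    by_cases h : c.gcd m = 1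
    · exact ⟨1, c, (one_mul c).symm, h, fun q hq hq1 => absurd (Nat.dvd_one.mp hq1) hq.one_lt.ne'⟩
    · obtain ⟨c', hc'⟩ := Nat.gcd_dvd_left c m
      have hg0 : 0 < c.gcd m := Nat.gcd_pos_of_pos_left _ hc0
      have hg1 : 1 < c.gcd m := by omega
      have hc'0 : 0 < c' := by
        rcases Nat.eq_zero_or_pos c' with h0 | h0
        · rw [h0, mul_zero] at hc'; omega
        · exact h0
      have hlt : c' < c := by
        have hh : c = c.gcd m * c' := hc'
        calc c' = 1 * c' := (one_mul c').symm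
          _ < c.gcd m * c' := Nat.mul_lt_mul_of_pos_right hg1 hc'0
          _ = c := hh.symm
      obtain ⟨u, v, huv, hv, hu⟩ := ih c' (by omega) hc'0
      refine ⟨c.gcd m * u, v, ?_, hv, ?_⟩
      · rw [mul_assoc, ← huv]; exact hc'
      · intro q hq hqd
        rcases (hq.dvd_mul).mp hqd with h1 | h1
        · exact h1.trans (Nat.gcd_dvd_right _ _)
        · exact hu q hq h1

theorem central_hall {A : Type u} [Group A] [Finite A] (m : ℕ) (hcop : (Subgroup.center A).index.Coprime m) :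
    ∃ H : Subgroup A, H.Characteristic ∧ (Nat.card H).Coprime m ∧ (∀ q : ℕ, q.Prime → q ∣ H.index → q ∣ m) ∧ (∀ x y : A, x * y * x⁻¹ * y⁻¹ ∈ H) := by
  classical
  obtain ⟨u, v, huv, hv, hu⟩ := exists_coprime_part m (Nat.card (Subgroup.center A)) (Nat.card (Subgroup.center A)) le_rfl Nat.card_pos
  set n := (Subgroup.center A).index with hn
  let T : A →* Subgroup.center A := MonoidHom.transferCenterPow A
  have hT : ∀ a, ((T a : Subgroup.center A) : A) = a ^ n := fun a => MonoidHom.transferCenterPow_apply a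
  have hcomm : ∀ a b : Subgroup.center A, a * b = b * a := fun a b => Subtype.ext ((Subgroup.mem_center_iff.mp a.2 b).symm)
  let pw : Subgroup.center A →* Subgroup.center A :=
    { toFun := fun z => z ^ v
      map_one' := one_pow v
      map_mul' := fun a b => (show Commute a b from hcomm a b).mul_pow v }
  let P : A →* Subgroup.center A := pw.comp T
  have hP : ∀ a, ((P a : Subgroup.center A) : A) = a ^ (n * v) := by
    intro a
    show (((T a) ^ v : Subgroup.center A) : A) = _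
    rw [Subgroup.coe_pow, hT, pow_mul]
  have hmem : ∀ a, a ∈ P.ker ↔ a ^ (n * v) = 1 := by
    intro a
    rw [MonoidHom.mem_ker]
    constructor
    · intro h
      rw [← hP, h]; rfl
    · intro h
      apply Subtype.ext
      rw [hP, h]; rfl
  refine ⟨P.ker, ?_, ?_, ?_, ?_⟩
  · rw [Subgroup.characteristic_iff_le_comap]
    intro φ a ha
    rw [Subgroup.mem_comap, hmem]
    show (φ a) ^ (n * v) = 1
    rw [← map_pow, (hmem a).mp ha, map_one]
  · rw [Nat.coprime_iff_gcd_eq_one]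
    by_contra hne
    obtain ⟨q, hq, hqd⟩ := Nat.exists_prime_and_dvd hne
    haveI : Fact q.Prime := ⟨hq⟩
    have hqm : q ∣ m := hqd.trans (Nat.gcd_dvd_right _ _)
    obtain ⟨b, hb⟩ := exists_prime_orderOf_dvd_card' (G := P.ker) q (hqd.trans (Nat.gcd_dvd_left _ _))
    have h1 : b ^ (n * v) = 1 := Subtype.ext ((hmem b).mp b.2)
    have h2 : q ∣ n * v := by rw [← hb]; exact orderOf_dvd_of_pow_eq_one h1
    rcases (hq.dvd_mul).mp h2 with h3 | h3
    · have := Nat.dvd_gcd h3 hqm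
      rw [hcop] at this
      exact hq.one_lt.ne' (Nat.dvd_one.mp this)
    · have := Nat.dvd_gcd h3 hqm
      rw [hv] at this
      exact hq.one_lt.ne' (Nat.dvd_one.mp this)
  · intro q hq hqd
    haveI : Fact q.Prime := ⟨hq⟩
    rw [Subgroup.index_ker] at hqd
    obtain ⟨b, hb⟩ := exists_prime_orderOf_dvd_card' (G := P.range) q hqd
    have h1 : b ^ u = 1 := by
      apply Subtype.ext
      obtain ⟨a, ha⟩ := b.2
      rw [Subgroup.coe_pow, ← ha]
      show ((T a) ^ v) ^ u = 1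
      rw [← pow_mul, mul_comm v u, ← huv]
      exact pow_card_eq_one'
    apply hu q hq
    rw [← hb]
    exact orderOf_dvd_of_pow_eq_one h1
  · intro x y
    rw [MonoidHom.mem_ker, map_mul, map_mul, map_mul, map_inv, map_inv, hcomm (P x) (P y)]
    group


/-- central character -/
theorem central_lin {A : Type u} [Group A] [Finite A] {Z : Subgroup A} (hZ : Z ≤ Subgroup.center A) {χ : A → ℂ} (hχ : IsIrrCharacter A χ) :
    ∃ lam : Z →* ℂˣ, ∀ (z : Z) (a : A), χ ((z : A) * a) = (lam z : ℂ) * χ a := by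
  classical
  obtain ⟨n, ρ, hρ, rfl⟩ := hχ
  have hnt : Nontrivial (Fin n → ℂ) := ((isIrreducible_iff ρ).mp hρ).1
  have h1 : ∀ z : Z, ∃ c : ℂ, ρ (z : A) = c • (1 : (Fin n → ℂ) →ₗ[ℂ] (Fin n → ℂ)) := fun z => center_scalar ρ hρ z (hZ z.2)
  choose c hc using h1
  obtain ⟨v, hv⟩ := exists_ne (0 : Fin n → ℂ)
  have happ : ∀ z : Z, ρ (z : A) v = c z • v := by
    intro z
    rw [hc]; rfl
  have huniq : ∀ a b : ℂ, a • v = b • v → a = b := by
    intro a b h
    have : (a - b) • v = 0 := by rw [sub_smul, h, sub_self]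
    rcases smul_eq_zero.mp this with h | h
    · exact sub_eq_zero.mp h
    · exact absurd h hv
  have hmul : ∀ z w : Z, c (z * w) = c z * c w := by
    intro z w
    apply huniq
    rw [← happ, mul_smul, Subgroup.coe_mul, map_mul, Module.End.mul_apply, happ w, map_smul, happ z, smul_comm]
  have hone : c 1 = 1 := by
    apply huniq
    rw [← happ, Subgroup.coe_one, map_one, one_smul]; rfl
  have hne : ∀ z : Z, c z ≠ 0 := by
    intro z h0
    have := hmul z z⁻¹
    rw [mul_inv_cancel, hone, h0, zero_mul] at this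
    exact one_ne_zero this
  refine ⟨{ toFun := fun z => Units.mk0 (c z) (hne z), map_one' := Units.ext hone, map_mul' := fun z w => Units.ext (hmul z w) }, ?_⟩
  intro z a
  show LinearMap.trace ℂ _ (ρ ((z : A) * a)) = c z * LinearMap.trace ℂ _ (ρ a)
  rw [map_mul, hc, smul_mul_assoc, one_mul, map_smul, smul_eq_mul]

theorem lin_eq_of_inner {Z : Type u} [Group Z] [Fintype Z] {lam mu : Z →* ℂˣ} (h : classInner (fun z => (lam z : ℂ)) (fun z => (mu z : ℂ)) ≠ 0) : lam = mu := by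
  have h1 := inner_irr_eq (isIrr_hom lam) (isIrr_hom mu)
  by_contra hne
  rw [h1, if_neg] at h
  · exact h rfl
  · intro h2
    apply hne
    apply MonoidHom.ext
    intro z
    exact Units.ext (congrFun h2 z)

section centralup
variable {Q : Type u} [Group Q] [Fintype Q]

theorem mul_mem_of_top {A H Z : Subgroup Q} (hH : H.Normal) (hHA : H ≤ A) (hZA : Z ≤ A) (hZc : Z ≤ Subgroup.center Q) (h1 : ∀ q : ℕ, q.Prime → q ∣ H.relIndex A → q ∣ Z.relIndex A → False)
    {a : Q} (ha : a ∈ A) : ∃ z ∈ Z, ∃ h ∈ H, z * h = a := by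
  have h2 : (Z.subgroupOf A ⊔ H.subgroupOf A) = ⊤ := by
    rw [← Subgroup.index_eq_one]
    by_contra hne
    obtain ⟨q, hq, hqd⟩ := Nat.exists_prime_and_dvd hne
    exact h1 q hq (hqd.trans (Subgroup.index_dvd_of_le le_sup_right)) (hqd.trans (Subgroup.index_dvd_of_le le_sup_left))
  have h3 : (⟨a, ha⟩ : A) ∈ Z.subgroupOf A ⊔ H.subgroupOf A := by rw [h2]; exact Subgroup.mem_top _
  haveI : (H.subgroupOf A).Normal := hH.subgroupOf A
  obtain ⟨z, hz, h, hh, hzh⟩ := Subgroup.mem_sup_of_normal_right.mp h3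
  exact ⟨z, Subgroup.mem_subgroupOf.mp hz, h, Subgroup.mem_subgroupOf.mp hh, congrArg Subtype.val hzh⟩

theorem central_up (A Z : Subgroup Q) [hA : A.Normal] (hZA : Z ≤ A) (hZc : Z ≤ Subgroup.center Q) (hcop : A.index.Coprime (Z.relIndex A)) (hsolv : Group.IsSolvable (Q ⧸ A))
    (lam : Z →* ℂˣ) : ∃ β : IrrCharacter A, (∀ (z : Z) (a : A), (β : A → ℂ) (⟨z, hZA z.2⟩ * a) = (lam z : ℂ) * (β : A → ℂ) a) ∧
      ∀ (x : Q) (a : A), (β : A → ℂ) ⟨x * a * x⁻¹, hA.conj_mem a a.2 x⟩ = (β : A → ℂ) a := by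
  classical
  haveI : Fintype A := Fintype.ofFinite _
  have hZcA : Z.subgroupOf A ≤ Subgroup.center A := by
    intro z hz
    rw [Subgroup.mem_center_iff]
    intro g
    exact Subtype.ext (Subgroup.mem_center_iff.mp (hZc (Subgroup.mem_subgroupOf.mp hz)) g)
  have hcopc : (Subgroup.center A).index.Coprime A.index := by
    apply Nat.Coprime.symm
    exact hcop.coprime_dvd_right (Subgroup.index_dvd_of_le hZcA)
  obtain ⟨H₀, hchar, hcard, hidx, hcomm⟩ := central_hall A.index hcopc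
  haveI := hchar
  set H : Subgroup Q := H₀.map A.subtype with hHdef
  have hHn : H.Normal := L0.normal_map_subtype_of_characteristic H₀
  have hHA : H ≤ A := Subgroup.map_subtype_le _
  have hHsub : H.subgroupOf A = H₀ := by
    rw [hHdef]
    exact Subgroup.comap_map_eq_self_of_injective A.subtype_injective H₀
  have hcardH : Nat.card H = Nat.card H₀ := Subgroup.card_map_of_injective A.subtype_injective
  have hrel : H.relIndex A = H₀.index := by
    show (H.subgroupOf A).index = _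
    rw [hHsub]
  have hindex : H.relIndex A * A.index = H.index := Subgroup.relIndex_mul_index hHA
  have hprime : ∀ q : ℕ, q.Prime → q ∣ H.index → q ∣ A.index := by
    intro q hq hqd
    rw [← hindex, hq.dvd_mul, hrel] at hqd
    rcases hqd with h | h
    · exact hidx q hq h
    · exact h
  have hcopH : (Nat.card H).Coprime H.index := by
    rw [Nat.coprime_iff_gcd_eq_one]
    by_contra hne
    obtain ⟨q, hq, hqd⟩ := Nat.exists_prime_and_dvd hne
    have h1 := hprime q hq (hqd.trans (Nat.gcd_dvd_right _ _))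
    have h2 : q ∣ Nat.card H₀ := by rw [← hcardH]; exact hqd.trans (Nat.gcd_dvd_left _ _)
    have h3 := Nat.dvd_gcd h2 h1
    rw [hcard] at h3
    exact hq.one_lt.ne' (Nat.dvd_one.mp h3)
  haveI := hHn
  obtain ⟨S, hS⟩ := Subgroup.exists_right_complement'_of_coprime (N := H) hcopH
  have hHS : H ⊓ S = ⊥ := hS.disjoint.eq_bot
  have hHSt : H ⊔ S = ⊤ := hS.sup_eq_top
  have hcardS : Nat.card S = H.index := by
    have h1 := hS.card_mul
    have h2 := H.card_mul_index
    exact Nat.eq_of_mul_eq_mul_left Nat.card_pos (h1.trans h2.symm)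
  have hSsolv : Group.IsSolvable S := by
    haveI := hsolv
    let g : S →* Q ⧸ A := (QuotientGroup.mk' A).comp S.subtype
    have hk : ∀ x y : g.ker, x * y = y * x := by
      intro x y
      have hx : ((x : S) : Q) ∈ A := (QuotientGroup.eq_one_iff _).mp x.2
      have hy : ((y : S) : Q) ∈ A := (QuotientGroup.eq_one_iff _).mp y.2
      have h1 := hcomm ⟨((x : S) : Q), hx⟩ ⟨((y : S) : Q), hy⟩
      have h2 : ((x : S) : Q) * ((y : S) : Q) * ((x : S) : Q)⁻¹ * ((y : S) : Q)⁻¹ ∈ H ⊓ S := by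
        refine ⟨⟨_, h1, rfl⟩, ?_⟩
        exact S.mul_mem (S.mul_mem (S.mul_mem (x : S).2 (y : S).2) (S.inv_mem (x : S).2)) (S.inv_mem (y : S).2)
      rw [hHS, Subgroup.mem_bot] at h2
      apply Subtype.ext
      apply Subtype.ext
      show ((x : S) : Q) * ((y : S) : Q) = ((y : S) : Q) * ((x : S) : Q)
      calc ((x : S) : Q) * ((y : S) : Q) = (((x : S) : Q) * ((y : S) : Q) * ((x : S) : Q)⁻¹ * ((y : S) : Q)⁻¹) * (((y : S) : Q) * ((x : S) : Q)) := by group
        _ = _ := by rw [h2, one_mul]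
    haveI : Group.IsSolvable g.ker := Group.isSolvable_of_comm hk
    exact Group.isSolvable_of_ker_le_range (G' := g.ker) (G'' := Q ⧸ A) g.ker.subtype g (by rw [Subgroup.range_subtype])
  -- the invariant character of H
  set N : Subgroup Q := Z ⊓ H with hNdef
  have hNH : N ≤ H := inf_le_right
  haveI : Fintype N := Fintype.ofFinite _
  haveI : Fintype H := Fintype.ofFinite _
  have hcen : ∀ z ∈ Z, ∀ x : Q, x * z * x⁻¹ = z := by
    intro z hz x
    rw [Subgroup.mem_center_iff.mp (hZc hz) x]; group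
  let lamN : N →* ℂˣ := lam.comp (Subgroup.inclusion inf_le_left)
  have hnS : ∀ s ∈ S, ∀ g ∈ H, s * g * s⁻¹ ∈ H := fun s _ g hg => hHn.conj_mem g hg s
  obtain ⟨μ, hμ, hμN, hμS⟩ := exists_inv_over hSsolv (Nat.card H) H N hNH le_rfl hnS
    (fun g _ n hn => by rw [hcen n hn.1 g]; exact hn) (fun g _ n hn => by rw [hcen n hn.1 g]; exact hn) (by rw [hcardS]; exact hcopH)
    (fun z => (lamN z : ℂ)) (isIrr_hom lamN) (by
      intro s hs g g' hg
      have : g' = g := Subtype.ext (by rw [hg, hcen g g.2.1 s])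
      rw [this])
  have hμQ : ∀ (x : Q) (h h' : H), (h' : Q) = x * h * x⁻¹ → μ h' = μ h := by
    intro x h h' hh'
    have hx : x ∈ H ⊔ S := by rw [hHSt]; exact Subgroup.mem_top x
    obtain ⟨k, hk, s, hs, rfl⟩ := Subgroup.mem_sup_of_normal_left.mp hx
    have h1 : s * h * s⁻¹ ∈ H := hnS s hs h h.2
    have h2 := hμS s hs h ⟨s * h * s⁻¹, h1⟩ rfl
    rw [← h2, ← IsIrr.isClassFunction hμ ⟨s * h * s⁻¹, h1⟩ ⟨k, hk⟩]
    refine congrArg μ (Subtype.ext ?_)
    rw [hh']
    show k * s * h * (k * s)⁻¹ = k * (s * h * s⁻¹) * k⁻¹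
    group
  -- extension to A
  haveI hHn' : (H.subgroupOf A).Normal := hHn.subgroupOf A
  haveI : Fintype (H.subgroupOf A) := Fintype.ofFinite _
  obtain ⟨β₀, hβ₀⟩ := exists_over (H.subgroupOf A) (toSub_irr hHA hμ)
  have hinert : inertia hHn' (toSub μ : H.subgroupOf A → ℂ) = ⊤ := by
    rw [Subgroup.eq_top_iff']
    intro x
    rw [mem_inertia]
    funext h
    rw [conjBy_apply]
    exact hμQ x ⟨h, Subgroup.mem_subgroupOf.mp h.2⟩ _ rfl
  have hres := restrict_of_invariant hHn' (β₀ : A → ℂ) β₀.2 (toSub μ) (toSub_irr hHA hμ) hβ₀ hinert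
  set e := classInner (fun n : H.subgroupOf A => (β₀ : A → ℂ) n) (toSub μ) with he
  have hres' : ∀ (h : Q) (hh : h ∈ H), (β₀ : A → ℂ) ⟨h, hHA hh⟩ = e * μ ⟨h, hh⟩ := by
    intro h hh
    exact congrFun hres ⟨⟨h, hHA hh⟩, Subgroup.mem_subgroupOf.mpr hh⟩
  obtain ⟨lam₁, hlam₁⟩ := central_lin hZcA β₀.2
  let eZ : Z ≃* Z.subgroupOf A := (Subgroup.subgroupOfEquivOfLe hZA).symm
  let lam₀ : Z →* ℂˣ := lam₁.comp eZ.toMonoidHom
  have hlam₀ : ∀ (z : Z) (a : A), (β₀ : A → ℂ) (⟨z, hZA z.2⟩ * a) = (lam₀ z : ℂ) * (β₀ : A → ℂ) a := fun z a => hlam₁ (eZ z) a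
  -- lam₀ = lam on N
  have hNlam : ∀ (z : Q) (hz : z ∈ N), lam₀ ⟨z, hz.1⟩ = lam ⟨z, hz.1⟩ := by
    have h1 : classInner (rs (hNH.trans hHA) (β₀ : A → ℂ)) (fun z => (lamN z : ℂ)) ≠ 0 := by
      apply inner_trans hNH hHA (hNH.trans hHA) (IsIrr.isCharacter β₀.2) hμ (isIrr_hom lamN) ?_ hμN
      have : classInner (rs hHA (β₀ : A → ℂ)) μ = e := by
        rw [he, ← classInner_toSub hHA]; rfl
      rw [this]; exact hβ₀
    let lam₀N : N →* ℂˣ := lam₀.comp (Subgroup.inclusion inf_le_left)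
    have h2 : rs (hNH.trans hHA) (β₀ : A → ℂ) = ((β₀ : A → ℂ) 1) • (fun z => (lam₀N z : ℂ)) := by
      funext z
      have := hlam₀ ⟨z, z.2.1⟩ 1
      rw [mul_one] at this
      rw [Pi.smul_apply, smul_eq_mul, mul_comm]
      exact this
    rw [h2, H5.classInner_smul_left] at h1
    have h3 := lin_eq_of_inner (right_ne_zero_of_mul h1)
    intro z hz
    exact congrArg (fun F : N →* ℂˣ => F ⟨z, hz⟩) h3
  -- nu
  have hdec : ∀ a ∈ A, ∃ z ∈ Z, ∃ h ∈ H, z * h = a := fun a ha => mul_mem_of_top hHn hHA hZA hZc (by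
    intro q hq h1 h2
    rw [hrel] at h1
    have h3 := Nat.dvd_gcd (hidx q hq h1) h2
    rw [hcop] at h3
    exact hq.one_lt.ne' (Nat.dvd_one.mp h3)) ha
  let kap : Z →* ℂˣ := lam * lam₀⁻¹
  have hkap : ∀ z : Z, kap z = lam z * (lam₀ z)⁻¹ := fun z => rfl
  let f : Z →* A ⧸ H.subgroupOf A := (QuotientGroup.mk' (H.subgroupOf A)).comp (Subgroup.inclusion hZA)
  have hf : Function.Surjective f := by
    intro q
    obtain ⟨a, rfl⟩ := QuotientGroup.mk_surjective q
    obtain ⟨z, hz, h, hh, hzh⟩ := hdec a a.2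
    refine ⟨⟨z, hz⟩, ?_⟩
    show (QuotientGroup.mk (⟨z, hZA hz⟩ : A) : A ⧸ H.subgroupOf A) = QuotientGroup.mk a
    rw [QuotientGroup.eq]
    rw [Subgroup.mem_subgroupOf]
    show z⁻¹ * (a : Q) ∈ H
    rw [← hzh]
    simpa using hh
  have hfk : f.ker ≤ kap.ker := by
    intro z hz
    have h0 : (QuotientGroup.mk (Subgroup.inclusion hZA z) : A ⧸ H.subgroupOf A) = 1 := hz
    have h00 := (QuotientGroup.eq_one_iff (Subgroup.inclusion hZA z)).mp h0
    have h1 : (z : Q) ∈ H := by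
      rw [Subgroup.mem_subgroupOf] at h00
      exact h00
    rw [MonoidHom.mem_ker, hkap, hNlam z ⟨z.2, h1⟩, mul_inv_cancel]
  let nub : A ⧸ H.subgroupOf A →* ℂˣ := f.liftOfSurjective hf ⟨kap, hfk⟩
  have hnub : ∀ z : Z, nub (f z) = kap z := fun z => MonoidHom.liftOfRightInverse_comp_apply f _ _ ⟨kap, hfk⟩ z
  let nu : A →* ℂˣ := nub.comp (QuotientGroup.mk' (H.subgroupOf A))
  have hnuH : ∀ (h : Q) (hh : h ∈ H), nu ⟨h, hHA hh⟩ = 1 := by
    intro h hh
    show nub (QuotientGroup.mk _) = 1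
    rw [(QuotientGroup.eq_one_iff _).mpr (Subgroup.mem_subgroupOf.mpr hh), map_one]
  have hnuZ : ∀ z : Z, nu ⟨z, hZA z.2⟩ = kap z := fun z => hnub z
  have hβirr : IsIrrCharacter A (fun a => (β₀ : A → ℂ) a * (nu a : ℂ)) := irr_mul_hom β₀.2 nu
  have hβZ : ∀ (z : Z) (a : A), (β₀ : A → ℂ) (⟨z, hZA z.2⟩ * a) * (nu (⟨z, hZA z.2⟩ * a) : ℂ) = (lam z : ℂ) * ((β₀ : A → ℂ) a * (nu a : ℂ)) := by
    intro z a
    rw [hlam₀, map_mul, hnuZ, hkap]
    push_cast
    have h0 : (lam₀ z : ℂ) ≠ 0 := Units.ne_zero _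
    field_simp
  refine ⟨⟨_, hβirr⟩, hβZ, ?_⟩
  intro x a
  obtain ⟨z, hz, h, hh, hzh⟩ := hdec a a.2
  have ha : a = ⟨z, hZA hz⟩ * ⟨h, hHA hh⟩ := Subtype.ext hzh.symm
  have hxh : x * h * x⁻¹ ∈ H := hHn.conj_mem h hh x
  have hxa : (⟨x * a * x⁻¹, hA.conj_mem a a.2 x⟩ : A) = ⟨z, hZA hz⟩ * ⟨x * h * x⁻¹, hHA hxh⟩ := by
    apply Subtype.ext
    show x * a * x⁻¹ = z * (x * h * x⁻¹)
    rw [← hzh]
    calc x * (z * h) * x⁻¹ = (x * z * x⁻¹) * (x * h * x⁻¹) := by group
      _ = _ := by rw [hcen z hz x]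
  show (β₀ : A → ℂ) _ * (nu _ : ℂ) = (β₀ : A → ℂ) _ * (nu _ : ℂ)
  rw [hxa, ha]
  have k1 := hβZ ⟨z, hz⟩ ⟨x * h * x⁻¹, hHA hxh⟩
  have k2 := hβZ ⟨z, hz⟩ ⟨h, hHA hh⟩
  refine k1.trans (Eq.trans ?_ k2.symm)
  rw [hnuH _ hxh, hnuH _ hh, hres' _ hxh, hres' _ hh, hμQ x ⟨h, hh⟩ ⟨x * h * x⁻¹, hxh⟩ rfl]

end centralup

end Cfsg.Agent.H4
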