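import Cfsg.Agent.H4.Glau1
import Cfsg.Agent.H4.Cliff4

set_option linter.all false
set_option autoImplicit false

/-! The Glauberman correspondence: coset orthogonality and the canonical extension. -/

namespace Cfsg.Agent.H4

open Module
open scoped ComplexConjugate Pointwise

universe u v w

section coset
variable {Γ : Type u} [Group Γ]

theorem irr_mul_hom [Finite Γ] {χ : Γ → ℂ} (hχ : IsIrrCharacter Γ χ) (lam : Γ →* ℂˣ) : IsIrrCharacter Γ (fun g => χ g * (lam g : ℂ)) := by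
  classical
  haveI := Fintype.ofFinite Γ
  have h0 : (fun g => χ g * (lam g : ℂ)) = χ * homFun Γ lam := rfl
  rw [h0, H5.isIrrCharacter_iff_inner]
  refine ⟨IsChar.mul (IsIrr.isCharacter hχ) (homFun_isCharacter lam), ?_⟩
  have h1 : classInner χ χ = 1 := H5.classInner_irr_self ⟨χ, hχ⟩
  rw [← h1]
  unfold classInner
  congr 1
  apply Finset.sum_congr rfl
  intro g _
  rw [Pi.mul_apply, homFun_apply, map_mul]
  have h2 := hom_mul_conj lam g
  calc χ g * (lam g : ℂ) * ((starRingEnd ℂ) (χ g) * (starRingEnd ℂ) (lam g : ℂ))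
      = χ g * (starRingEnd ℂ) (χ g) * ((lam g : ℂ) * (starRingEnd ℂ) (lam g : ℂ)) := by ring
    _ = _ := by rw [h2, mul_one]

theorem coset_orth_aux [Fintype Γ] {N : Subgroup Γ} (hN : N.Normal) (hab : ∀ a b : Γ ⧸ N, a * b = b * a) {f : Γ → ℂ}
    [DecidableEq (Γ ⧸ N)] (y : Γ) (c : ℂ)
    (h : ∀ lam : (Γ ⧸ N) →* ℂˣ, ∑ x : Γ, f x * (lam (QuotientGroup.mk x) : ℂ) = (open Classical in if lam = 1 then c else 0)) :
    (N.index : ℂ) * ∑ x : Γ, (if (QuotientGroup.mk x : Γ ⧸ N) = QuotientGroup.mk y then f x else 0) = c := by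
  classical
  haveI : Fintype ((Γ ⧸ N) →* ℂˣ) := Fintype.ofFinite _
  have hs : ∀ w : Γ ⧸ N, ∑ φ : (Γ ⧸ N) →* ℂˣ, (φ w : ℂ) = if w ∈ (⊥ : Subgroup (Γ ⧸ N)) then (N.index : ℂ) else 0 := by
    intro w
    have h1 := hom_sum hab (⊥ : Subgroup (Γ ⧸ N)) w
    simp only [Subgroup.mem_bot, forall_eq, map_one, Finset.filter_true, Subgroup.index_bot] at h1
    rw [← Subgroup.index_eq_card] at h1
    simp only [Subgroup.mem_bot]
    rw [h1]
  have h1 : ∑ lam : (Γ ⧸ N) →* ℂˣ, (lam (QuotientGroup.mk y⁻¹) : ℂ) * ∑ x : Γ, f x * (lam (QuotientGroup.mk x) : ℂ) = c := by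
    rw [Finset.sum_congr rfl (fun lam _ => by rw [h lam])]
    simp
  rw [← h1, Finset.mul_sum]
  simp only [Finset.mul_sum]
  rw [Finset.sum_comm]
  apply Finset.sum_congr rfl
  intro x _
  have h2 : ∑ lam : (Γ ⧸ N) →* ℂˣ, (lam (QuotientGroup.mk y⁻¹) : ℂ) * (f x * (lam (QuotientGroup.mk x) : ℂ)) =
      f x * ∑ lam : (Γ ⧸ N) →* ℂˣ, (lam (QuotientGroup.mk (y⁻¹ * x)) : ℂ) := by
    rw [Finset.mul_sum]
    apply Finset.sum_congr rfl
    intro lam _
    rw [QuotientGroup.mk_mul, map_mul, Units.val_mul]; ring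
  rw [h2, hs]
  have h3 : ((QuotientGroup.mk (y⁻¹ * x) : Γ ⧸ N) ∈ (⊥ : Subgroup (Γ ⧸ N))) ↔ (QuotientGroup.mk x : Γ ⧸ N) = QuotientGroup.mk y := by
    rw [Subgroup.mem_bot, QuotientGroup.eq_one_iff, eq_comm (a := (QuotientGroup.mk x : Γ ⧸ N)), QuotientGroup.eq]
  by_cases h4 : (QuotientGroup.mk x : Γ ⧸ N) = QuotientGroup.mk y
  · rw [if_pos (h3.mpr h4), if_pos h4]; ring
  · rw [if_neg (fun h => h4 (h3.mp h)), if_neg h4]; ring

/-- coset orthogonality, distinct restrictions. -/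
theorem coset_orth_ne [Fintype Γ] {N : Subgroup Γ} (hN : N.Normal) (hab : ∀ a b : Γ ⧸ N, a * b = b * a) {χ χ' : Γ → ℂ}
    (hχ : IsIrrCharacter Γ χ) (hχ' : IsIrrCharacter Γ χ') (hne : ∃ n ∈ N, χ n ≠ χ' n) [DecidableEq (Γ ⧸ N)] (y : Γ) :
    ∑ x : Γ, (if (QuotientGroup.mk x : Γ ⧸ N) = QuotientGroup.mk y then χ x * conj (χ' x) else 0) = 0 := by
  classical
  have h := coset_orth_aux hN hab (f := fun x => χ x * conj (χ' x)) y 0 (by
    intro lam
    rw [ite_self]
    have h1 : classInner (fun g => χ g * ((lam.comp (QuotientGroup.mk' N)) g : ℂ)) χ' = 0 := by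
      have h0 := inner_irr_eq (irr_mul_hom hχ (lam.comp (QuotientGroup.mk' N))) hχ'
      rw [h0, if_neg]
      intro heq
      obtain ⟨n, hn, hne⟩ := hne
      apply hne
      have := congrFun heq n
      simp only [MonoidHom.comp_apply, QuotientGroup.mk'_apply] at this
      rw [(QuotientGroup.eq_one_iff n).mpr hn, map_one] at this
      simpa using this
    rw [H5.classInner_def] at h1
    have h2 := card_ne_zero' Γ
    have h3 : ∑ g : Γ, χ g * ((lam.comp (QuotientGroup.mk' N)) g : ℂ) * conj (χ' g) = 0 := by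
      rcases mul_eq_zero.mp h1 with h4 | h4
      · exact absurd h4 (inv_ne_zero h2)
      · exact h4
    rw [← h3]
    apply Finset.sum_congr rfl
    intro g _
    simp only [MonoidHom.comp_apply, QuotientGroup.mk'_apply]
    ring)
  rcases mul_eq_zero.mp h with h1 | h1
  · exact absurd h1 (by exact_mod_cast Subgroup.index_ne_zero_of_finite)
  · exact h1

/-- coset orthogonality for one character with irreducible restriction. -/
theorem coset_orth_self [Fintype Γ] {N : Subgroup Γ} (hN : N.Normal) (hab : ∀ a b : Γ ⧸ N, a * b = b * a) {χ : Γ → ℂ}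
    (hχ : IsIrrCharacter Γ χ) (hχN : IsIrrCharacter N (fun n : N => χ n)) [DecidableEq (Γ ⧸ N)] (y : Γ) :
    ∑ x : Γ, (if (QuotientGroup.mk x : Γ ⧸ N) = QuotientGroup.mk y then χ x * conj (χ x) else 0) = Nat.card N := by
  classical
  haveI : Fintype N := Fintype.ofFinite _
  have hinv : inertia hN (fun n : N => χ n) = ⊤ := by
    rw [eq_top_iff]
    intro g _
    rw [mem_inertia]
    exact restrict_conjBy hN g (IsIrr.isClassFunction hχ)
  have h1inv : inertia hN (fun _ : N => (1 : ℂ)) = ⊤ := by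
    rw [eq_top_iff]
    intro g _
    rw [mem_inertia]
    rfl
  have h1irr : IsIrrCharacter N (fun _ => (1 : ℂ)) := H5.isIrrCharacter_trivial
  obtain ⟨m, hm⟩ : ∃ m : IrrCharacter Γ → ℕ, ∀ ψ : IrrCharacter Γ, classInner (indFun N (fun _ : N => (1 : ℂ))) (ψ : Γ → ℂ) = m ψ := by
    have hc : IsCharacter Γ (indFun N (fun _ : N => (1 : ℂ))) := IsChar.induce N _ isCharacter_one
    exact ⟨_, (IsChar.exists_mult hc).choose_spec.1⟩
  have hcore := (gallagher_core hN (fun _ => (1 : ℂ)) (fun n : N => χ n) h1irr hχN h1inv hinv (by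
    have : (fun _ : N => (1 : ℂ)) * (fun n : N => χ n) = fun n : N => χ n := by funext n; simp
    rw [this]; exact hχN) χ hχ (fun n => rfl) m hm).2
  have hlam : ∀ lam : (Γ ⧸ N) →* ℂˣ, m ⟨_, isIrr_hom (lam.comp (QuotientGroup.mk' N))⟩ ≠ 0 := by
    intro lam h0
    have h1 := hm ⟨_, isIrr_hom (lam.comp (QuotientGroup.mk' N))⟩
    rw [h0, frobenius_reciprocity N _ _ (IsIrr.isClassFunction (isIrr_hom _))] at h1
    have h2 : (fun h : N => ((lam.comp (QuotientGroup.mk' N)) (h : Γ) : ℂ)) = fun _ => 1 := by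
      funext n
      simp only [MonoidHom.comp_apply, QuotientGroup.mk'_apply]
      rw [(QuotientGroup.eq_one_iff (n : Γ)).mpr n.2, map_one]; simp
    have h3 : classInner (fun _ : N => (1 : ℂ)) (fun h : N => ((lam.comp (QuotientGroup.mk' N)) (h : Γ) : ℂ)) = 0 := by
      simpa using h1
    rw [h2] at h3
    have h4 := H5.classInner_irr_self ⟨_, h1irr⟩
    rw [h3] at h4
    exact zero_ne_one h4
  have h := coset_orth_aux hN hab (f := fun x => χ x * conj (χ x)) y (Nat.card Γ) (by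
    intro lam
    have h1 := hcore ⟨_, isIrr_hom (lam.comp (QuotientGroup.mk' N))⟩ ⟨_, isIrr_hom (((1 : (Γ ⧸ N) →* ℂˣ)).comp (QuotientGroup.mk' N))⟩ (hlam lam) (hlam 1)
    rw [H5.classInner_def] at h1
    have h2 := card_ne_zero' Γ
    have h3 : ∑ x : Γ, χ x * conj (χ x) * (lam (QuotientGroup.mk x) : ℂ) = ∑ g : Γ, (((fun g : Γ => ((lam.comp (QuotientGroup.mk' N)) g : ℂ)) * χ) g *
        conj (((fun g : Γ => (((1 : (Γ ⧸ N) →* ℂˣ).comp (QuotientGroup.mk' N)) g : ℂ)) * χ) g)) := by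
      apply Finset.sum_congr rfl
      intro g _
      simp only [Pi.mul_apply, MonoidHom.comp_apply, QuotientGroup.mk'_apply, MonoidHom.one_apply, Units.val_one, one_mul]
      ring
    rw [h3]
    have h4 : (⟨_, isIrr_hom (lam.comp (QuotientGroup.mk' N))⟩ : IrrCharacter Γ) = ⟨_, isIrr_hom (((1 : (Γ ⧸ N) →* ℂˣ)).comp (QuotientGroup.mk' N))⟩ ↔ lam = 1 := by
      constructor
      · intro h
        have h5 := congrArg Subtype.val h
        apply MonoidHom.ext
        intro w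
        obtain ⟨x, rfl⟩ := QuotientGroup.mk_surjective w
        apply Units.ext
        exact congrFun h5 x
      · rintro rfl; rfl
    simp only [h4] at h1
    split_ifs with h5
    · rw [if_pos h5] at h1
      field_simp at h1
      exact h1
    · rw [if_neg h5] at h1
      rcases mul_eq_zero.mp h1 with h6 | h6
      · exact absurd h6 (inv_ne_zero h2)
      · exact h6)
  have h7 : (N.index : ℂ) * Nat.card N = Nat.card Γ := by
    rw [← N.index_mul_card]; push_cast; rfl
  rw [← h7] at h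
  exact mul_left_cancel₀ (by exact_mod_cast Subgroup.index_ne_zero_of_finite) h

end coset

end Cfsg.Agent.H4
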