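import Cfsg.Agent.H4.Glau2
import Cfsg.Agent.H5.Gal
import Cfsg.Agent.H5.IntLoc

set_option linter.all false
set_option autoImplicit false

/-! The Glauberman correspondence: cyclic operator groups. -/

namespace Cfsg.Agent.H4

open Module
open scoped ComplexConjugate Pointwise

universe u v w

section cyc
variable {Γ : Type u} [Group Γ] [Fintype Γ] {G S : Subgroup Γ}

theorem glau_normal (hnorm : ∀ s ∈ S, ∀ g ∈ G, s * g * s⁻¹ ∈ G) (htop : G ⊔ S = ⊤) : G.Normal := by
  rw [← Subgroup.normalizer_eq_top_iff, eq_top_iff, ← htop]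
  exact sup_le Subgroup.le_normalizer (le_norm_of_conj hnorm)

theorem glau_inf (hcop : (Nat.card G).Coprime (Nat.card S)) : G ⊓ S = ⊥ := L0.inf_eq_bot_of_coprime' hcop

theorem glau_decomp (hnorm : ∀ s ∈ S, ∀ g ∈ G, s * g * s⁻¹ ∈ G) (htop : G ⊔ S = ⊤) (x : Γ) : ∃ g ∈ G, ∃ s ∈ S, g * s = x := by
  haveI := glau_normal hnorm htop
  have : x ∈ G ⊔ S := by rw [htop]; trivial
  exact Subgroup.mem_sup_of_normal_left.mp this

theorem glau_index (hnorm : ∀ s ∈ S, ∀ g ∈ G, s * g * s⁻¹ ∈ G) (hcop : (Nat.card G).Coprime (Nat.card S)) (htop : G ⊔ S = ⊤) :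
    G.index = Nat.card S := by
  haveI := glau_normal hnorm htop
  have h1 : Subgroup.IsComplement' G S := by
    apply Subgroup.isComplement'_of_disjoint_and_mul_eq_univ
    · rw [disjoint_iff]; exact glau_inf hcop
    · rw [Set.eq_univ_iff_forall]
      intro x
      obtain ⟨g, hg, s, hs, h⟩ := glau_decomp hnorm htop x
      exact ⟨g, hg, s, hs, h⟩
  exact h1.symm.index_eq_card

theorem glau_comm (hnorm : ∀ s ∈ S, ∀ g ∈ G, s * g * s⁻¹ ∈ G) (htop : G ⊔ S = ⊤) (hcyc : IsCyclic S) [hG : G.Normal] (a b : Γ ⧸ G) : a * b = b * a := by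
  obtain ⟨x, rfl⟩ := QuotientGroup.mk_surjective a
  obtain ⟨y, rfl⟩ := QuotientGroup.mk_surjective b
  obtain ⟨g, hg, s, hs, rfl⟩ := glau_decomp hnorm htop x
  obtain ⟨g', hg', s', hs', rfl⟩ := glau_decomp hnorm htop y
  have h1 : s * s' = s' * s := by
    letI := hcyc.commGroup
    exact congrArg Subtype.val (mul_comm (⟨s, hs⟩ : S) ⟨s', hs'⟩)
  rw [QuotientGroup.mk_mul, QuotientGroup.mk_mul, (QuotientGroup.eq_one_iff g).mpr hg, (QuotientGroup.eq_one_iff g').mpr hg', one_mul, one_mul,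
    ← QuotientGroup.mk_mul, ← QuotientGroup.mk_mul, h1]

theorem inv_all (hnorm : ∀ s ∈ S, ∀ g ∈ G, s * g * s⁻¹ ∈ G) (htop : G ⊔ S = ⊤) (hG : G.Normal) {χ : G → ℂ} (hcl : IsClassFunction G χ)
    (hinv : Inv S G χ) (x : Γ) (g : G) : χ ⟨x * g * x⁻¹, hG.conj_mem g g.2 x⟩ = χ g := by
  obtain ⟨a, ha, s, hs, rfl⟩ := glau_decomp hnorm htop x
  have h1 := hinv s hs g ⟨s * g * s⁻¹, hnorm s hs g g.2⟩ rfl
  rw [← h1, ← hcl ⟨s * g * s⁻¹, hnorm s hs g g.2⟩ ⟨a, ha⟩]
  congr 1
  apply Subtype.ext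
  show a * s * g * (a * s)⁻¹ = a * (s * g * s⁻¹) * a⁻¹
  group

theorem charDeg_eq {H : Type v} [Group H] {χ : H → ℂ} (h : IsCharacter H χ) : χ 1 = (charDegree χ : ℂ) := IsChar.one_eq h

theorem det_trivial_iff (hnorm : ∀ s ∈ S, ∀ g ∈ G, s * g * s⁻¹ ∈ G) (hcop : (Nat.card G).Coprime (Nat.card S)) (htop : G ⊔ S = ⊤)
    {χ : Γ → ℂ} (hχ : IsCharacter Γ χ) : (detOrder χ).Coprime (Nat.card S) ↔ ∀ s ∈ S, detChar χ s = 1 := by
  obtain ⟨lam, hlam⟩ := detChar_hom hχ
  unfold detOrder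
  rw [hlam, orderOf_homFun]
  have hS : ∀ s ∈ S, (lam s) ^ Nat.card S = 1 := by
    intro s hs
    rw [← map_pow]
    have : s ^ Nat.card S = 1 := by
      have := congrArg Subtype.val (pow_card_eq_one' (x := (⟨s, hs⟩ : S)))
      exact this
    rw [this, map_one]
  constructor
  · intro h s hs
    rw [homFun_apply]
    have h1 : (lam s) ^ orderOf lam = 1 := by
      rw [← hom_pow_apply, pow_orderOf_eq_one, hom_one_apply]
    have h2 : orderOf (lam s) = 1 := Nat.Coprime.eq_one_of_dvd (h.coprime_dvd_left (orderOf_dvd_of_pow_eq_one h1)) (orderOf_dvd_of_pow_eq_one (hS s hs))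
    rw [orderOf_eq_one_iff.mp h2]; rfl
  · intro h
    have h1 : lam ^ Nat.card G = 1 := by
      apply MonoidHom.ext
      intro x
      obtain ⟨g, hg, s, hs, rfl⟩ := glau_decomp hnorm htop x
      have h2 : lam s = 1 := by
        apply Units.ext
        have := h s hs
        rw [homFun_apply] at this
        exact this
      rw [hom_pow_apply, map_mul, h2, mul_one, ← map_pow]
      have : g ^ Nat.card G = 1 := congrArg Subtype.val (pow_card_eq_one' (x := (⟨g, hg⟩ : G)))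
      rw [this, map_one, hom_one_apply]
    exact hcop.coprime_dvd_left (orderOf_dvd_of_pow_eq_one h1)

theorem detChar_comp {H K : Type v} [Group H] [Group K] [Finite H] [Finite K] {χ : H → ℂ} (hχ : IsCharacter H χ) (f : K →* H) :
    detChar (fun x => χ (f x)) = fun x => detChar χ (f x) := by
  obtain ⟨n, ρ, rfl⟩ := hχ
  rw [detChar_eq ρ]
  have h1 : (fun x => ρ.character (f x)) = Representation.character (ρ.comp f : Representation ℂ K (Fin n → ℂ)) := rfl
  rw [h1, detChar_eq]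
  rfl

/-- the canonical extension exists. -/
theorem canon_exists (hnorm : ∀ s ∈ S, ∀ g ∈ G, s * g * s⁻¹ ∈ G) (hcop : (Nat.card G).Coprime (Nat.card S)) (htop : G ⊔ S = ⊤)
    (χ : G → ℂ) (hχ : IsIrrCharacter G χ) (hinv : Inv S G χ) : ∃ χh : Γ → ℂ, IsIrrCharacter Γ χh ∧ (∀ g : G, χh g = χ g) ∧ (detOrder χh).Coprime (Nat.card S) ∧
      ∀ χ' : Γ → ℂ, IsIrrCharacter Γ χ' → (∀ g : G, χ' g = χ g) → (detOrder χ').Coprime (Nat.card S) → χ' = χh := by
  haveI hG := glau_normal hnorm htop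
  have hidx := glau_index hnorm hcop htop
  have hd := IsIrr.degree_dvd hχ
  obtain ⟨lam, hlam⟩ := detChar_hom (IsIrr.isCharacter hχ)
  have hdet : detOrder χ ∣ Nat.card G := by
    unfold detOrder
    rw [hlam, orderOf_homFun]
    exact orderOf_dvd_of_pow_eq_one (hom_finite_order lam)
  have hcop' : Nat.Coprime G.index (detOrder χ * charDegree χ) := by
    rw [hidx]
    exact (Nat.Coprime.mul_right (hcop.symm.coprime_dvd_right hdet) (hcop.symm.coprime_dvd_right hd))
  obtain ⟨χh, ⟨h1, h2, h3⟩, h4⟩ := Cfsg.Agent.S0867.result G χ hχ (fun x g => inv_all hnorm htop hG (IsIrr.isClassFunction hχ) hinv x g)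
    (charDegree χ) (charDeg_eq (IsIrr.isCharacter hχ)) hcop'
  refine ⟨χh, h1, h2, ?_, fun χ' h5 h6 h7 => h4 χ' h5 h6 (by rw [hidx]; exact h7.symm)⟩
  rw [h3]
  exact hcop.coprime_dvd_left hdet

/-- Galois invariance of the canonical extension. -/
theorem canon_gal (hnorm : ∀ s ∈ S, ∀ g ∈ G, s * g * s⁻¹ ∈ G) (hcop : (Nat.card G).Coprime (Nat.card S)) (htop : G ⊔ S = ⊤) (hcyc : IsCyclic S)
    (χ : G → ℂ) (hχ : IsIrrCharacter G χ) (hinv : Inv S G χ) (χh : Γ → ℂ) (hχh : IsIrrCharacter Γ χh) (hext : ∀ g : G, χh g = χ g)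
    (hdet : (detOrder χh).Coprime (Nat.card S)) (k : ℕ) (hk1 : k ≡ 1 [MOD Nat.card G]) (hk2 : k.Coprime (Nat.card S)) (x : Γ) : χh (x ^ k) = χh x := by
  obtain ⟨χ₀, h1, h2, h3, h4⟩ := canon_exists hnorm hcop htop χ hχ hinv
  have hkG : k.Coprime (Nat.card G) := by
    have := hk1.gcd_eq
    rw [Nat.coprime_iff_gcd_eq_one, this]; simp
  have hcard : Nat.card Γ = Nat.card S * Nat.card G := by
    rw [← glau_index hnorm hcop htop, Subgroup.index_mul_card]
  have hkΓ : k.Coprime (Nat.card Γ) := by rw [hcard]; exact Nat.Coprime.mul_right hk2 hkG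
  have h5 := h4 χh hχh hext hdet
  have hirr := H5.isIrr_pow hkΓ hχh
  have h6 := h4 (fun g => χh (g ^ k)) hirr (by
    intro g
    rw [← hext g]
    have h7 : (g : Γ) ^ k = g := by
      have h8 : (g : G) ^ k = g := by
        have h9 : g ^ k = g ^ 1 := pow_eq_pow_iff_modEq.mpr (hk1.of_dvd (orderOf_dvd_natCard g))
        rw [h9, pow_one]
      have := congrArg Subtype.val h8
      exact this
    show χh ((g : Γ) ^ k) = χh g
    rw [h7]) (by
    rw [det_trivial_iff hnorm hcop htop (IsIrr.isCharacter hirr)]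
    intro s hs
    have hd := (det_trivial_iff hnorm hcop htop (IsIrr.isCharacter hχh)).mp hdet
    letI := hcyc.commGroup
    -- the power map on S
    let f : S →* S := powMonoidHom k
    have e1 := detChar_restrict (N := S) (IsIrr.isCharacter hirr) ⟨s, hs⟩
    have e2 := detChar_restrict (N := S) (IsIrr.isCharacter hχh) (f ⟨s, hs⟩)
    have e3 := detChar_comp (IsChar.restrict S (IsIrr.isCharacter hχh)) f
    have e4 : (fun n : S => (fun g => χh (g ^ k)) (n : Γ)) = fun x : S => (fun n : S => χh n) (f x) := by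
      funext n
      show χh ((n : Γ) ^ k) = χh ((n ^ k : S) : Γ)
      rfl
    rw [e4, e3] at e1
    have e5 : detChar (fun g => χh (g ^ k)) ((⟨s, hs⟩ : S) : Γ) = detChar χh ((f ⟨s, hs⟩ : S) : Γ) := by
      rw [← e1, ← e2]
    have e6 : detChar (fun g => χh (g ^ k)) s = detChar χh (s ^ k) := e5
    rw [e6]
    exact hd _ (S.pow_mem hs k))
  have := congrFun (h6.trans h5.symm) x
  exact this

/-- the multiplicity function on `S` is a character of `S`. -/
theorem mult_char (C : Subgroup Γ) [Fintype C] (S : Subgroup Γ) (hcyc : IsCyclic S) (hCS : ∀ c ∈ C, ∀ s ∈ S, c * s = s * c) (χh : Γ → ℂ) (hχh : IsCharacter Γ χh)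
    (γ : C → ℂ) (hγ : IsCharacter C γ) [Fintype (S →* ℂˣ)] : ∃ a : (S →* ℂˣ) → ℕ, ∀ t : S, (Nat.card C : ℂ)⁻¹ * ∑ c : C, χh ((c : Γ) * t) * conj (γ c) = ∑ lam : S →* ℂˣ, (a lam : ℂ) * (lam t : ℂ) := by
  classical
  haveI : Fintype S := Fintype.ofFinite S
  let φ : C × S →* Γ :=
    { toFun := fun x => (x.1 : Γ) * (x.2 : Γ)
      map_one' := by simp
      map_mul' := by
        intro x y
        show ((x.1 * y.1 : C) : Γ) * ((x.2 * y.2 : S) : Γ) = (x.1 : Γ) * x.2 * ((y.1 : Γ) * y.2)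
        rw [Subgroup.coe_mul, Subgroup.coe_mul]
        have := hCS y.1 y.1.2 x.2 x.2.2
        calc (x.1 : Γ) * y.1 * (x.2 * y.2) = (x.1 : Γ) * (y.1 * x.2) * y.2 := by group
          _ = (x.1 : Γ) * (x.2 * y.1) * y.2 := by rw [this]
          _ = _ := by group }
  have hΨ : IsCharacter (C × S) (fun x => χh (φ x)) := IsChar.comp φ hχh
  have hγl : ∀ lam : S →* ℂˣ, IsCharacter (C × S) ((fun x => γ ((MonoidHom.fst C S) x)) * (fun x => homFun S lam ((MonoidHom.snd C S) x))) := by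
    intro lam
    exact IsChar.mul (IsChar.comp (MonoidHom.fst C S) hγ) (IsChar.comp (MonoidHom.snd C S) (homFun_isCharacter lam))
  have ha : ∀ lam : S →* ℂˣ, ∃ n : ℕ, classInner (fun x => χh (φ x)) ((fun x => γ ((MonoidHom.fst C S) x)) * (fun x => homFun S lam ((MonoidHom.snd C S) x))) = n :=
    fun lam => inner_char_nat hΨ (hγl lam)
  choose a ha using ha
  refine ⟨a, ?_⟩
  intro t
  have hcomm : ∀ x y : S, x * y = y * x := by
    letI := hcyc.commGroup
    exact mul_comm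
  have hs : ∀ w : S, ∑ φ : S →* ℂˣ, (φ w : ℂ) = if w = 1 then (Nat.card S : ℂ) else 0 := by
    intro w
    have h1 := hom_sum hcomm (⊥ : Subgroup S) w
    simp only [Subgroup.mem_bot, forall_eq, map_one, Finset.filter_true, Subgroup.index_bot] at h1
    exact h1
  have hform : ∀ lam : S →* ℂˣ, (a lam : ℂ) = (Nat.card C : ℂ)⁻¹ * (Nat.card S : ℂ)⁻¹ * ∑ c : C, ∑ u : S, χh ((c : Γ) * u) * conj (γ c) * (lam u⁻¹ : ℂ) := by
    intro lam
    rw [← ha, H5.classInner_def, Nat.card_prod, Fintype.sum_prod_type]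
    push_cast
    rw [mul_inv]
    congr 1
    apply Finset.sum_congr rfl
    intro c _
    apply Finset.sum_congr rfl
    intro u _
    have h1 : conj ((lam u : ℂˣ) : ℂ) = (lam u⁻¹ : ℂ) := by
      rw [hom_conj, map_inv]; simp
    show χh ((c : Γ) * u) * conj (γ c * (homFun S lam u)) = _
    rw [map_mul, homFun_apply, h1]; ring
  have hC0 := card_ne_zero' C
  have hS0 := card_ne_zero' S
  have h2 : ∑ lam : S →* ℂˣ, (a lam : ℂ) * (lam t : ℂ) = (Nat.card C : ℂ)⁻¹ * (Nat.card S : ℂ)⁻¹ * ∑ c : C, ∑ u : S, χh ((c : Γ) * u) * conj (γ c) * ∑ lam : S →* ℂˣ, (lam (u⁻¹ * t) : ℂ) := by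
    have h3 : ∀ lam : S →* ℂˣ, (a lam : ℂ) * (lam t : ℂ) = (Nat.card C : ℂ)⁻¹ * (Nat.card S : ℂ)⁻¹ * ∑ c : C, ∑ u : S, χh ((c : Γ) * u) * conj (γ c) * (lam (u⁻¹ * t) : ℂ) := by
      intro lam
      rw [hform lam, mul_assoc, Finset.sum_mul]
      congr 1
      apply Finset.sum_congr rfl
      intro c _
      rw [Finset.sum_mul]
      apply Finset.sum_congr rfl
      intro u _
      rw [map_mul, Units.val_mul]; ring
    rw [Finset.sum_congr rfl (fun lam _ => h3 lam), ← Finset.mul_sum, Finset.sum_comm]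
    congr 1
    apply Finset.sum_congr rfl
    intro c _
    rw [Finset.sum_comm]
    apply Finset.sum_congr rfl
    intro u _
    rw [Finset.mul_sum]
  rw [h2]
  have h4 : ∀ c : C, ∑ u : S, χh ((c : Γ) * u) * conj (γ c) * ∑ lam : S →* ℂˣ, (lam (u⁻¹ * t) : ℂ) = χh ((c : Γ) * t) * conj (γ c) * Nat.card S := by
    intro c
    rw [Finset.sum_eq_single t]
    · rw [hs, if_pos (by simp)]
    · intro u _ hu
      rw [hs, if_neg (fun h => hu (by
        have := inv_mul_eq_one.mp h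
        exact this)), mul_zero]
    · intro h; exact absurd (Finset.mem_univ _) h
  rw [Finset.sum_congr rfl (fun c _ => h4 c), ← Finset.sum_mul]
  field_simp

end cyc

end Cfsg.Agent.H4
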