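import Cfsg.Agent.H4.Glau3
import Cfsg.Agent.H4.Coh2
import Cfsg.Agent.H4.Odd1

set_option linter.all false
set_option autoImplicit false

/-! The Glauberman correspondence for cyclic operator groups. -/

namespace Cfsg.Agent.H4

open Module
open scoped ComplexConjugate Pointwise

universe u v w

section cyc
variable {Γ : Type u} [Group Γ] [Fintype Γ] {G S : Subgroup Γ}

theorem pow_card_mem {H : Subgroup Γ} {x : Γ} (hx : x ∈ H) : x ^ Nat.card H = 1 :=
  congrArg Subtype.val (pow_card_eq_one' (x := (⟨x, hx⟩ : H)))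

theorem coset_sum (hnorm : ∀ s ∈ S, ∀ g ∈ G, s * g * s⁻¹ ∈ G) (hcop : (Nat.card G).Coprime (Nat.card S)) (htop : G ⊔ S = ⊤) (hG : G.Normal)
    {C : Subgroup Γ} [Fintype C] (hC : C = G ⊓ Subgroup.centralizer (S : Set Γ)) {s : Γ} (hs : Subgroup.zpowers s = S)
    (f : Γ → ℂ) (hf : ∀ x y, f (y * x * y⁻¹) = f x) [DecidableEq (Γ ⧸ G)] :
    (Nat.card C : ℂ) * ∑ x : Γ, (if (QuotientGroup.mk x : Γ ⧸ G) = QuotientGroup.mk s then f x else 0) = (Nat.card G : ℂ) * ∑ c : C, f ((c : Γ) * s) := by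
  classical
  have hCG : C ≤ G := by rw [hC]; exact inf_le_left
  have hmC : ∀ x, x ∈ C ↔ x ∈ G ∧ ∀ s ∈ S, s * x * s⁻¹ = x := fun x => by rw [hC, Subgroup.mem_inf, mem_cent_iff']
  have hsS : s ∈ S := by rw [← hs]; exact Subgroup.mem_zpowers s
  have hCs : ∀ c ∈ C, c * s = s * c := by
    intro c hc
    have := ((hmC c).mp hc).2 s hsS
    calc c * s = (s * c * s⁻¹) * s := by rw [this]
      _ = s * c := by group
  have hmemC : ∀ u ∈ G, u * s * u⁻¹ = s → u ∈ C := by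
    intro u hu h
    rw [hC, Subgroup.mem_inf]
    refine ⟨hu, ?_⟩
    rw [Subgroup.mem_centralizer_iff]
    intro t ht
    have ht' : t ∈ Subgroup.zpowers s := by rw [hs]; exact ht
    obtain ⟨k, rfl⟩ := Subgroup.mem_zpowers_iff.mp ht'
    have hc : Commute u s := by
      show u * s = s * u
      calc u * s = (u * s * u⁻¹) * u := by group
        _ = s * u := by rw [h]
    exact ((hc.zpow_right k).eq).symm
  haveI : Fintype (G ⧸ C.subgroupOf G) := Fintype.ofFinite _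
  obtain ⟨m, hm1, hm2⟩ := exists_exp hcop
  -- m ≡ 1 mod |S|, m ≡ 0 mod |G|
  have hspow : ∀ c ∈ C, (c * s) ^ m = s := by
    intro c hc
    have h1 : Commute c s := hCs c hc
    rw [h1.mul_pow]
    have h2 : c ^ m = 1 := by
      have h3 : c ^ m = c ^ 0 := pow_eq_pow_iff_modEq.mpr (hm2.of_dvd (Subgroup.orderOf_dvd_natCard G (hCG hc)))
      rw [h3, pow_zero]
    have h4 : s ^ m = s := by
      have h5 : s ^ m = s ^ 1 := pow_eq_pow_iff_modEq.mpr (hm1.of_dvd (Subgroup.orderOf_dvd_natCard S hsS))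
      rw [h5, pow_one]
    rw [h2, h4, one_mul]
  have hmks : ∀ x : Γ, (QuotientGroup.mk x : Γ ⧸ G) = QuotientGroup.mk s ↔ x * s⁻¹ ∈ G := by
    intro x
    rw [eq_comm, QuotientGroup.eq]
    constructor
    · intro h
      have := hG.conj_mem _ h s
      convert this using 1; group
    · intro h
      have := hG.conj_mem _ h s⁻¹
      convert this using 1; group
  let F : (G ⧸ C.subgroupOf G) × C → {x : Γ // (QuotientGroup.mk x : Γ ⧸ G) = QuotientGroup.mk s} := fun w =>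
    ⟨(w.1.out : Γ) * ((w.2 : Γ) * s) * (w.1.out : Γ)⁻¹, by
      rw [hmks]
      have e1 : (w.1.out : Γ) * ((w.2 : Γ) * s) * (w.1.out : Γ)⁻¹ * s⁻¹ = (w.1.out : Γ) * (w.2 : Γ) * (s * (w.1.out : Γ)⁻¹ * s⁻¹) := by group
      rw [e1]
      exact G.mul_mem (G.mul_mem w.1.out.2 (hCG w.2.2)) (hnorm s hsS _ (G.inv_mem w.1.out.2))⟩
  have hFinj : Function.Injective F := by
    rintro ⟨q, c⟩ ⟨q', c'⟩ h
    have h1 : (q.out : Γ) * ((c : Γ) * s) * (q.out : Γ)⁻¹ = (q'.out : Γ) * ((c' : Γ) * s) * (q'.out : Γ)⁻¹ := congrArg Subtype.val h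
    set u : Γ := (q'.out : Γ)⁻¹ * (q.out : Γ) with hu
    have huG : u ∈ G := G.mul_mem (G.inv_mem q'.out.2) q.out.2
    have h2 : u * ((c : Γ) * s) * u⁻¹ = (c' : Γ) * s := by
      calc u * ((c : Γ) * s) * u⁻¹ = (q'.out : Γ)⁻¹ * ((q.out : Γ) * ((c : Γ) * s) * (q.out : Γ)⁻¹) * q'.out := by rw [hu]; group
        _ = _ := by rw [h1]; group
    have h3 : u * s * u⁻¹ = s := by
      have h4 : (u * ((c : Γ) * s) * u⁻¹) ^ m = ((c' : Γ) * s) ^ m := by rw [h2]
      rw [conj_pow, hspow c c.2, hspow c' c'.2] at h4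
      exact h4
    have huC : u ∈ C := hmemC u huG h3
    have hq : q = q' := by
      rw [← QuotientGroup.out_eq' q, ← QuotientGroup.out_eq' q']
      symm
      rw [QuotientGroup.eq]
      exact huC
    subst hq
    have hu1 : u = 1 := by rw [hu]; group
    rw [hu1] at h2
    have h5 : (c : Γ) = c' := by
      have : (c : Γ) * s = c' * s := by rw [← h2]; group
      exact mul_right_cancel this
    rw [Subtype.ext h5]
  have hcardX : Fintype.card {x : Γ // (QuotientGroup.mk x : Γ ⧸ G) = QuotientGroup.mk s} = Nat.card G := by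
    rw [← Nat.card_eq_fintype_card]
    apply Nat.card_congr
    exact
      { toFun := fun x => ⟨x.1 * s⁻¹, (hmks _).mp x.2⟩
        invFun := fun g => ⟨g * s, by rw [hmks]; simpa using g.2⟩
        left_inv := fun x => Subtype.ext (by show x.1 * s⁻¹ * s = x.1; group)
        right_inv := fun g => Subtype.ext (by show (g : Γ) * s * s⁻¹ = g; group) }
  have hcard : (C.subgroupOf G).index * Nat.card C = Nat.card G := by
    rw [← card_subgroupOf_of_le hCG]
    exact Subgroup.index_mul_card _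
  have hFbij : Function.Bijective F := by
    rw [Fintype.bijective_iff_injective_and_card]
    refine ⟨hFinj, ?_⟩
    rw [hcardX, Fintype.card_prod, ← Nat.card_eq_fintype_card, ← Nat.card_eq_fintype_card, ← hcard]
    rfl
  have h1 : ∑ x : Γ, (if (QuotientGroup.mk x : Γ ⧸ G) = QuotientGroup.mk s then f x else 0) = ∑ x : {x : Γ // (QuotientGroup.mk x : Γ ⧸ G) = QuotientGroup.mk s}, f x := by
    rw [← Finset.sum_filter]
    apply Finset.sum_subtype
    intro x; simp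
  rw [h1, ← hFbij.sum_comp (fun x => f x), Fintype.sum_prod_type]
  have h2 : ∀ q : G ⧸ C.subgroupOf G, ∑ c : C, f (F (q, c) : Γ) = ∑ c : C, f ((c : Γ) * s) := by
    intro q
    apply Finset.sum_congr rfl
    intro c _
    exact hf _ _
  rw [Finset.sum_congr rfl (fun q _ => h2 q), Finset.sum_const, Finset.card_univ, nsmul_eq_mul, ← Nat.card_eq_fintype_card, ← mul_assoc]
  congr 1
  rw [← hcard]
  push_cast
  rw [mul_comm]
  rfl

theorem canon_gen (hnorm : ∀ s ∈ S, ∀ g ∈ G, s * g * s⁻¹ ∈ G) (hcop : (Nat.card G).Coprime (Nat.card S)) (htop : G ⊔ S = ⊤) (hcyc : IsCyclic S)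
    (χ : G → ℂ) (hχ : IsIrrCharacter G χ) (hinv : Inv S G χ) (χh : Γ → ℂ) (hχh : IsIrrCharacter Γ χh) (hext : ∀ g : G, χh g = χ g)
    (hdet : (detOrder χh).Coprime (Nat.card S)) {c s : Γ} (hc : c ∈ G) (hsS : s ∈ S) (hcs : c * s = s * c) (j : ℕ) (hj : j.Coprime (Nat.card S)) :
    χh (c * s ^ j) = χh (c * s) := by
  obtain ⟨k, hk1, hk2⟩ := Nat.chineseRemainder hcop 1 j
  have hkS : k.Coprime (Nat.card S) := by
    rw [Nat.coprime_iff_gcd_eq_one, hk2.gcd_eq]; exact hj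
  rw [← canon_gal hnorm hcop htop hcyc χ hχ hinv χh hχh hext hdet k hk1 hkS (c * s)]
  congr 1
  have h1 : Commute c s := hcs
  rw [h1.mul_pow]
  have h2 : c ^ k = c := by
    have h3 : c ^ k = c ^ 1 := pow_eq_pow_iff_modEq.mpr (hk1.of_dvd (Subgroup.orderOf_dvd_natCard G hc))
    rw [h3, pow_one]
  have h4 : s ^ k = s ^ j := pow_eq_pow_iff_modEq.mpr (hk2.of_dvd (Subgroup.orderOf_dvd_natCard S hsS))
  rw [h2, h4]

/-- the main theorem for cyclic operator groups. -/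
theorem cyc_main (hnorm : ∀ s ∈ S, ∀ g ∈ G, s * g * s⁻¹ ∈ G) (hcop : (Nat.card G).Coprime (Nat.card S)) (htop : G ⊔ S = ⊤) (hcyc : IsCyclic S)
    {C : Subgroup Γ} [Fintype C] (hC : C = G ⊓ Subgroup.centralizer (S : Set Γ)) (hCG : C ≤ G) {s : Γ} (hs : Subgroup.zpowers s = S)
    (χ : G → ℂ) (hχ : IsIrrCharacter G χ) (hinv : Inv S G χ) (χh : Γ → ℂ) (hχh : IsIrrCharacter Γ χh) (hext : ∀ g : G, χh g = χ g)
    (hdet : (detOrder χh).Coprime (Nat.card S)) : ∃ (β : IrrCharacter C) (ε : ℤ), (ε = 1 ∨ ε = -1) ∧ (∀ c : C, χh ((c : Γ) * s) = (ε : ℂ) * (β : C → ℂ) c) ∧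
      ∀ γ : IrrCharacter C, ∃ a : (S →* ℂˣ) → ℕ, classInner (fun c : C => χ ⟨c, hCG c.2⟩) (γ : C → ℂ) = ∑ᶠ lam : S →* ℂˣ, (a lam : ℂ) ∧
        (open Classical in (ε : ℂ) * (if γ = β then 1 else 0)) = ∑ᶠ lam : S →* ℂˣ, (a lam : ℂ) * (lam ⟨s, by rw [← hs]; exact Subgroup.mem_zpowers s⟩ : ℂ) := by
  classical
  haveI : Fintype (S →* ℂˣ) := Fintype.ofFinite _
  haveI : Fintype G := Fintype.ofFinite _
  have hG := glau_normal hnorm htop
  haveI := hG
  have hmC : ∀ x, x ∈ C ↔ x ∈ G ∧ ∀ s ∈ S, s * x * s⁻¹ = x := fun x => by rw [hC, Subgroup.mem_inf, mem_cent_iff']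
  have hsS : s ∈ S := by rw [← hs]; exact Subgroup.mem_zpowers s
  have hCS : ∀ c ∈ C, ∀ t ∈ S, c * t = t * c := by
    intro c hc t ht
    have := ((hmC c).mp hc).2 t ht
    calc c * t = (t * c * t⁻¹) * t := by rw [this]
      _ = t * c := by group
  have hab := glau_comm hnorm htop hcyc
  set β' : C → ℂ := fun c => χh ((c : Γ) * s) with hβ'
  have hcl : ∀ x y, χh (y * x * y⁻¹) = χh x := fun x y => IsIrr.isClassFunction hχh x y
  have hβcl : IsClassFunction C β' := by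
    intro c d
    show χh (((d * c * d⁻¹ : C) : Γ) * s) = χh ((c : Γ) * s)
    rw [← hcl ((c : Γ) * s) d]
    congr 1
    have h1 := hCS d d.2 s hsS
    have h2 : s * (d : Γ)⁻¹ = (d : Γ)⁻¹ * s := (hCS _ (C.inv_mem d.2) s hsS).symm
    show (d : Γ) * c * (d : Γ)⁻¹ * s = d * (c * s) * (d : Γ)⁻¹
    rw [mul_assoc, ← h2]; group
  -- multiplicities
  have hmult : ∀ γ : IrrCharacter C, ∃ a : (S →* ℂˣ) → ℕ, ∀ t : S, (Nat.card C : ℂ)⁻¹ * ∑ c : C, χh ((c : Γ) * t) * conj ((γ : C → ℂ) c) = ∑ lam : S →* ℂˣ, (a lam : ℂ) * (lam t : ℂ) :=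
    fun γ => mult_char C S hcyc hCS χh (IsIrr.isCharacter hχh) γ (IsIrr.isCharacter γ.2)
  choose a ha using hmult
  have hres : ∀ γ : IrrCharacter C, classInner (fun c : C => χ ⟨c, hCG c.2⟩) (γ : C → ℂ) = ∑ lam : S →* ℂˣ, (a γ lam : ℂ) := by
    intro γ
    have h1 := ha γ 1
    simp only [map_one, Units.val_one, mul_one, OneMemClass.coe_one] at h1
    rw [← h1, H5.classInner_def]
    congr 1
    apply Finset.sum_congr rfl
    intro c _
    rw [← hext ⟨c, hCG c.2⟩]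
  have hbs : ∀ γ : IrrCharacter C, classInner β' (γ : C → ℂ) = ∑ lam : S →* ℂˣ, (a γ lam : ℂ) * (lam ⟨s, hsS⟩ : ℂ) := fun γ => ha γ ⟨s, hsS⟩
  have hcardΓ : Nat.card Γ = Nat.card S * Nat.card G := by
    rw [← glau_index hnorm hcop htop, Subgroup.index_mul_card]
  -- integrality
  have hint : ∀ γ : IrrCharacter C, ∃ n : ℤ, classInner β' (γ : C → ℂ) = n := by
    intro γ
    have hn0 : Nat.card Γ ≠ 0 := Nat.card_pos.ne'
    have hroot : ∀ lam : S →* ℂˣ, (lam ⟨s, hsS⟩ : ℂ) ^ Nat.card Γ = 1 := by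
      intro lam
      rw [hcardΓ, pow_mul, ← Units.val_pow_eq_pow_val, ← map_pow, pow_card_eq_one', map_one, Units.val_one, one_pow]
    have hmem : classInner β' (γ : C → ℂ) ∈ IntermediateField.adjoin ℚ ({w : ℂ | w ^ Nat.card Γ = 1} : Set ℂ) := by
      rw [hbs γ]
      apply Subring.sum_mem (IntermediateField.adjoin ℚ ({w : ℂ | w ^ Nat.card Γ = 1} : Set ℂ)).toSubring
      intro lam _
      apply Subring.mul_mem
      · exact natCast_mem _ _
      · exact IntermediateField.subset_adjoin ℚ _ (hroot lam)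
    obtain ⟨q, hq⟩ := H5.rational_of_fixed hn0 hmem (by
      intro k τ hk hτ
      have h1 : τ (classInner β' (γ : C → ℂ)) = ∑ lam : S →* ℂˣ, (a γ lam : ℂ) * (lam (⟨s, hsS⟩ ^ k) : ℂ) := by
        rw [hbs γ, map_sum]
        apply Finset.sum_congr rfl
        intro lam _
        rw [map_mul, map_natCast, hτ _ (hroot lam), map_pow, Units.val_pow_eq_pow_val]
      rw [h1, ← ha γ (⟨s, hsS⟩ ^ k), H5.classInner_def]
      congr 1
      apply Finset.sum_congr rfl
      intro c _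
      congr 1
      have hkS : k.Coprime (Nat.card S) := hk.coprime_dvd_right (by rw [hcardΓ]; exact dvd_mul_right _ _)
      show χh ((c : Γ) * ((⟨s, hsS⟩ ^ k : S) : Γ)) = χh ((c : Γ) * s)
      rw [SubmonoidClass.coe_pow]
      exact canon_gen hnorm hcop htop hcyc χ hχ hinv χh hχh hext hdet (hCG c.2) hsS (hCS c c.2 s hsS) k hkS)
    have hinteg : IsIntegral ℤ (classInner β' (γ : C → ℂ)) := by
      rw [hbs γ]
      apply IsIntegral.sum
      intro lam _
      apply IsIntegral.mul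
      · exact isIntegral_algebraMap (R := ℤ) (x := (a γ lam : ℤ)) |> fun h => by simpa using h
      · exact IsIntegral.of_pow (n := Nat.card Γ) Nat.card_pos (by rw [hroot lam]; exact isIntegral_one)
    exact H5.int_of_isIntegral_rat hinteg hq
  choose b hb using hint
  -- norm one
  have hnorm1 : classInner β' β' = 1 := by
    have h1 := coset_sum hnorm hcop htop hG hC hs (fun x => χh x * conj (χh x)) (fun x y => by rw [hcl])
    have hχN : IsIrrCharacter G (fun n : G => χh n) := by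
      have : (fun n : G => χh n) = χ := by funext g; exact hext g
      rw [this]; exact hχ
    rw [coset_orth_self hG hab hχh hχN s] at h1
    have h2 := card_ne_zero' C
    have h3 := card_ne_zero' G
    have h4 : ∑ c : C, χh ((c : Γ) * s) * conj (χh ((c : Γ) * s)) = Nat.card C := by
      have h5 : (Nat.card G : ℂ) * ∑ c : C, χh ((c : Γ) * s) * conj (χh ((c : Γ) * s)) = (Nat.card G : ℂ) * Nat.card C := by rw [← h1]; ring
      exact mul_left_cancel₀ h3 h5
    rw [H5.classInner_def]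
    show (Nat.card C : ℂ)⁻¹ * ∑ c : C, χh ((c : Γ) * s) * conj (χh ((c : Γ) * s)) = 1
    rw [h4, inv_mul_cancel₀ h2]
  have hgen : IsGeneralizedCharacter C β' := by
    rw [H5.classFun_expansion hβcl]
    have h1 : ∀ γ : IrrCharacter C, classInner β' (γ : C → ℂ) • (γ : C → ℂ) = b γ • (γ : C → ℂ) := fun γ => by rw [hb, zs_eq]
    rw [Finset.sum_congr rfl (fun γ _ => h1 γ)]
    apply gen_of_zspan (S := Set.range (fun γ : IrrCharacter C => (γ : C → ℂ)))
    · rintro _ ⟨γ, rfl⟩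
      exact ⟨γ, 0, IsIrr.isCharacter γ.2, isCharacter_zero, by simp⟩
    · exact zspan_sum _ _ (fun γ _ => zspan_smul _ (zspan_mem ⟨γ, rfl⟩))
  have key : ∀ (β : IrrCharacter C) (ε : ℤ), (ε = 1 ∨ ε = -1) → (β' = (ε : ℂ) • (β : C → ℂ)) → ∃ (β : IrrCharacter C) (ε : ℤ), (ε = 1 ∨ ε = -1) ∧ (∀ c : C, χh ((c : Γ) * s) = (ε : ℂ) * (β : C → ℂ) c) ∧
      ∀ γ : IrrCharacter C, ∃ a : (S →* ℂˣ) → ℕ, classInner (fun c : C => χ ⟨c, hCG c.2⟩) (γ : C → ℂ) = ∑ᶠ lam : S →* ℂˣ, (a lam : ℂ) ∧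
        (ε : ℂ) * (if γ = β then 1 else 0) = ∑ᶠ lam : S →* ℂˣ, (a lam : ℂ) * (lam ⟨s, hsS⟩ : ℂ) := by
    intro β ε hε hβε
    refine ⟨β, ε, hε, fun c => ?_, fun γ => ⟨a γ, ?_, ?_⟩⟩
    · have := congrFun hβε c
      rw [Pi.smul_apply, smul_eq_mul] at this
      exact this
    · rw [hres γ, finsum_eq_sum_of_fintype]
    · rw [finsum_eq_sum_of_fintype, ← hbs γ, hβε, H5.classInner_smul_left]
      congr 1
      rw [inner_irr_eq β.2 γ.2]
      by_cases h : γ = β
      · rw [if_pos h, if_pos (by rw [h])]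
      · rw [if_neg h, if_neg (fun h' => h (Subtype.ext h'.symm))]
  rcases gen_norm_one hgen hnorm1 with h | h
  · exact key ⟨β', h⟩ 1 (Or.inl rfl) (by simp)
  · exact key ⟨-β', h⟩ (-1) (Or.inr rfl) (by simp)

end cyc

end Cfsg.Agent.H4
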