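import Cfsg.Agent.H4.Glau4
import Cfsg.Agent.H4.Misc3

set_option linter.all false
set_option autoImplicit false

/-! The Glauberman correspondence for cyclic operator groups: the bijection. -/

namespace Cfsg.Agent.H4

open Module
open scoped ComplexConjugate Pointwise

universe u v w

section cyc
variable {Γ : Type u} [Group Γ] [Fintype Γ] {G S : Subgroup Γ}

theorem exists_gen (hcyc : IsCyclic S) : ∃ s, Subgroup.zpowers s = S := by
  obtain ⟨⟨s, hsS⟩, hs⟩ := hcyc.exists_generator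
  refine ⟨s, ?_⟩
  apply le_antisymm
  · rw [Subgroup.zpowers_le]; exact hsS
  · intro x hx
    obtain ⟨k, hk⟩ := Subgroup.mem_zpowers_iff.mp (hs ⟨x, hx⟩)
    exact Subgroup.mem_zpowers_iff.mpr ⟨k, congrArg Subtype.val hk⟩

theorem gen_pow {s s' : Γ} (hs : Subgroup.zpowers s = S) (hs' : Subgroup.zpowers s' = S) : ∃ j : ℕ, j.Coprime (Nat.card S) ∧ s' = s ^ j := by
  have h1 : s' ∈ Subgroup.zpowers s := by rw [hs, ← hs']; exact Subgroup.mem_zpowers s'
  rw [← mem_powers_iff_mem_zpowers] at h1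
  obtain ⟨j, hj⟩ := h1
  have hj' : s ^ j = s' := hj
  refine ⟨j, ?_, hj'.symm⟩
  have h2 : orderOf s = Nat.card S := by rw [← Nat.card_zpowers, hs]
  have h3 : orderOf s' = Nat.card S := by rw [← Nat.card_zpowers, hs']
  have h4 := orderOf_pow (n := j) s
  rw [hj', h3, h2] at h4
  have h5 : 0 < Nat.card S := Nat.card_pos
  have h6 : (Nat.card S).gcd j = 1 := by
    have h7 : (Nat.card S).gcd j ∣ Nat.card S := Nat.gcd_dvd_left _ _
    obtain ⟨q, hq⟩ := h7
    set d := (Nat.card S).gcd j with hd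
    have h8 : Nat.card S / d = q := by
      rw [hq]; exact Nat.mul_div_cancel_left q (Nat.pos_of_ne_zero (fun h => by rw [h, zero_mul] at hq; omega))
    rw [h8] at h4
    rw [h4] at hq
    have h9 : 0 < q := by omega
    have h10 : d * q = 1 * q := by omega
    exact Nat.eq_of_mul_eq_mul_right h9 h10
  rw [Nat.coprime_iff_gcd_eq_one, Nat.gcd_comm]; exact h6

theorem cyc_inj (hnorm : ∀ s ∈ S, ∀ g ∈ G, s * g * s⁻¹ ∈ G) (hcop : (Nat.card G).Coprime (Nat.card S)) (htop : G ⊔ S = ⊤) (hcyc : IsCyclic S)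
    {C : Subgroup Γ} [Fintype C] (hC : C = G ⊓ Subgroup.centralizer (S : Set Γ)) {s : Γ} (hs : Subgroup.zpowers s = S)
    (χh χh' : Γ → ℂ) (hχh : IsIrrCharacter Γ χh) (hχh' : IsIrrCharacter Γ χh')
    (β : C → ℂ) (hβ : IsIrrCharacter C β) (ε ε' : ℂ) (hε : ε ≠ 0) (hε' : ε' ≠ 0) (h : ∀ c : C, χh ((c : Γ) * s) = ε * β c) (h' : ∀ c : C, χh' ((c : Γ) * s) = ε' * β c) :
    ∀ g ∈ G, χh g = χh' g := by
  classical
  by_contra hcon
  push Not at hcon
  have hG := glau_normal hnorm htop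
  haveI := hG
  have hab := glau_comm hnorm htop hcyc
  have h1 := coset_sum hnorm hcop htop hG hC hs (fun x => χh x * conj (χh' x)) (fun x y => by rw [IsIrr.isClassFunction hχh x y, IsIrr.isClassFunction hχh' x y])
  rw [coset_orth_ne hG hab hχh hχh' hcon s, mul_zero] at h1
  have h2 : ∑ c : C, χh ((c : Γ) * s) * conj (χh' ((c : Γ) * s)) = ε * conj ε' * (Nat.card C * classInner β β) := by
    rw [H5.classInner_def, ← mul_assoc (Nat.card C : ℂ), mul_inv_cancel₀ (card_ne_zero' C), one_mul, Finset.mul_sum]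
    apply Finset.sum_congr rfl
    intro c _
    rw [h c, h' c, map_mul]; ring
  have h3 : classInner β β = 1 := by rw [inner_irr_eq hβ hβ, if_pos rfl]
  rw [h2, h3] at h1
  have h4 : (Nat.card G : ℂ) * (ε * conj ε' * (Nat.card C * 1)) ≠ 0 := by
    apply mul_ne_zero (card_ne_zero' G)
    apply mul_ne_zero (mul_ne_zero hε ((map_ne_zero _).mpr hε'))
    rw [mul_one]; exact card_ne_zero' C
  exact h4 h1.symm

theorem cyc_surj (hnorm : ∀ s ∈ S, ∀ g ∈ G, s * g * s⁻¹ ∈ G) (hcop : (Nat.card G).Coprime (Nat.card S)) (htop : G ⊔ S = ⊤) (hcyc : IsCyclic S)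
    {C : Subgroup Γ} [Fintype C] (hC : C = G ⊓ Subgroup.centralizer (S : Set Γ)) (hCG : C ≤ G) {s : Γ} (hs : Subgroup.zpowers s = S) (β : IrrCharacter C) :
    ∃ (χ : IrrCharacter G) (χh : Γ → ℂ) (ε : ℤ), Inv S G (χ : G → ℂ) ∧ IsIrrCharacter Γ χh ∧ (∀ g : G, χh g = (χ : G → ℂ) g) ∧ (detOrder χh).Coprime (Nat.card S) ∧
      (ε = 1 ∨ ε = -1) ∧ ∀ c : C, χh ((c : Γ) * s) = (ε : ℂ) * (β : C → ℂ) c := by
  classical
  have h1 : ∀ χ : {χ : IrrCharacter G // Inv S G (χ : G → ℂ)}, ∃ (β : IrrCharacter C) (χh : Γ → ℂ) (ε : ℤ), IsIrrCharacter Γ χh ∧ (∀ g : G, χh g = (χ.1 : G → ℂ) g) ∧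
      (detOrder χh).Coprime (Nat.card S) ∧ (ε = 1 ∨ ε = -1) ∧ ∀ c : C, χh ((c : Γ) * s) = (ε : ℂ) * (β : C → ℂ) c := by
    intro χ
    obtain ⟨χh, h1, h2, h3, _⟩ := canon_exists hnorm hcop htop χ.1 χ.1.2 χ.2
    obtain ⟨β, ε, h4, h5, _⟩ := cyc_main hnorm hcop htop hcyc hC hCG hs χ.1 χ.1.2 χ.2 χh h1 h2 h3
    exact ⟨β, χh, ε, h1, h2, h3, h4, h5⟩
  choose Φ χh ε hh using h1
  have hinj : Function.Injective Φ := by
    intro χ χ' h
    obtain ⟨a1, a2, a3, a4, a5⟩ := hh χ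
    obtain ⟨b1, b2, b3, b4, b5⟩ := hh χ'
    rw [← h] at b5
    have := cyc_inj hnorm hcop htop hcyc hC hs (χh χ) (χh χ') a1 b1 (Φ χ) (Φ χ).2 (ε χ) (ε χ')
      (by rcases a4 with h | h <;> rw [h] <;> norm_num) (by rcases b4 with h | h <;> rw [h] <;> norm_num) a5 b5
    apply Subtype.ext
    apply Subtype.ext
    funext g
    rw [← a2, ← b2]
    exact this g g.2
  haveI : Finite {χ : IrrCharacter G // Inv S G (χ : G → ℂ)} := Subtype.finite
  haveI : Fintype {χ : IrrCharacter G // Inv S G (χ : G → ℂ)} := Fintype.ofFinite _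
  have hcard : Nat.card {χ : IrrCharacter G // Inv S G (χ : G → ℂ)} = Nat.card (IrrCharacter C) := by
    have hsolv : Group.IsSolvable S := by
      letI := hcyc.commGroup
      infer_instance
    rw [card_inv_irr_cyclic hnorm hcyc, card_inv_classes hnorm hcop (Or.inl hsolv) C hC, H5.card_irr_eq_card_conjClasses]
  have hbij : Function.Bijective Φ := by
    rw [Fintype.bijective_iff_injective_and_card]
    refine ⟨hinj, ?_⟩
    rw [← Nat.card_eq_fintype_card, ← Nat.card_eq_fintype_card]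
    exact hcard
  obtain ⟨χ, rfl⟩ := hbij.2 β
  obtain ⟨a1, a2, a3, a4, a5⟩ := hh χ
  exact ⟨χ.1, χh χ, ε χ, χ.2, a1, a2, a3, a4, a5⟩

end cyc

end Cfsg.Agent.H4
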