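import Cfsg.Agent.H4.Glau5
import Cfsg.Agent.H1.Basic

set_option linter.all false
set_option autoImplicit false

/-! The Glauberman correspondence for `p`-groups of operators. -/

namespace Cfsg.Agent.H4

open Module
open scoped ComplexConjugate Pointwise

universe u v w

section cj
variable {Γ : Type u} [Group Γ]

theorem norm_mem {H : Subgroup Γ} {s : Γ} (hs : s ∈ Subgroup.normalizer (H : Set Γ)) {h : Γ} (hh : h ∈ H) : s * h * s⁻¹ ∈ H :=
  (Subgroup.mem_normalizer_iff.mp hs h).mp hh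

theorem norm_mem' {H : Subgroup Γ} {s : Γ} (hs : s ∈ Subgroup.normalizer (H : Set Γ)) {h : Γ} (hh : h ∈ H) : s⁻¹ * h * s ∈ H := by
  have := norm_mem (Subgroup.inv_mem _ hs) hh
  rwa [inv_inv] at this

/-- conjugation of functions on a subgroup -/
def cj {H : Subgroup Γ} {s : Γ} (hs : s ∈ Subgroup.normalizer (H : Set Γ)) (χ : H → ℂ) : H → ℂ := fun h => χ ⟨s * h * s⁻¹, norm_mem hs h.2⟩

/-- conjugation as an automorphism -/
def cjE {H : Subgroup Γ} {s : Γ} (hs : s ∈ Subgroup.normalizer (H : Set Γ)) : H ≃* H where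
  toFun h := ⟨s * h * s⁻¹, norm_mem hs h.2⟩
  invFun h := ⟨s⁻¹ * h * s, norm_mem' hs h.2⟩
  left_inv h := Subtype.ext (by show s⁻¹ * (s * h * s⁻¹) * s = h; group)
  right_inv h := Subtype.ext (by show s * (s⁻¹ * h * s) * s⁻¹ = h; group)
  map_mul' a b := Subtype.ext (by show s * (a * b) * s⁻¹ = (s * a * s⁻¹) * (s * b * s⁻¹); group)

theorem cj_eq {H : Subgroup Γ} {s : Γ} (hs : s ∈ Subgroup.normalizer (H : Set Γ)) (χ : H → ℂ) : cj hs χ = χ ∘ cjE hs := rfl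

theorem cj_irr {H : Subgroup Γ} {s : Γ} (hs : s ∈ Subgroup.normalizer (H : Set Γ)) {χ : H → ℂ} (hχ : IsIrrCharacter H χ) : IsIrrCharacter H (cj hs χ) :=
  IsIrr.comp_aut hχ (cjE hs)

theorem cj_inner {H : Subgroup Γ} [Fintype H] {s : Γ} (hs : s ∈ Subgroup.normalizer (H : Set Γ)) (χ ψ : H → ℂ) : classInner (cj hs χ) (cj hs ψ) = classInner χ ψ := by
  unfold classInner
  congr 1
  exact Equiv.sum_comp (cjE hs).toEquiv (fun h => χ h * conj (ψ h))

theorem cj_inv {H : Subgroup Γ} {s : Γ} (hs : s ∈ Subgroup.normalizer (H : Set Γ)) (χ : H → ℂ) : cj hs (cj (Subgroup.inv_mem _ hs) χ) = χ := by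
  funext h
  show χ _ = χ h
  congr 1
  apply Subtype.ext
  show s⁻¹ * (s * h * s⁻¹) * s⁻¹⁻¹ = h
  group

theorem inv_iff_cj {S G : Subgroup Γ} (hn : ∀ s ∈ S, s ∈ Subgroup.normalizer (G : Set Γ)) (χ : G → ℂ) : Inv S G χ ↔ ∀ s (hs : s ∈ S), cj (hn s hs) χ = χ := by
  constructor
  · intro h s hs
    funext g
    exact h s hs g _ rfl
  · intro h s hs g g' hg
    have h1 := congrFun (h s hs) g
    rw [← h1]
    show χ g' = χ _
    congr 1
    exact Subtype.ext hg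

theorem inv_sup {S T G : Subgroup Γ} (hS : ∀ s ∈ S, s ∈ Subgroup.normalizer (G : Set Γ)) (hT : ∀ s ∈ T, s ∈ Subgroup.normalizer (G : Set Γ)) {χ : G → ℂ}
    (h1 : Inv S G χ) (h2 : Inv T G χ) : Inv (S ⊔ T) G χ := by
  -- the stabilizer is a subgroup
  let M : Subgroup Γ :=
    { carrier := {s | s ∈ Subgroup.normalizer (G : Set Γ) ∧ ∀ g g' : G, (g' : Γ) = s * g * s⁻¹ → χ g' = χ g}
      one_mem' := ⟨Subgroup.one_mem _, fun g g' h => by rw [show g' = g from Subtype.ext (by rw [h]; simp)]⟩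
      mul_mem' := by
        rintro a b ⟨ha, ha'⟩ ⟨hb, hb'⟩
        refine ⟨Subgroup.mul_mem _ ha hb, fun g g' h => ?_⟩
        rw [ha' ⟨b * g * b⁻¹, norm_mem hb g.2⟩ g' (by rw [h]; group), hb' g _ rfl]
      inv_mem' := by
        rintro a ⟨ha, ha'⟩
        refine ⟨Subgroup.inv_mem _ ha, fun g g' h => ?_⟩
        exact (ha' g' g (by rw [h]; group)).symm }
  have hSM : S ≤ M := fun s hs => ⟨hS s hs, fun g g' h => h1 s hs g g' h⟩
  have hTM : T ≤ M := fun s hs => ⟨hT s hs, fun g g' h => h2 s hs g g' h⟩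
  intro s hs g g' h
  exact ((sup_le hSM hTM) hs).2 g g' h

end cj

section corr
variable {Γ : Type u} [Group Γ]

/-- restriction to a smaller subgroup -/
def rs {C G : Subgroup Γ} (hCG : C ≤ G) (χ : G → ℂ) : C → ℂ := fun c => χ ⟨c, hCG c.2⟩

theorem rs_char {C G : Subgroup Γ} (hCG : C ≤ G) {χ : G → ℂ} (h : IsCharacter G χ) : IsCharacter C (rs hCG χ) :=
  IsChar.comp (Subgroup.inclusion hCG) h

/-- `β` corresponds to `χ`. -/
def Corr (p : ℕ) {C G : Subgroup Γ} [Fintype C] (hCG : C ≤ G) (χ : G → ℂ) (β : C → ℂ) : Prop :=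
  IsIrrCharacter C β ∧ ∀ γ : C → ℂ, IsIrrCharacter C γ → ∃ m : ℕ, classInner (rs hCG χ) γ = m ∧
    (γ = β → ((m : ℤ) ≡ 1 [ZMOD p] ∨ (m : ℤ) ≡ -1 [ZMOD p])) ∧ (γ ≠ β → p ∣ m)

/-- the Glauberman correspondence. -/
def GP (p : ℕ) {C G : Subgroup Γ} [Fintype C] (S : Subgroup Γ) (hCG : C ≤ G) : Prop :=
  (∀ χ : G → ℂ, IsIrrCharacter G χ → Inv S G χ → ∃ β, Corr p hCG χ β) ∧
  (∀ χ χ' : G → ℂ, IsIrrCharacter G χ → IsIrrCharacter G χ' → Inv S G χ → Inv S G χ' → ∀ β, Corr p hCG χ β → Corr p hCG χ' β → χ = χ') ∧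
  (∀ β : C → ℂ, IsIrrCharacter C β → ∃ χ : G → ℂ, IsIrrCharacter G χ ∧ Inv S G χ ∧ Corr p hCG χ β)

theorem pm_not_dvd {p : ℕ} (hp : p.Prime) {m : ℕ} (h : ((m : ℤ) ≡ 1 [ZMOD p] ∨ (m : ℤ) ≡ -1 [ZMOD p])) : ¬ p ∣ m := by
  intro hd
  have hd' : (p : ℤ) ∣ m := by exact_mod_cast hd
  have h1 : (p : ℤ) ∣ 1 := by
    rcases h with h | h
    · have := (Int.modEq_iff_dvd.mp h)
      have h2 := dvd_add this hd'
      simpa using h2
    · have := (Int.modEq_iff_dvd.mp h)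
      have h2 := dvd_add this hd'
      simpa using h2
  have h3 : (p : ℤ) ≤ 1 := Int.le_of_dvd one_pos h1
  have := hp.one_lt
  omega

variable {C G : Subgroup Γ} [Fintype C]

theorem corr_irr_iff {p : ℕ} (hp : p.Prime) {hCG : C ≤ G} {χ : G → ℂ} {β : C → ℂ} (h : Corr p hCG χ β) {γ : C → ℂ} (hγ : IsIrrCharacter C γ) {m : ℕ}
    (hm : classInner (rs hCG χ) γ = m) : ¬ p ∣ m ↔ γ = β := by
  obtain ⟨m', hm', h1, h2⟩ := h.2 γ hγ
  have : m = m' := by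
    rw [hm] at hm'
    exact_mod_cast hm'
  subst this
  constructor
  · intro h3
    by_contra hne
    exact h3 (h2 hne)
  · intro h3
    exact pm_not_dvd hp (h1 h3)

theorem corr_unique {p : ℕ} (hp : p.Prime) {hCG : C ≤ G} {χ : G → ℂ} {β β' : C → ℂ} (h : Corr p hCG χ β) (h' : Corr p hCG χ β') : β = β' := by
  obtain ⟨m, hm, h1, _⟩ := h.2 β h.1
  have h2 := pm_not_dvd hp (h1 rfl)
  exact (corr_irr_iff hp h' h.1 hm).mp h2

theorem corr_cj {p : ℕ} {hCG : C ≤ G} {χ : G → ℂ} {β : C → ℂ} (h : Corr p hCG χ β) {s : Γ} (hsG : s ∈ Subgroup.normalizer (G : Set Γ))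
    (hsC : s ∈ Subgroup.normalizer (C : Set Γ)) : Corr p hCG (cj hsG χ) (cj hsC β) := by
  refine ⟨cj_irr hsC h.1, ?_⟩
  intro γ hγ
  obtain ⟨m, hm, h1, h2⟩ := h.2 (cj (Subgroup.inv_mem _ hsC) γ) (cj_irr _ hγ)
  refine ⟨m, ?_, ?_, ?_⟩
  · have h5 := cj_inner hsC (rs hCG χ) (cj (Subgroup.inv_mem _ hsC) γ)
    rw [cj_inv] at h5
    rw [← hm, ← h5]
    rfl
  · intro h3
    apply h1
    rw [h3]
    funext c
    show β _ = β c
    congr 1
    apply Subtype.ext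
    show s * (s⁻¹ * c * s⁻¹⁻¹) * s⁻¹ = c
    group
  · intro h3
    apply h2
    intro h4
    apply h3
    rw [← h4, cj_inv]

/-- composition of correspondences -/
theorem corr_comp {p : ℕ} (hp : p.Prime) {D : Subgroup Γ} [Fintype D] {hDG : D ≤ G} {hCD : C ≤ D} (hCG : C ≤ G) {χ : G → ℂ} (hχ : IsCharacter G χ) {β₁ : D → ℂ} {β : C → ℂ}
    (h1 : Corr p hDG χ β₁) (h2 : Corr p hCD β₁ β) : Corr p hCG χ β := by
  classical
  refine ⟨h2.1, ?_⟩
  intro γ hγ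
  -- expansion of the restriction to D
  have hm : ∀ δ : IrrCharacter D, ∃ m : ℕ, classInner (rs hDG χ) (δ : D → ℂ) = m := fun δ => inner_char_nat (rs_char hDG hχ) (IsIrr.isCharacter δ.2)
  have hn : ∀ δ : IrrCharacter D, ∃ m : ℕ, classInner (rs hCD (δ : D → ℂ)) γ = m := fun δ => inner_char_nat (rs_char hCD (IsIrr.isCharacter δ.2)) (IsIrr.isCharacter hγ)
  choose m hm using hm
  choose n hn using hn
  have hexp : rs hCG χ = ∑ δ : IrrCharacter D, (m δ : ℂ) • rs hCD (δ : D → ℂ) := by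
    funext c
    have h3 := H5.classFun_expansion_apply (IsChar.isClassFunction (rs_char hDG hχ)) ⟨c, hCD c.2⟩
    show χ ⟨c, _⟩ = _
    have h4 : rs hDG χ ⟨c, hCD c.2⟩ = χ ⟨c, hCG c.2⟩ := rfl
    rw [← h4, h3, Finset.sum_apply]
    apply Finset.sum_congr rfl
    intro δ _
    rw [hm, Pi.smul_apply, smul_eq_mul]; rfl
  have hsum : classInner (rs hCG χ) γ = ((∑ δ : IrrCharacter D, m δ * n δ : ℕ) : ℂ) := by
    rw [hexp, H5.classInner_sum_left]
    push_cast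
    apply Finset.sum_congr rfl
    intro δ _
    rw [H5.classInner_smul_left, hn]
  obtain ⟨m₁, hm₁, hm₁', _⟩ := h1.2 β₁ h1.1
  obtain ⟨n₁, hn₁, hn₁', hn₁''⟩ := h2.2 γ hγ
  have e1 : m ⟨β₁, h1.1⟩ = m₁ := by
    have := hm ⟨β₁, h1.1⟩
    rw [hm₁] at this
    exact_mod_cast this.symm
  have e2 : n ⟨β₁, h1.1⟩ = n₁ := by
    have := hn ⟨β₁, h1.1⟩
    rw [hn₁] at this
    exact_mod_cast this.symm
  have hcong : ((∑ δ : IrrCharacter D, m δ * n δ : ℕ) : ℤ) ≡ (m₁ : ℤ) * n₁ [ZMOD p] := by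
    rw [← Finset.add_sum_erase Finset.univ _ (Finset.mem_univ (⟨β₁, h1.1⟩ : IrrCharacter D)), e1, e2]
    push_cast
    have h5 : (p : ℤ) ∣ ∑ δ ∈ Finset.univ.erase (⟨β₁, h1.1⟩ : IrrCharacter D), (m δ : ℤ) * (n δ : ℤ) := by
      apply Finset.dvd_sum
      intro δ hδ
      have h6 : (δ : D → ℂ) ≠ β₁ := fun h => (Finset.ne_of_mem_erase hδ) (Subtype.ext h)
      obtain ⟨m', hm', _, h7⟩ := h1.2 δ δ.2
      have h8 : m δ = m' := by
        have := hm δ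
        rw [hm'] at this
        exact_mod_cast this.symm
      have h9 : (p : ℤ) ∣ m δ := by rw [h8]; exact_mod_cast h7 h6
      exact h9.mul_right _
    have h6 : (m₁ : ℤ) * n₁ + ∑ δ ∈ Finset.univ.erase (⟨β₁, h1.1⟩ : IrrCharacter D), (m δ : ℤ) * (n δ : ℤ) ≡ (m₁ : ℤ) * n₁ + 0 [ZMOD p] :=
      Int.ModEq.add_left _ ((Int.modEq_zero_iff_dvd).mpr h5)
    rwa [add_zero] at h6
  refine ⟨_, hsum, ?_, ?_⟩
  · intro h3
    have a1 := hm₁' rfl
    have a2 := hn₁' h3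
    rcases a1 with a1 | a1 <;> rcases a2 with a2 | a2
    · left; simpa using hcong.trans (a1.mul a2)
    · right; simpa using hcong.trans (a1.mul a2)
    · right; simpa using hcong.trans (a1.mul a2)
    · left; simpa using hcong.trans (a1.mul a2)
  · intro h3
    have a2 := hn₁'' h3
    have h4 : (p : ℤ) ∣ (m₁ : ℤ) * n₁ := (by exact_mod_cast a2 : (p : ℤ) ∣ n₁).mul_left _
    have h5 := (Int.modEq_zero_iff_dvd.mp (hcong.trans (Int.modEq_zero_iff_dvd.mpr h4)))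
    exact_mod_cast h5

end corr

end Cfsg.Agent.H4
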