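import Cfsg.Agent.H4.Glau6
import Cfsg.Agent.H5.Prin3
import Cfsg.Agent.H5.Loc

set_option linter.all false
set_option autoImplicit false

/-! The Glauberman correspondence for `p`-groups of operators. -/

namespace Cfsg.Agent.H4

open Module
open scoped ComplexConjugate Pointwise

universe u v w

section cycp
variable {Γ : Type u} [Group Γ] [Fintype Γ] {G S : Subgroup Γ}

theorem corr_of_cyc {p : ℕ} (hp : p.Prime) (hSp : IsPGroup p S) {C : Subgroup Γ} [Fintype C] (hCG : C ≤ G) {χ : G → ℂ} {β : IrrCharacter C} {ε : ℤ}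
    (hε : ε = 1 ∨ ε = -1) (s : S)
    (h : ∀ γ : IrrCharacter C, ∃ a : (S →* ℂˣ) → ℕ, classInner (fun c : C => χ ⟨c, hCG c.2⟩) (γ : C → ℂ) = ∑ᶠ lam : S →* ℂˣ, (a lam : ℂ) ∧
        (open Classical in (ε : ℂ) * (if γ = β then 1 else 0)) = ∑ᶠ lam : S →* ℂˣ, (a lam : ℂ) * (lam s : ℂ)) :
    Corr p hCG χ (β : C → ℂ) := by
  classical
  haveI : Fintype (S →* ℂˣ) := Fintype.ofFinite _
  refine ⟨β.2, ?_⟩
  intro γ hγ
  obtain ⟨a, h1, h2⟩ := h ⟨γ, hγ⟩
  rw [finsum_eq_sum_of_fintype] at h1 h2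
  obtain ⟨M, hM⟩ := H5.exists_isPModular hp
  haveI := H5.isPrime_of_isPModular hM
  have hMt : M ≠ ⊤ := this.ne_top
  -- the congruence
  have hcong : ∀ δ : ℤ, (∑ lam : S →* ℂˣ, (a lam : ℂ) * (lam s : ℂ)) = (δ : ℂ) → (p : ℤ) ∣ ((∑ lam : S →* ℂˣ, a lam : ℕ) : ℤ) - δ := by
    intro δ hδ
    rw [← H5.memLocI_intCast_iff hM]
    push_cast
    rw [← hδ, ← Finset.sum_sub_distrib]
    apply H5.memLocI_sum
    intro lam _
    have e1 : (a lam : ℂ) - (a lam : ℂ) * (lam s : ℂ) = (-(a lam : ℤ) : ℂ) * ((lam s : ℂ) - 1) := by push_cast; ring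
    rw [e1]
    apply H5.memLocI_mul_left
    · apply H5.memLocR_of_isIntegral hMt
      apply IsIntegral.neg
      exact isIntegral_algebraMap (R := ℤ) (A := ℂ) (x := (a lam : ℤ))
    · obtain ⟨k, hk⟩ := hSp s
      apply H5.memLocI_rootOfUnity_sub_one hM (k := k)
      have e2 : (lam s) ^ (p ^ k) = 1 := by rw [← map_pow, hk, map_one]
      have e3 := congrArg (fun u : ℂˣ => (u : ℂ)) e2
      simpa using e3
  refine ⟨∑ lam : S →* ℂˣ, a lam, ?_, ?_, ?_⟩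
  · rw [show rs hCG χ = (fun c : C => χ ⟨c, hCG c.2⟩) from rfl]
    push_cast
    exact h1
  · intro hγβ
    have e1 : (⟨γ, hγ⟩ : IrrCharacter C) = β := Subtype.ext hγβ
    rw [if_pos e1, mul_one] at h2
    have h3 := hcong ε h2.symm
    rcases hε with rfl | rfl
    · left
      exact (Int.modEq_iff_dvd.mpr h3).symm
    · right
      exact (Int.modEq_iff_dvd.mpr h3).symm
  · intro hγβ
    have e1 : (⟨γ, hγ⟩ : IrrCharacter C) ≠ β := fun h => hγβ (congrArg Subtype.val h)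
    rw [if_neg e1, mul_zero] at h2
    have h3 := hcong 0 (by rw [← h2]; simp)
    rw [sub_zero] at h3
    exact_mod_cast h3

theorem irr_eq_of_sign {C : Subgroup Γ} {β β' : IrrCharacter C} {ε ε' : ℤ} (hε : ε = 1 ∨ ε = -1) (hε' : ε' = 1 ∨ ε' = -1)
    (h : ∀ c : C, (ε : ℂ) * (β : C → ℂ) c = (ε' : ℂ) * (β' : C → ℂ) c) : ε = ε' ∧ β = β' := by
  have hd := charDeg_eq (IsIrr.isCharacter β.2)
  have hd' := charDeg_eq (IsIrr.isCharacter β'.2)
  have hp := IsIrr.degree_pos β.2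
  have hp' := IsIrr.degree_pos β'.2
  have h1 := h 1
  rw [hd, hd'] at h1
  have h2 : ε * (charDegree (β : C → ℂ) : ℤ) = ε' * (charDegree (β' : C → ℂ) : ℤ) := by exact_mod_cast h1
  have e : ε = ε' := by
    rcases hε with rfl | rfl <;> rcases hε' with rfl | rfl
    · rfl
    · exfalso; push_cast at h2; omega
    · exfalso; push_cast at h2; omega
    · rfl
  refine ⟨e, ?_⟩
  apply Subtype.ext
  funext c
  have h3 := h c
  rw [e] at h3
  have h4 : (ε' : ℂ) ≠ 0 := by rcases hε' with rfl | rfl <;> norm_num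
  exact mul_left_cancel₀ h4 h3

theorem gp_cyc_top {p : ℕ} (hp : p.Prime) (hSp : IsPGroup p S) (hnorm : ∀ s ∈ S, ∀ g ∈ G, s * g * s⁻¹ ∈ G) (hcop : (Nat.card G).Coprime (Nat.card S)) (htop : G ⊔ S = ⊤) (hcyc : IsCyclic S)
    {C : Subgroup Γ} [Fintype C] (hC : C = G ⊓ Subgroup.centralizer (S : Set Γ)) (hCG : C ≤ G) : GP p S hCG := by
  obtain ⟨s, hs⟩ := exists_gen hcyc
  have hmain : ∀ χ : G → ℂ, IsIrrCharacter G χ → Inv S G χ → ∃ (χh : Γ → ℂ) (β : IrrCharacter C) (ε : ℤ), IsIrrCharacter Γ χh ∧ (∀ g : G, χh g = χ g) ∧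
      (ε = 1 ∨ ε = -1) ∧ (∀ c : C, χh ((c : Γ) * s) = (ε : ℂ) * (β : C → ℂ) c) ∧ Corr p hCG χ (β : C → ℂ) := by
    intro χ hχ hinv
    obtain ⟨χh, h1, h2, h3, _⟩ := canon_exists hnorm hcop htop χ hχ hinv
    obtain ⟨β, ε, h4, h5, h6⟩ := cyc_main hnorm hcop htop hcyc hC hCG hs χ hχ hinv χh h1 h2 h3
    exact ⟨χh, β, ε, h1, h2, h4, h5, corr_of_cyc hp hSp hCG h4 _ h6⟩
  refine ⟨?_, ?_, ?_⟩
  · intro χ hχ hinv
    obtain ⟨χh, β, ε, _, _, _, _, h⟩ := hmain χ hχ hinv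
    exact ⟨β, h⟩
  · intro χ χ' hχ hχ' hinv hinv' β hβ hβ'
    obtain ⟨χh, β₁, ε, h1, h2, h3, h4, h5⟩ := hmain χ hχ hinv
    obtain ⟨χh', β₂, ε', h1', h2', h3', h4', h5'⟩ := hmain χ' hχ' hinv'
    have e1 := corr_unique hp hβ h5
    have e2 := corr_unique hp hβ' h5'
    have h6 := cyc_inj hnorm hcop htop hcyc hC hs χh χh' h1 h1' β hβ.1 (ε : ℂ) (ε' : ℂ) (by rcases h3 with rfl | rfl <;> norm_num)
      (by rcases h3' with rfl | rfl <;> norm_num) (by rw [e1]; exact h4) (by rw [e2]; exact h4')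
    funext g
    rw [← h2, ← h2', h6 g g.2]
  · intro β hβ
    obtain ⟨χ, χh, ε, h1, h2, h3, h4, h5, h6⟩ := cyc_surj hnorm hcop htop hcyc hC hCG hs ⟨β, hβ⟩
    obtain ⟨β', ε', h4', h5', h6'⟩ := cyc_main hnorm hcop htop hcyc hC hCG hs χ χ.2 h1 χh h2 h3 h4
    have h7 := irr_eq_of_sign (β := ⟨β, hβ⟩) (β' := β') h5 h4' (fun c => by rw [← h6, h5'])
    refine ⟨χ, χ.2, h1, ?_⟩
    have h8 := corr_of_cyc hp hSp hCG h4' _ h6'
    rw [← h7.2] at h8
    exact h8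

end cycp

section transfer
variable {Γ : Type u} [Group Γ] {G S C L : Subgroup Γ}

/-- transport of a function on `H.subgroupOf K` to a function on `H` -/
def frSub {H K : Subgroup Γ} (h : H ≤ K) (θ : H.subgroupOf K → ℂ) : H → ℂ := fun x => θ ⟨⟨x, h x.2⟩, Subgroup.mem_subgroupOf.2 x.2⟩

theorem toSub_frSub {H K : Subgroup Γ} (h : H ≤ K) (θ : H.subgroupOf K → ℂ) : toSub (frSub h θ) = θ := rfl

theorem frSub_toSub {H K : Subgroup Γ} (h : H ≤ K) (θ : H → ℂ) : frSub h (toSub θ) = θ := rfl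

theorem frSub_irr {H K : Subgroup Γ} (h : H ≤ K) {θ : H.subgroupOf K → ℂ} (hθ : IsIrrCharacter (H.subgroupOf K) θ) : IsIrrCharacter H (frSub h θ) :=
  IsIrr.comp_surjective ((Subgroup.subgroupOfEquivOfLe h).symm : H →* H.subgroupOf K) (Subgroup.subgroupOfEquivOfLe h).symm.surjective hθ

theorem inv_toSub (hG : G ≤ L) (hS : S ≤ L) {χ : G → ℂ} : Inv (S.subgroupOf L) (G.subgroupOf L) (toSub χ) ↔ Inv S G χ := by
  constructor
  · intro h s hs g g' hg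
    exact h ⟨s, hS hs⟩ (Subgroup.mem_subgroupOf.2 hs) ⟨⟨g, hG g.2⟩, Subgroup.mem_subgroupOf.2 g.2⟩ ⟨⟨g', hG g'.2⟩, Subgroup.mem_subgroupOf.2 g'.2⟩ (Subtype.ext hg)
  · intro h s hs g g' hg
    exact h s (Subgroup.mem_subgroupOf.1 hs) ⟨g, Subgroup.mem_subgroupOf.1 g.2⟩ ⟨g', Subgroup.mem_subgroupOf.1 g'.2⟩ (congrArg Subtype.val hg)

variable [Fintype C] [Fintype (C.subgroupOf L)]

theorem corr_toSub {p : ℕ} (hCG : C ≤ G) (hG : G ≤ L) (hCG' : C.subgroupOf L ≤ G.subgroupOf L) {χ : G → ℂ} {β : C → ℂ} :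
    Corr p hCG' (toSub χ) (toSub β) ↔ Corr p hCG χ β := by
  have hC : C ≤ L := hCG.trans hG
  constructor
  · rintro ⟨h1, h2⟩
    refine ⟨frSub_irr hC h1, ?_⟩
    intro γ hγ
    obtain ⟨m, hm, h3, h4⟩ := h2 (toSub γ) (toSub_irr hC hγ)
    refine ⟨m, ?_, ?_, ?_⟩
    · rw [← hm, ← classInner_toSub hC]
      rfl
    · intro h5
      exact h3 (by rw [h5])
    · intro h5
      exact h4 (fun h6 => h5 (toSub_injective hC h6))
  · rintro ⟨h1, h2⟩
    refine ⟨toSub_irr hC h1, ?_⟩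
    intro γ hγ
    obtain ⟨m, hm, h3, h4⟩ := h2 (frSub hC γ) (frSub_irr hC hγ)
    refine ⟨m, ?_, ?_, ?_⟩
    · rw [← hm, ← classInner_toSub hC]
      rfl
    · intro h5
      exact h3 (by rw [h5]; rfl)
    · intro h5
      exact h4 (fun h6 => h5 (by rw [← h6]; rfl))

theorem gp_transfer {p : ℕ} (hCG : C ≤ G) (hG : G ≤ L) (hS : S ≤ L) (hCG' : C.subgroupOf L ≤ G.subgroupOf L) (h : GP p (S.subgroupOf L) hCG') : GP p S hCG := by
  have hC : C ≤ L := hCG.trans hG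
  obtain ⟨h1, h2, h3⟩ := h
  refine ⟨?_, ?_, ?_⟩
  · intro χ hχ hinv
    obtain ⟨β, hβ⟩ := h1 (toSub χ) (toSub_irr hG hχ) ((inv_toSub hG hS).mpr hinv)
    refine ⟨frSub hC β, ?_⟩
    rw [← corr_toSub hCG hG hCG']
    exact hβ
  · intro χ χ' hχ hχ' hinv hinv' β hβ hβ'
    have := h2 (toSub χ) (toSub χ') (toSub_irr hG hχ) (toSub_irr hG hχ') ((inv_toSub hG hS).mpr hinv) ((inv_toSub hG hS).mpr hinv') (toSub β)
      ((corr_toSub hCG hG hCG').mpr hβ) ((corr_toSub hCG hG hCG').mpr hβ')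
    exact toSub_injective hG this
  · intro β hβ
    obtain ⟨χ, hχ, hinv, hcorr⟩ := h3 (toSub β) (toSub_irr hC hβ)
    refine ⟨frSub hG χ, frSub_irr hG hχ, (inv_toSub hG hS).mp hinv, ?_⟩
    rw [← corr_toSub hCG hG hCG']
    exact hcorr

end transfer

section cycp2
variable {Γ : Type u} [Group Γ] [Fintype Γ] {G S : Subgroup Γ}

theorem gp_cyc {p : ℕ} (hp : p.Prime) (hSp : IsPGroup p S) (hnorm : ∀ s ∈ S, ∀ g ∈ G, s * g * s⁻¹ ∈ G) (hcop : (Nat.card G).Coprime (Nat.card S)) (hcyc : IsCyclic S)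
    {C : Subgroup Γ} [Fintype C] (hC : C = G ⊓ Subgroup.centralizer (S : Set Γ)) (hCG : C ≤ G) : GP p S hCG := by
  classical
  set L := G ⊔ S with hL
  have hG : G ≤ L := le_sup_left
  have hS : S ≤ L := le_sup_right
  have hCL : C ≤ L := hCG.trans hG
  have hCG' : C.subgroupOf L ≤ G.subgroupOf L := fun x hx => Subgroup.mem_subgroupOf.2 (hCG (Subgroup.mem_subgroupOf.1 hx))
  haveI : Fintype (C.subgroupOf L) := Fintype.ofFinite _
  haveI : Fintype L := Fintype.ofFinite _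
  have eS : (S.subgroupOf L) ≃* S := Subgroup.subgroupOfEquivOfLe hS
  apply gp_transfer hCG hG hS hCG'
  apply gp_cyc_top hp
  · exact IsPGroup.of_injective hSp (Subgroup.subgroupOfEquivOfLe hS).toMonoidHom (Subgroup.subgroupOfEquivOfLe hS).injective
  · intro s hs g hg
    exact Subgroup.mem_subgroupOf.2 (hnorm s (Subgroup.mem_subgroupOf.1 hs) g (Subgroup.mem_subgroupOf.1 hg))
  · rw [Nat.card_congr (Subgroup.subgroupOfEquivOfLe hG).toEquiv, Nat.card_congr (Subgroup.subgroupOfEquivOfLe hS).toEquiv]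
    exact hcop
  · rw [← Subgroup.subgroupOf_sup hG hS, hL, Subgroup.subgroupOf_self]
  · haveI := hcyc
    exact isCyclic_of_surjective (Subgroup.subgroupOfEquivOfLe hS).symm (Subgroup.subgroupOfEquivOfLe hS).symm.surjective
  · ext x
    rw [Subgroup.mem_subgroupOf, hC, Subgroup.mem_inf, Subgroup.mem_inf, Subgroup.mem_subgroupOf, mem_cent_iff', mem_cent_iff']
    constructor
    · rintro ⟨h1, h2⟩
      exact ⟨h1, fun s hs => Subtype.ext (h2 s (Subgroup.mem_subgroupOf.1 hs))⟩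
    · rintro ⟨h1, h2⟩
      exact ⟨h1, fun s hs => congrArg Subtype.val (h2 ⟨s, hS hs⟩ (Subgroup.mem_subgroupOf.2 hs))⟩

end cycp2

end Cfsg.Agent.H4
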