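import Cfsg.Agent.H4.Glau7

set_option linter.all false
set_option autoImplicit false

/-! The Glauberman correspondence for `p`-groups of operators. -/

namespace Cfsg.Agent.H4

open Module
open scoped ComplexConjugate Pointwise

universe u v w

section pgrp
variable {Γ : Type u} [Group Γ] [Fintype Γ]

theorem exists_max_sub {p : ℕ} (hp : p.Prime) {S : Subgroup Γ} (hSp : IsPGroup p S) (hne : S ≠ ⊥) :
    ∃ (T : Subgroup Γ) (s : Γ), T ≤ S ∧ s ∈ S ∧ (∀ x ∈ S, ∀ t ∈ T, x * t * x⁻¹ ∈ T) ∧ T ⊔ Subgroup.zpowers s = S ∧ Nat.card T < Nat.card S := by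
  haveI : Fact p.Prime := ⟨hp⟩
  haveI : Group.IsNilpotent S := hSp.isNilpotent
  rcases eq_top_or_exists_le_coatom (⊥ : Subgroup S) with h | ⟨T₀, hT₀, _⟩
  · exfalso
    apply hne
    rw [Subgroup.eq_bot_iff_forall]
    intro x hx
    have h1 : (⟨x, hx⟩ : S) ∈ (⊥ : Subgroup S) := by rw [h]; exact Subgroup.mem_top _
    exact congrArg Subtype.val (Subgroup.mem_bot.mp h1)
  · have hn : T₀.Normal := H1.normal_of_isCoatom_of_nilpotent hT₀
    have hex : ∃ s₀ : S, s₀ ∉ T₀ := by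
      by_contra hcon
      push Not at hcon
      exact hT₀.1 ((Subgroup.eq_top_iff' _).mpr hcon)
    obtain ⟨s₀, hs₀⟩ := hex
    refine ⟨T₀.map S.subtype, s₀, ?_, s₀.2, ?_, ?_, ?_⟩
    · rintro x ⟨y, _, rfl⟩
      exact y.2
    · rintro x hx t ⟨t₀, ht₀, rfl⟩
      exact ⟨⟨x, hx⟩ * t₀ * ⟨x, hx⟩⁻¹, hn.conj_mem t₀ ht₀ ⟨x, hx⟩, rfl⟩
    · have h1 : T₀ ⊔ Subgroup.zpowers s₀ = ⊤ := by
        apply hT₀.2
        refine lt_of_le_of_ne le_sup_left ?_
        intro h
        apply hs₀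
        rw [h]
        exact le_sup_right (a := T₀) (Subgroup.mem_zpowers s₀)
      have h2 : (Subgroup.zpowers (s₀ : Γ)) = (Subgroup.zpowers s₀).map S.subtype := by
        rw [MonoidHom.map_zpowers]; rfl
      rw [h2, ← Subgroup.map_sup, h1, ← MonoidHom.range_eq_map, Subgroup.range_subtype]
    · rw [Subgroup.card_map_of_injective S.subtype_injective]
      refine lt_of_le_of_ne (Subgroup.card_le_card_group T₀) ?_
      intro h
      exact hT₀.1 (Subgroup.eq_top_of_card_eq T₀ h)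

theorem inv_mono {S T G : Subgroup Γ} (h : T ≤ S) {α : Type v} {χ : G → α} (hi : Inv S G χ) : Inv T G χ := fun s hs => hi s (h hs)

theorem cj_inv_of {T G : Subgroup Γ} {x : Γ} (hxG : x ∈ Subgroup.normalizer (G : Set Γ)) (hxT : ∀ t ∈ T, x * t * x⁻¹ ∈ T) {χ : G → ℂ} (h : Inv T G χ) : Inv T G (cj hxG χ) := by
  intro t ht g g' hg
  show χ _ = χ _
  apply h (x * t * x⁻¹) (hxT t ht) ⟨x * g * x⁻¹, norm_mem hxG g.2⟩ ⟨x * g' * x⁻¹, norm_mem hxG g'.2⟩
  show x * g' * x⁻¹ = (x * t * x⁻¹) * (x * g * x⁻¹) * (x * t * x⁻¹)⁻¹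
  rw [hg]; group

theorem gp_pgroup {p : ℕ} (hp : p.Prime) {G : Subgroup Γ} : ∀ (n : ℕ) (S : Subgroup Γ), Nat.card S ≤ n → IsPGroup p S → (∀ s ∈ S, ∀ g ∈ G, s * g * s⁻¹ ∈ G) →
    (Nat.card G).Coprime (Nat.card S) → ∀ (C : Subgroup Γ) [Fintype C] (hC : C = G ⊓ Subgroup.centralizer (S : Set Γ)) (hCG : C ≤ G), GP p S hCG := by
  classical
  intro n
  induction n with
  | zero =>
    intro S h
    have : 0 < Nat.card S := Nat.card_pos
    omega
  | succ n ih =>
    intro S hcard hSp hnorm hcop C _ hC hCG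
    by_cases hbot : S = ⊥
    · apply gp_cyc hp hSp hnorm hcop ?_ hC hCG
      rw [hbot]
      infer_instance
    obtain ⟨T, s, hTS, hsS, hTn, hsup, hlt⟩ := exists_max_sub hp hSp hbot
    set Z := Subgroup.zpowers s with hZ
    have hZS : Z ≤ S := by rw [hZ, Subgroup.zpowers_le]; exact hsS
    have hTp : IsPGroup p T := hSp.to_le hTS
    have hZp : IsPGroup p Z := hSp.to_le hZS
    set D := G ⊓ Subgroup.centralizer (T : Set Γ) with hD
    haveI : Fintype D := Fintype.ofFinite _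
    have hmD : ∀ x, x ∈ D ↔ x ∈ G ∧ ∀ t ∈ T, t * x * t⁻¹ = x := fun x => by rw [hD, Subgroup.mem_inf, mem_cent_iff']
    have hmC : ∀ x, x ∈ C ↔ x ∈ G ∧ ∀ t ∈ S, t * x * t⁻¹ = x := fun x => by rw [hC, Subgroup.mem_inf, mem_cent_iff']
    have hDG : D ≤ G := inf_le_left
    have hCD : C ≤ D := by
      intro x hx
      rw [hmD]
      rw [hmC] at hx
      exact ⟨hx.1, fun t ht => hx.2 t (hTS ht)⟩
    have hnD : ∀ x ∈ S, ∀ d ∈ D, x * d * x⁻¹ ∈ D := by
      intro x hx d hd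
      rw [hmD] at hd ⊢
      refine ⟨hnorm x hx d hd.1, fun t ht => ?_⟩
      have h1 : x⁻¹ * t * x ∈ T := by
        have := hTn x⁻¹ (S.inv_mem hx) t ht
        rwa [inv_inv] at this
      have h2 := hd.2 _ h1
      calc t * (x * d * x⁻¹) * t⁻¹ = x * ((x⁻¹ * t * x) * d * (x⁻¹ * t * x)⁻¹) * x⁻¹ := by group
        _ = x * d * x⁻¹ := by rw [h2]
    have hcopT : (Nat.card G).Coprime (Nat.card T) := hcop.coprime_dvd_right (Subgroup.card_dvd_of_le hTS)
    have hcopZ : (Nat.card D).Coprime (Nat.card Z) := (hcop.coprime_dvd_right (Subgroup.card_dvd_of_le hZS)).coprime_dvd_left (Subgroup.card_dvd_of_le hDG)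
    obtain ⟨g1, g2, g3⟩ := ih T (by omega) hTp (fun t ht => hnorm t (hTS ht)) hcopT D hD hDG
    have hCZ : C = D ⊓ Subgroup.centralizer (Z : Set Γ) := by
      ext x
      rw [Subgroup.mem_inf, hmC, hmD, mem_cent_iff']
      constructor
      · rintro ⟨h1, h2⟩
        exact ⟨⟨h1, fun t ht => h2 t (hTS ht)⟩, fun z hz => h2 z (hZS hz)⟩
      · rintro ⟨⟨h1, h2⟩, h3⟩
        refine ⟨h1, ?_⟩
        rw [← mem_cent_iff', ← hsup]
        have h4 : T ⊔ Z ≤ Subgroup.centralizer ({x} : Set Γ) := by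
          apply sup_le
          · intro t ht
            rw [Subgroup.mem_centralizer_singleton_iff]
            have := h2 t ht
            calc t * x = (t * x * t⁻¹) * t := by group
              _ = x * t := by rw [this]
          · intro t ht
            rw [Subgroup.mem_centralizer_singleton_iff]
            have := h3 t ht
            calc t * x = (t * x * t⁻¹) * t := by group
              _ = x * t := by rw [this]
        rw [Subgroup.mem_centralizer_iff]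
        intro y hy
        have := Subgroup.mem_centralizer_singleton_iff.mp (h4 hy)
        exact this
    obtain ⟨k1, k2, k3⟩ := gp_cyc (Γ := Γ) (G := D) (S := Z) hp hZp (fun t ht => hnD t (hZS ht)) hcopZ (by rw [hZ]; infer_instance) hCZ hCD
    have hnG : ∀ x ∈ S, x ∈ Subgroup.normalizer (G : Set Γ) := fun x hx => le_norm_of_conj hnorm hx
    have hnD' : ∀ x ∈ S, x ∈ Subgroup.normalizer (D : Set Γ) := fun x hx => le_norm_of_conj hnD hx
    -- first step of the correspondence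
    have key : ∀ χ : G → ℂ, IsIrrCharacter G χ → Inv S G χ → ∃ (β₁ : D → ℂ) (β : C → ℂ), Corr p hDG χ β₁ ∧ Inv Z D β₁ ∧ Corr p hCD β₁ β ∧ Corr p hCG χ β := by
      intro χ hχ hinv
      obtain ⟨β₁, hβ₁⟩ := g1 χ hχ (inv_mono hTS hinv)
      have hi : Inv Z D β₁ := by
        rw [inv_iff_cj (fun x hx => hnD' x (hZS hx))]
        intro x hx
        have h1 := corr_cj hβ₁ (hnG x (hZS hx)) (hnD' x (hZS hx))
        rw [(inv_iff_cj hnG χ).mp hinv x (hZS hx)] at h1
        exact corr_unique hp h1 hβ₁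
      obtain ⟨β, hβ⟩ := k1 β₁ hβ₁.1 hi
      exact ⟨β₁, β, hβ₁, hi, hβ, corr_comp hp hCG (IsIrr.isCharacter hχ) hβ₁ hβ⟩
    refine ⟨?_, ?_, ?_⟩
    · intro χ hχ hinv
      obtain ⟨β₁, β, _, _, _, h⟩ := key χ hχ hinv
      exact ⟨β, h⟩
    · intro χ χ' hχ hχ' hinv hinv' β hβ hβ'
      obtain ⟨β₁, γ, h1, h2, h3, h4⟩ := key χ hχ hinv
      obtain ⟨β₁', γ', h1', h2', h3', h4'⟩ := key χ' hχ' hinv'
      have e1 := corr_unique hp hβ h4
      have e2 := corr_unique hp hβ' h4'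
      rw [← e1] at h3
      rw [← e2] at h3'
      have e3 := k2 β₁ β₁' h1.1 h1'.1 h2 h2' β h3 h3'
      rw [← e3] at h1'
      exact g2 χ χ' hχ hχ' (inv_mono hTS hinv) (inv_mono hTS hinv') β₁ h1 h1'
    · intro β hβ
      obtain ⟨β₁, hβ₁, hinv₁, hcorr₁⟩ := k3 β hβ
      obtain ⟨χ, hχ, hinv, hcorr⟩ := g3 β₁ hβ₁
      have hiZ : Inv Z G χ := by
        rw [inv_iff_cj (fun x hx => hnG x (hZS hx))]
        intro x hx
        have h1 := corr_cj hcorr (hnG x (hZS hx)) (hnD' x (hZS hx))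
        rw [(inv_iff_cj (fun x hx => hnD' x (hZS hx)) β₁).mp hinv₁ x hx] at h1
        exact g2 _ _ (cj_irr _ hχ) hχ (cj_inv_of _ (hTn x (hZS hx)) hinv) hinv β₁ h1 hcorr
      refine ⟨χ, hχ, ?_, corr_comp hp hCG (IsIrr.isCharacter hχ) hcorr hcorr₁⟩
      rw [← hsup]
      exact inv_sup (fun x hx => hnG x (hTS hx)) (fun x hx => hnG x (hZS hx)) hinv hiZ

end pgrp

end Cfsg.Agent.H4
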