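import Cfsg.Agent.H4.Glau8
import Cfsg.Agent.H4.ExtApp

set_option linter.all false
set_option autoImplicit false

/-! The Glauberman correspondence for solvable groups of operators. -/

namespace Cfsg.Agent.H4

open Module
open scoped ComplexConjugate Pointwise

universe u v w

section abs
variable {Q : Type u} [Group Q] [Finite Q]

theorem exists_normal_pgroup_solv (hQ : Group.IsSolvable Q) (hne : Nontrivial Q) : ∃ (p : ℕ) (N : Subgroup Q), p.Prime ∧ N.Normal ∧ N ≠ ⊥ ∧ IsPGroup p N := by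
  classical
  have hfin : ({N : Subgroup Q | N.Normal ∧ N ≠ ⊥}).Finite := Set.toFinite _
  obtain ⟨N, hN⟩ := hfin.exists_minimal ⟨⊤, ⟨inferInstance, fun h => (bot_ne_top (α := Subgroup Q)) h.symm⟩⟩
  have hNn : N.Normal := hN.1.1
  have hmin : ∀ M : Subgroup Q, M.Normal → M ≤ N → M = ⊥ ∨ M = N := by
    intro M hM hMN
    by_cases h : M = ⊥
    · left; exact h
    · right; exact le_antisymm hMN (hN.2 ⟨hM, h⟩ hMN)
  haveI := hQ
  haveI : Group.IsSolvable N := inferInstance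
  haveI := H1.isMulCommutative_of_minimal_of_solvable N hN.1.2 hmin
  obtain ⟨p, hp, hpow⟩ := H1.exists_prime_pow_eq_one_of_minimal N hN.1.2 hmin
  refine ⟨p, N, hp, hNn, hN.1.2, ?_⟩
  intro x
  refine ⟨1, Subtype.ext ?_⟩
  simpa using hpow x x.2

theorem exists_T_abs (hQ : Group.IsSolvable Q) (K : Subgroup Q) (hK : K.Normal) (hne : K ≠ ⊤) :
    ∃ (p : ℕ) (T P : Subgroup Q), p.Prime ∧ T.Normal ∧ P ≤ T ∧ IsPGroup p P ∧ K ⊔ P = T ∧ K ≠ T := by
  classical
  haveI := hQ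
  haveI := hK
  haveI : Nontrivial (Q ⧸ K) := by
    obtain ⟨x, hx⟩ : ∃ x, x ∉ K := by
      by_contra hcon
      push Not at hcon
      exact hne ((Subgroup.eq_top_iff' _).mpr hcon)
    refine ⟨⟨QuotientGroup.mk x, 1, ?_⟩⟩
    intro h
    exact hx ((QuotientGroup.eq_one_iff x).mp h)
  obtain ⟨p, N, hp, hN, hNb, hNp⟩ := exists_normal_pgroup_solv (Q := Q ⧸ K) inferInstance inferInstance
  haveI : Fact p.Prime := ⟨hp⟩
  set f := QuotientGroup.mk' K with hf
  have hfs : Function.Surjective f := QuotientGroup.mk'_surjective K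
  set T := N.comap f with hT
  have hTn : T.Normal := hN.comap f
  have hKker : K = f.ker := (QuotientGroup.ker_mk' K).symm
  have hKT : K ≤ T := by
    intro x hx
    rw [hT, Subgroup.mem_comap]
    rw [hKker, MonoidHom.mem_ker] at hx
    rw [hx]; exact N.one_mem
  have hmapT : T.map f = N := Subgroup.map_comap_eq_self_of_surjective hfs N
  obtain ⟨n, hn⟩ := IsPGroup.iff_card.mp hNp
  have hrel : K.relIndex T = p ^ n := by
    have h1 : K = (⊥ : Subgroup (Q ⧸ K)).comap f := by rw [MonoidHom.comap_bot]; exact hKker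
    conv_lhs => rw [h1]
    rw [Subgroup.relIndex_comap, hmapT, Subgroup.relIndex_bot_left, hn]
  obtain ⟨R⟩ : Nonempty (Sylow p T) := inferInstance
  refine ⟨p, T, (R : Subgroup T).map T.subtype, hp, hTn, Subgroup.map_subtype_le _, R.2.map _, ?_, ?_⟩
  · have hle : K ⊔ (R : Subgroup T).map T.subtype ≤ T := sup_le hKT (Subgroup.map_subtype_le _)
    have h1 : K ⊔ (R : Subgroup T).map T.subtype = (K.subgroupOf T ⊔ (R : Subgroup T)).map T.subtype := by
      rw [Subgroup.map_sup, Subgroup.subgroupOf_map_subtype, inf_of_le_left hKT]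
    have h2 : K.subgroupOf T ⊔ (R : Subgroup T) = ⊤ := by
      rw [← Subgroup.index_eq_one]
      have h3 : (K.subgroupOf T ⊔ (R : Subgroup T)).index ∣ (K.subgroupOf T).index := Subgroup.index_dvd_of_le le_sup_left
      have h4 : (K.subgroupOf T ⊔ (R : Subgroup T)).index ∣ (R : Subgroup T).index := Subgroup.index_dvd_of_le le_sup_right
      have h5 : (K.subgroupOf T).index = p ^ n := hrel
      rw [h5] at h3
      obtain ⟨k, hk, hk'⟩ := (Nat.dvd_prime_pow hp).mp h3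
      rcases Nat.eq_zero_or_pos k with h6 | h6
      · rw [hk', h6, pow_zero]
      · exfalso
        apply R.not_dvd_index
        refine dvd_trans ?_ h4
        rw [hk']
        exact dvd_pow_self p (by omega)
    rw [h1, h2, ← MonoidHom.range_eq_map, Subgroup.range_subtype]
  · intro h
    apply hNb
    rw [← hmapT, ← h, Subgroup.map_eq_bot_iff, ← hKker]

end abs

section step
variable {Γ : Type u} [Group Γ] [Fintype Γ] {G S : Subgroup Γ}

/-- The basic reduction step. -/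
theorem exists_step (hnorm : ∀ s ∈ S, ∀ g ∈ G, s * g * s⁻¹ ∈ G) (hsolv : Group.IsSolvable S) (hne : ¬ S ≤ Subgroup.centralizer (G : Set Γ)) :
    ∃ (p : ℕ) (T P : Subgroup Γ), p.Prime ∧ T ≤ S ∧ (∀ x ∈ S, ∀ t ∈ T, x * t * x⁻¹ ∈ T) ∧ P ≤ T ∧ IsPGroup p P ∧
      (∀ t ∈ T, ∃ a ∈ Subgroup.centralizer (G : Set Γ), ∃ b ∈ P, a * b = t) ∧ ¬ P ≤ Subgroup.centralizer (G : Set Γ) := by
  classical
  set K : Subgroup S := (Subgroup.centralizer (G : Set Γ)).subgroupOf S with hKdef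
  have hmK : ∀ x : S, x ∈ K ↔ ∀ g ∈ G, (x : Γ) * g * (x : Γ)⁻¹ = g := by
    intro x
    rw [hKdef, Subgroup.mem_subgroupOf, Subgroup.mem_centralizer_iff]
    constructor
    · intro h g hg
      rw [← h g hg]; group
    · intro h g hg
      have := h g hg
      calc g * x = (x * g * (x : Γ)⁻¹) * x := by rw [this]
        _ = x * g := by group
  have hK : K.Normal := by
    constructor
    intro k hk x
    rw [hmK] at hk ⊢
    intro g hg
    have h1 := hk ((x : Γ)⁻¹ * g * x) (by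
      have := hnorm (x : Γ)⁻¹ (S.inv_mem x.2) g hg
      rwa [inv_inv] at this)
    calc ((x * k * x⁻¹ : S) : Γ) * g * ((x * k * x⁻¹ : S) : Γ)⁻¹ = x * (k * ((x : Γ)⁻¹ * g * x) * (k : Γ)⁻¹) * (x : Γ)⁻¹ := by
          push_cast; group
      _ = g := by rw [h1]; group
  have hKt : K ≠ ⊤ := by
    intro h
    apply hne
    intro x hx
    have : (⟨x, hx⟩ : S) ∈ K := by rw [h]; exact Subgroup.mem_top _
    exact Subgroup.mem_subgroupOf.mp this
  obtain ⟨p, T, P, hp, hT, hPT, hPp, hsup, hneT⟩ := exists_T_abs hsolv K hK hKt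
  refine ⟨p, T.map S.subtype, P.map S.subtype, hp, Subgroup.map_subtype_le _, ?_, Subgroup.map_mono hPT, hPp.map _, ?_, ?_⟩
  · rintro x hx t ⟨t₀, ht₀, rfl⟩
    exact ⟨⟨x, hx⟩ * t₀ * ⟨x, hx⟩⁻¹, hT.conj_mem t₀ ht₀ ⟨x, hx⟩, rfl⟩
  · rintro t ⟨t₀, ht₀, rfl⟩
    haveI := hK
    have h1 : t₀ ∈ K ⊔ P := by rw [hsup]; exact ht₀
    obtain ⟨a, ha, b, hb, hab⟩ := Subgroup.mem_sup_of_normal_left.mp h1
    exact ⟨a, Subgroup.mem_subgroupOf.mp ha, b, ⟨b, hb, rfl⟩, by rw [← hab]; rfl⟩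
  · intro h
    apply hneT
    have h1 : P ≤ K := by
      intro x hx
      exact Subgroup.mem_subgroupOf.mpr (h ⟨x, hx, rfl⟩)
    rw [← hsup]
    exact (sup_of_le_left h1).symm

/-- data of the basic reduction step. -/
theorem exists_step' (hnorm : ∀ s ∈ S, ∀ g ∈ G, s * g * s⁻¹ ∈ G) (hcop : (Nat.card G).Coprime (Nat.card S)) (hsolv : Group.IsSolvable S) (hne : ¬ S ≤ Subgroup.centralizer (G : Set Γ)) :
    ∃ (p : ℕ) (P D : Subgroup Γ), p.Prime ∧ P ≤ S ∧ IsPGroup p P ∧ p.Coprime (Nat.card G) ∧ D = G ⊓ Subgroup.centralizer (P : Set Γ) ∧ D < G ∧ (∀ s ∈ S, ∀ d ∈ D, s * d * s⁻¹ ∈ D) ∧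
      (∀ s ∈ S, ∀ N : Subgroup Γ, (hN : N ≤ G) → (hsN : s ∈ Subgroup.normalizer (N : Set Γ)) → ∀ χ : N → ℂ, Inv P N χ → Inv P N (cj hsN χ)) := by
  classical
  obtain ⟨p, T, P, hp, hTS, hTn, hPT, hPp, hdec, hPne⟩ := exists_step hnorm hsolv hne
  have hmK : ∀ x : Γ, x ∈ Subgroup.centralizer (G : Set Γ) ↔ ∀ g ∈ G, (x : Γ) * g * (x : Γ)⁻¹ = g := by
    intro x
    rw [Subgroup.mem_centralizer_iff]
    constructor
    · intro h g hg
      rw [← h g hg]; group
    · intro h g hg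
      have := h g hg
      calc g * x = (x * g * (x : Γ)⁻¹) * x := by rw [this]
        _ = x * g := by group
  have hTP : ∀ t ∈ T, ∃ b ∈ P, ∀ g ∈ G, t * g * t⁻¹ = b * g * b⁻¹ := by
    intro t ht
    obtain ⟨a, ha, b, hb, hab⟩ := hdec t ht
    refine ⟨b, hb, fun g hg => ?_⟩
    have h1 := (hmK a).mp ha (b * g * b⁻¹) (hnorm b (hTS (hPT hb)) g hg)
    rw [← h1, ← hab]; group
  refine ⟨p, P, G ⊓ Subgroup.centralizer (P : Set Γ), hp, hPT.trans hTS, hPp, ?_, rfl, ?_, ?_, ?_⟩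
  · have hPb : P ≠ ⊥ := by
      rintro rfl
      exact hPne bot_le
    haveI : Fact p.Prime := ⟨hp⟩
    haveI := (Subgroup.nontrivial_iff_ne_bot P).mpr hPb
    obtain ⟨k, hk⟩ := IsPGroup.iff_card.mp hPp
    have h1 : p ∣ Nat.card P := by
      rw [hk]
      apply dvd_pow_self
      rintro rfl
      rw [pow_zero] at hk
      exact hPb (Subgroup.card_eq_one.mp hk)
    exact ((hcop.coprime_dvd_right (Subgroup.card_dvd_of_le (hPT.trans hTS))).coprime_dvd_right h1).symm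
  · refine lt_of_le_of_ne inf_le_left ?_
    intro h
    apply hPne
    rw [Subgroup.le_centralizer_iff]
    rw [← h]
    exact inf_le_right
  · intro s hs d hd
    rw [Subgroup.mem_inf, mem_cent_iff'] at hd ⊢
    refine ⟨hnorm s hs d hd.1, ?_⟩
    intro b hb
    have h1 : s⁻¹ * b * s ∈ T := by
      have := hTn s⁻¹ (S.inv_mem hs) b (hPT hb)
      rwa [inv_inv] at this
    obtain ⟨b', hb', h2⟩ := hTP _ h1
    have h3 := h2 d hd.1
    rw [hd.2 b' hb'] at h3
    calc b * (s * d * s⁻¹) * b⁻¹ = s * ((s⁻¹ * b * s) * d * (s⁻¹ * b * s)⁻¹) * s⁻¹ := by group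
      _ = s * d * s⁻¹ := by rw [h3]
  · intro s hs N hN hsN χ hχ b hb g g' hg
    show χ _ = χ _
    obtain ⟨b', hb', h2⟩ := hTP (s * b * s⁻¹) (hTn s hs b (hPT hb))
    apply hχ b' hb' ⟨s * g * s⁻¹, norm_mem hsN g.2⟩ ⟨s * g' * s⁻¹, norm_mem hsN g'.2⟩
    show s * g' * s⁻¹ = b' * (s * g * s⁻¹) * b'⁻¹
    rw [← h2 (s * g * s⁻¹) (hnorm s hs g (hN g.2)), hg]
    group

end step

end Cfsg.Agent.H4
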