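import Cfsg.Agent.H5.Char3

namespace Cfsg.Agent.H4
universe u

theorem maxcl_step {p : ℕ} [hpf : Fact p.Prime] {n : ℕ} {X : Type u} [Group X] [Finite X] (hX : Nat.card X = p ^ (n + 1))
    {A : Subgroup X} (hA : Nat.card A = p ^ 2) (hC : Subgroup.centralizer (A : Set X) = A) (hAt : A ≠ ⊤) :
    Nat.card (Subgroup.center X) = p ∧ ∃ A₁ : Subgroup (X ⧸ Subgroup.center X), Nat.card A₁ = p ^ 2 ∧ Subgroup.centralizer (A₁ : Set (X ⧸ Subgroup.center X)) = A₁ := by
  classical
  have hp : p.Prime := Fact.out
  have hP : IsPGroup p X := IsPGroup.of_card hX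
  haveI hnil : Group.IsNilpotent X := hP.isNilpotent
  haveI : Nontrivial X := by
    have h1 := Subgroup.card_le_card_group A
    rw [hA] at h1
    exact Finite.one_lt_card_iff_nontrivial.mp (by nlinarith [hp.two_le])
  have hZA : Subgroup.center X ≤ A := by
    conv_rhs => rw [← hC]
    exact Subgroup.center_le_centralizer _
  have hab : ∀ a ∈ A, ∀ b ∈ A, a * b = b * a := by
    intro a ha b hb
    rw [← hC, Subgroup.mem_centralizer_iff] at hb
    exact hb a ha
  have hcz : Nat.card (Subgroup.center X) = p := by
    obtain ⟨k, hk2, hk⟩ := (Nat.dvd_prime_pow hp).mp (hA ▸ Subgroup.card_dvd_of_le hZA)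
    have hk0 : k ≠ 0 := by
      rintro rfl
      rw [pow_zero] at hk
      haveI := hP.center_nontrivial
      exact absurd hk (Finite.one_lt_card).ne'
    have hk2' : k ≠ 2 := by
      rintro rfl
      apply hAt
      have h1 : Subgroup.center X = A := Subgroup.eq_of_le_of_card_ge hZA (by rw [hA, hk])
      rw [← hC, ← h1, eq_top_iff]
      intro x _
      rw [Subgroup.mem_centralizer_iff]
      intro z hz
      exact (Subgroup.mem_center_iff.mp hz x).symm
    have : k = 1 := by omega
    rw [hk, this, pow_one]
  refine ⟨hcz, ?_⟩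
  obtain ⟨a, haA, haZ⟩ : ∃ a ∈ A, a ∉ Subgroup.center X := by
    by_contra hcon
    push Not at hcon
    have h1 := Subgroup.card_le_of_le (show A ≤ Subgroup.center X from hcon)
    rw [hA, hcz] at h1
    nlinarith [hp.two_le]
  have hE : A ≤ Subgroup.center X ⊔ Subgroup.zpowers a := by
    have h1 : Subgroup.center X ⊔ Subgroup.zpowers a ≤ A := sup_le hZA (Subgroup.zpowers_le.mpr haA)
    obtain ⟨j, hj2, hj⟩ := (Nat.dvd_prime_pow hp).mp (hA ▸ Subgroup.card_dvd_of_le h1)
    have h3 : p < Nat.card ↥(Subgroup.center X ⊔ Subgroup.zpowers a) := by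
      rw [← hcz]
      have hlt : Subgroup.center X < Subgroup.center X ⊔ Subgroup.zpowers a := by
        refine lt_of_le_of_ne le_sup_left ?_
        intro h
        exact haZ (h ▸ (Subgroup.mem_sup_right (Subgroup.mem_zpowers a)))
      rcases (Subgroup.card_le_of_le hlt.le).lt_or_eq with h | h
      · exact h
      · exact absurd (Subgroup.eq_of_le_of_card_ge hlt.le h.ge) hlt.ne
    have h4 : j = 2 := by
      interval_cases j
      · rw [hj, pow_zero] at h3; exact absurd h3 (by have := hp.two_le; omega)
      · rw [hj, pow_one] at h3; exact absurd h3 (lt_irrefl _)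
      · rfl
    exact (Subgroup.eq_of_le_of_card_ge h1 (by rw [hA, hj, h4])).ge
  have hCa : ∀ y, y * a = a * y → y ∈ A := by
    intro y hy
    rw [← hC, Subgroup.mem_centralizer_iff]
    intro b hb
    have h3 : Subgroup.center X ⊔ Subgroup.zpowers a ≤ Subgroup.centralizer {y} :=
      sup_le (Subgroup.center_le_centralizer _) (Subgroup.zpowers_le.mpr (by
        rw [Subgroup.mem_centralizer_singleton_iff]; exact hy.symm))
    have h4 := h3 (hE hb)
    rw [Subgroup.mem_centralizer_singleton_iff] at h4
    exact h4
  set N := Subgroup.normalizer (A : Set X) with hN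
  have hAN : A ≤ N := Subgroup.le_normalizer
  have hlt : A < N := by
    exact (Group.normalizerCondition_of_isNilpotent (G := X)) A (lt_of_le_of_ne le_top hAt)
  have hidx : A.relIndex N = p := by
    have h1 : A.relIndex N ∣ p ^ (n + 1) := by
      rw [← hX]
      exact (Subgroup.relIndex_dvd_card A N).trans (Subgroup.card_subgroup_dvd_card N)
    obtain ⟨k, hkn, hk⟩ := (Nat.dvd_prime_pow hp).mp h1
    have hk0 : k ≠ 0 := by
      rintro rfl
      rw [pow_zero, Subgroup.relIndex_eq_one] at hk
      exact hlt.not_ge hk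
    have h2 : A.relIndex N < p ^ 2 := by
      let a' : N := ⟨a, hAN haA⟩
      have h3 : Subgroup.centralizer ({a'} : Set N) = A.subgroupOf N := by
        ext x
        rw [Subgroup.mem_centralizer_singleton_iff, Subgroup.mem_subgroupOf]
        constructor
        · intro h
          exact hCa x (congrArg Subtype.val h)
        · intro h
          exact Subtype.ext (hab _ h _ haA)
      have h4 := H5.card_isConj a'
      rw [h3] at h4
      rw [Subgroup.relIndex, ← h4, ← hA]
      have h5 : Nat.card {x : N // IsConj a' x} ≤ Nat.card {x : A // x ≠ 1} := by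
        refine Nat.card_le_card_of_injective (fun x => (⟨⟨x.1, ?_⟩, ?_⟩ : {x : A // x ≠ 1})) ?_
        · obtain ⟨g, hg⟩ := isConj_iff.mp x.2
          have : (x.1 : X) = g * a * (g : X)⁻¹ := by rw [← hg]; rfl
          rw [this]
          exact (Subgroup.mem_normalizer_iff.mp g.2 a).mp haA
        · intro h
          obtain ⟨g, hg⟩ := isConj_iff.mp x.2
          have h6 : (x.1 : X) = 1 := congrArg (fun y : A => (y : X)) h
          have h7 : (x.1 : N) = 1 := Subtype.ext h6
          have h8 : IsConj a' 1 := h7 ▸ x.2
          have h9 : a' = 1 := isConj_one_left.mp h8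
          have h10 : a = 1 := congrArg Subtype.val h9
          exact haZ (h10 ▸ Subgroup.one_mem _)
        · intro x y h
          have : (x.1 : X) = y.1 := congrArg (fun z : {x : A // x ≠ 1} => ((z.1 : A) : X)) h
          exact Subtype.ext (Subtype.ext this)
      refine lt_of_le_of_lt h5 ?_
      exact Finite.card_subtype_lt (p := fun x : A => x ≠ 1) (x := 1) (by simp)
    have hk2 : k < 2 := by
      rw [hk] at h2
      exact (Nat.pow_lt_pow_iff_right hp.one_lt).mp h2
    have : k = 1 := by omega
    rw [hk, this, pow_one]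
  have hNcard : Nat.card N = p ^ 3 := by
    have := Subgroup.relIndex_mul_relIndex (⊥ : Subgroup X) A N bot_le hAN
    rw [Subgroup.relIndex_bot_left, Subgroup.relIndex_bot_left, hA, hidx] at this
    rw [← this]; ring
  have hcomap : (N.map (QuotientGroup.mk' (Subgroup.center X))).comap (QuotientGroup.mk' (Subgroup.center X)) = N := by
    rw [Subgroup.comap_map_eq, QuotientGroup.ker_mk', sup_eq_left]
    exact hZA.trans hAN
  have hcard1 : Nat.card (N.map (QuotientGroup.mk' (Subgroup.center X))) = p ^ 2 := by
    have h1 := Subgroup.index_comap_of_surjective (N.map (QuotientGroup.mk' (Subgroup.center X))) (QuotientGroup.mk'_surjective (Subgroup.center X))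
    rw [hcomap] at h1
    have h2 := (N.map (QuotientGroup.mk' (Subgroup.center X))).card_mul_index
    have h3 := N.card_mul_index
    have h4 := Subgroup.card_eq_card_quotient_mul_card_subgroup (Subgroup.center X)
    rw [← h1] at h2
    rw [hNcard] at h3
    rw [hcz, ← h2, ← h3] at h4
    have h5 : 0 < N.index := Nat.pos_of_ne_zero Subgroup.index_ne_zero_of_finite
    have h6 : 0 < N.index * p := Nat.mul_pos h5 hp.pos
    apply Nat.eq_of_mul_eq_mul_right h6
    linarith [h4]
  refine ⟨N.map (QuotientGroup.mk' (Subgroup.center X)), hcard1, ?_⟩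
  apply le_antisymm
  · intro x hx
    obtain ⟨g, rfl⟩ := QuotientGroup.mk'_surjective _ x
    refine Subgroup.mem_map_of_mem _ ?_
    rw [hN]
    apply Subgroup.mem_normalizer_fintype
    intro b hb
    have h1 : QuotientGroup.mk' (Subgroup.center X) b ∈ N.map (QuotientGroup.mk' (Subgroup.center X)) := Subgroup.mem_map_of_mem _ (hAN hb)
    rw [Subgroup.mem_centralizer_iff] at hx
    have h2 := hx _ h1
    have h3 : g * b * g⁻¹ * b⁻¹ ∈ Subgroup.center X := by
      rw [← QuotientGroup.eq_one_iff]
      simp only [QuotientGroup.mk'_apply] at h2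
      simp only [QuotientGroup.mk_mul, QuotientGroup.mk_inv]
      rw [← h2]; group
    have h4 : g * b * g⁻¹ = (g * b * g⁻¹ * b⁻¹) * b := by group
    rw [SetLike.mem_coe, h4]
    exact A.mul_mem (hZA h3) hb
  · intro x hx
    rw [Subgroup.mem_centralizer_iff]
    intro y hy
    have := (IsPGroup.isMulCommutative_of_card_eq_prime_sq hcard1).is_comm.comm ⟨y, hy⟩ ⟨x, hx⟩
    exact congrArg Subtype.val this

theorem maxcl_aux {p : ℕ} [hpf : Fact p.Prime] (n : ℕ) : ∀ (X : Type u) [Group X] [Finite X], Nat.card X = p ^ n →
    ∀ A : Subgroup X, Nat.card A = p ^ 2 → Subgroup.centralizer (A : Set X) = A → Group.nilpotencyClass X = n - 1 := by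
  classical
  have hp : p.Prime := Fact.out
  induction n with
  | zero =>
    intro X _ _ hX A hA _
    exfalso
    have h1 := Subgroup.card_subgroup_dvd_card A
    rw [hA, hX, pow_zero, Nat.dvd_one] at h1
    exact hp.one_lt.ne' (by nlinarith [hp.two_le])
  | succ n ih =>
    intro X _ _ hX A hA hC
    have hP : IsPGroup p X := IsPGroup.of_card hX
    haveI hnil : Group.IsNilpotent X := hP.isNilpotent
    haveI : Nontrivial X := by
      have h1 := Subgroup.card_le_card_group A
      rw [hA] at h1
      exact Finite.one_lt_card_iff_nontrivial.mp (by nlinarith [hp.two_le])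
    have hab : ∀ a ∈ A, ∀ b ∈ A, a * b = b * a := by
      intro a ha b hb
      rw [← hC, Subgroup.mem_centralizer_iff] at hb
      exact hb a ha
    rw [Group.nilpotencyClass_eq_quotient_center_plus_one]
    by_cases hAt : A = ⊤
    · have hn : n + 1 = 2 := by
        have : p ^ (n + 1) = p ^ 2 := by rw [← hX, ← hA, hAt, Subgroup.card_top]
        exact Nat.pow_right_injective hp.two_le this
      have hcen : Subgroup.center X = ⊤ := by
        rw [eq_top_iff]
        intro x _
        rw [Subgroup.mem_center_iff]
        intro y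
        exact hab y (hAt ▸ Subgroup.mem_top y) x (hAt ▸ Subgroup.mem_top x)
      have h0 : Group.nilpotencyClass (X ⧸ Subgroup.center X) = 0 := by
        rw [nilpotencyClass_zero_iff_subsingleton]
        exact QuotientGroup.subsingleton_iff.mpr hcen
      rw [h0]; omega
    · obtain ⟨hcz, A₁, hA₁, hC₁⟩ := maxcl_step hX hA hC hAt
      have hXc : Nat.card (X ⧸ Subgroup.center X) = p ^ n := by
        have h4 := Subgroup.card_eq_card_quotient_mul_card_subgroup (Subgroup.center X)
        rw [hX, hcz, pow_succ] at h4
        exact (Nat.eq_of_mul_eq_mul_right hp.pos h4).symm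
      rw [ih (X ⧸ Subgroup.center X) hXc A₁ hA₁ hC₁]
      have h5 : 2 ≤ n := by
        have h6 := Subgroup.card_le_card_group A₁
        rw [hA₁, hXc] at h6
        exact (Nat.pow_le_pow_iff_right hp.one_lt).mp h6
      omega

end Cfsg.Agent.H4
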