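import Cfsg.Agent.H1.Rank1
import Cfsg.Agent.H1.Klein4
import Cfsg.Agent.H1.Hall
import Cfsg.Agent.H4.OC2
import Cfsg.Agent.H4.ThompOrd
import Cfsg.Agent.S0111

set_option linter.all false
set_option autoImplicit false

namespace Cfsg.Agent.H4
universe u

/-- noncyclic maximal normal abelian case -/
theorem normV4_noncyc {S : Type u} [Group S] [Finite S] (hS : IsPGroup 2 S) (A : Subgroup S) (hA : A.Normal)
    (hAc : IsMulCommutative A) (hnc : ¬ IsCyclic A) : ∃ V : Subgroup S, V.Normal ∧ Nat.card V = 4 ∧ ∀ v ∈ V, v * v = 1 := by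
  obtain ⟨q, hq, W, hWA, hW, hWq⟩ := L0.exists_rank_two_le_of_not_isCyclic hAc hnc
  have hq2 : q = 2 := by
    obtain ⟨k, hk⟩ := IsPGroup.iff_card.mp (hS.to_subgroup W)
    have h1 : q ∣ 2 ^ k := by rw [← hk, hW]; exact dvd_pow_self q (by norm_num)
    exact (Nat.prime_dvd_prime_iff_eq hq Nat.prime_two).mp (hq.dvd_of_dvd_pow h1)
  subst hq2
  have hcomm : ∀ a ∈ A, ∀ b ∈ A, a * b = b * a := fun a ha b hb => Subgroup.mul_comm_of_mem_isMulCommutative A ha hb
  let Om : Subgroup S :=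
    { carrier := {x | x ∈ A ∧ x * x = 1}
      one_mem' := ⟨A.one_mem, by simp⟩
      mul_mem' := by
        rintro a b ⟨ha, ha2⟩ ⟨hb, hb2⟩
        refine ⟨A.mul_mem ha hb, ?_⟩
        rw [mul_assoc, ← mul_assoc b a b, hcomm b hb a ha, mul_assoc a b b, hb2, mul_one, ha2]
      inv_mem' := by
        rintro a ⟨ha, ha2⟩
        refine ⟨A.inv_mem ha, ?_⟩
        rw [← mul_inv_rev, ha2, inv_one] }
  have hOm : ∀ x, x ∈ Om ↔ x ∈ A ∧ x * x = 1 := fun x => Iff.rfl
  haveI hOmN : Om.Normal := ⟨by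
    intro n hn g
    rw [hOm] at hn ⊢
    refine ⟨hA.conj_mem n hn.1 g, ?_⟩
    rw [show g * n * g⁻¹ * (g * n * g⁻¹) = g * (n * n) * g⁻¹ by group, hn.2]; group⟩
  have hWO : W ≤ Om := by
    intro w hw
    rw [hOm]
    exact ⟨hWA hw, by rw [← pow_two]; exact hWq w hw⟩
  haveI : Fact (Nat.Prime 2) := ⟨Nat.prime_two⟩
  obtain ⟨b, hb⟩ := IsPGroup.iff_card.mp (hS.to_subgroup Om)
  have hb2 : 2 ≤ b := by
    have h1 := Subgroup.card_le_of_le hWO
    rw [hW, hb] at h1
    exact (Nat.pow_le_pow_iff_right (by norm_num)).mp h1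
  obtain ⟨L, hLn, hLO, hL⟩ := H1.exists_normal_le_card hS Om hb hb2
  exact ⟨L, hLn, by rw [hL]; norm_num, fun v hv => ((hOm v).mp (hLO hv)).2⟩

theorem even_order {S : Type u} [Group S] [Finite S] (hS : IsPGroup 2 S) {a : S} (ha : a ≠ 1) : Even (orderOf a) := by
  obtain ⟨k, hk⟩ := hS a
  obtain ⟨j, hj, hj'⟩ := (Nat.dvd_prime_pow Nat.prime_two).mp (orderOf_dvd_of_pow_eq_one hk)
  rw [hj']
  rcases Nat.eq_zero_or_pos j with h0 | h0
  · rw [h0, pow_zero, orderOf_eq_one_iff] at hj'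
    exact absurd hj' ha
  · exact (Nat.even_pow.mpr ⟨even_two, h0.ne'⟩)

theorem odd_zpow {S : Type u} [Group S] [Finite S] (hS : IsPGroup 2 S) {y : S} {m : ℤ} (hm : Odd m) (h : y ^ m = 1) : y = 1 := by
  by_contra hy
  have h1 := even_order hS hy
  have h2 := orderOf_dvd_iff_zpow_eq_one.mpr h
  obtain ⟨k, hk⟩ := h1
  obtain ⟨l, hl⟩ := h2
  rw [← Int.not_even_iff_odd] at hm
  apply hm
  rw [hl, hk]
  exact ⟨k * l, by push_cast; ring⟩

theorem odd_exp {S : Type u} [Group S] [Finite S] (hS : IsPGroup 2 S) {a e : S} (ha : a ≠ 1) {r : ℤ}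
    (h : e * a * e⁻¹ = a ^ r) : Odd r := by
  rw [← Int.not_even_iff_odd]
  rintro ⟨s, hs⟩
  obtain ⟨m, hm⟩ := even_order hS ha
  have hpos : 0 < orderOf a := orderOf_pos a
  have h1 : (e * a * e⁻¹) ^ m = 1 := by
    rw [h, ← zpow_natCast, ← zpow_mul, hs, show (s + s) * (m : ℤ) = ((m + m : ℕ) : ℤ) * s by push_cast; ring, zpow_mul, zpow_natCast, ← hm, pow_orderOf_eq_one, one_zpow]
  rw [conj_pow] at h1
  have h2 : a ^ m = 1 := by
    have := congrArg (fun x => e⁻¹ * x * e) h1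
    simpa [mul_assoc] using this
  have h3 := Nat.le_of_dvd (by omega) (orderOf_dvd_of_pow_eq_one h2)
  omega

theorem normV4_cyc {S : Type u} [Group S] [Finite S] (hS : IsPGroup 2 S) (A : Subgroup S) (hA : A.Normal)
    (hCA : Subgroup.centralizer (A : Set S) = A) (hc : IsCyclic A) (E : Subgroup S) (hE : Nat.card E = 8) (hE2 : ∀ e ∈ E, e * e = 1) :
    ∃ V : Subgroup S, V.Normal ∧ Nat.card V = 4 ∧ ∀ v ∈ V, v * v = 1 := by
  classical
  have hcomm : ∀ x ∈ E, ∀ y ∈ E, x * y = y * x := by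
    intro x hx y hy
    have h1 := hE2 _ (E.mul_mem hx hy)
    have h2 := hE2 x hx
    have h3 := hE2 y hy
    have h4 : (x * y)⁻¹ = x * y := inv_eq_of_mul_eq_one_left h1
    rw [mul_inv_rev, inv_eq_of_mul_eq_one_left h2, inv_eq_of_mul_eq_one_left h3] at h4
    exact h4.symm
  obtain ⟨⟨a, haA⟩, hgen⟩ := hc.exists_generator
  have hgen' : ∀ x ∈ A, ∃ i : ℤ, x = a ^ i := by
    intro x hx
    obtain ⟨i, hi⟩ := Subgroup.mem_zpowers_iff.mp (hgen ⟨x, hx⟩)
    exact ⟨i, (congrArg Subtype.val hi).symm⟩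
  have ha1 : a ≠ 1 := by
    rintro rfl
    have hAb : A = ⊥ := by
      rw [eq_bot_iff]
      intro x hx
      obtain ⟨i, hi⟩ := hgen' x hx
      rw [hi, one_zpow]; exact Subgroup.one_mem _
    have hAt : A = ⊤ := by
      rw [← hCA, hAb, eq_top_iff]
      intro x _
      rw [Subgroup.mem_centralizer_iff]
      intro y hy
      have : y = 1 := by simpa using hy
      rw [this]; simp
    obtain ⟨v, hv, hv1, _⟩ := H1.exists_mem_ne_one_ne (V := E) (by rw [hE]; norm_num) (1 : S)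
    have : v ∈ A := hAt ▸ Subgroup.mem_top v
    rw [hAb, Subgroup.mem_bot] at this
    exact hv1 this
  have hev := even_order hS ha1
  set z := a ^ (orderOf a / 2) with hz
  have hzo : orderOf z = 2 := orderOf_half a hev
  have hzA : z ∈ A := A.pow_mem haA _
  have hzz : z * z = 1 := by rw [← pow_two, ← hzo, pow_orderOf_eq_one]
  have hz1 : z ≠ 1 := by intro h; rw [h, orderOf_one] at hzo; omega
  have huniq : ∀ x ∈ A, x * x = 1 → x = 1 ∨ x = z := by
    intro x hx h2
    by_cases h1 : x = 1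
    · exact Or.inl h1
    · right
      have hxo : orderOf x = 2 := orderOf_eq_prime (by rw [pow_two]; exact h2) h1
      obtain ⟨i, hi⟩ := hgen' x hx
      exact (unique_inv_zpowers a hev x hxo).mp (hi ▸ Subgroup.zpow_mem_zpowers a i)
  have hzc : ∀ s : S, s * z * s⁻¹ = z := by
    intro s
    rcases huniq _ (hA.conj_mem z hzA s) (by rw [show s * z * s⁻¹ * (s * z * s⁻¹) = s * (z * z) * s⁻¹ by group, hzz]; group) with h | h
    · exfalso
      apply hz1
      have := congrArg (fun x => s⁻¹ * x * s) h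
      simpa [mul_assoc] using this
    · exact h
  have hr : ∀ s : S, ∃ r : ℤ, s * a * s⁻¹ = a ^ r := fun s => hgen' _ (hA.conj_mem a haA s)
  obtain ⟨e, heE, heA, r, hr4, her⟩ : ∃ e ∈ E, e ∉ A ∧ ∃ r : ℤ, r % 4 = 1 ∧ e * a * e⁻¹ = a ^ r := by
    obtain ⟨e₁, he₁, he₁1, he₁z⟩ := H1.exists_mem_ne_one_ne (V := E) (by rw [hE]; norm_num) z
    have he₁A : e₁ ∉ A := by
      intro h
      rcases huniq e₁ h (hE2 e₁ he₁) with h | h
      · exact he₁1 h
      · exact he₁z h
    obtain ⟨r₁, hr₁⟩ := hr e₁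
    have ho₁ := odd_exp hS ha1 hr₁
    by_cases h4 : r₁ % 4 = 1
    · exact ⟨e₁, he₁, he₁A, r₁, h4, hr₁⟩
    have h43 : r₁ % 4 = 3 := by
      obtain ⟨t, ht⟩ := ho₁
      omega
    obtain ⟨e₂, he₂, he₂'⟩ : ∃ e₂ ∈ E, e₂ ∉ ({1, z, e₁, e₁ * z} : Finset S) := by
      by_contra hcon
      push Not at hcon
      have h1 : (E : Set S) ⊆ (({1, z, e₁, e₁ * z} : Finset S) : Set S) := fun x hx => hcon x hx
      have h2 := Set.ncard_le_ncard h1 (Set.toFinite _)
      rw [Set.ncard_coe_finset] at h2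
      have h3 : (E : Set S).ncard = 8 := hE
      have h5 : ({1, z, e₁, e₁ * z} : Finset S).card ≤ 4 := Finset.card_le_four
      omega
    simp only [Finset.mem_insert, Finset.mem_singleton, not_or] at he₂'
    obtain ⟨n1, n2, n3, n4⟩ := he₂'
    have he₂A : e₂ ∉ A := by
      intro h
      rcases huniq e₂ h (hE2 e₂ he₂) with h | h
      · exact n1 h
      · exact n2 h
    have he₁₂A : e₁ * e₂ ∉ A := by
      intro h
      have e1i : e₁ * e₁ = 1 := hE2 e₁ he₁
      rcases huniq _ h (hE2 _ (E.mul_mem he₁ he₂)) with h | h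
      · apply n3
        have := congrArg (fun x => e₁ * x) h
        simp only [← mul_assoc, e1i, one_mul, mul_one] at this
        exact this
      · apply n4
        have := congrArg (fun x => e₁ * x) h
        simp only [← mul_assoc, e1i, one_mul] at this
        exact this
    obtain ⟨r₂, hr₂⟩ := hr e₂
    have ho₂ := odd_exp hS ha1 hr₂
    by_cases h4' : r₂ % 4 = 1
    · exact ⟨e₂, he₂, he₂A, r₂, h4', hr₂⟩
    have h43' : r₂ % 4 = 3 := by
      obtain ⟨t, ht⟩ := ho₂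
      omega
    refine ⟨e₁ * e₂, E.mul_mem he₁ he₂, he₁₂A, r₁ * r₂, ?_, ?_⟩
    · rw [Int.mul_emod, h43, h43']; norm_num
    · rw [show e₁ * e₂ * a * (e₁ * e₂)⁻¹ = e₁ * (e₂ * a * e₂⁻¹) * e₁⁻¹ by group, hr₂, ← conj_zpow, hr₁, ← zpow_mul]
  have hee := hE2 e heE
  have he1 : e ≠ 1 := by rintro rfl; exact heA A.one_mem
  have hze : z ≠ e := by rintro rfl; exact heA hzA
  have hcze : z * e = e * z := by
    have := hzc e
    rw [mul_inv_eq_iff_eq_mul] at this
    exact this.symm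
  obtain ⟨K, hK, hzK, heK, hKmem⟩ := H1.exists_klein hz1 he1 hze hzz hee hcze
  refine ⟨K, ⟨?_⟩, hK.card_four, fun v hv => H1.klein_sq hK hv⟩
  intro n hn g
  have hge : g * e * g⁻¹ ∈ K := by
    have hx : g * e * g⁻¹ * e⁻¹ ∈ A := by
      rw [← hCA]
      exact comm_cent_cyclic A hc (Subgroup.commutator_mem_commutator (Subgroup.mem_top g) (Subgroup.mem_top e))
    obtain ⟨i, hi⟩ := hgen' _ hx
    have h1 : g * e * g⁻¹ = a ^ i * e := by rw [← hi]; group
    have h2 : (a ^ i * e) * (a ^ i * e) = 1 := by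
      rw [← h1, show g * e * g⁻¹ * (g * e * g⁻¹) = g * (e * e) * g⁻¹ by group, hee]; group
    have hei : e⁻¹ = e := inv_eq_of_mul_eq_one_left hee
    have h3 : a ^ i * (e * a ^ i * e⁻¹) = 1 := by
      rw [hei, ← mul_assoc, ← mul_assoc]
      rw [← mul_assoc] at h2
      exact h2
    rw [← conj_zpow, her, ← zpow_mul, ← zpow_add] at h3
    obtain ⟨q, hq⟩ : ∃ q : ℤ, r = 4 * q + 1 := ⟨r / 4, by omega⟩
    have h4 : (a ^ i * a ^ i) ^ (2 * q + 1) = 1 := by
      rw [← zpow_add, ← zpow_mul, show (i + i) * (2 * q + 1) = i + r * i by rw [hq]; ring]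
      exact h3
    have h5 := odd_zpow hS ⟨q, rfl⟩ h4
    rw [h1]
    rcases huniq _ (A.zpow_mem haA i) h5 with h6 | h6
    · rw [h6, one_mul]; exact heK
    · rw [h6]; exact K.mul_mem hzK heK
  rcases (hKmem n).mp hn with rfl | rfl | rfl | rfl
  · rw [mul_one, mul_inv_cancel]; exact K.one_mem
  · rw [hzc]; exact hzK
  · exact hge
  · rw [show g * (z * e) * g⁻¹ = (g * z * g⁻¹) * (g * e * g⁻¹) by group, hzc]
    exact K.mul_mem hzK hge

theorem normV4 {S : Type u} [Group S] [Finite S] (hS : IsPGroup 2 S) (E : Subgroup S) (hE : Nat.card E = 8) (hE2 : ∀ e ∈ E, e * e = 1) :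
    ∃ V : Subgroup S, V.Normal ∧ Nat.card V = 4 ∧ ∀ v ∈ V, v * v = 1 := by
  haveI : Fact (Nat.Prime 2) := ⟨Nat.prime_two⟩
  haveI : Group.IsNilpotent S := hS.isNilpotent
  obtain ⟨A, hAn, hAc, hAmax⟩ := H1.exists_maximal_normal_abelian (G := S)
  have hCA : Subgroup.centralizer (A : Set S) = A := H1.centralizer_eq_of_maximal_normal_abelian A hAmax
  by_cases hc : IsCyclic A
  · exact normV4_cyc hS A hAn hCA hc E hE hE2
  · exact normV4_noncyc hS A hAn hAc hc

/-- every involution of an index-≤2 subgroup lies in / centralizes an `E_8` -/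
theorem rank3_T {S : Type u} [Group S] [Finite S] (hS : IsPGroup 2 S) (E₀ : Subgroup S) (hE : Nat.card E₀ = 8) (hE2 : ∀ e ∈ E₀, e * e = 1) :
    ∃ T : Subgroup S, (T.index = 1 ∨ T.index = 2) ∧ ∀ y ∈ T, y * y = 1 → ∃ E : Subgroup S, (∀ e ∈ E, e * y = y * e) ∧ Nat.card E = 8 ∧ ∀ e ∈ E, e * e = 1 := by
  classical
  haveI : Fact (Nat.Prime 2) := ⟨Nat.prime_two⟩
  haveI : Group.IsNilpotent S := hS.isNilpotent
  obtain ⟨V, hVn, hV, hV2⟩ := normV4 hS E₀ hE hE2
  have hVb : V ≠ ⊥ := by rintro rfl; simp at hV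
  obtain ⟨z, hz⟩ := Subgroup.ne_bot_iff_exists_ne_one.mp (H1.inf_center_ne_bot V hVb)
  have hzV : (z : S) ∈ V := z.2.1
  have hzc : (z : S) ∈ Subgroup.center S := z.2.2
  have hz1 : (z : S) ≠ 1 := fun h => hz (Subtype.ext h)
  obtain ⟨v, hvV, hv1, hvz⟩ := H1.exists_mem_ne_one_ne (V := V) (by rw [hV]; norm_num) (z : S)
  have hzcomm : ∀ x : S, x * z = z * x := fun x => Subgroup.mem_center_iff.mp hzc x
  have hVcomm : ∀ x ∈ V, ∀ y ∈ V, x * y = y * x := by
    intro x hx y hy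
    have h1 := hV2 _ (V.mul_mem hx hy)
    have h4 : (x * y)⁻¹ = x * y := inv_eq_of_mul_eq_one_left h1
    rw [mul_inv_rev, inv_eq_of_mul_eq_one_left (hV2 x hx), inv_eq_of_mul_eq_one_left (hV2 y hy)] at h4
    exact h4.symm
  obtain ⟨K, hK, hzK, hvK, hKmem⟩ := H1.exists_klein hz1 hv1 (Ne.symm hvz) (hV2 _ hzV) (hV2 _ hvV) (hVcomm _ hzV _ hvV)
  have hKV : K = V := by
    apply Subgroup.eq_of_le_of_card_ge
    · intro x hx
      rcases (hKmem x).mp hx with rfl | rfl | rfl | rfl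
      · exact V.one_mem
      · exact hzV
      · exact hvV
      · exact V.mul_mem hzV hvV
    · rw [hV, hK.card_four]
  have hVmem : ∀ x ∈ V, x = 1 ∨ x = z ∨ x = v ∨ x = z * v := by
    intro x hx
    exact (hKmem x).mp (hKV ▸ hx)
  set T := Subgroup.centralizer ({v} : Set S) with hT
  have hTmem : ∀ x, x ∈ T ↔ x * v = v * x := fun x => Subgroup.mem_centralizer_singleton_iff
  have hTV : ∀ x ∈ T, ∀ w ∈ V, x * w = w * x := by
    intro x hx w hw
    rw [hTmem] at hx
    rcases hVmem w hw with rfl | rfl | rfl | rfl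
    · simp
    · exact hzcomm x
    · exact hx
    · rw [← mul_assoc, hzcomm x, mul_assoc, hx, mul_assoc]
  have hTi : T.index = 1 ∨ T.index = 2 := by
    have h1 := H5.card_isConj v
    have h2 : Nat.card {x : S // IsConj v x} ≤ 2 := by
      have h3 : {x : S | IsConj v x} ⊆ (({v, z * v} : Finset S) : Set S) := by
        intro x hx
        obtain ⟨g, hg⟩ := isConj_iff.mp hx
        have hxV : x ∈ V := hg ▸ hVn.conj_mem v hvV g
        simp only [Finset.coe_insert, Finset.coe_singleton, Set.mem_insert_iff, Set.mem_singleton_iff]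
        rcases hVmem x hxV with h | h | h | h
        · exfalso
          apply hv1
          rw [h] at hg
          have := congrArg (fun x => g⁻¹ * x * g) hg
          simpa [mul_assoc] using this
        · exfalso
          apply hvz
          rw [h] at hg
          have h5 := congrArg (fun x => g⁻¹ * x * g) hg
          simp only [mul_assoc, inv_mul_cancel_left, inv_mul_cancel, mul_one] at h5
          rw [h5, ← hzcomm g, inv_mul_cancel_left]
        · exact Or.inl h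
        · exact Or.inr h
      have h4 := Set.ncard_le_ncard h3 (Set.toFinite _)
      rw [Set.ncard_coe_finset] at h4
      exact le_trans h4 Finset.card_le_two
    have h5 : 0 < T.index := Nat.pos_of_ne_zero Subgroup.index_ne_zero_of_finite
    rw [h1] at h2
    have : T.index ≤ 2 := h2
    omega
  -- an involution of T outside V
  obtain ⟨w, hwT, hw2, hwV⟩ : ∃ w ∈ T, w * w = 1 ∧ w ∉ V := by
    by_contra hcon
    push Not at hcon
    have h1 : E₀ ⊓ T ≤ V := fun x hx => hcon x hx.2 (hE2 x hx.1)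
    have h2 : 4 ≤ Nat.card ↥(E₀ ⊓ T) := by
      have h3 := Subgroup.relIndex_mul_relIndex (⊥ : Subgroup S) (E₀ ⊓ T) E₀ bot_le inf_le_left
      rw [Subgroup.relIndex_bot_left, Subgroup.relIndex_bot_left, hE] at h3
      have h4 : (E₀ ⊓ T).relIndex E₀ ≤ 2 := by
        rw [Subgroup.inf_relIndex_left]
        have h5 : T.relIndex E₀ ≤ T.relIndex ⊤ := Subgroup.relIndex_le_of_le_right le_top (by rw [Subgroup.relIndex_top_right]; exact Subgroup.index_ne_zero_of_finite)
        rw [Subgroup.relIndex_top_right] at h5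
        omega
      have h6 : 0 < (E₀ ⊓ T).relIndex E₀ := by
        rcases Nat.eq_zero_or_pos ((E₀ ⊓ T).relIndex E₀) with h | h
        · rw [h] at h3; omega
        · exact h
      interval_cases (E₀ ⊓ T).relIndex E₀ <;> omega
    have h3 : E₀ ⊓ T = V := Subgroup.eq_of_le_of_card_ge h1 (by rw [hV]; exact h2)
    have h4 : v ∈ E₀ := by
      have : v ∈ E₀ ⊓ T := h3 ▸ hvV
      exact this.1
    have h5 : E₀ ≤ T := by
      intro x hx
      rw [hTmem]
      have h1 := hE2 _ (E₀.mul_mem hx h4)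
      have h4' : (x * v)⁻¹ = x * v := inv_eq_of_mul_eq_one_left h1
      rw [mul_inv_rev, inv_eq_of_mul_eq_one_left (hE2 x hx), inv_eq_of_mul_eq_one_left (hE2 v h4)] at h4'
      exact h4'.symm
    rw [inf_eq_left.mpr h5] at h3
    rw [h3, hV] at hE
    omega
  have hbuild : ∀ w ∈ T, w * w = 1 → w ∉ V → Nat.card ↥(V ⊔ Subgroup.zpowers w) = 8 ∧ ∀ e ∈ V ⊔ Subgroup.zpowers w, e * e = 1 := by
    intro w hwT hw2 hwV
    have hw1 : w ≠ 1 := by rintro rfl; exact hwV V.one_mem
    have hwo : orderOf w = 2 := orderOf_eq_prime (by rw [pow_two]; exact hw2) hw1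
    have hzw : ∀ x ∈ Subgroup.zpowers w, x = 1 ∨ x = w := by
      intro x hx
      obtain ⟨k, hk⟩ := Subgroup.mem_zpowers_iff.mp hx
      rcases Int.even_or_odd k with ⟨j, hj⟩ | ⟨j, hj⟩
      · left
        rw [← hk, hj, ← two_mul, zpow_mul, show w ^ (2 : ℤ) = w * w by rw [zpow_two], hw2, one_zpow]
      · right
        rw [← hk, hj, zpow_add, zpow_mul, show w ^ (2 : ℤ) = w * w by rw [zpow_two], hw2, one_zpow, one_mul, zpow_one]
    constructor
    · rw [H1.card_sup_of_inf_bot_normal, hV, Nat.card_zpowers, hwo]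
      rw [eq_bot_iff]
      rintro x ⟨hx1, hx2⟩
      rcases hzw x hx2 with h | h
      · exact h
      · exact absurd (h ▸ hx1) hwV
    · intro e he
      rw [Subgroup.mem_sup_of_normal_left] at he
      obtain ⟨n, hn, y, hy, rfl⟩ := he
      rcases hzw y hy with rfl | rfl
      · rw [mul_one]; exact hV2 n hn
      · rw [mul_assoc, ← mul_assoc y n y, hTV y hwT n hn, mul_assoc n y y, hw2, mul_one, hV2 n hn]
  refine ⟨T, hTi, ?_⟩
  intro y hyT hy2
  by_cases hyV : y ∈ V
  · obtain ⟨h1, h2⟩ := hbuild w hwT hw2 hwV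
    refine ⟨_, ?_, h1, h2⟩
    have h3 : V ⊔ Subgroup.zpowers w ≤ Subgroup.centralizer {y} := by
      refine sup_le ?_ (Subgroup.zpowers_le.mpr ?_)
      · intro x hx
        rw [Subgroup.mem_centralizer_singleton_iff]
        exact hVcomm x hx y hyV
      · rw [Subgroup.mem_centralizer_singleton_iff]
        exact hTV w hwT y hyV
    intro e he
    exact Subgroup.mem_centralizer_singleton_iff.mp (h3 he)
  · obtain ⟨h1, h2⟩ := hbuild y hyT hy2 hyV
    refine ⟨_, ?_, h1, h2⟩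
    have h3 : V ⊔ Subgroup.zpowers y ≤ Subgroup.centralizer {y} := by
      refine sup_le ?_ (Subgroup.zpowers_le.mpr ?_)
      · intro x hx
        rw [Subgroup.mem_centralizer_singleton_iff]
        exact (hTV y hyT x hx).symm
      · rw [Subgroup.mem_centralizer_singleton_iff]
    intro e he
    exact Subgroup.mem_centralizer_singleton_iff.mp (h3 he)

theorem rank3_main {G : Type u} [Group G] [Finite G] (hno : ∀ H : Subgroup G, H.index ≠ 2) (hrank : ∃ E : Subgroup G, Nat.card E = 8 ∧ ∀ e ∈ E, e ^ 2 = 1)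
    (x : G) (hx : orderOf x = 2) : ∃ E : Subgroup G, E ≤ Subgroup.centralizer ({x} : Set G) ∧ Nat.card E = 8 ∧ ∀ e ∈ E, e ^ 2 = 1 := by
  classical
  haveI : Fact (Nat.Prime 2) := ⟨Nat.prime_two⟩
  obtain ⟨E, hE, hE2⟩ := hrank
  have hEp : IsPGroup 2 E := IsPGroup.of_card (n := 3) (by rw [hE]; norm_num)
  obtain ⟨P, hP⟩ := hEp.exists_le_sylow
  have hE' : Nat.card (E.subgroupOf (P : Subgroup G)) = 8 := by
    rw [← hE]; exact Nat.card_congr (Subgroup.subgroupOfEquivOfLe hP).toEquiv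
  obtain ⟨T, hTi, hT⟩ := rank3_T P.isPGroup' (E.subgroupOf (P : Subgroup G)) hE' (by
    intro e he
    apply Subtype.ext
    have := hE2 e (Subgroup.mem_subgroupOf.mp he)
    rw [pow_two] at this
    exact this)
  -- it suffices to conjugate `x` into `T`
  have hfin : (∃ g : G, ∃ y ∈ T, (y : G) = g * x * g⁻¹) → ∃ E : Subgroup G, E ≤ Subgroup.centralizer ({x} : Set G) ∧ Nat.card E = 8 ∧ ∀ e ∈ E, e ^ 2 = 1 := by
    rintro ⟨g, y, hy, hyx⟩
    have hxx : x * x = 1 := by rw [← pow_two, ← hx, pow_orderOf_eq_one]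
    have hyy : y * y = 1 := by
      apply Subtype.ext
      show (y : G) * y = 1
      rw [hyx, show g * x * g⁻¹ * (g * x * g⁻¹) = g * (x * x) * g⁻¹ by group, hxx]; group
    obtain ⟨F, hFc, hF, hF2⟩ := hT y hy hyy
    refine ⟨(F.map (P : Subgroup G).subtype).map (MulAut.conj g⁻¹).toMonoidHom, ?_, ?_, ?_⟩
    · rintro _ ⟨_, ⟨f, hf, rfl⟩, rfl⟩
      rw [Subgroup.mem_centralizer_singleton_iff]
      have h1 : (f : G) * (g * x * g⁻¹) = (g * x * g⁻¹) * f := by
        rw [← hyx]; exact congrArg Subtype.val (hFc f hf)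
      simp only [Subgroup.coe_subtype, MulEquiv.toMonoidHom_eq_coe, MonoidHom.coe_coe, MulAut.conj_apply, inv_inv]
      have h2 := congrArg (fun t => g⁻¹ * t * g) h1
      simp only [mul_assoc, inv_mul_cancel_left, inv_mul_cancel, mul_one] at h2 ⊢
      exact h2
    · rw [Nat.card_congr (Subgroup.equivMapOfInjective _ _ (MulAut.conj g⁻¹).injective).symm.toEquiv,
        Nat.card_congr (Subgroup.equivMapOfInjective _ _ (Subgroup.subtype_injective _)).symm.toEquiv, hF]
    · rintro _ ⟨_, ⟨f, hf, rfl⟩, rfl⟩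
      rw [← map_pow, ← map_pow, pow_two, hF2 f hf, map_one, map_one]
  -- conjugate into the Sylow
  have hxp : IsPGroup 2 (Subgroup.zpowers x) := IsPGroup.of_card (n := 1) (by rw [Nat.card_zpowers, hx]; norm_num)
  obtain ⟨Q, hQ⟩ := hxp.exists_le_sylow
  obtain ⟨g, hg⟩ := MulAction.exists_smul_eq G Q P
  have hgx : g * x * g⁻¹ ∈ (P : Subgroup G) := by
    rw [← hg]
    exact ⟨x, hQ (Subgroup.mem_zpowers x), rfl⟩
  have hgo : orderOf (g * x * g⁻¹) = 2 := by
    rw [show g * x * g⁻¹ = MulAut.conj g x from rfl, MulEquiv.orderOf_eq, hx]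
  by_cases hgT : (⟨g * x * g⁻¹, hgx⟩ : (P : Subgroup G)) ∈ T
  · exact hfin ⟨g, _, hgT, rfl⟩
  · rcases hTi with h1 | h1
    · exact absurd (Subgroup.index_eq_one.mp h1 ▸ Subgroup.mem_top _) hgT
    · have h2 : (T.map (P : Subgroup G).subtype).relIndex (P : Subgroup G) = 2 := by
        rw [Subgroup.relIndex, Subgroup.subgroupOf, Subgroup.comap_map_eq_self_of_injective (Subgroup.subtype_injective _), h1]
      rcases S0111.result P (T.map (P : Subgroup G).subtype) (Subgroup.map_subtype_le T) h2 (g * x * g⁻¹) hgo hgx (by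
        rintro ⟨t, ht, ht'⟩
        apply hgT
        have : t = ⟨g * x * g⁻¹, hgx⟩ := Subtype.ext ht'
        rwa [← this]) with ⟨M, _, hM, _⟩ | ⟨k, hk⟩
      · exact absurd hM (hno M)
      · obtain ⟨t, ht, ht'⟩ := hk
        refine hfin ⟨k * g, t, ht, ?_⟩
        rw [show k * g * x * (k * g)⁻¹ = k * (g * x * g⁻¹) * k⁻¹ by group]
        exact ht'

end Cfsg.Agent.H4
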