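import Cfsg.Agent.H4.MaxCl
import Cfsg.Agent.H4.NormV4
import Cfsg.Agent.S0063
import Cfsg.Agent.H7.Dihedral

set_option linter.all false
set_option autoImplicit false

namespace Cfsg.Agent.H4
open scoped commutatorElement
universe u

/-- centre and quotient in maximal class -/
theorem mc_center {p : ℕ} [hpf : Fact p.Prime] {X : Type u} [Group X] [Finite X] {n : ℕ} (hn : 3 ≤ n) (hX : Nat.card X = p ^ n)
    (hc : Group.nilpotencyClass X = n - 1) : Nat.card (Subgroup.center X) = p ∧ Nat.card (X ⧸ Subgroup.center X) = p ^ (n - 1) ∧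
      Group.nilpotencyClass (X ⧸ Subgroup.center X) = n - 1 - 1 := by
  have hp : p.Prime := Fact.out
  have hP : IsPGroup p X := IsPGroup.of_card hX
  haveI hnil : Group.IsNilpotent X := hP.isNilpotent
  haveI : Nontrivial X := by
    apply Finite.one_lt_card_iff_nontrivial.mp
    rw [hX]; exact Nat.one_lt_pow (by omega) hp.one_lt
  haveI := hP.center_nontrivial
  rw [Group.nilpotencyClass_eq_quotient_center_plus_one] at hc
  have hc' : Group.nilpotencyClass (X ⧸ Subgroup.center X) = n - 1 - 1 := by omega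
  have hcard := Subgroup.card_eq_card_quotient_mul_card_subgroup (Subgroup.center X)
  obtain ⟨m, hmn, hm⟩ := (Nat.dvd_prime_pow hp).mp (show Nat.card (X ⧸ Subgroup.center X) ∣ p ^ n from hX ▸ hcard ▸ dvd_mul_right _ _)
  have hlt : m < n := by
    have h1 : Nat.card (X ⧸ Subgroup.center X) < Nat.card X := by
      rw [hcard]
      exact lt_mul_of_one_lt_right Nat.card_pos (Finite.one_lt_card)
    rw [hX, hm] at h1
    exact (Nat.pow_lt_pow_iff_right hp.one_lt).mp h1
  have hm1 : 1 < m := by
    by_contra hm1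
    have hcyc : IsCyclic (X ⧸ Subgroup.center X) := by
      have : m = 0 ∨ m = 1 := by omega
      rcases this with rfl | rfl
      · rw [pow_zero] at hm
        have := (Nat.card_eq_one_iff_unique.mp hm).1
        infer_instance
      · rw [pow_one] at hm
        exact isCyclic_of_prime_card hm
    have hcomm : IsMulCommutative X := isMulCommutative_of_isCyclic_quotient_center_self X
    have htop : Subgroup.center X = ⊤ := by
      rw [eq_top_iff]; intro x _
      rw [Subgroup.mem_center_iff]; intro g; exact mul_comm' g x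
    have : Subsingleton (X ⧸ Subgroup.center X) := QuotientGroup.subsingleton_iff.mpr htop
    rw [Group.nilpotencyClass_zero_iff_subsingleton.mpr this] at hc'
    omega
  have h2 := S0063.result p m hm hm1
  have hmn' : m = n - 1 := by omega
  refine ⟨?_, by rw [hm, hmn'], hc'⟩
  rw [hm, hX] at hcard
  have h3 : p ^ n = p ^ m * p := by rw [← pow_succ]; congr 1; omega
  rw [h3] at hcard
  exact (Nat.eq_of_mul_eq_mul_left (pow_pos hp.pos m) hcard).symm

/-- `|X'| |Z(X) ∩ C| = |C|` when `C` is abelian normal and `X = C⟨t⟩` -/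
theorem comm_card {X : Type u} [Group X] [Finite X] (C : Subgroup X) [hCn : C.Normal] (hC : ∀ a ∈ C, ∀ b ∈ C, a * b = b * a) (t : X)
    (ht : C ⊔ Subgroup.zpowers t = ⊤) : (∀ c ∈ C, t * c = c * t → c ∈ Subgroup.center X) ∧
      Nat.card (commutator X) * Nat.card ↥(Subgroup.center X ⊓ C) = Nat.card C := by
  classical
  have hcen : ∀ c ∈ C, t * c = c * t → c ∈ Subgroup.center X := by
    intro c hc htc
    have h1 : C ⊔ Subgroup.zpowers t ≤ Subgroup.centralizer {c} := by
      refine sup_le ?_ (Subgroup.zpowers_le.mpr ?_)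
      · intro x hx
        rw [Subgroup.mem_centralizer_singleton_iff]
        exact hC x hx c hc
      · rw [Subgroup.mem_centralizer_singleton_iff]; exact htc
    rw [ht] at h1
    rw [Subgroup.mem_center_iff]
    intro g
    exact Subgroup.mem_centralizer_singleton_iff.mp (h1 (Subgroup.mem_top g))
  refine ⟨hcen, ?_⟩
  have hmem : ∀ c ∈ C, t * c * t⁻¹ * c⁻¹ ∈ C := fun c hc => C.mul_mem (hCn.conj_mem c hc t) (C.inv_mem hc)
  let φ : C →* C :=
    { toFun := fun c => ⟨t * c * t⁻¹ * (c : X)⁻¹, hmem c c.2⟩
      map_one' := Subtype.ext (by simp)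
      map_mul' := by
        rintro ⟨a, ha⟩ ⟨b, hb⟩
        apply Subtype.ext
        show t * (a * b) * t⁻¹ * (a * b)⁻¹ = t * a * t⁻¹ * a⁻¹ * (t * b * t⁻¹ * b⁻¹)
        have h1 := hC a⁻¹ (C.inv_mem ha) _ (hmem b hb)
        rw [mul_assoc (t * a * t⁻¹) a⁻¹, h1, hC a ha b hb]
        rw [hC b hb a ha, mul_inv_rev, hC b⁻¹ (C.inv_mem hb) a⁻¹ (C.inv_mem ha)]
        rw [hC a⁻¹ (C.inv_mem ha) b⁻¹ (C.inv_mem hb)]
        group }
  have hφ : ∀ c : C, ((φ c : C) : X) = t * c * t⁻¹ * (c : X)⁻¹ := fun c => rfl
  have hker : φ.ker = (Subgroup.center X).subgroupOf C := by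
    ext c
    rw [MonoidHom.mem_ker, Subgroup.mem_subgroupOf]
    constructor
    · intro h
      have h1 : t * c * t⁻¹ * (c : X)⁻¹ = 1 := by rw [← hφ, h]; rfl
      rw [mul_inv_eq_one, mul_inv_eq_iff_eq_mul] at h1
      exact hcen c c.2 h1
    · intro h
      apply Subtype.ext
      rw [hφ, (Subgroup.mem_center_iff.mp h) t]
      simp
  set D := φ.range.map C.subtype with hD
  have hDC : D ≤ C := Subgroup.map_subtype_le _
  have hDmem : ∀ x, x ∈ D ↔ ∃ c ∈ C, x = t * c * t⁻¹ * c⁻¹ := by
    intro x
    constructor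
    · rintro ⟨_, ⟨c, rfl⟩, rfl⟩
      exact ⟨c, c.2, rfl⟩
    · rintro ⟨c, hc, rfl⟩
      exact ⟨_, ⟨⟨c, hc⟩, rfl⟩, rfl⟩
  haveI hDn : D.Normal := by
    rw [← Subgroup.normalizer_eq_top_iff, eq_top_iff, ← ht]
    refine sup_le ?_ (Subgroup.zpowers_le.mpr ?_)
    · intro c hc
      apply Subgroup.mem_normalizer_fintype
      intro d hd
      rw [hC c hc d (hDC hd), mul_inv_cancel_right]
      exact hd
    · apply Subgroup.mem_normalizer_fintype
      intro d hd
      obtain ⟨c, hc, rfl⟩ := (hDmem d).mp hd
      exact (hDmem _).mpr ⟨t * c * t⁻¹, hCn.conj_mem c hc t, by group⟩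
  have hcomm : commutator X = D := by
    apply le_antisymm
    · set π := QuotientGroup.mk' D
      have htop : C.map π ⊔ Subgroup.zpowers (π t) = ⊤ := by
        rw [← MonoidHom.map_zpowers, ← Subgroup.map_sup, ht, ← MonoidHom.range_eq_map, QuotientGroup.range_mk']
      have hCt : ∀ c ∈ C, π t * π c = π c * π t := by
        intro c hc
        have h1 : π (t * c * t⁻¹ * c⁻¹) = 1 := (QuotientGroup.eq_one_iff _).mpr ((hDmem _).mpr ⟨c, hc, rfl⟩)
        rw [map_mul, map_mul, map_mul, map_inv, map_inv, mul_inv_eq_one, mul_inv_eq_iff_eq_mul] at h1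
        exact h1
      have h1 : C.map π ≤ Subgroup.center (X ⧸ D) := by
        rintro _ ⟨c, hc, rfl⟩
        rw [Subgroup.mem_center_iff]
        intro g
        have h2 : C.map π ⊔ Subgroup.zpowers (π t) ≤ Subgroup.centralizer {π c} := by
          refine sup_le ?_ (Subgroup.zpowers_le.mpr ?_)
          · rintro _ ⟨x, hx, rfl⟩
            rw [Subgroup.mem_centralizer_singleton_iff, ← map_mul, hC x hx c hc, map_mul]
          · rw [Subgroup.mem_centralizer_singleton_iff]; exact hCt c hc
        rw [htop] at h2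
        exact Subgroup.mem_centralizer_singleton_iff.mp (h2 (Subgroup.mem_top g))
      have h3 : Subgroup.center (X ⧸ D) = ⊤ := by
        rw [eq_top_iff, ← htop]
        refine sup_le h1 (Subgroup.zpowers_le.mpr ?_)
        rw [Subgroup.mem_center_iff]
        intro g
        have h2 : C.map π ⊔ Subgroup.zpowers (π t) ≤ Subgroup.centralizer {π t} := by
          refine sup_le ?_ (Subgroup.zpowers_le.mpr ?_)
          · rintro _ ⟨x, hx, rfl⟩
            rw [Subgroup.mem_centralizer_singleton_iff]; exact (hCt x hx).symm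
          · rw [Subgroup.mem_centralizer_singleton_iff]
        rw [htop] at h2
        exact Subgroup.mem_centralizer_singleton_iff.mp (h2 (Subgroup.mem_top g))
      rw [_root_.commutator_def, Subgroup.commutator_le]
      intro a _ b _
      rw [← QuotientGroup.eq_one_iff, commutatorElement_def]
      have h4 := (Subgroup.mem_center_iff.mp (h3 ▸ Subgroup.mem_top (π b))) (π a)
      simp only [π, QuotientGroup.mk'_apply] at h4
      simp only [QuotientGroup.mk_mul, QuotientGroup.mk_inv]
      rw [h4]; group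
    · intro x hx
      obtain ⟨c, hc, rfl⟩ := (hDmem x).mp hx
      have := Subgroup.commutator_mem_commutator (Subgroup.mem_top t) (Subgroup.mem_top c)
      rwa [commutatorElement_def] at this
  have h1 : Nat.card (commutator X) = Nat.card φ.range := by
    rw [hcomm, hD]
    exact Nat.card_congr (Subgroup.equivMapOfInjective _ _ (Subgroup.subtype_injective _)).symm.toEquiv
  have h2 : Nat.card ↥(Subgroup.center X ⊓ C) = Nat.card φ.ker := by
    rw [hker, ← Subgroup.inf_subgroupOf_right]
    exact (Nat.card_congr (Subgroup.subgroupOfEquivOfLe inf_le_right).toEquiv).symm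
  rw [h1, h2, ← Subgroup.index_ker, mul_comm]
  exact φ.ker.card_mul_index

/-- index two: adjoining an element gives everything -/
theorem sup_top_of_index_two {X : Type u} [Group X] [Finite X] {C : Subgroup X} (hC : C.index = 2) {t : X} (ht : t ∉ C) :
    C ⊔ Subgroup.zpowers t = ⊤ := by
  have h1 : C < C ⊔ Subgroup.zpowers t := by
    refine lt_of_le_of_ne le_sup_left ?_
    intro h
    exact ht (h ▸ Subgroup.mem_sup_right (Subgroup.mem_zpowers t))
  have h2 := Subgroup.relIndex_mul_index h1.le
  rw [hC] at h2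
  have h3 : C.relIndex (C ⊔ Subgroup.zpowers t) ≠ 1 := by
    intro h
    rw [Subgroup.relIndex_eq_one] at h
    exact h1.not_ge h
  have h4 : (C ⊔ Subgroup.zpowers t).index ∣ 2 := Dvd.intro_left _ h2
  rcases (Nat.dvd_prime Nat.prime_two).mp h4 with h | h
  · exact Subgroup.index_eq_one.mp h
  · exfalso
    rw [h] at h2
    omega

theorem mc_cyclic (n : ℕ) (hn : 3 ≤ n) : ∀ (X : Type u) [Group X] [Finite X], Nat.card X = 2 ^ n → Group.nilpotencyClass X = n - 1 →
    ∃ C : Subgroup X, IsCyclic C ∧ C.index = 2 := by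
  classical
  haveI : Fact (Nat.Prime 2) := ⟨Nat.prime_two⟩
  induction n, hn using Nat.le_induction with
  | base =>
    intro X _ _ hX hc
    have hP : IsPGroup 2 X := IsPGroup.of_card hX
    haveI hnil : Group.IsNilpotent X := hP.isNilpotent
    have hncomm : ¬ ∀ a b : X, a * b = b * a := by
      intro hcomm
      have h1 : Subgroup.center X = ⊤ := by
        rw [eq_top_iff]; intro x _
        rw [Subgroup.mem_center_iff]; intro g; exact hcomm g x
      obtain ⟨h2, _, _⟩ := mc_center (p := 2) le_rfl hX hc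
      rw [h1, Subgroup.card_top, hX] at h2
      norm_num at h2
    obtain ⟨x, hx⟩ : ∃ x : X, x * x ≠ 1 := by
      by_contra hcon
      push Not at hcon
      apply hncomm
      intro a b
      have h4 : (a * b)⁻¹ = a * b := inv_eq_of_mul_eq_one_left (hcon _)
      rw [mul_inv_rev, inv_eq_of_mul_eq_one_left (hcon a), inv_eq_of_mul_eq_one_left (hcon b)] at h4
      exact h4.symm
    obtain ⟨k, hk, hk'⟩ := (Nat.dvd_prime_pow Nat.prime_two).mp (hX ▸ orderOf_dvd_natCard x)
    have hk2 : k = 2 := by
      interval_cases k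
      · exfalso; apply hx
        rw [pow_zero, orderOf_eq_one_iff] at hk'
        rw [hk', mul_one]
      · exfalso; apply hx
        rw [← pow_two, ← orderOf_dvd_iff_pow_eq_one, hk']; norm_num
      · rfl
      · exfalso
        apply hncomm
        have h1 : Subgroup.zpowers x = ⊤ := by
          apply Subgroup.eq_top_of_card_eq
          rw [Nat.card_zpowers, hk', hX]
        intro a b
        obtain ⟨i, rfl⟩ := Subgroup.mem_zpowers_iff.mp (h1 ▸ Subgroup.mem_top a)
        obtain ⟨j, rfl⟩ := Subgroup.mem_zpowers_iff.mp (h1 ▸ Subgroup.mem_top b)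
        rw [← zpow_add, ← zpow_add, add_comm]
    refine ⟨Subgroup.zpowers x, inferInstance, ?_⟩
    have h1 := (Subgroup.zpowers x).card_mul_index
    rw [Nat.card_zpowers, hk', hk2, hX] at h1
    omega
  | succ n hn ih =>
    intro X _ _ hX hc
    have hP : IsPGroup 2 X := IsPGroup.of_card hX
    haveI hnil : Group.IsNilpotent X := hP.isNilpotent
    obtain ⟨hZ, hXZ, hcZ⟩ := mc_center (p := 2) (by omega) hX hc
    simp only [Nat.add_sub_cancel] at hXZ hcZ
    obtain ⟨Cb, hCbc, hCbi⟩ := ih (X ⧸ Subgroup.center X) hXZ hcZ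
    set Z := Subgroup.center X with hZdef
    set π := QuotientGroup.mk' Z with hπ
    obtain ⟨⟨cb, hcb⟩, hgen⟩ := hCbc.exists_generator
    obtain ⟨c, hc'⟩ := QuotientGroup.mk'_surjective Z cb
    have hgen' : ∀ y ∈ Cb, ∃ i : ℤ, y = (π c) ^ i := by
      intro y hy
      obtain ⟨i, hi⟩ := Subgroup.mem_zpowers_iff.mp (hgen ⟨y, hy⟩)
      refine ⟨i, ?_⟩
      rw [hπ, hc']
      exact (congrArg Subtype.val hi).symm
    set C := Cb.comap π with hC
    have hCi : C.index = 2 := by
      rw [hC, Subgroup.index_comap_of_surjective _ (QuotientGroup.mk'_surjective Z), hCbi]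
    haveI hCn : C.Normal := Subgroup.normal_of_index_eq_two hCi
    have hcC : c ∈ C := by
      rw [hC, Subgroup.mem_comap, hπ, hc']; exact hcb
    have hCmem : ∀ x ∈ C, ∃ i : ℤ, ∃ ζ ∈ Z, x = c ^ i * ζ := by
      intro x hx
      obtain ⟨i, hi⟩ := hgen' (π x) hx
      refine ⟨i, (c ^ i)⁻¹ * x, ?_, by group⟩
      rw [← QuotientGroup.eq_one_iff]
      have : π ((c ^ i)⁻¹ * x) = 1 := by rw [map_mul, map_inv, map_zpow, hi, inv_mul_cancel]
      exact this
    by_cases hZc : Z ≤ Subgroup.zpowers c
    · refine ⟨C, ?_, hCi⟩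
      have h1 : C = Subgroup.zpowers c := by
        apply le_antisymm
        · intro x hx
          obtain ⟨i, ζ, hζ, rfl⟩ := hCmem x hx
          exact Subgroup.mul_mem _ (Subgroup.zpow_mem_zpowers c i) (hZc hζ)
        · exact Subgroup.zpowers_le.mpr hcC
      rw [h1]; infer_instance
    · exfalso
      have hinf : Z ⊓ Subgroup.zpowers c = ⊥ := by
        have h1 : Nat.card ↥(Z ⊓ Subgroup.zpowers c) ∣ 2 := hZ ▸ Subgroup.card_dvd_of_le inf_le_left
        rcases (Nat.dvd_prime Nat.prime_two).mp h1 with h | h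
        · exact Subgroup.card_eq_one.mp h
        · exfalso
          apply hZc
          have : Z ⊓ Subgroup.zpowers c = Z := Subgroup.eq_of_le_of_card_ge inf_le_left (by rw [h, hZ])
          rw [← this]; exact inf_le_right
      have hob : orderOf (π c) = 2 ^ (n - 1) := by
        have h1 : Cb = Subgroup.zpowers (π c) := by
          apply le_antisymm
          · intro y hy
            obtain ⟨i, hi⟩ := hgen' y hy
            rw [hi]; exact Subgroup.zpow_mem_zpowers _ i
          · rw [Subgroup.zpowers_le, hπ, hc']; exact hcb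
        have h2 := Cb.card_mul_index
        rw [hCbi, hXZ, h1, Nat.card_zpowers] at h2
        have h3 : 2 ^ n = 2 ^ (n - 1) * 2 := by rw [← pow_succ]; congr 1; omega
        rw [h3] at h2
        exact Nat.eq_of_mul_eq_mul_right (by norm_num) h2
      have hoc : orderOf c = 2 ^ (n - 1) := by
        apply Nat.dvd_antisymm
        · apply orderOf_dvd_of_pow_eq_one
          have h1 : c ^ 2 ^ (n - 1) ∈ Z ⊓ Subgroup.zpowers c := by
            refine ⟨?_, Subgroup.npow_mem_zpowers c _⟩
            have : π (c ^ 2 ^ (n - 1)) = 1 := by rw [map_pow, ← hob, pow_orderOf_eq_one]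
            exact (QuotientGroup.eq_one_iff _).mp this
          rw [hinf, Subgroup.mem_bot] at h1
          exact h1
        · rw [← hob]; exact orderOf_map_dvd π c
      have hc1 : c ≠ 1 := by
        rintro rfl
        rw [orderOf_one] at hoc
        have := Nat.one_lt_pow (show n - 1 ≠ 0 by omega) (show 1 < 2 by norm_num)
        omega
      have hev := even_order hP hc1
      set w := c ^ (orderOf c / 2) with hw
      have hwo : orderOf w = 2 := orderOf_half c hev
      have hww : w * w = 1 := by rw [← pow_two, ← hwo, pow_orderOf_eq_one]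
      have hw1 : w ≠ 1 := by intro h; rw [h, orderOf_one] at hwo; omega
      have hhalf : orderOf c / 2 = 2 ^ (n - 2) := by
        rw [hoc, show n - 1 = (n - 2) + 1 by omega, pow_succ]; simp
      have hwZ : w ∈ Z := by
        rw [hZdef, Subgroup.mem_center_iff]
        intro t
        obtain ⟨i, ζ, hζ, hti⟩ := hCmem _ (hCn.conj_mem c hcC t)
        have hζ2 : ζ ^ 2 = 1 := by
          have : (⟨ζ, hζ⟩ : Z) ^ Nat.card Z = 1 := pow_card_eq_one'
          rw [hZ] at this
          exact congrArg Subtype.val this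
        have hζp : ζ ^ (orderOf c / 2) = 1 := by
          rw [hhalf, show n - 2 = (n - 3) + 1 by omega, pow_succ, mul_comm, pow_mul, hζ2, one_pow]
        have h1 : t * w * t⁻¹ = w ^ i := by
          have hcm : Commute (c ^ i) ζ := by
            have := (Subgroup.mem_center_iff.mp hζ) (c ^ i)
            exact this
          rw [hw, ← conj_pow, hti, hcm.mul_pow, hζp, mul_one, ← zpow_natCast, ← zpow_natCast, ← zpow_mul, ← zpow_mul, mul_comm]
        have h2 : t * w * t⁻¹ = w := by
          rcases Int.even_or_odd i with ⟨j, hj⟩ | ⟨j, hj⟩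
          · exfalso
            rw [hj, ← two_mul, zpow_mul, show w ^ (2 : ℤ) = w * w by rw [zpow_two], hww, one_zpow, mul_inv_eq_one] at h1
            apply hw1
            exact mul_eq_left.mp h1
          · rw [h1, hj, zpow_add, zpow_mul, show w ^ (2 : ℤ) = w * w by rw [zpow_two], hww, one_zpow, one_mul, zpow_one]
        rw [mul_inv_eq_iff_eq_mul] at h2
        exact h2
      have h3 : w ∈ Z ⊓ Subgroup.zpowers c := ⟨hwZ, Subgroup.npow_mem_zpowers c _⟩
      rw [hinf, Subgroup.mem_bot] at h3
      exact hw1 h3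

end Cfsg.Agent.H4
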