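import Cfsg.Agent.H4.MaxCl2

set_option linter.all false
set_option autoImplicit false

namespace Cfsg.Agent.H4
open scoped commutatorElement
universe u

theorem mc_noncomm {X : Type u} [Group X] [Finite X] {n : ℕ} (hn : 3 ≤ n) (hX : Nat.card X = 2 ^ n) (hc : Group.nilpotencyClass X = n - 1) :
    ¬ ∀ a b : X, a * b = b * a := by
  haveI : Fact (Nat.Prime 2) := ⟨Nat.prime_two⟩
  intro hcomm
  have h1 : Subgroup.center X = ⊤ := by
    rw [eq_top_iff]; intro x _
    rw [Subgroup.mem_center_iff]; intro g; exact hcomm g x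
  obtain ⟨h2, _, _⟩ := mc_center (p := 2) hn hX hc
  rw [h1, Subgroup.card_top, hX] at h2
  have := Nat.pow_right_injective (le_refl 2) (show 2 ^ n = 2 ^ 1 by rw [h2])
  omega

/-- center lies in an abelian subgroup of index two of a nonabelian group -/
theorem center_le_of_index_two {X : Type u} [Group X] [Finite X] {C : Subgroup X} (hCi : C.index = 2) (hC : ∀ a ∈ C, ∀ b ∈ C, a * b = b * a)
    (hnc : ¬ ∀ a b : X, a * b = b * a) : Subgroup.center X ≤ C := by
  intro z hz
  by_contra hzC
  apply hnc
  haveI : C.Normal := Subgroup.normal_of_index_eq_two hCi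
  have htop := sup_top_of_index_two hCi hzC
  have hzc : ∀ x, x * z = z * x := fun x => Subgroup.mem_center_iff.mp hz x
  have h1 : ∀ c ∈ C, c ∈ Subgroup.center X := fun c hc => (comm_card C hC z htop).1 c hc (hzc c).symm
  have h2 : C ⊔ Subgroup.zpowers z ≤ Subgroup.center X := sup_le h1 (Subgroup.zpowers_le.mpr hz)
  rw [htop] at h2
  intro a b
  exact (Subgroup.mem_center_iff.mp (h2 (Subgroup.mem_top b))) a

theorem mc_quot_dihedral {X : Type u} [Group X] [Finite X] {n : ℕ} (hn : 3 ≤ n) (hX : Nat.card X = 2 ^ n) (hc : Group.nilpotencyClass X = n - 1) :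
    Nonempty (X ⧸ Subgroup.center X ≃* DihedralGroup (2 ^ (n - 2))) := by
  classical
  haveI : Fact (Nat.Prime 2) := ⟨Nat.prime_two⟩
  have hnc := mc_noncomm hn hX hc
  obtain ⟨hZ, hXZ, hcZ⟩ := mc_center (p := 2) hn hX hc
  obtain ⟨C, hCc, hCi⟩ := mc_cyclic n hn X hX hc
  haveI hCn : C.Normal := Subgroup.normal_of_index_eq_two hCi
  obtain ⟨⟨c, hcC⟩, hgen⟩ := hCc.exists_generator
  have hCz : C = Subgroup.zpowers c := by
    apply le_antisymm
    · intro x hx
      obtain ⟨i, hi⟩ := Subgroup.mem_zpowers_iff.mp (hgen ⟨x, hx⟩)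
      have : x = c ^ i := (congrArg Subtype.val hi).symm
      rw [this]; exact Subgroup.zpow_mem_zpowers c i
    · exact Subgroup.zpowers_le.mpr hcC
  have hCcomm : ∀ a ∈ C, ∀ b ∈ C, a * b = b * a := by
    intro a ha b hb
    rw [hCz] at ha hb
    obtain ⟨i, rfl⟩ := Subgroup.mem_zpowers_iff.mp ha
    obtain ⟨j, rfl⟩ := Subgroup.mem_zpowers_iff.mp hb
    rw [← zpow_add, ← zpow_add, add_comm]
  have hCcard : Nat.card C = 2 ^ (n - 1) := by
    have h1 := C.card_mul_index
    rw [hCi, hX] at h1
    have h3 : 2 ^ n = 2 ^ (n - 1) * 2 := by rw [← pow_succ]; congr 1; omega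
    rw [h3] at h1
    exact Nat.eq_of_mul_eq_mul_right (by norm_num) h1
  obtain ⟨t, ht⟩ : ∃ t, t ∉ C := by
    by_contra hcon
    push Not at hcon
    have : C = ⊤ := by rw [eq_top_iff]; exact fun x _ => hcon x
    rw [this, Subgroup.index_top] at hCi
    omega
  have hCZ := (comm_card C hCcomm t (sup_top_of_index_two hCi ht)).1
  have hZC := center_le_of_index_two hCi hCcomm hnc
  have htt : t * t ∈ C := by
    have := (Subgroup.mul_self_mem_of_index_two hCi t)
    exact this
  have httZ : t * t ∈ Subgroup.center X := hCZ _ htt (by rw [mul_assoc])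
  have htcZ : t * c * t⁻¹ * c ∈ Subgroup.center X := by
    have hm : t * c * t⁻¹ ∈ C := hCn.conj_mem c hcC t
    apply hCZ _ (C.mul_mem hm hcC)
    have h1 : t * t * c = c * (t * t) := hCcomm _ htt c hcC
    have h2 : t * (t * c * t⁻¹ * c) = c * t * c := by
      calc t * (t * c * t⁻¹ * c) = (t * t * c) * t⁻¹ * c := by group
        _ = c * (t * t) * t⁻¹ * c := by rw [h1]
        _ = c * t * c := by group
    have h3 : (t * c * t⁻¹ * c) * t = c * t * c := by
      rw [hCcomm _ hm c hcC]; group
    rw [h2, h3]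
  set π := QuotientGroup.mk' (Subgroup.center X) with hπ
  have hone : ∀ x ∈ Subgroup.center X, π x = 1 := fun x hx => (QuotientGroup.eq_one_iff x).mpr hx
  have hcard : Nat.card (X ⧸ Subgroup.center X) = 2 * 2 ^ (n - 2) := by
    rw [hXZ, ← pow_succ']; congr 1; omega
  have hCmap : C.map π = Subgroup.zpowers (π c) := by rw [hCz, MonoidHom.map_zpowers]
  have hcomap : (C.map π).comap π = C := by
    rw [Subgroup.comap_map_eq, hπ, QuotientGroup.ker_mk', sup_eq_left]; exact hZC
  have hidx : (C.map π).index = 2 := by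
    rw [← Subgroup.index_comap_of_surjective _ (QuotientGroup.mk'_surjective (Subgroup.center X)), hcomap, hCi]
  apply H7.dihedral_equiv (π c) (π t)
  · have h1 := (C.map π).card_mul_index
    rw [hidx, hcard, hCmap, Nat.card_zpowers] at h1
    omega
  · rw [← map_mul]; exact hone _ httZ
  · have h1 : π t * π t = 1 := by rw [← map_mul]; exact hone _ httZ
    have h2 : (π t)⁻¹ = π t := inv_eq_of_mul_eq_one_left h1
    have h3 := hone _ htcZ
    rw [map_mul, map_mul, map_mul, map_inv, h2] at h3
    exact eq_inv_of_mul_eq_one_left h3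
  · intro h
    rw [← hCmap] at h
    apply ht
    have : t ∈ (C.map π).comap π := h
    rwa [hcomap] at this
  · exact hcard

theorem abel_of_cyclic_quot {X : Type u} [Group X] [Finite X] {p : ℕ} [hp : Fact p.Prime] (hP : IsPGroup p X)
    (h : IsCyclic (X ⧸ commutator X)) : ∀ a b : X, a * b = b * a := by
  classical
  haveI := hP.isNilpotent
  obtain ⟨g, hg⟩ := h.exists_generator
  obtain ⟨x, rfl⟩ := QuotientGroup.mk'_surjective _ g
  have h1 : Subgroup.zpowers x = ⊤ := by
    by_contra hne
    obtain ⟨M, hM, hxM⟩ := (eq_top_or_exists_le_coatom (Subgroup.zpowers x)).resolve_left hne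
    haveI hMn := H1.normal_of_isCoatom_of_nilpotent hM
    have hMi := H1.index_of_isCoatom_pgroup hP hM
    have hcyc : IsCyclic (X ⧸ M) := by
      apply isCyclic_of_prime_card (p := p)
      rw [← hMi]; rfl
    have hcM : commutator X ≤ M := by
      rw [_root_.commutator_def, Subgroup.commutator_le]
      intro a _ b _
      rw [← QuotientGroup.eq_one_iff, commutatorElement_def]
      have h4 : (a : X ⧸ M) * b = b * a := by
        haveI := hcyc
        letI : CommGroup (X ⧸ M) := IsCyclic.commGroup
        exact mul_comm _ _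
      simp only [QuotientGroup.mk_mul, QuotientGroup.mk_inv]
      rw [h4]; group
    apply hM.1
    rw [eq_top_iff]
    intro y _
    obtain ⟨i, hi⟩ := Subgroup.mem_zpowers_iff.mp (hg (QuotientGroup.mk' _ y))
    have h5 : (x ^ i)⁻¹ * y ∈ commutator X := by
      rw [← QuotientGroup.eq_one_iff]
      have : QuotientGroup.mk' (commutator X) ((x ^ i)⁻¹ * y) = 1 := by rw [map_mul, map_inv, map_zpow, hi, inv_mul_cancel]
      exact this
    have h6 : y = x ^ i * ((x ^ i)⁻¹ * y) := by group
    rw [h6]
    exact M.mul_mem (hxM (Subgroup.zpow_mem_zpowers x i)) (hcM h5)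
  intro a b
  obtain ⟨i, rfl⟩ := Subgroup.mem_zpowers_iff.mp (h1 ▸ Subgroup.mem_top a)
  obtain ⟨j, rfl⟩ := Subgroup.mem_zpowers_iff.mp (h1 ▸ Subgroup.mem_top b)
  rw [← zpow_add, ← zpow_add, add_comm]

theorem klein_of_card_four {Q : Type u} [Group Q] [Finite Q] (h4 : Nat.card Q = 4) (hnc : ¬ IsCyclic Q) : IsKleinFour Q := by
  classical
  refine ⟨h4, ?_⟩
  have hsq : ∀ x : Q, x ^ 2 = 1 := by
    intro x
    have h1 : orderOf x ∣ 2 ^ 2 := by
      have := orderOf_dvd_natCard x
      rw [h4] at this
      norm_num; exact this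
    obtain ⟨k, hk, hk'⟩ := (Nat.dvd_prime_pow Nat.prime_two).mp h1
    interval_cases k
    · rw [pow_zero, orderOf_eq_one_iff] at hk'
      rw [hk', one_pow]
    · rw [pow_one] at hk'
      rw [← hk', pow_orderOf_eq_one]
    · exfalso
      apply hnc
      exact isCyclic_of_orderOf_eq_card x (by rw [hk', h4]; norm_num)
  have h2 : Monoid.exponent Q ∣ 2 := Monoid.exponent_dvd_of_forall_pow_eq_one hsq
  rcases (Nat.dvd_prime Nat.prime_two).mp h2 with h | h
  · exfalso
    have h5 : ∀ x : Q, x = 1 := fun x => by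
      have := Monoid.pow_exponent_eq_one x
      rwa [h, pow_one] at this
    have h3 : Nat.card Q = 1 := Nat.card_eq_one_iff_unique.mpr ⟨⟨fun a b => (h5 a).trans (h5 b).symm⟩, ⟨1⟩⟩
    omega
  · exact h

theorem mc_klein {X : Type u} [Group X] [Finite X] {n : ℕ} (hn : 3 ≤ n) (hX : Nat.card X = 2 ^ n) (hc : Group.nilpotencyClass X = n - 1) :
    IsKleinFour (X ⧸ commutator X) := by
  classical
  haveI : Fact (Nat.Prime 2) := ⟨Nat.prime_two⟩
  have hP : IsPGroup 2 X := IsPGroup.of_card hX
  have hnc := mc_noncomm hn hX hc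
  obtain ⟨hZ, hXZ, hcZ⟩ := mc_center (p := 2) hn hX hc
  obtain ⟨C, hCc, hCi⟩ := mc_cyclic n hn X hX hc
  haveI hCn : C.Normal := Subgroup.normal_of_index_eq_two hCi
  have hCcomm : ∀ a ∈ C, ∀ b ∈ C, a * b = b * a := by
    intro a ha b hb
    letI : CommGroup C := IsCyclic.commGroup
    exact congrArg Subtype.val (mul_comm (⟨a, ha⟩ : C) ⟨b, hb⟩)
  obtain ⟨t, ht⟩ : ∃ t, t ∉ C := by
    by_contra hcon
    push Not at hcon
    have : C = ⊤ := by rw [eq_top_iff]; exact fun x _ => hcon x
    rw [this, Subgroup.index_top] at hCi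
    omega
  have h1 := (comm_card C hCcomm t (sup_top_of_index_two hCi ht)).2
  have hZC := center_le_of_index_two hCi hCcomm hnc
  rw [inf_eq_left.mpr hZC, hZ] at h1
  have h2 := C.card_mul_index
  rw [hCi, ← h1] at h2
  have h3 := (commutator X).card_mul_index
  have h4 : (commutator X).index = 4 := by
    apply Nat.eq_of_mul_eq_mul_left (Nat.card_pos (α := commutator X))
    rw [h3, ← h2]; ring
  have hcard4 : Nat.card (X ⧸ commutator X) = 4 := h4
  have hnotcyc : ¬ IsCyclic (X ⧸ commutator X) := fun h => hnc (abel_of_cyclic_quot hP h)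
  exact klein_of_card_four hcard4 hnotcyc

/-- Taussky -/
theorem mc_of_index_four (n : ℕ) (hn : 3 ≤ n) : ∀ (X : Type u) [Group X] [Finite X], Nat.card X = 2 ^ n → (commutator X).index = 4 →
    Group.nilpotencyClass X = n - 1 := by
  classical
  haveI : Fact (Nat.Prime 2) := ⟨Nat.prime_two⟩
  induction n, hn using Nat.le_induction with
  | base =>
    intro X _ _ hX hi
    have hP : IsPGroup 2 X := IsPGroup.of_card hX
    haveI hnil : Group.IsNilpotent X := hP.isNilpotent
    have h1 := S0063.result 2 3 hX (by norm_num)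
    have h2 : (commutator X) ≠ ⊥ := by
      intro h
      rw [h, Subgroup.index_bot, hX] at hi
      norm_num at hi
    have h3 : ¬ Group.nilpotencyClass X ≤ 1 := by
      intro h
      rw [← lowerCentralSeries_eq_bot_iff_nilpotencyClass_le] at h
      apply h2
      rw [← h]
      simp [_root_.commutator_def, Subgroup.lowerCentralSeries_succ]
    omega
  | succ n hn ih =>
    intro X _ _ hX hi
    have hP : IsPGroup 2 X := IsPGroup.of_card hX
    haveI hnil : Group.IsNilpotent X := hP.isNilpotent
    haveI : Nontrivial X := by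
      apply Finite.one_lt_card_iff_nontrivial.mp
      rw [hX]; exact Nat.one_lt_pow (by omega) (by norm_num)
    have h2 : (commutator X) ≠ ⊥ := by
      intro h
      rw [h, Subgroup.index_bot, hX] at hi
      have := Nat.pow_right_injective (le_refl 2) (show 2 ^ (n + 1) = 2 ^ 2 by rw [hi])
      omega
    have h3 := H1.inf_center_ne_bot (commutator X) h2
    obtain ⟨Z, hZc, hZX, hZ⟩ : ∃ Z : Subgroup X, Z ≤ Subgroup.center X ∧ Z ≤ commutator X ∧ Nat.card Z = 2 := by
      have h4 : 2 ∣ Nat.card ↥(commutator X ⊓ Subgroup.center X) := by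
        obtain ⟨k, hk⟩ := (hP.to_subgroup (commutator X ⊓ Subgroup.center X)).exists_card_eq
        rw [hk]
        apply dvd_pow_self
        rintro rfl
        rw [pow_zero] at hk
        exact h3 (Subgroup.card_eq_one.mp hk)
      obtain ⟨x, hx⟩ := exists_prime_orderOf_dvd_card' 2 h4
      have hxm := x.2
      refine ⟨Subgroup.zpowers (x : X), Subgroup.zpowers_le.mpr hxm.2, Subgroup.zpowers_le.mpr hxm.1, ?_⟩
      rw [Nat.card_zpowers, Subgroup.orderOf_coe, hx]
    haveI hZn : Z.Normal := normal_of_le_center' hZc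
    set π := QuotientGroup.mk' Z with hπ
    have hXZ : Nat.card (X ⧸ Z) = 2 ^ n := by
      have h4 := Subgroup.card_eq_card_quotient_mul_card_subgroup Z
      rw [hX, hZ, pow_succ] at h4
      exact (Nat.eq_of_mul_eq_mul_right (by norm_num) h4).symm
    have hmapc : (commutator X).map π = commutator (X ⧸ Z) := by
      rw [_root_.commutator_def, Subgroup.map_commutator, _root_.commutator_def, ← MonoidHom.range_eq_map, QuotientGroup.range_mk']
    have hcomap : (commutator (X ⧸ Z)).comap π = commutator X := by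
      rw [← hmapc, Subgroup.comap_map_eq, hπ, QuotientGroup.ker_mk', sup_eq_left]; exact hZX
    have hiZ : (commutator (X ⧸ Z)).index = 4 := by
      rw [← Subgroup.index_comap_of_surjective _ (QuotientGroup.mk'_surjective Z), hcomap, hi]
    have hcl := ih (X ⧸ Z) hXZ hiZ
    obtain ⟨Cb, hCbc, hCbi⟩ := mc_cyclic n hn (X ⧸ Z) hXZ hcl
    set C := Cb.comap π with hC
    have hCi : C.index = 2 := by
      rw [hC, Subgroup.index_comap_of_surjective _ (QuotientGroup.mk'_surjective Z), hCbi]
    haveI hCn : C.Normal := Subgroup.normal_of_index_eq_two hCi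
    have hCcomm : ∀ a ∈ C, ∀ b ∈ C, a * b = b * a := by
      let f : C →* Cb := { toFun := fun x => ⟨π x, x.2⟩, map_one' := Subtype.ext (map_one π), map_mul' := fun a b => Subtype.ext (map_mul π (a : X) (b : X)) }
      have hf : f.ker ≤ Subgroup.center C := by
        intro x hx
        have h4 : π (x : X) = 1 := congrArg Subtype.val (MonoidHom.mem_ker.mp hx)
        have h5 : (x : X) ∈ Z := (QuotientGroup.eq_one_iff _).mp h4
        rw [Subgroup.mem_center_iff]
        intro y
        exact Subtype.ext ((Subgroup.mem_center_iff.mp (hZc h5)) y)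
      have := MonoidHom.isMulCommutative_of_isCyclic_of_ker_le_center f hf
      intro a ha b hb
      exact congrArg Subtype.val (this.is_comm.comm ⟨a, ha⟩ ⟨b, hb⟩)
    obtain ⟨t, ht⟩ : ∃ t, t ∉ C := by
      by_contra hcon
      push Not at hcon
      have : C = ⊤ := by rw [eq_top_iff]; exact fun x _ => hcon x
      rw [this, Subgroup.index_top] at hCi
      omega
    have hnc : ¬ ∀ a b : X, a * b = b * a := by
      intro hcomm
      apply h2
      rw [_root_.commutator_def, Subgroup.commutator_eq_bot_iff_le_centralizer]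
      intro a _
      rw [Subgroup.mem_centralizer_iff]
      intro b _
      exact hcomm b a
    have e1 := (comm_card C hCcomm t (sup_top_of_index_two hCi ht)).2
    have hZC := center_le_of_index_two hCi hCcomm hnc
    rw [inf_eq_left.mpr hZC] at e1
    have e2 := C.card_mul_index
    rw [hCi, ← e1] at e2
    have e3 := (commutator X).card_mul_index
    rw [hi, ← e2] at e3
    have hcz : Nat.card (Subgroup.center X) = 2 := by
      have h5 : Nat.card (commutator X) * 4 = Nat.card (commutator X) * (Nat.card (Subgroup.center X) * 2) := by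
        rw [e3]; ring
      have := Nat.eq_of_mul_eq_mul_left (Nat.card_pos (α := commutator X)) h5
      omega
    have hZeq : Z = Subgroup.center X := Subgroup.eq_of_le_of_card_ge hZc (by rw [hcz, hZ])
    rw [Group.nilpotencyClass_eq_quotient_center_plus_one]
    have : Group.nilpotencyClass (X ⧸ Subgroup.center X) = n - 1 := by
      clear_value C π
      subst hZeq
      exact hcl
    rw [this]; omega

theorem mc_iff {X : Type u} [Group X] [Finite X] {n : ℕ} (hn : 3 ≤ n) (hX : Nat.card X = 2 ^ n) :
    Group.nilpotencyClass X = n - 1 ↔ IsKleinFour (X ⧸ commutator X) := by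
  constructor
  · exact mc_klein hn hX
  · intro h
    exact mc_of_index_four n hn X hX h.card_four

end Cfsg.Agent.H4
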