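import Cfsg.Agent.H4.OC2
import Cfsg.Agent.H2.ZJFus2
import Cfsg.Agent.H6.Basic

set_option linter.all false
set_option autoImplicit false

/-! CN-groups of odd order: the minimal counterexample. -/

namespace Cfsg.Agent.H4

open Cfsg
open scoped Pointwise commutatorElement

universe u v w

structure OCH (G : Type u) [Group G] [Finite G] : Prop where
  cn : IsCNGroup G
  odd : Odd (Nat.card G)
  sub : ∀ H : Subgroup G, H ≠ ⊤ → Group.IsSolvable H
  perf : commutator G = ⊤
  nop : ∀ p : ℕ, p.Prime → ∀ D : Subgroup G, IsPGroup p D → D ≠ ⊥ → ¬ D.Normal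

def PCl {G : Type u} [Group G] (p : ℕ) (M : Subgroup G) : Prop := ∃ S : Subgroup G, IsPGroup p S ∧ ∀ x ∈ M, (∃ k, x ^ p ^ k = 1) → x ∈ S

theorem PCl.mono {G : Type u} [Group G] {p : ℕ} {M N : Subgroup G} (h : PCl p N) (hMN : M ≤ N) : PCl p M := by
  obtain ⟨S, hS, h1⟩ := h
  exact ⟨S, hS, fun x hx hk => h1 x (hMN hx) hk⟩

section och
variable {G : Type u} [Group G] [Finite G]

theorem OCH.norm_ne_top (h : OCH G) {p : ℕ} (hp : p.Prime) {D : Subgroup G} (hD : IsPGroup p D) (hD1 : D ≠ ⊥) : Subgroup.normalizer (D : Set G) ≠ ⊤ := by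
  intro h1
  exact h.nop p hp D hD hD1 (Subgroup.normalizer_eq_top_iff.mp h1)

theorem odd_sub (h : OCH G) (M : Subgroup G) : Odd (Nat.card M) := by
  by_contra hcon
  rw [Nat.not_odd_iff_even] at hcon
  have h1 := (even_iff_two_dvd.mp hcon).trans (Subgroup.card_subgroup_dvd_card M)
  exact (Nat.not_even_iff_odd.mpr h.odd) (even_iff_two_dvd.mpr h1)

theorem OCH.p_ne_two (h : OCH G) {p : ℕ} [hp : Fact p.Prime] {D : Subgroup G} (hD : IsPGroup p D) (hD1 : D ≠ ⊥) : p ≠ 2 := by
  rintro rfl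
  obtain ⟨n, hn⟩ := IsPGroup.iff_card.mp hD
  have h1 : n ≠ 0 := by
    rintro rfl
    rw [pow_zero] at hn
    exact hD1 (Subgroup.card_eq_one.mp hn)
  have h2 := odd_sub h D
  rw [hn] at h2
  exact (Nat.not_even_iff_odd.mpr h2) (even_iff_two_dvd.mpr (dvd_pow_self 2 h1))

/-- a group whose Sylow `p`-subgroup is normal is `p`-closed -/
theorem pcl_of_normal {p : ℕ} [hp : Fact p.Prime] {M : Subgroup G} (T : Sylow p M) (hT : (T : Subgroup M).Normal) : PCl p M := by
  refine ⟨(T : Subgroup M).map M.subtype, T.isPGroup'.map _, ?_⟩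
  intro x hx ⟨k, hk⟩
  refine ⟨⟨x, hx⟩, ?_, rfl⟩
  apply pelt_mem_sylow T
  · exact ⟨k, Subtype.ext hk⟩
  · haveI := hT
    rw [Subgroup.normalizer_eq_top]; exact Subgroup.mem_top _

theorem OCH.le_norm_zz (h : OCH G) {p : ℕ} [hp : Fact p.Prime] {M D T : Subgroup G} (hMt : M ≠ ⊤) (hDM : D ≤ M) (hMD : M ≤ Subgroup.normalizer (D : Set G)) (hD : IsPGroup p D) (hD1 : D ≠ ⊥)
    (hT : H6.SylIn p T M) (hn : ¬ PCl p M) : M ≤ Subgroup.normalizer ((H2.zz 0 T : Subgroup G) : Set G) := by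
  have hp2 := h.p_ne_two hD hD1
  obtain ⟨T0, hT0⟩ := hT.exists_sylow
  have hT0n : ¬ (T0 : Subgroup M).Normal := fun hc => hn (pcl_of_normal T0 hc)
  haveI hDn : (D.subgroupOf M).Normal := (Subgroup.normal_subgroupOf_iff_le_normalizer hDM).mpr hMD
  have hcore : pCore p M ≠ ⊥ := by
    intro h0
    have h1 : D.subgroupOf M ≤ pCore p M := L0.le_pCore (L0.isPGroup_subgroupOf hD)
    rw [h0, le_bot_iff] at h1
    apply hD1
    rw [← Subgroup.map_subgroupOf_eq_of_le hDM, h1, Subgroup.map_bot]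
  have hY := cn_core_trivial (cn_sub h.cn M) hcore T0 hT0n
  have hcons : Subgroup.centralizer (pCore p M : Set M) ≤ pCore p M := H6.cons_of_solvable hY (h.sub M hMt)
  have hqd := odd_qd_free (G := M) (odd_sub h M) hp2
  have hzn := H2.zz_normal (m := 0) hp2 (Or.inl rfl) T0 (H2.stronglyClosed_self _) (fun B _ hB g hq => H2.good_of_qd_free hp2 hqd B hB g hq) hcons
  have hmap : (H2.zz 0 (T0 : Subgroup M)).map M.subtype = H2.zz 0 T := by
    rw [H2.zz_map M.subtype M.subtype_injective, hT0, Subgroup.map_subgroupOf_eq_of_le hT.1]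
  rw [← hmap]
  intro x hx
  rw [Subgroup.mem_normalizer_iff]
  have key : ∀ x ∈ M, ∀ y, y ∈ (H2.zz 0 (T0 : Subgroup M)).map M.subtype → x * y * x⁻¹ ∈ (H2.zz 0 (T0 : Subgroup M)).map M.subtype := by
    rintro x hx _ ⟨y, hy, rfl⟩
    exact ⟨_, hzn.conj_mem y hy ⟨x, hx⟩, rfl⟩
  intro y
  refine ⟨key x hx y, fun hy => ?_⟩
  have h2 := key x⁻¹ (M.inv_mem hx) _ hy
  have h3 : x⁻¹ * (x * y * x⁻¹) * x⁻¹⁻¹ = y := by group
  rwa [h3] at h2

/-- focal subgroup argument -/
theorem OCH.le_comm (h : OCH G) {p : ℕ} [hp : Fact p.Prime] (P : Sylow p G) (hP1 : (P : Subgroup G) ≠ ⊥) :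
    (P : Subgroup G) ≤ ⁅Subgroup.normalizer ((H2.zz 0 (P : Subgroup G) : Subgroup G) : Set G), Subgroup.normalizer ((H2.zz 0 (P : Subgroup G) : Subgroup G) : Set G)⁆ := by
  have hp2 := h.p_ne_two P.isPGroup' hP1
  have hzf : H2.ZF p 0 G := H2.zf_of_qd_free hp2 (Or.inl rfl) (odd_qd_free h.odd hp2)
  have hfoc := Subgroup.commutator_inf_eq_focalSubgroup P
  rw [h.perf, top_inf_eq] at hfoc
  refine hfoc.le.trans ?_
  rw [Subgroup.focalSubgroup_def, Subgroup.closure_le]
  rintro g ⟨hg, x, hx, u, rfl⟩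
  obtain ⟨n, hn, hna⟩ := (H2.csf_of_zf hzf P (H2.stronglyClosed_self _) {x⁻¹} (by
    rintro _ rfl
    exact (P : Subgroup G).inv_mem hx)).2 u (by
    rintro _ ⟨_, rfl, rfl⟩
    have h1 : u * x⁻¹ * u⁻¹ = x⁻¹ * ⁅x, u⁆ := by rw [commutatorElement_def]; group
    show u * x⁻¹ * u⁻¹ ∈ (P : Subgroup G)
    rw [h1]
    exact (P : Subgroup G).mul_mem ((P : Subgroup G).inv_mem hx) hg)
  have h2 := hna x⁻¹ rfl
  have h3 : ⁅x, u⁆ = ⁅x, n⁆ := by
    rw [commutatorElement_def, commutatorElement_def]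
    calc x * u * x⁻¹ * u⁻¹ = x * (u * x⁻¹ * u⁻¹) := by group
      _ = x * (n * x⁻¹ * n⁻¹) := by rw [h2]
      _ = _ := by group
  rw [SetLike.mem_coe, h3]
  refine Subgroup.commutator_mem_commutator ?_ hn
  exact (Subgroup.le_normalizer.trans H2.norm_le_norm_zz) hx

theorem OCH.pcl (h : OCH G) {p : ℕ} [hp : Fact p.Prime] : ∀ (n : ℕ) (D T : Subgroup G), IsPGroup p D → D ≠ ⊥ → H6.SylIn p T (Subgroup.normalizer (D : Set G)) →
    Nat.card G - Nat.card T = n → PCl p (Subgroup.normalizer (D : Set G)) := by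
  intro n
  induction n using Nat.strong_induction_on with
  | _ n ih =>
  intro D T hD hD1 hT hn
  by_contra hcon
  have hp2 := h.p_ne_two hD hD1
  have hMt := h.norm_ne_top hp.out hD hD1
  have hle := h.le_norm_zz hMt Subgroup.le_normalizer le_rfl hD hD1 hT hcon
  -- D ≤ T
  have hDT : D ≤ T := by
    obtain ⟨T0, hT0⟩ := hT.exists_sylow
    haveI hDn : (D.subgroupOf (Subgroup.normalizer (D : Set G))).Normal := Subgroup.normal_in_normalizer
    have h1 := L0.normal_le_sylow (L0.isPGroup_subgroupOf (H := Subgroup.normalizer (D : Set G)) hD) T0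
    rw [hT0] at h1
    intro x hx
    exact Subgroup.mem_subgroupOf.mp (h1 (show (⟨x, Subgroup.le_normalizer hx⟩ : Subgroup.normalizer (D : Set G)) ∈ D.subgroupOf _ from Subgroup.mem_subgroupOf.mpr hx))
  have hT1 : T ≠ ⊥ := fun h0 => hD1 (le_bot_iff.mp (h0 ▸ hDT))
  have hzz1 : H2.zz 0 T ≠ ⊥ := H2.zz_ne_bot (Or.inl rfl) hT.2.1 hT1
  have hzzp : IsPGroup p (H2.zz 0 T) := hT.2.1.to_le H2.zz_le
  have hM₁t := h.norm_ne_top hp.out hzzp hzz1
  have hTM₁ : T ≤ Subgroup.normalizer ((H2.zz 0 T : Subgroup G) : Set G) := hT.1.trans hle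
  obtain ⟨T₁, hT₁, hTT₁⟩ := H6.exists_sylIn_ge hT.2.1 hTM₁
  have hM₁n : ¬ PCl p (Subgroup.normalizer ((H2.zz 0 T : Subgroup G) : Set G)) := fun hc => hcon (hc.mono hle)
  by_cases heq : T = T₁
  · -- T is Sylow in G
    obtain ⟨P, hTP⟩ := hT.2.1.exists_le_sylow
    have hTeq : T = P := by
      by_contra hne
      have hlt : T < P := lt_of_le_of_ne hTP hne
      have h1 := H6.lt_inf_normalizer P.isPGroup' hlt
      have h2 : (P : Subgroup G) ⊓ Subgroup.normalizer (T : Set G) ≤ Subgroup.normalizer ((H2.zz 0 T : Subgroup G) : Set G) :=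
        inf_le_right.trans H2.norm_le_norm_zz
      have h3 := (heq ▸ hT₁ : H6.SylIn p T _).eq_of_le (P.isPGroup'.to_le inf_le_left) h2 h1.le
      exact h1.ne h3
    subst hTeq
    have hcomm := h.le_comm P hT1
    have hPM : (P : Subgroup G) ≤ Subgroup.normalizer ((H2.zz 0 (P : Subgroup G) : Subgroup G) : Set G) := hTM₁
    have hzn : ((H2.zz 0 (P : Subgroup G)).subgroupOf (Subgroup.normalizer ((H2.zz 0 (P : Subgroup G) : Subgroup G) : Set G))).Normal := Subgroup.normal_in_normalizer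
    have hcore : pCore p (Subgroup.normalizer ((H2.zz 0 (P : Subgroup G) : Subgroup G) : Set G)) ≠ ⊥ := by
      intro h0
      haveI := hzn
      have h1 : (H2.zz 0 (P : Subgroup G)).subgroupOf (Subgroup.normalizer ((H2.zz 0 (P : Subgroup G) : Subgroup G) : Set G)) ≤ pCore p _ := L0.le_pCore (L0.isPGroup_subgroupOf hzzp)
      rw [h0, le_bot_iff] at h1
      apply hzz1
      rw [← Subgroup.map_subgroupOf_eq_of_le (Subgroup.le_normalizer (H := H2.zz 0 (P : Subgroup G))), h1, Subgroup.map_bot]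
    have h1 := cn_sylow_normal (cn_sub h.cn _) (odd_sub h _) (h.sub _ hM₁t) hcore (P.subtype hPM) (by
      have h2 : ((P.subtype hPM : Sylow p _) : Subgroup _).map (Subgroup.normalizer ((H2.zz 0 (P : Subgroup G) : Subgroup G) : Set G)).subtype ≤ (commutator _).map (Subgroup.normalizer ((H2.zz 0 (P : Subgroup G) : Subgroup G) : Set G)).subtype := by
        rw [commutator_def, Subgroup.map_commutator, ← MonoidHom.range_eq_map, Subgroup.range_subtype]
        refine le_trans ?_ hcomm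
        rintro _ ⟨x, hx, rfl⟩
        exact hx
      exact (Subgroup.map_le_map_iff_of_injective (Subgroup.subtype_injective _)).mp h2)
    exact hM₁n (pcl_of_normal _ h1)
  · have hlt : Nat.card T < Nat.card T₁ := by
      apply lt_of_le_of_ne (Subgroup.card_le_of_le hTT₁)
      intro hc
      exact heq (Subgroup.eq_of_le_of_card_ge hTT₁ hc.ge)
    have hle1 : Nat.card T₁ ≤ Nat.card G := Subgroup.card_le_card_group T₁
    exact hM₁n (ih _ (by omega) _ _ hzzp hzz1 hT₁ rfl)

theorem OCH.pcl' (h : OCH G) {p : ℕ} [hp : Fact p.Prime] {D : Subgroup G} (hD : IsPGroup p D) (hD1 : D ≠ ⊥) : PCl p (Subgroup.normalizer (D : Set G)) := by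
  obtain ⟨T, hT⟩ := H6.exists_sylIn (p := p) (Subgroup.normalizer (D : Set G))
  exact h.pcl _ D T hD hD1 hT rfl

theorem OCH.ti (h : OCH G) {p : ℕ} [hp : Fact p.Prime] : ∀ (n : ℕ) (P Q : Sylow p G), (P : Subgroup G) ⊓ Q ≠ ⊥ → Nat.card G - Nat.card ↥((P : Subgroup G) ⊓ Q) = n → (P : Subgroup G) = Q := by
  intro n
  induction n using Nat.strong_induction_on with
  | _ n ih =>
  intro P Q hne hn
  by_contra hPQ
  set D := (P : Subgroup G) ⊓ Q with hD
  have hDp : IsPGroup p D := P.isPGroup'.to_le inf_le_left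
  obtain ⟨S, hSp, hS⟩ := h.pcl' hDp hne
  obtain ⟨R, hR⟩ := hSp.exists_le_sylow
  have hcardPQ : Nat.card (P : Subgroup G) = Nat.card (Q : Subgroup G) := Nat.card_congr (P.equiv Q).toEquiv
  have hDP : D < P := by
    apply lt_of_le_of_ne inf_le_left
    intro h0
    apply hPQ
    have h1 : (P : Subgroup G) ≤ Q := by rw [← h0]; exact inf_le_right
    exact Subgroup.eq_of_le_of_card_ge h1 hcardPQ.ge
  have hDQ : D < Q := by
    apply lt_of_le_of_ne inf_le_right
    intro h0
    apply hPQ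
    have h1 : (Q : Subgroup G) ≤ P := by rw [← h0]; exact inf_le_left
    exact (Subgroup.eq_of_le_of_card_ge h1 hcardPQ.le).symm
  have step : ∀ P' : Sylow p G, D < P' → (R : Subgroup G) = P' := by
    intro P' hDP'
    have h1 := H6.lt_inf_normalizer P'.isPGroup' hDP'
    have h2 : (P' : Subgroup G) ⊓ Subgroup.normalizer (D : Set G) ≤ R := by
      intro x hx
      exact hR (hS x hx.2 (pgrp_pelt P'.isPGroup' hx.1))
    have h3 : D < (R : Subgroup G) ⊓ P' := lt_of_lt_of_le h1 (le_inf h2 inf_le_left)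
    have h4 : Nat.card D < Nat.card ↥((R : Subgroup G) ⊓ P') := by
      apply lt_of_le_of_ne (Subgroup.card_le_of_le h3.le)
      intro hc
      exact h3.ne (Subgroup.eq_of_le_of_card_ge h3.le hc.ge)
    have h5 : Nat.card ↥((R : Subgroup G) ⊓ P') ≤ Nat.card G := Subgroup.card_le_card_group _
    apply ih (Nat.card G - Nat.card ↥((R : Subgroup G) ⊓ P')) (by omega) R P' _ rfl
    intro h0
    rw [h0] at h3
    exact not_lt_bot h3
  exact hPQ ((step P hDP).symm.trans (step Q hDQ))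

/-- good subgroups -/
def Good (H : Subgroup G) : Prop := Group.IsNilpotent H ∧ H ≠ ⊥ ∧ (∀ x ∈ H, x ≠ 1 → Subgroup.centralizer ({x} : Set G) ≤ H) ∧ Subgroup.normalizer (H : Set G) ≠ H

theorem nil_not_perfect {H : Type u} [Group H] [Finite H] (hnil : Group.IsNilpotent H) {p : ℕ} [hp : Fact p.Prime] (P : Sylow p H) (hP1 : (P : Subgroup H) ≠ ⊥)
    (hPc : (P : Subgroup H) ≤ commutator H) : False := by
  haveI := hnil
  obtain ⟨P₁, φ, hφ⟩ := nilp_hom p (E := H)
  have h1 : (P : Subgroup H).map φ ≤ commutator P₁ := by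
    refine (Subgroup.map_mono hPc).trans ?_
    rw [commutator_def, commutator_def, Subgroup.map_commutator]
    exact Subgroup.commutator_mono le_top le_top
  have hcardPP : Nat.card (P : Subgroup H) = Nat.card (P₁ : Subgroup H) := Nat.card_congr (P.equiv P₁).toEquiv
  have h2 : (P : Subgroup H).map φ = ⊤ := by
    have hinj : Function.Injective (φ.domRestrict (P : Subgroup H)) := by
      rw [injective_iff_map_eq_one]
      intro x hx
      have h3 : φ x = 1 := hx
      rw [hφ] at h3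
      have h4 := pelt_order hp.out (pgrp_pelt P.isPGroup' x.2) h3
      exact Subtype.ext (orderOf_eq_one_iff.mp (Nat.eq_one_of_dvd_coprimes h4 dvd_rfl dvd_rfl))
    have h3 : Nat.card ((P : Subgroup H).map φ) = Nat.card (P : Subgroup H) := by
      have h5 : (P : Subgroup H).map φ = (φ.domRestrict (P : Subgroup H)).range := by
        ext y
        constructor
        · rintro ⟨x, hx, rfl⟩; exact ⟨⟨x, hx⟩, rfl⟩
        · rintro ⟨x, rfl⟩; exact ⟨x, x.2, rfl⟩
      rw [h5]
      exact (Nat.card_congr (MonoidHom.ofInjective hinj).toEquiv).symm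
    apply Subgroup.eq_top_of_card_eq
    rw [h3]; exact hcardPP
  have h3 : commutator P₁ = ⊤ := top_le_iff.mp (h2 ▸ h1)
  haveI : Nontrivial P₁ := by
    rw [← Finite.one_lt_card_iff_nontrivial]
    have h4 : Nat.card (P : Subgroup H) ≠ 1 := fun h => hP1 (Subgroup.card_eq_one.mp h)
    have h5 : 0 < Nat.card (P : Subgroup H) := Nat.card_pos
    have h6 : Nat.card P₁ = Nat.card (P : Subgroup H) := hcardPP.symm
    omega
  haveI : Group.IsNilpotent P₁ := P₁.isPGroup'.isNilpotent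
  exact (Group.IsSolvable.commutator_lt_top_of_nontrivial P₁).ne h3

theorem OCH.exists_good (h : OCH G) {p : ℕ} [hp : Fact p.Prime] (P : Sylow p G) (hP1 : (P : Subgroup G) ≠ ⊥) : ∃ H : Subgroup G, Good H ∧ (P : Subgroup G) ≤ H := by
  obtain ⟨⟨z, hz⟩, hz1⟩ := Subgroup.ne_bot_iff_exists_ne_one.mp (H2.inf_cent_ne_bot P.isPGroup' (le_refl (P : Subgroup G)) Subgroup.le_normalizer hP1)
  have hz1' : z ≠ 1 := fun h => hz1 (Subtype.ext h)
  have hzP : ∀ w ∈ (P : Subgroup G), w * z = z * w := fun w hw => (Subgroup.mem_centralizer_iff.mp hz.2) w hw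
  set H := Subgroup.centralizer ({z} : Set G) with hH
  have hHnil : Group.IsNilpotent H := h.cn z hz1'
  have hPH : (P : Subgroup G) ≤ H := fun w hw => Subgroup.mem_centralizer_singleton_iff.mpr (hzP w hw)
  have hzp := pgrp_pelt P.isPGroup' hz.1
  -- TI
  have hTIP : ∀ x ∈ (P : Subgroup G), x ≠ 1 → ∀ g : G, g * x * g⁻¹ ∈ (P : Subgroup G) → g ∈ Subgroup.normalizer ((P : Subgroup G) : Set G) := by
    intro x hx hx1 g hg
    have h1 : ((P : Subgroup G)) ⊓ ((g⁻¹ • P : Sylow p G) : Subgroup G) ≠ ⊥ := by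
      intro h0
      have h2 : x ∈ (P : Subgroup G) ⊓ ((g⁻¹ • P : Sylow p G) : Subgroup G) := by
        rw [Subgroup.mem_inf]
        refine ⟨hx, ?_⟩
        rw [Sylow.coe_subgroup_smul, Subgroup.mem_pointwise_smul_iff_inv_smul_mem]
        have h3 : (MulAut.conj g⁻¹)⁻¹ • x = g * x * g⁻¹ := by
          rw [← map_inv, inv_inv]; rfl
        rw [h3]; exact hg
      rw [h0, Subgroup.mem_bot] at h2
      exact hx1 h2
    have h4 := h.ti _ P (g⁻¹ • P) h1 rfl
    have h5 : g⁻¹ • P = P := Sylow.ext h4.symm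
    have h6 : g • P = P := by
      conv_lhs => rw [← h5]
      rw [smul_inv_smul]
    exact Sylow.smul_eq_iff_mem_normalizer.mp h6
  have hcent : ∀ x ∈ H, x ≠ 1 → Subgroup.centralizer ({x} : Set G) ≤ H := by
    intro x hx hx1 g hg
    rw [Subgroup.mem_centralizer_singleton_iff] at hg
    obtain ⟨s, t, hst, hcst, hs, ht, hs', ht'⟩ := pparts hp.out x
    obtain ⟨a, b, hab, hcab, ha, hb, ha', hb'⟩ := pparts hp.out g
    have hgcomm : ∀ u ∈ Subgroup.zpowers x, ∀ v ∈ Subgroup.zpowers g, v * u = u * v := by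
      intro u hu v hv
      obtain ⟨i, rfl⟩ := Subgroup.mem_zpowers_iff.mp hu
      obtain ⟨j, rfl⟩ := Subgroup.mem_zpowers_iff.mp hv
      exact ((show Commute g x from hg).zpow_zpow j i).eq
    have hxz : ∀ u ∈ Subgroup.zpowers x, u ∈ H := by
      intro u hu
      obtain ⟨i, rfl⟩ := Subgroup.mem_zpowers_iff.mp hu
      exact H.zpow_mem hx i
    rw [hab]
    by_cases ht1 : t = 1
    · -- x is a p-element in P
      rw [ht1, mul_one] at hst
      have hxp : x ∈ (P : Subgroup G) := nil_pelt_mem P hHnil hPH hx (hst ▸ hs)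
      have hN : ∀ v ∈ Subgroup.zpowers g, v ∈ Subgroup.normalizer ((P : Subgroup G) : Set G) := by
        intro v hv
        apply hTIP x hxp hx1 v
        rw [hgcomm x (Subgroup.mem_zpowers x) v hv]
        simpa using hxp
      apply H.mul_mem
      · exact hPH (pelt_mem_sylow P ha (hN a ha'))
      · rw [hH, Subgroup.mem_centralizer_singleton_iff]
        exact (cn_comm h.cn hx1 (hzP x hxp).symm (hgcomm x (Subgroup.mem_zpowers x) b hb') (pelt_order hp.out hzp hb)).symm
    · have htH : t ∈ H := hxz t ht'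
      have hPt : ∀ w ∈ (P : Subgroup G), w * t = t * w := by
        intro w hw
        exact cn_comm h.cn hz1' (hzP w hw) (Subgroup.mem_centralizer_singleton_iff.mp htH) (pelt_order hp.out (pgrp_pelt P.isPGroup' hw) ht)
      have hCt := h.cn t ht1
      have hPC : (P : Subgroup G) ≤ Subgroup.centralizer ({t} : Set G) := fun w hw => Subgroup.mem_centralizer_singleton_iff.mpr (hPt w hw)
      apply H.mul_mem
      · exact hPH (nil_pelt_mem P hCt hPC (Subgroup.mem_centralizer_singleton_iff.mpr (hgcomm t ht' a ha')) ha)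
      · rw [hH, Subgroup.mem_centralizer_singleton_iff]
        exact (cn_comm h.cn ht1 (hPt z hz.1) (hgcomm t ht' b hb') (pelt_order hp.out hzp hb)).symm
  have hHbot : H ≠ ⊥ := by
    intro h0
    have h1 : z ∈ H := hPH hz.1
    rw [h0, Subgroup.mem_bot] at h1
    exact hz1' h1
  refine ⟨H, ⟨hHnil, hHbot, hcent, ?_⟩, hPH⟩
  intro hNH
  -- N(P) ≤ N(H)
  have hNP : Subgroup.normalizer ((P : Subgroup G) : Set G) ≤ H := by
    conv_rhs => rw [← hNH]
    have key : ∀ g ∈ Subgroup.normalizer ((P : Subgroup G) : Set G), ∀ y ∈ H, g * y * g⁻¹ ∈ H := by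
      intro g hg y hy
      have h1 : g * z * g⁻¹ ∈ H := hPH (norm_mem hg hz.1)
      apply hcent _ h1 (by
        intro h0
        apply hz1'
        have : z = g⁻¹ * (g * z * g⁻¹) * g := by group
        rw [this, h0]; group)
      rw [Subgroup.mem_centralizer_singleton_iff]
      have h2 : y * z = z * y := Subgroup.mem_centralizer_singleton_iff.mp hy
      calc g * y * g⁻¹ * (g * z * g⁻¹) = g * (y * z) * g⁻¹ := by group
        _ = g * (z * y) * g⁻¹ := by rw [h2]
        _ = _ := by group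
    intro g hg
    rw [Subgroup.mem_normalizer_iff]
    intro y
    refine ⟨key g hg y, fun hy => ?_⟩
    have h2 := key g⁻¹ (Subgroup.inv_mem _ hg) _ hy
    have h3 : g⁻¹ * (g * y * g⁻¹) * g⁻¹⁻¹ = y := by group
    rwa [h3] at h2
  -- P normal in N(ZJ(P))
  have hzz1 : H2.zz 0 (P : Subgroup G) ≠ ⊥ := H2.zz_ne_bot (Or.inl rfl) P.isPGroup' hP1
  have hzzp : IsPGroup p (H2.zz 0 (P : Subgroup G)) := P.isPGroup'.to_le H2.zz_le
  obtain ⟨S, hSp, hS⟩ := h.pcl' hzzp hzz1
  have hPM : (P : Subgroup G) ≤ Subgroup.normalizer ((H2.zz 0 (P : Subgroup G) : Subgroup G) : Set G) := Subgroup.le_normalizer.trans H2.norm_le_norm_zz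
  have hPS : (P : Subgroup G) ≤ S := fun x hx => hS x (hPM hx) (pgrp_pelt P.isPGroup' hx)
  have hSP : S = P := P.is_maximal' hSp hPS
  have hNz : Subgroup.normalizer ((H2.zz 0 (P : Subgroup G) : Subgroup G) : Set G) ≤ Subgroup.normalizer ((P : Subgroup G) : Set G) := by
    have key : ∀ g ∈ Subgroup.normalizer ((H2.zz 0 (P : Subgroup G) : Subgroup G) : Set G), ∀ y ∈ (P : Subgroup G), g * y * g⁻¹ ∈ (P : Subgroup G) := by
      intro g hg y hy
      rw [← hSP]
      apply hS _ (Subgroup.mul_mem _ (Subgroup.mul_mem _ hg (hPM hy)) (Subgroup.inv_mem _ hg))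
      obtain ⟨k, hk⟩ := pgrp_pelt P.isPGroup' hy
      exact ⟨k, by rw [conj_pow, hk]; simp⟩
    intro g hg
    rw [Subgroup.mem_normalizer_iff]
    intro y
    refine ⟨key g hg y, fun hy => ?_⟩
    have h2 := key g⁻¹ (Subgroup.inv_mem _ hg) _ hy
    have h3 : g⁻¹ * (g * y * g⁻¹) * g⁻¹⁻¹ = y := by group
    rwa [h3] at h2
  have hPHH : (P : Subgroup G) ≤ ⁅H, H⁆ := (h.le_comm P hP1).trans (Subgroup.commutator_mono (hNz.trans hNP) (hNz.trans hNP))
  apply nil_not_perfect hHnil (P.subtype hPH)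
  · intro h0
    apply hP1
    have h1 : ((P.subtype hPH : Sylow p H) : Subgroup H).map H.subtype = (P : Subgroup G) := Subgroup.map_subgroupOf_eq_of_le hPH
    rw [← h1, h0, Subgroup.map_bot]
  · have h2 : ((P.subtype hPH : Sylow p H) : Subgroup H).map H.subtype ≤ (commutator H).map H.subtype := by
      rw [commutator_def, Subgroup.map_commutator, ← MonoidHom.range_eq_map, Subgroup.range_subtype]
      refine le_trans ?_ hPHH
      rintro _ ⟨x, hx, rfl⟩
      exact hx
    exact (Subgroup.map_le_map_iff_of_injective (Subgroup.subtype_injective _)).mp h2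

end och

end Cfsg.Agent.H4
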