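import Cfsg.Agent.H4.OC3
import Cfsg.Agent.S1526

set_option linter.all false
set_option autoImplicit false

/-! CN-groups of odd order are solvable. -/

namespace Cfsg.Agent.H4

open Cfsg
open scoped Pointwise commutatorElement

universe u v w

section good
variable {G : Type u} [Group G] [Finite G]

theorem Good.center {A : Subgroup G} (h : Good A) : ∃ z ∈ A, z ≠ 1 ∧ A ≤ Subgroup.centralizer ({z} : Set G) := by
  haveI := h.1
  haveI : Nontrivial A := (Subgroup.nontrivial_iff_ne_bot A).mpr h.2.1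
  have h1 := H1.inf_center_ne_bot (⊤ : Subgroup A) (by
    intro h0
    exact (top_ne_bot h0))
  rw [top_inf_eq] at h1
  obtain ⟨⟨z, hz⟩, hz1⟩ := Subgroup.ne_bot_iff_exists_ne_one.mp h1
  refine ⟨z, z.2, fun h0 => hz1 (Subtype.ext (Subtype.ext h0)), ?_⟩
  intro a ha
  rw [Subgroup.mem_centralizer_singleton_iff]
  have := Subgroup.mem_center_iff.mp hz ⟨a, ha⟩
  exact congrArg Subtype.val this

theorem Good.le {A B : Subgroup G} (hA : Good A) (hB : Good B) {x : G} (hxA : x ∈ A) (hxB : x ∈ B) (hx1 : x ≠ 1) : A ≤ B := by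
  obtain ⟨z, hz, hz1, hzA⟩ := hA.center
  have h1 : z ∈ B := by
    apply hB.2.2.1 x hxB hx1
    have := Subgroup.mem_centralizer_singleton_iff.mp (hzA hxA)
    rw [Subgroup.mem_centralizer_singleton_iff]
    exact this.symm
  exact hzA.trans (hB.2.2.1 z h1 hz1)

theorem Good.eq {A B : Subgroup G} (hA : Good A) (hB : Good B) {x : G} (hxA : x ∈ A) (hxB : x ∈ B) (hx1 : x ≠ 1) : A = B :=
  le_antisymm (hA.le hB hxA hxB hx1) (hB.le hA hxB hxA hx1)

theorem Good.cj {A : Subgroup G} (hA : Good A) (g : G) : Good (H6.cj g A) := by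
  refine ⟨nil_image _ hA.1, ?_, ?_, ?_⟩
  · intro h0
    exact hA.2.1 (H6.cj_eq_bot.mp h0)
  · intro x hx hx1 y hy
    rw [H6.mem_cj] at hx ⊢
    rw [Subgroup.mem_centralizer_singleton_iff] at hy
    apply hA.2.2.1 _ hx (by
      intro h0
      apply hx1
      have : x = g * (g⁻¹ * x * g) * g⁻¹ := by group
      rw [this, h0]; group)
    rw [Subgroup.mem_centralizer_singleton_iff]
    calc g⁻¹ * y * g * (g⁻¹ * x * g) = g⁻¹ * (y * x) * g := by group
      _ = g⁻¹ * (x * y) * g := by rw [hy]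
      _ = _ := by group
  · intro h0
    apply hA.2.2.2
    have h1 := H6.cj_normalizer g A
    rw [h0] at h1
    exact H6.cj_injective g h1

theorem Good.hall {A : Subgroup G} (hA : Good A) {q : ℕ} [hq : Fact q.Prime] (hqA : q ∣ Nat.card A) : ∃ Q : Sylow q G, (Q : Subgroup G) ≤ A := by
  obtain ⟨⟨y, hy⟩, hyo⟩ := exists_prime_orderOf_dvd_card' (G := A) q hqA
  have hyo' : orderOf y = q := by rw [← hyo, ← Subgroup.orderOf_coe]
  have hy1 : y ≠ 1 := by
    rintro rfl
    rw [orderOf_one] at hyo'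
    exact hq.out.one_lt.ne hyo'
  have hyp : IsPGroup q (Subgroup.zpowers y) := isPGroup_zpowers ⟨1, by rw [pow_one, ← hyo']; exact pow_orderOf_eq_one y⟩
  obtain ⟨Q, hQ⟩ := hyp.exists_le_sylow
  have hyQ : y ∈ (Q : Subgroup G) := hQ (Subgroup.mem_zpowers y)
  obtain ⟨⟨z, hz⟩, hz1⟩ := Subgroup.ne_bot_iff_exists_ne_one.mp (H2.inf_cent_ne_bot Q.isPGroup' (le_refl (Q : Subgroup G)) Subgroup.le_normalizer (by
    intro h0
    rw [h0, Subgroup.mem_bot] at hyQ
    exact hy1 hyQ))
  have hzc : ∀ w ∈ (Q : Subgroup G), w * z = z * w := fun w hw => (Subgroup.mem_centralizer_iff.mp hz.2) w hw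
  have hzA : z ∈ A := by
    apply hA.2.2.1 y hy hy1
    rw [Subgroup.mem_centralizer_singleton_iff]
    exact (hzc y hyQ).symm
  refine ⟨Q, fun w hw => hA.2.2.1 z hzA (fun h => hz1 (Subtype.ext h)) ?_⟩
  rw [Subgroup.mem_centralizer_singleton_iff]
  exact hzc w hw

theorem OCH.false (h : OCH G) [Nontrivial G] : False := by
  classical
  have key : ∀ p : ℕ, p.Prime → p ∣ Nat.card G → ∃ H : Subgroup G, Good H ∧ ∃ P : Sylow p G, (P : Subgroup G) ≤ H ∧ (P : Subgroup G) ≠ ⊥ := by
    intro p hp hpd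
    haveI : Fact p.Prime := ⟨hp⟩
    obtain ⟨P⟩ : Nonempty (Sylow p G) := inferInstance
    have hP1 : (P : Subgroup G) ≠ ⊥ := by
      intro h0
      have h1 := P.not_dvd_index
      rw [h0, Subgroup.index_bot] at h1
      exact h1 hpd
    obtain ⟨H, hH, hPH⟩ := h.exists_good P hP1
    exact ⟨H, hH, P, hPH, hP1⟩
  choose! H hH using key
  have hgood : ∀ p : ℕ, p.Prime → p ∣ Nat.card G → Good (H p) := fun p hp hpd => (hH p hp hpd).1
  have hcardG : 1 < Nat.card G := Finite.one_lt_card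
  have hdvd : ∀ p : ℕ, p.Prime → p ∣ Nat.card G → p ∣ Nat.card (H p) := by
    intro p hp hpd
    haveI : Fact p.Prime := ⟨hp⟩
    obtain ⟨P, hPH, hP1⟩ := (hH p hp hpd).2
    have h1 : p ∣ Nat.card (P : Subgroup G) := by
      have := P.pow_dvd_card_of_pow_dvd_card (n := 1) (by rw [pow_one]; exact hpd)
      rwa [pow_one] at this
    exact h1.trans (Subgroup.card_dvd_of_le hPH)
  have hconj : ∀ p q : ℕ, p.Prime → p ∣ Nat.card G → q.Prime → q ∣ Nat.card (H p) → ∃ g, H6.cj g (H p) = H q := by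
    intro p q hp hpd hq hqd
    haveI : Fact q.Prime := ⟨hq⟩
    have hqG : q ∣ Nat.card G := hqd.trans (Subgroup.card_subgroup_dvd_card _)
    obtain ⟨Q, hQ⟩ := (hgood p hp hpd).hall hqd
    obtain ⟨P, hPH, hP1⟩ := (hH q hq hqG).2
    obtain ⟨g, hg⟩ := MulAction.exists_smul_eq G Q P
    obtain ⟨⟨x, hx⟩, hx1⟩ := Subgroup.ne_bot_iff_exists_ne_one.mp hP1
    refine ⟨g, ((hgood p hp hpd).cj g).eq (hgood q hq hqG) (x := x) ?_ (hPH hx) (fun h0 => hx1 (Subtype.ext h0))⟩
    rw [H6.mem_cj]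
    apply hQ
    rw [← hg, Sylow.coe_subgroup_smul, Subgroup.mem_pointwise_smul_iff_inv_smul_mem] at hx
    have h3 : (MulAut.conj g)⁻¹ • x = g⁻¹ * x * g := by
      rw [← map_inv]
      show g⁻¹ * x * g⁻¹⁻¹ = _
      rw [inv_inv]
    rwa [h3] at hx
  have hcardeq : ∀ p q : ℕ, p.Prime → p ∣ Nat.card G → q.Prime → q ∣ Nat.card (H p) → Nat.card (H q) = Nat.card (H p) := by
    intro p q hp hpd hq hqd
    obtain ⟨g, hg⟩ := hconj p q hp hpd hq hqd
    rw [← hg, H6.card_cj]
  let ι := {p : (Nat.card G).primeFactors // (p : ℕ) = (Nat.card (H p)).minFac}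
  have hι : ∀ i : ι, (i.1 : ℕ).Prime ∧ (i.1 : ℕ) ∣ Nat.card G := fun i => ⟨Nat.prime_of_mem_primeFactors i.1.2, Nat.dvd_of_mem_primeFactors i.1.2⟩
  -- the minimal prime
  have hmin : ∀ q : ℕ, q.Prime → q ∣ Nat.card G → ∃ i : ι, (i.1 : ℕ) ∣ Nat.card (H q) ∧ ∃ g, H6.cj g (H q) = H i.1 := by
    intro q hq hqd
    have hne1 : Nat.card (H q) ≠ 1 := fun h0 => (hgood q hq hqd).2.1 (Subgroup.card_eq_one.mp h0)
    have hm := Nat.minFac_prime hne1
    have hmd := Nat.minFac_dvd (Nat.card (H q))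
    have hmG : (Nat.card (H q)).minFac ∣ Nat.card G := hmd.trans (Subgroup.card_subgroup_dvd_card _)
    have h1 := hcardeq q _ hq hqd hm hmd
    refine ⟨⟨⟨(Nat.card (H q)).minFac, Nat.mem_primeFactors.mpr ⟨hm, hmG, Nat.card_pos.ne'⟩⟩, ?_⟩, hmd, hconj q _ hq hqd hm hmd⟩
    show (Nat.card (H q)).minFac = (Nat.card (H (Nat.card (H q)).minFac)).minFac
    rw [h1]
  have hcard2 : 2 ≤ Fintype.card ι := by
    by_contra hlt
    have hle : Fintype.card ι ≤ 1 := by omega
    rw [Fintype.card_le_one_iff] at hle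
    obtain ⟨q₀, hq₀, hq₀d⟩ := Nat.exists_prime_and_dvd hcardG.ne'
    obtain ⟨i₀, -, -⟩ := hmin q₀ hq₀ hq₀d
    have hall : ∀ q : ℕ, q.Prime → q ∣ Nat.card G → Nat.card (H q) = Nat.card (H i₀.1) := by
      intro q hq hqd
      obtain ⟨i, -, g, hg⟩ := hmin q hq hqd
      rw [hle i₀ i, ← hg, H6.card_cj]
    have hd : Nat.card G ∣ Nat.card (H i₀.1) := by
      rw [Nat.dvd_iff_prime_pow_dvd_dvd]
      intro q k hq hqk
      rcases Nat.eq_zero_or_pos k with h0 | hpos
      · rw [h0, pow_zero]; exact one_dvd _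
      · haveI : Fact q.Prime := ⟨hq⟩
        have hqd : q ∣ Nat.card G := (dvd_pow_self q hpos.ne').trans hqk
        obtain ⟨P, hPH, -⟩ := (hH q hq hqd).2
        rw [← hall q hq hqd]
        exact (P.pow_dvd_card_of_pow_dvd_card hqk).trans (Subgroup.card_dvd_of_le hPH)
    have htop : H i₀.1 = ⊤ := by
      apply Subgroup.eq_top_of_card_eq
      exact Nat.dvd_antisymm (Subgroup.card_subgroup_dvd_card _) hd
    have hg := hgood i₀.1 (hι i₀).1 (hι i₀).2
    rw [htop] at hg
    apply hg.2.2.2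
    rw [Subgroup.normalizer_eq_top]
  refine Cfsg.Agent.S1526.result h.odd hcard2 (fun i => Subgroup.normalizer (H i.1 : Set G)) (fun i => H i.1) ?_ ?_ ?_ ?_ ?_ ?_ ?_
  · intro i
    exact lt_of_le_of_ne Subgroup.le_normalizer (Ne.symm (hgood i.1 (hι i).1 (hι i).2).2.2.2)
  · intro i
    exact (hgood i.1 (hι i).1 (hι i).2).2.1
  · intro i x hx h hh
    exact norm_mem hx hh
  · intro i x hx hx1
    exact inf_le_right.trans ((hgood i.1 (hι i).1 (hι i).2).2.2.1 x hx hx1)
  · intro i j hij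
    by_contra hcop
    obtain ⟨q, hq, hqi, hqj⟩ := Nat.Prime.not_coprime_iff_dvd.mp hcop
    apply hij
    have h1 := hcardeq i.1 q (hι i).1 (hι i).2 hq hqi
    have h2 := hcardeq j.1 q (hι j).1 (hι j).2 hq hqj
    apply Subtype.ext
    apply Subtype.ext
    rw [i.2, j.2, ← h1, ← h2]
  · intro i
    refine ⟨?_, rfl⟩
    intro g hg x hx hgx
    by_contra hx1
    apply hg
    have hgi := hgood i.1 (hι i).1 (hι i).2
    rw [H6.mem_norm]
    exact (hgi.cj g).eq hgi (x := g * x * g⁻¹) (H6.conj_mem_cj hx) hgx (by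
      intro h0
      apply hx1
      have : x = g⁻¹ * (g * x * g⁻¹) * g := by group
      rw [this, h0]; group)
  · intro g hg1
    have ho : orderOf g ≠ 1 := fun h0 => hg1 (orderOf_eq_one_iff.mp h0)
    obtain ⟨q, hq, hqd⟩ := Nat.exists_prime_and_dvd ho
    haveI : Fact q.Prime := ⟨hq⟩
    have hqG : q ∣ Nat.card G := hqd.trans (orderOf_dvd_natCard g)
    set y := g ^ (orderOf g / q) with hy
    have hyo : orderOf y = q := by
      rw [hy, orderOf_pow_of_dvd (Nat.div_ne_zero_iff_of_dvd hqd |>.mpr ⟨(orderOf_pos g).ne', hq.ne_zero⟩) (Nat.div_dvd_of_dvd hqd), Nat.div_div_self hqd (orderOf_pos g).ne']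
    have hy1 : y ≠ 1 := by
      intro h0
      rw [h0, orderOf_one] at hyo
      exact hq.one_lt.ne hyo
    have hyp : IsPGroup q (Subgroup.zpowers y) := isPGroup_zpowers ⟨1, by rw [pow_one, ← hyo]; exact pow_orderOf_eq_one y⟩
    obtain ⟨Q, hQ⟩ := hyp.exists_le_sylow
    have hyQ : y ∈ (Q : Subgroup G) := hQ (Subgroup.mem_zpowers y)
    obtain ⟨P, hPH, hP1⟩ := (hH q hq hqG).2
    obtain ⟨a, ha⟩ := MulAction.exists_smul_eq G Q P
    obtain ⟨i, -, b, hb⟩ := hmin q hq hqG
    refine ⟨i, b * a, ?_⟩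
    have h1 : a * y * a⁻¹ ∈ (P : Subgroup G) := by
      rw [← ha, Sylow.coe_subgroup_smul]
      exact (Subgroup.smul_mem_pointwise_smul_iff (a := MulAut.conj a)).mpr hyQ
    have h2 : b * (a * y * a⁻¹) * b⁻¹ ∈ H i.1 := by
      rw [← hb]
      exact H6.conj_mem_cj (hPH h1)
    have hgi := hgood i.1 (hι i).1 (hι i).2
    apply hgi.2.2.1 _ h2 (by
      intro h0
      apply hy1
      have : y = (b * a)⁻¹ * (b * (a * y * a⁻¹) * b⁻¹) * (b * a) := by group
      rw [this, h0]; group)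
    rw [Subgroup.mem_centralizer_singleton_iff]
    have h3 : g * y = y * g := by rw [hy, ← pow_succ, ← pow_succ']
    calc b * a * g * (b * a)⁻¹ * (b * (a * y * a⁻¹) * b⁻¹) = b * a * (g * y) * (b * a)⁻¹ := by group
      _ = b * a * (y * g) * (b * a)⁻¹ := by rw [h3]
      _ = _ := by group

end good

theorem odd_cn_solvable_aux : ∀ (n : ℕ) (G : Type u) [Group G] [Finite G], Nat.card G = n → Odd (Nat.card G) → IsCNGroup G → Group.IsSolvable G := by
  intro n
  induction n using Nat.strong_induction_on with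
  | _ n ih =>
  intro G _ _ hn hodd hCN
  by_contra hns
  have hoddsub : ∀ m : ℕ, m ∣ Nat.card G → Odd m := by
    intro m hm
    by_contra hcon
    rw [Nat.not_odd_iff_even] at hcon
    exact (Nat.not_even_iff_odd.mpr hodd) (even_iff_two_dvd.mpr ((even_iff_two_dvd.mp hcon).trans hm))
  haveI : Nontrivial G := by
    by_contra h0
    rw [not_nontrivial_iff_subsingleton] at h0
    apply hns
    exact Group.isSolvable_of_comm (fun a b => Subsingleton.elim _ _)
  have hsub : ∀ H : Subgroup G, H ≠ ⊤ → Group.IsSolvable H := by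
    intro H hH
    have h1 : Nat.card H < Nat.card G := by
      apply lt_of_le_of_ne (Subgroup.card_le_card_group H)
      intro h0
      exact hH (Subgroup.eq_top_of_card_eq H h0)
    exact ih _ (by omega) H rfl (hoddsub _ (Subgroup.card_subgroup_dvd_card H)) (cn_sub hCN H)
  refine OCH.false (G := G) ⟨hCN, hodd, hsub, ?_, ?_⟩
  · by_contra hne
    apply hns
    have h1 := hsub _ hne
    haveI := h1
    haveI h2 : Group.IsSolvable (Abelianization G) := Group.isSolvable_of_comm (fun a b => mul_comm a b)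
    exact Group.isSolvable_of_ker_le_range (commutator G).subtype (Abelianization.of (G := G)) (by
      rw [Abelianization.ker_of, Subgroup.range_subtype])
  · intro p hp D hDp hD1 hDn
    haveI : Fact p.Prime := ⟨hp⟩
    haveI := hDn
    haveI : Nontrivial D := (Subgroup.nontrivial_iff_ne_bot D).mpr hD1
    have hc := hDp.center_nontrivial
    set V := (Subgroup.center D).map D.subtype with hV
    haveI hVn : V.Normal := by rw [hV]; infer_instance
    have hV1 : V ≠ ⊥ := by
      intro h0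
      rw [hV, Subgroup.map_eq_bot_iff_of_injective _ D.subtype_injective] at h0
      exact ((Subgroup.nontrivial_iff_ne_bot _).mp hc) h0
    have hVp : IsPGroup p V := (hDp.to_subgroup (Subgroup.center D)).map _
    have hVab : ∀ a ∈ V, ∀ b ∈ V, a * b = b * a := by
      rintro _ ⟨a, ha, rfl⟩ _ ⟨b, hb, rfl⟩
      have := Subgroup.mem_center_iff.mp hb a
      exact congrArg Subtype.val this
    have hq := cn_quot hCN V hVp hVab hV1
    have hcard : Nat.card (G ⧸ V) < Nat.card G := by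
      have h1 := V.card_mul_index
      have h2 : 1 < Nat.card V := by
        haveI : Nontrivial V := (Subgroup.nontrivial_iff_ne_bot V).mpr hV1
        exact Finite.one_lt_card
      have h3 : V.index = Nat.card (G ⧸ V) := rfl
      have h4 : 0 < Nat.card (G ⧸ V) := Nat.card_pos
      rw [h3] at h1
      nlinarith
    have hs := ih _ (by omega) (G ⧸ V) rfl (hoddsub _ (by
      have h1 := V.card_mul_index
      exact Dvd.intro_left _ h1)) hq
    apply hns
    haveI := hs
    haveI : Group.IsSolvable V := Group.isSolvable_of_comm (fun a b => Subtype.ext (hVab a a.2 b b.2))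
    exact Group.isSolvable_of_ker_le_range V.subtype (QuotientGroup.mk' V) (by
      rw [QuotientGroup.ker_mk', Subgroup.range_subtype])

theorem odd_cn_solvable {G : Type u} [Group G] [Finite G] (hodd : Odd (Nat.card G)) (hCN : IsCNGroup G) : Group.IsSolvable G :=
  odd_cn_solvable_aux _ G rfl hodd hCN

end Cfsg.Agent.H4
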