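import Cfsg.Agent.H4.OC4
import Cfsg.Prelude.Def_OddOrder

set_option linter.all false
set_option autoImplicit false

namespace Cfsg.Agent.H4

open Cfsg

theorem minsimple_cn_false {G : Type*} [Group G] [Finite G] (hG : IsMinSimpleOddOrder G) (hCN : IsCNGroup G) : False := by
  have h1 := odd_cn_solvable hG.1 hCN
  obtain ⟨h2, h3, -⟩ := hG.2
  haveI := h2
  haveI := h1
  apply h3
  exact ⟨⟨fun a b => (IsSimpleGroup.comm_iff_isSolvable.mpr h1) a b⟩⟩

end Cfsg.Agent.H4
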