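import Cfsg.Agent.H6.EngelExt
import Mathlib

set_option linter.all false
set_option autoImplicit false

namespace Cfsg.Agent.H4
open scoped commutatorElement
universe u
variable {G : Type u} [Group G]

theorem comm_A {A B : Subgroup G} (hAB : A ≤ Subgroup.normalizer (B : Set G)) (hc : ⁅⁅B, B⁆, A⁆ = ⊥) :
    ⁅B, A⁆ ≤ B ∧ ⁅⁅B, A⁆, ⁅B, B⁆⁆ = ⊥ ∧ ⁅⁅⁅B, A⁆, ⁅B, A⁆⁆, B⁆ = ⊥ := by
  have hDB : ⁅B, A⁆ ≤ B := by
    rw [Subgroup.commutator_le]
    intro b hb a ha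
    rw [commutatorElement_def, mul_assoc, mul_assoc]
    refine B.mul_mem hb ?_
    rw [← mul_assoc]
    exact (Subgroup.mem_normalizer_iff.mp (hAB ha) _).mp (B.inv_mem hb)
  have h1 : ⁅⁅B, A⁆, ⁅B, B⁆⁆ = ⊥ := by
    apply Subgroup.commutator_commutator_eq_bot_of_rotate
    · rw [Subgroup.commutator_comm A, hc, Subgroup.commutator_bot_left]
    · rw [eq_bot_iff, ← hc]
      apply Subgroup.commutator_mono _ le_rfl
      exact Subgroup.commutator_mono (by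
        rw [Subgroup.commutator_le]
        intro x hx y hy
        exact B.mul_mem (B.mul_mem (B.mul_mem hx hy) (B.inv_mem hx)) (B.inv_mem hy)) le_rfl
  refine ⟨hDB, h1, ?_⟩
  have h2 : ⁅⁅⁅B, A⁆, B⁆, ⁅B, A⁆⁆ = ⊥ := by
    rw [eq_bot_iff, ← h1, Subgroup.commutator_comm]
    exact Subgroup.commutator_mono le_rfl (Subgroup.commutator_mono hDB le_rfl)
  apply Subgroup.commutator_commutator_eq_bot_of_rotate
  · exact h2
  · rw [Subgroup.commutator_comm B]; exact h2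

theorem quad_sq {A B : Subgroup G} (hAB : A ≤ Subgroup.normalizer (B : Set G)) (hc : ⁅⁅B, B⁆, A⁆ = ⊥) (hA : ∀ a ∈ A, ∀ c ∈ A, a * c = c * a)
    {b : G} (hb : b ∈ B) (hq : ⁅⁅(Subgroup.closure {g : G | ∃ a ∈ A, g = b⁻¹ * a * b * a⁻¹}), A⁆, A⁆ = ⊥) :
    ∀ w ∈ ⁅(Subgroup.closure {g : G | ∃ a ∈ A, g = b⁻¹ * a * b * a⁻¹}), (Subgroup.closure {g : G | ∃ a ∈ A, g = b⁻¹ * a * b * a⁻¹})⁆, w ^ 2 = 1 := by
  classical
  obtain ⟨hDB, h1, h2⟩ := comm_A hAB hc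
  set M := Subgroup.closure {g : G | ∃ a ∈ A, g = b⁻¹ * a * b * a⁻¹} with hM
  set D := ⁅B, A⁆ with hD
  -- elementwise facts
  have F1 : ∀ x ∈ ⁅B, B⁆, ∀ a ∈ A, a * x = x * a := by
    intro x hx a ha
    rw [Subgroup.commutator_eq_bot_iff_le_centralizer] at hc
    exact (Subgroup.mem_centralizer_iff.mp (hc hx)) a ha
  have F2 : ∀ d ∈ D, ∀ x ∈ ⁅B, B⁆, x * d = d * x := by
    intro d hd x hx
    rw [Subgroup.commutator_eq_bot_iff_le_centralizer] at h1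
    exact (Subgroup.mem_centralizer_iff.mp (h1 hd)) x hx
  have F3 : ∀ z ∈ ⁅D, D⁆, ∀ x ∈ B, x * z = z * x := by
    intro z hz x hx
    rw [Subgroup.commutator_eq_bot_iff_le_centralizer] at h2
    exact (Subgroup.mem_centralizer_iff.mp (h2 hz)) x hx
  have hωB : ∀ x ∈ B, ∀ y ∈ B, x⁻¹ * y⁻¹ * x * y ∈ ⁅B, B⁆ := by
    intro x hx y hy
    have := Subgroup.commutator_mem_commutator (B.inv_mem hx) (B.inv_mem hy)
    rw [commutatorElement_def, inv_inv, inv_inv] at this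
    exact this
  have hωD : ∀ x ∈ D, ∀ y ∈ D, x⁻¹ * y⁻¹ * x * y ∈ ⁅D, D⁆ := by
    intro x hx y hy
    have := Subgroup.commutator_mem_commutator (D.inv_mem hx) (D.inv_mem hy)
    rw [commutatorElement_def, inv_inv, inv_inv] at this
    exact this
  obtain ⟨m, hm⟩ : ∃ m : G → G, ∀ a, m a = b⁻¹ * a * b * a⁻¹ := ⟨_, fun _ => rfl⟩
  have hmM : ∀ a ∈ A, m a ∈ M := fun a ha => Subgroup.subset_closure ⟨a, ha, hm a⟩
  have hmD : ∀ a ∈ A, m a ∈ D := by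
    intro a ha
    have := Subgroup.commutator_mem_commutator (B.inv_mem hb) ha
    rw [commutatorElement_def, inv_inv] at this
    rw [hm]; exact this
  have hcoc : ∀ a c, m (c * a) = m c * (c * m a * c⁻¹) := by
    intro a c
    simp only [hm]; group
  obtain ⟨n, hn⟩ : ∃ n : G → G → G, ∀ a c, n a c = (m a)⁻¹ * (c * m a * c⁻¹) := ⟨_, fun _ _ => rfl⟩
  have hnD : ∀ a ∈ A, ∀ c ∈ A, n a c ∈ D := by
    intro a ha c hc'
    have h3 : c * m a * c⁻¹ = (m c)⁻¹ * m (c * a) := by rw [hcoc]; group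
    rw [hn, h3]
    exact D.mul_mem (D.inv_mem (hmD a ha)) (D.mul_mem (D.inv_mem (hmD c hc')) (hmD _ (A.mul_mem hc' ha)))
  have hnA : ∀ a ∈ A, ∀ c ∈ A, ∀ d ∈ A, d * n a c = n a c * d := by
    intro a ha c hc' d hd
    have h3 : n a c ∈ ⁅M, A⁆ := by
      have := Subgroup.commutator_mem_commutator (M.inv_mem (hmM a ha)) hc'
      rw [commutatorElement_def, inv_inv] at this
      rw [hn]
      convert this using 1
      group
    rw [Subgroup.commutator_eq_bot_iff_le_centralizer] at hq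
    exact (Subgroup.mem_centralizer_iff.mp (hq h3)) d hd
  have hbconj : ∀ d, d * b * d⁻¹ = b * m d := by
    intro d; rw [hm]; group
  -- (iii)
  have h3 : ∀ a ∈ A, ∀ c ∈ A, ∀ d ∈ A, m d * n a c = n a c * m d := by
    intro a ha c hc' d hd
    have e1 := F1 _ (hωB b hb (n a c) (hDB (hnD a ha c hc'))) d hd
    have e2 : d * (b⁻¹ * (n a c)⁻¹ * b * n a c) * d⁻¹ = (d * b * d⁻¹)⁻¹ * (d * n a c * d⁻¹)⁻¹ * (d * b * d⁻¹) * (d * n a c * d⁻¹) := by group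
    rw [e1, mul_inv_cancel_right, hbconj, hnA a ha c hc' d hd, mul_inv_cancel_right] at e2
    -- `ω(b,n) = (b m_d)⁻¹ n⁻¹ (b m_d) n`
    have e3 := F2 _ (hmD d hd) _ (hωB b hb (n a c) (hDB (hnD a ha c hc')))
    set N := n a c
    set μ := m d
    set ω := b⁻¹ * N⁻¹ * b * N with hω
    have e4 : (b * μ)⁻¹ * N⁻¹ * (b * μ) * N = μ⁻¹ * ω * N⁻¹ * μ * N := by rw [hω]; group
    rw [e4] at e2
    have e5 : μ⁻¹ * ω = ω * μ⁻¹ := by
      rw [inv_mul_eq_iff_eq_mul, ← mul_assoc, ← e3, mul_inv_cancel_right]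
    rw [e5] at e2
    have e6 : μ⁻¹ * N⁻¹ * μ * N = 1 := by
      have := congrArg (fun t => ω⁻¹ * t) e2
      simp only [inv_mul_cancel] at this
      rw [this]; group
    have e7 : μ * N = N * μ := by
      have := congrArg (fun t => N * μ * t) e6
      simp only [mul_one] at this
      rw [← this]; group
    exact e7
  -- (iv)
  have h4 : ∀ a ∈ A, ∀ c ∈ A, b⁻¹ * (n a c)⁻¹ * b * n a c = (m a)⁻¹ * (m c)⁻¹ * m a * m c := by
    intro a ha c hc'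
    have hma := hDB (hmD a ha)
    have e0 := F1 _ (hωB b hb (m a) hma) c hc'
    have e1 : c * m a * c⁻¹ = m a * n a c := by rw [hn]; group
    have e2 : c * (b⁻¹ * (m a)⁻¹ * b * m a) * c⁻¹ = (c * b * c⁻¹)⁻¹ * (c * m a * c⁻¹)⁻¹ * (c * b * c⁻¹) * (c * m a * c⁻¹) := by group
    rw [e0, mul_inv_cancel_right, hbconj, e1] at e2
    have g1 := F2 _ (hmD c hc') _ (hωB b hb _ (B.mul_mem hma (hDB (hnD a ha c hc'))))
    have g2 := F2 _ (hnD a ha c hc') _ (hωB b hb (m a) hma)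
    have g3 := h3 a ha c hc' c hc'
    have g4 := F3 _ (hωD (m c) (hmD c hc') (m a) (hmD a ha)) (n a c) (hDB (hnD a ha c hc'))
    have g5 := F3 _ (hωD (m c) (hmD c hc') (m a) (hmD a ha)) _ (Subgroup.commutator_le.mpr (fun x hx y hy => by
      exact B.mul_mem (B.mul_mem (B.mul_mem hx hy) (B.inv_mem hx)) (B.inv_mem hy)) (hωB b hb (m a) hma))
    set N := n a c
    set μ := m a
    set ν := m c
    set ω₁ := b⁻¹ * N⁻¹ * b * N with hω₁
    set ω₂ := b⁻¹ * μ⁻¹ * b * μ with hω₂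
    set ω₃ := b⁻¹ * (μ * N)⁻¹ * b * (μ * N) with hω₃
    set κ := ν⁻¹ * μ⁻¹ * ν * μ with hκ
    have k1 : ω₃ = ω₁ * ω₂ := by
      have : ω₃ = ω₁ * (N⁻¹ * (ω₂ * N)) := by rw [hω₃, hω₁, hω₂]; group
      rw [this, g2]; group
    have k2 : (b * ν)⁻¹ * (μ * N)⁻¹ * (b * ν) * (μ * N) = ν⁻¹ * ω₃ * (μ * N)⁻¹ * ν * (μ * N) := by rw [hω₃]; group
    rw [k2] at e2
    have k3 : ν⁻¹ * ω₃ = ω₃ * ν⁻¹ := by
      rw [inv_mul_eq_iff_eq_mul, ← mul_assoc, ← g1, mul_inv_cancel_right]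
    rw [k3, k1] at e2
    have k4 : ν⁻¹ * (μ * N)⁻¹ * ν * (μ * N) = κ := by
      have k5 : ν⁻¹ * N⁻¹ = N⁻¹ * ν⁻¹ := by rw [← mul_inv_rev, ← mul_inv_rev, g3]
      rw [mul_inv_rev, ← mul_assoc ν⁻¹ N⁻¹ μ⁻¹, k5]
      have k6 : N⁻¹ * ν⁻¹ * μ⁻¹ * ν * (μ * N) = N⁻¹ * (κ * N) := by rw [hκ]; group
      rw [k6, ← g4]; group
    have k7 : ω₂ = ω₁ * ω₂ * κ := by
      refine e2.trans ?_
      have : ω₁ * ω₂ * ν⁻¹ * (μ * N)⁻¹ * ν * (μ * N) = ω₁ * ω₂ * (ν⁻¹ * (μ * N)⁻¹ * ν * (μ * N)) := by group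
      rw [this, k4]
    have k8 : ω₁ * κ = 1 := by
      rw [mul_assoc, g5, ← mul_assoc] at k7
      exact mul_eq_right.mp k7.symm
    rw [mul_eq_one_iff_eq_inv] at k8
    rw [k8, hκ]; group
  -- (v)
  have h5 : ∀ a ∈ A, ∀ c ∈ A, n a c = ((m a)⁻¹ * (m c)⁻¹ * m a * m c) * n c a := by
    intro a ha c hc'
    have e1 : m a * (a * m c * a⁻¹) = m c * (c * m a * c⁻¹) := by
      rw [← hcoc, ← hcoc, hA a ha c hc']
    have e2 : c * m a * c⁻¹ = m a * n a c := by rw [hn]; group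
    have e3 : a * m c * a⁻¹ = m c * n c a := by rw [hn]; group
    rw [e2, e3] at e1
    have this : (m a)⁻¹ * (m c)⁻¹ * (m a * (m c * n c a)) = (m a)⁻¹ * (m c)⁻¹ * (m c * (m a * n a c)) := congrArg (fun t => (m a)⁻¹ * (m c)⁻¹ * t) e1
    calc n a c = (m a)⁻¹ * (m c)⁻¹ * (m c * (m a * n a c)) := by group
      _ = (m a)⁻¹ * (m c)⁻¹ * (m a * (m c * n c a)) := this.symm
      _ = _ := by group
  have h6 : ∀ a ∈ A, ∀ c ∈ A, ((m a)⁻¹ * (m c)⁻¹ * m a * m c) * ((m a)⁻¹ * (m c)⁻¹ * m a * m c) = 1 := by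
    intro a ha c hc'
    have e1 := h4 a ha c hc'
    have e2 := h4 c hc' a ha
    have e3 := h5 a ha c hc'
    have e4 := F3 _ (hωD (m a) (hmD a ha) (m c) (hmD c hc')) b hb
    set κ := (m a)⁻¹ * (m c)⁻¹ * m a * m c with hκ
    have e5 : (m c)⁻¹ * (m a)⁻¹ * m c * m a = κ⁻¹ := by rw [hκ]; group
    rw [e5] at e2
    rw [e3] at e1
    have e6 : b⁻¹ * (κ * n c a)⁻¹ * b * (κ * n c a) = b⁻¹ * (n c a)⁻¹ * b * n c a := by
      have e7 : κ⁻¹ * b = b * κ⁻¹ := by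
        rw [inv_mul_eq_iff_eq_mul, ← mul_assoc, ← e4, mul_inv_cancel_right]
      calc b⁻¹ * (κ * n c a)⁻¹ * b * (κ * n c a) = b⁻¹ * (n c a)⁻¹ * (κ⁻¹ * b) * (κ * n c a) := by group
        _ = b⁻¹ * (n c a)⁻¹ * (b * κ⁻¹) * (κ * n c a) := by rw [e7]
        _ = _ := by group
    rw [e6, e2] at e1
    rw [← mul_inv_cancel κ]
    congr 1
    exact e1.symm
  -- conclusion
  have hMD : M ≤ D := by
    rw [hM, Subgroup.closure_le]
    rintro _ ⟨a, ha, rfl⟩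
    rw [← hm]; exact hmD a ha
  let X : Subgroup G :=
    { carrier := {z | (z ∈ B ∧ ∀ x ∈ B, x * z = z * x) ∧ z * z = 1}
      one_mem' := ⟨⟨B.one_mem, by simp⟩, by simp⟩
      mul_mem' := by
        rintro z w ⟨⟨hz, hz'⟩, hz2⟩ ⟨⟨hw, hw'⟩, hw2⟩
        refine ⟨⟨B.mul_mem hz hw, ?_⟩, ?_⟩
        · intro x hx
          rw [← mul_assoc, hz' x hx, mul_assoc, hw' x hx, mul_assoc]
        · rw [mul_assoc, ← mul_assoc w z w, hz' w hw, mul_assoc z w w, hw2, mul_one, hz2]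
      inv_mem' := by
        rintro z ⟨⟨hz, hz'⟩, hz2⟩
        refine ⟨⟨B.inv_mem hz, ?_⟩, ?_⟩
        · intro x hx
          rw [mul_inv_eq_iff_eq_mul, mul_assoc, hz' x hx, inv_mul_cancel_left]
        · rw [← mul_inv_rev, hz2, inv_one] }
  have hXn : ∀ x ∈ B, x ∈ Subgroup.normalizer (X : Set G) := by
    intro x hx
    rw [Subgroup.mem_normalizer_iff]
    intro z
    constructor
    · rintro ⟨⟨hz, hz'⟩, hz2⟩
      rw [hz' x hx, mul_inv_cancel_right]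
      exact ⟨⟨hz, hz'⟩, hz2⟩
    · rintro ⟨⟨hz, hz'⟩, hz2⟩
      have : z = x * z * x⁻¹ := by
        have h7 := hz' x hx
        have h8 := congrArg (fun t => x⁻¹ * t * x) h7
        have h9 := hz' (x⁻¹) (B.inv_mem hx)
        calc z = x⁻¹ * (x * z * x⁻¹) * x := by group
          _ = (x * z * x⁻¹) * x⁻¹ * x := by rw [h9]
          _ = _ := by group
      rw [this]
      exact ⟨⟨hz, hz'⟩, hz2⟩
  have hgen : ∀ a ∈ A, ∀ c ∈ A, ⁅m a, m c⁆ ∈ X := by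
    intro a ha c hc'
    have hz := hωD (m a) (hmD a ha) (m c) (hmD c hc')
    have e4 := F3 _ hz
    have e5 : ⁅m a, m c⁆ = (m a)⁻¹ * (m c)⁻¹ * m a * m c := by
      rw [commutatorElement_def]
      have := e4 (m c * m a) (B.mul_mem (hDB (hmD c hc')) (hDB (hmD a ha)))
      calc m a * m c * (m a)⁻¹ * (m c)⁻¹ = (m c * m a * ((m a)⁻¹ * (m c)⁻¹ * m a * m c)) * (m a)⁻¹ * (m c)⁻¹ := by group
        _ = (((m a)⁻¹ * (m c)⁻¹ * m a * m c) * (m c * m a)) * (m a)⁻¹ * (m c)⁻¹ := by rw [this]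
        _ = _ := by group
    rw [e5]
    exact ⟨⟨(Subgroup.commutator_le.mpr (fun x hx y hy => by
      exact B.mul_mem (B.mul_mem (B.mul_mem (hDB hx) (hDB hy)) (B.inv_mem (hDB hx))) (B.inv_mem (hDB hy)))) hz, e4⟩, h6 a ha c hc'⟩
  have hcj : ∀ q ∈ B, ∀ x ∈ X, q * x * q⁻¹ ∈ X := fun q hq' x hx => (Subgroup.mem_normalizer_iff.mp (hXn q hq') x).mp hx
  have hinner : ∀ a ∈ A, ∀ q ∈ M, q ∈ B ∧ ⁅m a, q⁆ ∈ X := by
    intro a ha q hq'
    rw [hM] at hq'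
    induction hq' using Subgroup.closure_induction with
    | mem x hx =>
      obtain ⟨c, hc', rfl⟩ := hx
      rw [← hm]
      exact ⟨hDB (hmD c hc'), hgen a ha c hc'⟩
    | one => exact ⟨B.one_mem, by rw [commutatorElement_one_right]; exact X.one_mem⟩
    | mul x y _ _ hx hy =>
      refine ⟨B.mul_mem hx.1 hy.1, ?_⟩
      have : ⁅m a, x * y⁆ = ⁅m a, x⁆ * (x * ⁅m a, y⁆ * x⁻¹) := by
        simp only [commutatorElement_def]; group
      rw [this]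
      exact X.mul_mem hx.2 (hcj x hx.1 _ hy.2)
    | inv x _ hx =>
      refine ⟨B.inv_mem hx.1, ?_⟩
      have : ⁅m a, x⁻¹⁆ = x⁻¹ * ⁅m a, x⁆⁻¹ * x⁻¹⁻¹ := by
        simp only [commutatorElement_def]; group
      rw [this]
      exact hcj _ (B.inv_mem hx.1) _ (X.inv_mem hx.2)
  have hfin : ⁅M, M⁆ ≤ X := by
    have := H6.comm_closure_le (s := {g : G | ∃ a ∈ A, g = b⁻¹ * a * b * a⁻¹}) (Q := M) (Z := X) (by
      rintro _ ⟨a, ha, rfl⟩
      rw [← hm]; exact hXn _ (hDB (hmD a ha))) (by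
      rintro _ ⟨a, ha, rfl⟩ q hq'
      rw [← hm]; exact (hinner a ha q hq').2)
    exact this
  intro w hw
  rw [pow_two]
  exact (hfin hw).2

end Cfsg.Agent.H4
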