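import Cfsg.Agent.H2.Replace
import Cfsg.Agent.H2.ZJ
import Cfsg.Prelude.Def_PLocal
import Cfsg.Prelude.Def_Transfer

namespace Cfsg.Agent.H4
open Subgroup
universe u
variable {S : Type u} [Group S] [Finite S]

theorem mc_iff {A : Type*} [Group A] (H : Subgroup A) : IsMulCommutative H ↔ ∀ x ∈ H, ∀ y ∈ H, x * y = y * x := by
  constructor
  · intro h x hx y hy
    exact congrArg Subtype.val (h.is_comm.comm (⟨x, hx⟩ : H) ⟨y, hy⟩)
  · intro h
    exact ⟨⟨fun a b => Subtype.ext (h a a.2 b b.2)⟩⟩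

theorem comm_map {D : Subgroup S} {A : Subgroup D} : (∀ x ∈ A.map D.subtype, ∀ y ∈ A.map D.subtype, x * y = y * x) ↔ ∀ x ∈ A, ∀ y ∈ A, x * y = y * x := by
  constructor
  · intro h x hx y hy
    exact Subtype.ext (h _ ⟨x, hx, rfl⟩ _ ⟨y, hy, rfl⟩)
  · rintro h _ ⟨x, hx, rfl⟩ _ ⟨y, hy, rfl⟩
    exact congrArg Subtype.val (h x hx y hy)

theorem image_AA (m : ℕ) (D : Subgroup S) : Set.image (fun A : Subgroup ↥D => A.map D.subtype)
    {A : Subgroup D | (∀ x ∈ A, ∀ y ∈ A, x * y = y * x) ∧ (∀ a ∈ A, a ^ m = 1) ∧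
      ∀ B : Subgroup D, (∀ x ∈ B, ∀ y ∈ B, x * y = y * x) → (∀ b ∈ B, b ^ m = 1) → Nat.card B ≤ Nat.card A} = H2.AA m D := by
  ext A
  constructor
  · rintro ⟨A, ⟨h1, h2, h3⟩, rfl⟩
    refine ⟨map_subtype_le _, comm_map.2 h1, ?_, ?_⟩
    · rintro _ ⟨a, ha, rfl⟩
      exact congrArg Subtype.val (h2 a ha)
    · intro B hBD hB1 hB2
      rw [card_map_of_injective D.subtype_injective]
      have h4 := h3 (B.subgroupOf D) (fun x hx y hy => Subtype.ext (hB1 x hx y hy)) (fun b hb => Subtype.ext (hB2 b hb))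
      rwa [Nat.card_congr (subgroupOfEquivOfLe hBD).toEquiv] at h4
  · rintro ⟨h0, h1, h2, h3⟩
    refine ⟨A.subgroupOf D, ⟨fun x hx y hy => Subtype.ext (h1 x hx y hy), fun a ha => Subtype.ext (h2 a ha), ?_⟩, ?_⟩
    · intro B hB1 hB2
      rw [Nat.card_congr (subgroupOfEquivOfLe h0).toEquiv, ← card_map_of_injective D.subtype_injective]
      exact h3 _ (map_subtype_le _) (comm_map.2 hB1) (by rintro _ ⟨b, hb, rfl⟩; exact congrArg Subtype.val (hB2 b hb))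
    · simp only [subgroupOf_map_subtype]
      exact inf_eq_left.2 h0

theorem image_maxAb (D : Subgroup S) : Set.image (fun A : Subgroup ↥D => A.map D.subtype) (maxAbelianSubgroups ↥D) = H2.AA 0 D := by
  rw [← image_AA]
  congr 1
  ext A
  simp only [maxAbelianSubgroups, Set.mem_setOf_eq, mc_iff, pow_zero, implies_true, true_and, forall_const]

theorem image_maxEl (p : ℕ) (D : Subgroup S) : Set.image (fun A : Subgroup ↥D => A.map D.subtype) (maxElementaryAbelianSubgroups p ↥D) = H2.AA p D := by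
  rw [← image_AA]
  congr 1
  ext A
  simp only [maxElementaryAbelianSubgroups, IsElementaryAbelian, Set.mem_setOf_eq, mc_iff]
  constructor
  · rintro ⟨⟨h1, h2⟩, h3⟩
    exact ⟨h1, h2, fun B hB1 hB2 => h3 B ⟨hB1, hB2⟩⟩
  · rintro ⟨h1, h2, h3⟩
    exact ⟨⟨h1, h2⟩, fun B hB => h3 B hB.1 hB.2⟩

theorem repl_main {p : ℕ} [Fact p.Prime] (hS : IsPGroup p S) (hp : p ≠ 2) {m : ℕ} (hm : m = 0 ∨ Odd m) (D : Subgroup S) [hD : D.Normal]
    (B : Subgroup S) [hB : B.Normal] (hex : ∃ U ∈ H2.AA m D, ⁅B, B⁆ ≤ U ∧ ¬ B ≤ U) :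
    ∃ A ∈ H2.AA m D, ⁅B, B⁆ ≤ A ∧ ¬ B ≤ A ∧ B ≤ normalizer (A : Set S) := by
  classical
  -- choose `A` with `|A ⊓ B|` maximal
  have hfin : Set.Finite {n : ℕ | ∃ A ∈ H2.AA m D, ⁅B, B⁆ ≤ A ∧ ¬ B ≤ A ∧ Nat.card ↥(A ⊓ B) = n} := by
    apply (Set.finite_Iic (Nat.card S)).subset
    rintro n ⟨A, -, -, -, rfl⟩
    exact Nat.le_of_dvd Nat.card_pos (card_subgroup_dvd_card _)
  have hne : Set.Nonempty {n : ℕ | ∃ A ∈ H2.AA m D, ⁅B, B⁆ ≤ A ∧ ¬ B ≤ A ∧ Nat.card ↥(A ⊓ B) = n} := by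
    obtain ⟨U, h1, h2, h3⟩ := hex
    exact ⟨_, U, h1, h2, h3, rfl⟩
  obtain ⟨n, ⟨A, hA, h1, h2, h3⟩, hmax⟩ := hfin.exists_maximalFor id _ hne
  refine ⟨A, hA, h1, h2, ?_⟩
  by_contra hn
  obtain ⟨A', hA', h4, h5⟩ := H2.exists_replace (P := ⊤) hp hm (hS.of_equiv (Subgroup.topEquiv.symm)) (B := B) le_top
    (by rw [normalizer_eq_top]) le_top hA h1 hn
  have h6 : ¬ B ≤ A' := fun h => hn (h.trans h4)
  have h7 : ⁅B, B⁆ ≤ A' := by
    have : ⁅B, B⁆ ≤ A ⊓ B := le_inf h1 (commutator_le_left B B)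
    exact (this.trans h5.le).trans inf_le_left
  have h8 : Nat.card ↥(A ⊓ B) < Nat.card ↥(A' ⊓ B) := by
    apply lt_of_le_of_ne (Nat.card_le_card_of_injective _ (inclusion_injective h5.le))
    intro h9
    exact h5.ne (eq_of_le_of_card_ge h5.le h9.ge)
  have h9 := hmax (j := Nat.card ↥(A' ⊓ B)) ⟨A', hA', h7, h6, rfl⟩
  simp only [id] at h9
  rw [← h3] at h9
  exact absurd (h9 h8.le) (not_le.2 h8)

end Cfsg.Agent.H4
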