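import Cfsg.Agent.H4.TIp4
import Cfsg.Agent.H4.Misc1
import Cfsg.Agent.H4.Exc
import Cfsg.Agent.H4.Cliff3
import Cfsg.Agent.H4.Deg1

set_option linter.all false
set_option autoImplicit false

/-! Sylow subgroups with `C(x) = C(P)`: the normaliser. -/

namespace Cfsg.Agent.H4

open Module Cfsg
open scoped ComplexConjugate Pointwise

universe u v w

structure NSet {L : Type u} [Group L] (P K C : Subgroup L) : Prop where
  hP : P.Normal
  hK : K.Normal
  hC : C.Normal
  sup : P ⊔ K = C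
  comm : ∀ a ∈ P, ∀ c ∈ C, a * c = c * a
  cop : (Nat.card K).Coprime (Nat.card P)
  cent : ∀ y ∈ P, y ≠ 1 → ∀ x, x * y = y * x → x ∈ C

section NS
variable {L : Type u} [Group L] [Fintype L] {P K C : Subgroup L}

theorem NSet.le (h : NSet P K C) : P ≤ C := h.sup ▸ le_sup_left
theorem NSet.le' (h : NSet P K C) : K ≤ C := h.sup ▸ le_sup_right
theorem NSet.ab (h : NSet P K C) (a b : P) : a * b = b * a := Subtype.ext (h.comm a a.2 b (h.le b.2))

theorem NSet.mem_of_fix (h : NSet P K C) {lam : P →* ℂˣ} (hlam : lam ≠ 1) {x : L}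
    (hx : ∀ y : P, lam ⟨x * y * x⁻¹, h.hP.conj_mem y y.2 x⟩ = lam y) : x ∈ C := by
  classical
  by_contra hxC
  apply hlam
  let f : P → P := fun y => ⟨x * y * x⁻¹, h.hP.conj_mem y y.2 x⟩ * y⁻¹
  have hinj : Function.Injective f := by
    intro y z hyz
    have h1 : x * y * x⁻¹ * (y : L)⁻¹ = x * z * x⁻¹ * (z : L)⁻¹ := congrArg Subtype.val hyz
    by_contra hne
    apply hxC
    refine h.cent ((z : L)⁻¹ * y) (P.mul_mem (P.inv_mem z.2) y.2) ?_ x ?_
    · intro h2
      apply hne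
      apply Subtype.ext
      exact (inv_mul_eq_one.mp h2).symm
    · have h3 : x * y * x⁻¹ = x * z * x⁻¹ * (z : L)⁻¹ * y := by rw [← h1]; group
      have h6 : x * ((z : L)⁻¹ * y) * x⁻¹ = (z : L)⁻¹ * y := by
        calc x * ((z : L)⁻¹ * y) * x⁻¹ = (x * z * x⁻¹)⁻¹ * (x * y * x⁻¹) := by group
          _ = _ := by rw [h3]; group
      calc x * ((z : L)⁻¹ * y) = (x * ((z : L)⁻¹ * y) * x⁻¹) * x := by group
        _ = _ := by rw [h6]
  have hsurj : Function.Surjective f := Finite.surjective_of_injective hinj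
  apply MonoidHom.ext
  intro w
  obtain ⟨y, rfl⟩ := hsurj w
  show lam (⟨x * y * x⁻¹, h.hP.conj_mem y y.2 x⟩ * y⁻¹) = 1
  rw [map_mul, hx, map_inv, mul_inv_cancel]

theorem NSet.sum_zero (h : NSet P K C) [Fintype P] {η : L → ℂ} (hη : IsIrrCharacter L η) (hz : ∃ z : P, η z ≠ η 1) : ∑ z : P, η z = 0 := by
  have h1 := (avg_irr h.hP η hη 1).2 (by push Not; exact hz)
  have hP0 := card_ne_zero' P
  simp only [mul_one] at h1
  rcases mul_eq_zero.mp h1 with h2 | h2
  · exact absurd h2 (inv_ne_zero hP0)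
  · exact h2

theorem NSet.constituent (h : NSet P K C) [Fintype P] {η : L → ℂ} (hη : IsIrrCharacter L η) (hz : ∃ z : P, η z ≠ η 1) :
    ∃ lam : P →* ℂˣ, lam ≠ 1 ∧ classInner (fun z : P => η z) (fun z => (lam z : ℂ)) ≠ 0 := by
  obtain ⟨θ, hθ⟩ := exists_under P hη
  obtain ⟨lam, hlam⟩ := H5.irr_of_comm h.ab θ.2
  rw [hlam] at hθ
  refine ⟨lam, ?_, hθ⟩
  rintro rfl
  apply hθ
  rw [H5.classInner_def]
  have : ∑ g : P, η g * conj (((1 : P →* ℂˣ) g : ℂ)) = ∑ z : P, η z := by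
    apply Finset.sum_congr rfl
    intro z _
    simp
  rw [this, h.sum_zero hη hz, mul_zero]

theorem NSet.inertia_le (h : NSet P K C) {lam : P →* ℂˣ} (hlam : lam ≠ 1) : inertia h.hP (fun z : P => (lam z : ℂ)) ≤ C := by
  intro x hx
  apply h.mem_of_fix hlam (x := x)
  intro y
  have h1 := congrFun (show conjBy h.hP x (fun z : P => (lam z : ℂ)) = _ from hx) y
  exact Units.ext h1

theorem NSet.dvd_inner (h : NSet P K C) [Fintype P] {η : L → ℂ} (hη : IsIrrCharacter L η) (hz : ∃ z : P, η z ≠ η 1)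
    {Φ : L → ℂ} (hΦ : IsCharacter L Φ) : ∃ m : ℕ, classInner (fun z : P => Φ z) (fun z : P => η z) = (C.index * m : ℕ) := by
  classical
  obtain ⟨lam, hlam, h1⟩ := h.constituent hη hz
  have hθ := isIrr_hom lam
  have h2 := clifford_restrict h.hP η hη _ hθ h1
  obtain ⟨a, ha⟩ := inner_nat (N := P) (IsIrr.isCharacter hη) hθ
  obtain ⟨b, hb⟩ := inner_nat (N := P) hΦ hθ
  have hfin : {ψ : P → ℂ | ∃ g : L, ψ = conjBy h.hP g (fun z => (lam z : ℂ))}.Finite := by
    have : {ψ : P → ℂ | ∃ g : L, ψ = conjBy h.hP g (fun z => (lam z : ℂ))} = Set.range (fun g : L => conjBy h.hP g (fun z => (lam z : ℂ))) := by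
      ext ψ; simp [eq_comm]
    rw [this]; exact Set.finite_range _
  rw [finsum_mem_eq_finite_toFinset_sum _ hfin, ha] at h2
  have h5 : hfin.toFinset.card = (inertia h.hP (fun z : P => (lam z : ℂ))).index := by
    rw [← card_conj_orbit h.hP (fun z : P => (lam z : ℂ)), ← Nat.card_eq_card_finite_toFinset hfin]
    rfl
  obtain ⟨c, hc⟩ := Subgroup.index_dvd_of_le (h.inertia_le hlam)
  refine ⟨c * a * b, ?_⟩
  rw [h2, H5.classInner_smul_right, H5.classInner_sum_right]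
  have h6 : ∀ ψ ∈ hfin.toFinset, classInner (fun z : P => Φ z) ψ = b := by
    intro ψ hψ
    obtain ⟨g, rfl⟩ := (Set.Finite.mem_toFinset hfin).1 hψ
    rw [inner_restrict_conjBy h.hP Φ (IsChar.isClassFunction hΦ), hb]
  rw [Finset.sum_congr rfl h6, Finset.sum_const, h5, hc]
  simp
  ring

end NS

end Cfsg.Agent.H4
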