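import Cfsg.Agent.H4.SP1
import Cfsg.Agent.H4.Glau15

set_option linter.all false
set_option autoImplicit false

/-! Sylow subgroups with `C(x) = C(P)`: the normaliser. -/

namespace Cfsg.Agent.H4

open Module Cfsg
open scoped ComplexConjugate Pointwise

universe u v w

theorem card_hom_comm {P : Type u} [Group P] [Finite P] (h : ∀ a b : P, a * b = b * a) : Nat.card (P →* ℂˣ) = Nat.card P := by
  rw [card_hom_units]
  have h1 : commutator P = ⊥ := by
    rw [commutator_eq_bot_iff_center_eq_top, eq_top_iff]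
    intro x _
    rw [Subgroup.mem_center_iff]
    intro y
    exact h y x
  rw [h1, Subgroup.index_bot]

section down
variable {L : Type u} [Group L] [Fintype L]

theorem inner_down {P C : Subgroup L} [Fintype P] [Fintype C] (hPC : P ≤ C) {χ : L → ℂ} (hχ : IsCharacter L χ) {ϑ : C → ℂ} (hϑ : IsIrrCharacter C ϑ)
    {θ : P → ℂ} (hθ : IsIrrCharacter P θ) (h1 : classInner (fun c : C => χ c) ϑ ≠ 0) (h2 : classInner (fun z : P => ϑ ⟨z, hPC z.2⟩) θ ≠ 0) :
    classInner (fun z : P => χ z) θ ≠ 0 := by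
  classical
  obtain ⟨m, hm1, hm2⟩ := IsChar.exists_mult (IsChar.restrict C hχ)
  have hk : ∀ γ : IrrCharacter C, ∃ k : ℕ, classInner (fun z : P => (γ : C → ℂ) ⟨z, hPC z.2⟩) θ = k := fun γ =>
    H5.IsCharacter.inner_nat (IsChar.comp (Subgroup.inclusion hPC) (IsIrr.isCharacter γ.2)) ⟨θ, hθ⟩
  choose k hk using hk
  have h3 : (fun z : P => χ z) = ∑ γ : IrrCharacter C, (m γ : ℂ) • (fun z : P => (γ : C → ℂ) ⟨z, hPC z.2⟩) := by
    funext z
    rw [Finset.sum_apply]
    exact hm2 ⟨z, hPC z.2⟩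
  rw [h3, H5.classInner_sum_left]
  have h4 : ∑ γ : IrrCharacter C, classInner ((m γ : ℂ) • (fun z : P => (γ : C → ℂ) ⟨z, hPC z.2⟩)) θ = ((∑ γ : IrrCharacter C, m γ * k γ : ℕ) : ℂ) := by
    push_cast
    apply Finset.sum_congr rfl
    intro γ _
    rw [H5.classInner_smul_left, hk]
  rw [h4]
  have h5 : ∑ γ : IrrCharacter C, m γ * k γ ≠ 0 := by
    intro h0
    rw [Finset.sum_eq_zero_iff] at h0
    have h6 := h0 ⟨ϑ, hϑ⟩ (Finset.mem_univ _)
    rcases Nat.mul_eq_zero.mp h6 with h7 | h7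
    · apply h1
      have := hm1 ⟨ϑ, hϑ⟩
      rw [h7] at this
      simpa using this
    · apply h2
      have := hk ⟨ϑ, hϑ⟩
      rw [h7] at this
      simpa using this
  exact_mod_cast h5

theorem lin_inner_one {P : Type u} [Group P] [Fintype P] {w : P →* ℂˣ} (hw : w ≠ 1) (c : ℂ) : classInner (fun _ : P => c) (fun z => (w z : ℂ)) = 0 := by
  have h1 : (fun _ : P => c) = c • (fun z : P => (((1 : P →* ℂˣ) z : ℂˣ) : ℂ)) := by
    funext z; simp
  rw [h1, H5.classInner_smul_left]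
  have h2 : classInner (fun z : P => (((1 : P →* ℂˣ) z : ℂˣ) : ℂ)) (fun z => (w z : ℂ)) = 0 := by
    by_contra hne
    exact hw (lin_eq_of_inner hne).symm
  rw [h2, mul_zero]

end down

section NS
variable {L : Type u} [Group L] [Fintype L] {P K C : Subgroup L}

theorem NSet.F1 (h : NSet P K C) {η : L → ℂ} (hη : IsIrrCharacter L η) (hz : ∃ z : P, η z ≠ η 1) {Φ : L → ℂ} (hΦ : IsCharacter L Φ)
    (hall : ∀ η' : L → ℂ, IsIrrCharacter L η' → (∃ z : P, η' z ≠ η' 1) → (∀ x, ¬ (x ∈ C ∧ x ∉ K) → η' x = η x) → classInner Φ η' ≠ 0) :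
    Nat.card P ≤ charDegree Φ + 1 := by
  classical
  haveI : Fintype P := Fintype.ofFinite _
  haveI : Fintype C := Fintype.ofFinite _
  have hPC := h.le
  have hKC := h.le'
  have hP := h.hP
  have hK := h.hK
  obtain ⟨ϑ, hϑ⟩ := exists_under C hη
  have hZc : P.subgroupOf C ≤ Subgroup.center C := by
    intro z hz
    rw [Subgroup.mem_center_iff]
    intro c
    apply Subtype.ext
    exact (h.comm z (Subgroup.mem_subgroupOf.mp hz) c c.2).symm
  obtain ⟨mu, hmu⟩ := central_lin hZc ϑ.2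
  have hϑ1 : (ϑ : C → ℂ) 1 ≠ 0 := IsIrr.degree_ne_zero ϑ.2
  -- weights
  let w : (C →* ℂˣ) → (P →* ℂˣ) := fun nu =>
    { toFun := fun z => mu ⟨⟨z, hPC z.2⟩, Subgroup.mem_subgroupOf.mpr z.2⟩ * nu ⟨z, hPC z.2⟩
      map_one' := by
        have h1 : (⟨⟨((1 : P) : L), hPC (1 : P).2⟩, Subgroup.mem_subgroupOf.mpr (1 : P).2⟩ : P.subgroupOf C) = 1 := rfl
        have h2 : (⟨((1 : P) : L), hPC (1 : P).2⟩ : C) = 1 := rfl
        rw [h1, h2, map_one, map_one, one_mul]
      map_mul' := by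
        intro a b
        have h1 : (⟨⟨((a * b : P) : L), hPC (a * b : P).2⟩, Subgroup.mem_subgroupOf.mpr (a * b : P).2⟩ : P.subgroupOf C) = ⟨⟨a, hPC a.2⟩, Subgroup.mem_subgroupOf.mpr a.2⟩ * ⟨⟨b, hPC b.2⟩, Subgroup.mem_subgroupOf.mpr b.2⟩ := rfl
        have h2 : (⟨((a * b : P) : L), hPC (a * b : P).2⟩ : C) = ⟨a, hPC a.2⟩ * ⟨b, hPC b.2⟩ := rfl
        rw [h1, h2, map_mul, map_mul, mul_mul_mul_comm] }
  have hw : ∀ nu z, w nu z = mu ⟨⟨z, hPC z.2⟩, Subgroup.mem_subgroupOf.mpr z.2⟩ * nu ⟨z, hPC z.2⟩ := fun nu z => rfl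
  set F : (C →* ℂˣ) → (C → ℂ) := fun nu c => (ϑ : C → ℂ) c * (nu c : ℂ) with hF
  have hFirr : ∀ nu, IsIrrCharacter C (F nu) := fun nu => irr_mul_hom ϑ.2 nu
  have hFP : ∀ nu (z : P), F nu ⟨z, hPC z.2⟩ = (ϑ : C → ℂ) 1 * (w nu z : ℂ) := by
    intro nu z
    rw [hw]
    have h1 := hmu ⟨⟨z, hPC z.2⟩, Subgroup.mem_subgroupOf.mpr z.2⟩ 1
    rw [mul_one] at h1
    show (ϑ : C → ℂ) ⟨z, hPC z.2⟩ * (nu ⟨z, hPC z.2⟩ : ℂ) = _
    have h2 : (ϑ : C → ℂ) ⟨z, hPC z.2⟩ = (mu ⟨⟨z, hPC z.2⟩, Subgroup.mem_subgroupOf.mpr z.2⟩ : ℂ) * (ϑ : C → ℂ) 1 := h1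
    rw [h2]
    push_cast
    ring
  have hgood : ∀ nu, w nu ≠ 1 → IsIrrCharacter L (indFun C (F nu)) := by
    intro nu hnu
    apply induced_irr_of_inertia h.hC (F nu) (hFirr nu)
    intro x hx
    apply h.mem_of_fix hnu (x := x)
    intro y
    have h1 := congrFun (show conjBy h.hC x (F nu) = F nu from hx) ⟨y, hPC y.2⟩
    have h2 : conjBy h.hC x (F nu) ⟨y, hPC y.2⟩ = F nu ⟨((⟨x * y * x⁻¹, h.hP.conj_mem y y.2 x⟩ : P) : L), hPC (⟨x * y * x⁻¹, h.hP.conj_mem y y.2 x⟩ : P).2⟩ := rfl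
    rw [h2, hFP, hFP] at h1
    exact Units.ext (mul_left_cancel₀ hϑ1 h1)
  have hnontriv : ∀ nu, w nu ≠ 1 → ∃ z : P, indFun C (F nu) z ≠ indFun C (F nu) 1 := by
    intro nu hnu
    by_contra hcon
    push Not at hcon
    have h1 : classInner (fun c : C => indFun C (F nu) c) (F nu) ≠ 0 := by
      rw [← frobenius_reciprocity' C (F nu) _ (indFun_isClassFunction C _), inner_irr_eq (hgood nu hnu) (hgood nu hnu), if_pos rfl]
      exact one_ne_zero
    have h2 : classInner (fun z : P => F nu ⟨z, hPC z.2⟩) (fun z => (w nu z : ℂ)) ≠ 0 := by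
      have : (fun z : P => F nu ⟨z, hPC z.2⟩) = (ϑ : C → ℂ) 1 • (fun z : P => (w nu z : ℂ)) := by
        funext z; exact hFP nu z
      rw [this, H5.classInner_smul_left, inner_irr_eq (isIrr_hom _) (isIrr_hom _), if_pos rfl, mul_one]
      exact hϑ1
    have h3 := inner_down hPC (IsIrr.isCharacter (hgood nu hnu)) (hFirr nu) (isIrr_hom (w nu)) h1 h2
    apply h3
    have h4 : (fun z : P => indFun C (F nu) z) = fun _ => indFun C (F nu) 1 := funext hcon
    rw [h4]
    exact lin_inner_one hnu _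
  have hF1 : F 1 = (ϑ : C → ℂ) := by
    funext c
    show (ϑ : C → ℂ) c * (((1 : C →* ℂˣ) c : ℂˣ) : ℂ) = _
    simp
  have hw1 : w 1 ≠ 1 := by
    intro h1
    have h2 : classInner (fun z : P => (ϑ : C → ℂ) ⟨z, hPC z.2⟩) (fun z : P => (((1 : P →* ℂˣ) z : ℂˣ) : ℂ)) ≠ 0 := by
      have : (fun z : P => (ϑ : C → ℂ) ⟨z, hPC z.2⟩) = (ϑ : C → ℂ) 1 • (fun z : P => (((1 : P →* ℂˣ) z : ℂˣ) : ℂ)) := by
        funext z
        rw [← hF1, hFP, h1, hF1]; rfl
      rw [this, H5.classInner_smul_left, inner_irr_eq (isIrr_hom _) (isIrr_hom _), if_pos rfl, mul_one]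
      exact hϑ1
    have h3 := inner_down hPC (IsIrr.isCharacter hη) ϑ.2 (isIrr_hom 1) hϑ h2
    apply h3
    rw [H5.classInner_def]
    have : ∑ g : P, η g * conj (((1 : P →* ℂˣ) g : ℂ)) = ∑ z : P, η z := by
      apply Finset.sum_congr rfl
      intro z _
      simp
    rw [this, h.sum_zero hη hz, mul_zero]
  have hηeq : η = indFun C (ϑ : C → ℂ) := by
    have h1 := hgood 1 hw1
    rw [hF1] at h1
    have h2 : classInner η (indFun C (ϑ : C → ℂ)) ≠ 0 := by
      rw [frobenius_reciprocity' C _ _ (IsIrr.isClassFunction hη)]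
      exact hϑ
    rw [inner_irr_eq hη h1] at h2
    by_contra hne
    rw [if_neg hne] at h2
    exact h2 rfl
  -- counting
  let V := {nu : C →* ℂˣ // ∀ g ∈ K.subgroupOf C, nu g = 1}
  have hcardV : Nat.card V = Nat.card P := by
    have hc1 : Nat.card (P.subgroupOf C) = Nat.card P := by
      rw [← Cfsg.Agent.L0.card_map_subtype C (P.subgroupOf C), Subgroup.subgroupOf_map_subtype, inf_eq_left.mpr hPC]
    have hc2 : Nat.card (K.subgroupOf C) = Nat.card K := by
      rw [← Cfsg.Agent.L0.card_map_subtype C (K.subgroupOf C), Subgroup.subgroupOf_map_subtype, inf_eq_left.mpr hKC]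
    have h1 := card_triv_hom (Γ := C) (G := K.subgroupOf C) (S := P.subgroupOf C)
      (fun s _ g hg => Subgroup.mem_subgroupOf.mpr (hK.conj_mem _ (Subgroup.mem_subgroupOf.mp hg) _))
      (by rw [hc1, hc2]; exact h.cop)
      (by rw [← Subgroup.subgroupOf_sup hKC hPC, sup_comm, h.sup, Subgroup.subgroupOf_self])
    rw [← hc1, ← card_hom_comm (P := P.subgroupOf C) (by
      rintro ⟨a, ha⟩ ⟨b, hb⟩
      apply Subtype.ext
      apply Subtype.ext
      exact h.comm a (Subgroup.mem_subgroupOf.mp ha) b b.2)]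
    exact h1
  haveI : Finite V := Nat.finite_of_card_ne_zero (by rw [hcardV]; exact Nat.card_pos.ne')
  haveI : Fintype V := Fintype.ofFinite _
  have hVext : ∀ a b : V, (∀ z : P, a.1 ⟨z, hPC z.2⟩ = b.1 ⟨z, hPC z.2⟩) → a = b := by
    intro a b hab
    apply Subtype.ext
    apply MonoidHom.ext
    rintro ⟨c, hc⟩
    have h1 : c ∈ P ⊔ K := by rw [h.sup]; exact hc
    obtain ⟨y, hy, k, hk, rfl⟩ := Subgroup.mem_sup_of_normal_left.mp h1
    have h2 : (⟨y * k, hc⟩ : C) = ⟨y, hPC hy⟩ * ⟨k, hKC hk⟩ := rfl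
    rw [h2, map_mul, map_mul, a.2 ⟨k, hKC hk⟩ (Subgroup.mem_subgroupOf.mpr hk), b.2 ⟨k, hKC hk⟩ (Subgroup.mem_subgroupOf.mpr hk), hab ⟨y, hy⟩]
  have hFinj : ∀ a b : V, F a.1 = F b.1 → a = b := by
    intro a b hab
    apply hVext
    intro z
    have h1 := congrFun hab ⟨z, hPC z.2⟩
    rw [hFP, hFP] at h1
    have h2 := Units.ext (mul_left_cancel₀ hϑ1 h1)
    rw [hw, hw] at h2
    exact mul_left_cancel h2
  obtain ⟨m, hm1, hm2⟩ := IsChar.exists_mult (IsChar.restrict C hΦ)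
  have hmpos : ∀ a : V, w a.1 ≠ 1 → 1 ≤ m ⟨F a.1, hFirr a.1⟩ := by
    intro a ha
    have h1 := hall _ (hgood a.1 ha) (hnontriv a.1 ha) (by
      intro x hx
      rw [hηeq]
      unfold indFun
      congr 1
      apply Finset.sum_congr rfl
      intro g _
      by_cases hgx : g⁻¹ * x * g ∈ C
      · rw [extendByZero_mem _ _ hgx, extendByZero_mem _ _ hgx]
        have hxC : x ∈ C := by
          have := h.hC.conj_mem _ hgx g
          have h3 : g * (g⁻¹ * x * g) * g⁻¹ = x := by group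
          rwa [h3] at this
        have hxK : x ∈ K := by
          by_contra hcon
          exact hx ⟨hxC, hcon⟩
        have h3 : g⁻¹ * x * g ∈ K := by
          have := hK.conj_mem _ hxK g⁻¹
          rwa [inv_inv] at this
        show (ϑ : C → ℂ) _ * (a.1 _ : ℂ) = _
        rw [a.2 ⟨_, hgx⟩ (Subgroup.mem_subgroupOf.mpr h3)]
        simp
      · rw [extendByZero_not_mem _ _ hgx, extendByZero_not_mem _ _ hgx])
    rw [frobenius_reciprocity' C _ _ (IsChar.isClassFunction hΦ)] at h1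
    have h2 := hm1 ⟨F a.1, hFirr a.1⟩
    by_contra hlt
    have h3 : m ⟨F a.1, hFirr a.1⟩ = 0 := by omega
    rw [h3] at h2
    apply h1
    simpa using h2
  have hdeg := IsChar.degree_eq_sum (IsChar.restrict C hΦ) m hm2
  have hdeg' : charDegree (fun c : C => Φ c) = charDegree Φ := rfl
  rw [hdeg'] at hdeg
  -- the good elements
  let Vg := Finset.univ.filter (fun a : V => w a.1 ≠ 1)
  have h1 : Vg.card ≤ charDegree Φ := by
    rw [hdeg]
    have h2 : (Vg.image (fun a : V => (⟨F a.1, hFirr a.1⟩ : IrrCharacter C))).card = Vg.card := by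
      apply Finset.card_image_of_injective
      intro a b hab
      exact hFinj a b (congrArg Subtype.val hab)
    rw [← h2, Finset.card_eq_sum_ones]
    calc ∑ γ ∈ Vg.image (fun a : V => (⟨F a.1, hFirr a.1⟩ : IrrCharacter C)), 1 ≤ ∑ γ ∈ Vg.image (fun a : V => (⟨F a.1, hFirr a.1⟩ : IrrCharacter C)), m γ * charDegree (γ : C → ℂ) := by
          apply Finset.sum_le_sum
          intro γ hγ
          obtain ⟨a, ha, rfl⟩ := Finset.mem_image.mp hγ
          have h3 := hmpos a (Finset.mem_filter.mp ha).2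
          have h4 := IsIrr.degree_pos (hFirr a.1)
          exact Nat.mul_pos h3 h4
      _ ≤ _ := Finset.sum_le_sum_of_subset (Finset.subset_univ _)
  have h2 : (Finset.univ.filter (fun a : V => ¬ (w a.1 ≠ 1))).card ≤ 1 := by
    rw [Finset.card_le_one]
    intro a ha b hb
    have ha' := not_not.mp (Finset.mem_filter.mp ha).2
    have hb' := not_not.mp (Finset.mem_filter.mp hb).2
    apply hVext
    intro z
    have h3 : w a.1 z = w b.1 z := by rw [ha', hb']
    rw [hw, hw] at h3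
    exact mul_left_cancel h3
  have h3 := Finset.card_filter_add_card_filter_not (s := (Finset.univ : Finset V)) (fun a : V => w a.1 ≠ 1)
  rw [Finset.card_univ, ← Nat.card_eq_fintype_card, hcardV] at h3
  have h4 : Vg.card = (Finset.univ.filter (fun a : V => w a.1 ≠ 1)).card := rfl
  omega

end NS

end Cfsg.Agent.H4
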