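import Cfsg.Agent.H4.SP2

set_option linter.all false
set_option autoImplicit false

/-! Characters of small degree: families of exceptional characters. -/

namespace Cfsg.Agent.H4

open Module Cfsg
open scoped ComplexConjugate Pointwise

universe u v w

theorem psd_of_classes {S : Type u} [Fintype S] (r : S → S → Prop) (hr : Equivalence r) (M : S → S → ℤ)
    (hM0 : ∀ a b, ¬ r a b → M a b = 0) (hM1 : ∀ a b, r a b → a ≠ b → M a b = M a a - 1) (hpos : ∀ a, 1 ≤ M a a) (hsymm : ∀ a b, M a b = M b a)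
    (x : S → ℤ) : ∑ a, x a ^ 2 ≤ ∑ a, ∑ b, x a * x b * M a b := by
  classical
  let s : Setoid S := ⟨r, hr⟩
  let q : S → Quotient s := Quotient.mk s
  have hq : ∀ a b, q a = q b ↔ r a b := fun a b => ⟨fun h => Quotient.exact h, fun h => Quotient.sound h⟩
  have hc : ∀ a b, r a b → M a a = M b b := by
    intro a b hab
    by_cases h : a = b
    · rw [h]
    · have h1 := hM1 a b hab h
      have h2 := hM1 b a (hr.symm hab) (Ne.symm h)
      rw [hsymm b a] at h2
      omega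
  let c : Quotient s → ℤ := Quotient.lift (fun a => M a a - 1) (by
    intro a b hab
    show M a a - 1 = M b b - 1
    rw [hc a b hab])
  have hcq : ∀ a, c (q a) = M a a - 1 := fun a => rfl
  have hM : ∀ a b, M a b = (if q b = q a then c (q a) else 0) + (if a = b then 1 else 0) := by
    intro a b
    by_cases hab : r a b
    · rw [if_pos ((hq b a).mpr (hr.symm hab)), hcq]
      by_cases h : a = b
      · subst h; rw [if_pos rfl]; ring
      · rw [if_neg h, hM1 a b hab h]; ring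
    · rw [if_neg (fun h => hab (hr.symm ((hq b a).mp h))), if_neg (fun h => hab (by rw [h]; exact hr.refl b)), hM0 a b hab]; ring
  have h1 : ∑ a, ∑ b, x a * x b * M a b = ∑ a, x a ^ 2 + ∑ Q : Quotient s, c Q * (∑ a, if q a = Q then x a else 0) ^ 2 := by
    have h2 : ∀ Q : Quotient s, c Q * (∑ a, if q a = Q then x a else 0) ^ 2 = ∑ a, ∑ b, c Q * (if q a = Q then x a else 0) * (if q b = Q then x b else 0) := by
      intro Q
      rw [pow_two, Finset.sum_mul_sum, Finset.mul_sum]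
      apply Finset.sum_congr rfl
      intro a _
      rw [Finset.mul_sum]
      apply Finset.sum_congr rfl
      intro b _
      ring
    have h5 : ∑ Q : Quotient s, ∑ a, ∑ b, c Q * (if q a = Q then x a else 0) * (if q b = Q then x b else 0) = ∑ a, ∑ b, ∑ Q : Quotient s, c Q * (if q a = Q then x a else 0) * (if q b = Q then x b else 0) := by
      rw [Finset.sum_comm]
      apply Finset.sum_congr rfl
      intro a _
      rw [Finset.sum_comm]
    rw [Finset.sum_congr rfl (fun Q _ => h2 Q), h5, ← Finset.sum_add_distrib]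
    apply Finset.sum_congr rfl
    intro a _
    have h3 : ∀ b, ∑ Q : Quotient s, c Q * (if q a = Q then x a else 0) * (if q b = Q then x b else 0) = c (q a) * x a * (if q b = q a then x b else 0) := by
      intro b
      rw [Finset.sum_eq_single (q a)]
      · rw [if_pos rfl]
      · intro Q _ hQ
        rw [if_neg (Ne.symm hQ)]; ring
      · intro h; exact absurd (Finset.mem_univ _) h
    rw [Finset.sum_congr rfl (fun b _ => h3 b)]
    have h4 : ∀ b, x a * x b * M a b = (if a = b then x a * x b else 0) + c (q a) * x a * (if q b = q a then x b else 0) := by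
      intro b
      rw [hM]
      split_ifs <;> ring
    rw [Finset.sum_congr rfl (fun b _ => h4 b), Finset.sum_add_distrib, Finset.sum_ite_eq, if_pos (Finset.mem_univ _)]
    ring
  rw [h1]
  have h2 : 0 ≤ ∑ Q : Quotient s, c Q * (∑ a, if q a = Q then x a else 0) ^ 2 := by
    apply Finset.sum_nonneg
    intro Q _
    apply mul_nonneg _ (sq_nonneg _)
    obtain ⟨a, rfl⟩ := Quotient.exists_rep Q
    have := hpos a
    show 0 ≤ M a a - 1
    omega
  omega

theorem gen_inner_self {G : Type u} [Group G] [Fintype G] {f : G → ℂ} (c : IrrCharacter G → ℤ) (hf : ∀ g, f g = ∑ Φ : IrrCharacter G, (c Φ : ℂ) * (Φ : G → ℂ) g) :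
    (∀ Φ : IrrCharacter G, classInner f (Φ : G → ℂ) = c Φ) ∧ classInner f f = ((∑ Φ : IrrCharacter G, c Φ ^ 2 : ℤ) : ℂ) := by
  classical
  have h0 : f = ∑ Φ : IrrCharacter G, (c Φ : ℂ) • (Φ : G → ℂ) := by
    funext g
    rw [Finset.sum_apply]
    exact hf g
  have h1 : ∀ Φ : IrrCharacter G, classInner f (Φ : G → ℂ) = c Φ := by
    intro Φ
    rw [h0, H5.classInner_sum_left, Finset.sum_eq_single Φ]
    · rw [H5.classInner_smul_left, inner_irr_eq Φ.2 Φ.2, if_pos rfl, mul_one]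
    · intro Ψ _ hne
      rw [H5.classInner_smul_left, inner_irr_eq Ψ.2 Φ.2, if_neg (fun h => hne (Subtype.ext h)), mul_zero]
    · intro h; exact absurd (Finset.mem_univ _) h
  refine ⟨h1, ?_⟩
  conv_lhs => rw [h0]
  rw [H5.classInner_sum_left]
  push_cast
  apply Finset.sum_congr rfl
  intro Φ _
  rw [H5.classInner_smul_left, ← h0, ← H5.classInner_conj_symm, h1]
  simp [pow_two]

section small
variable {G : Type u} [Group G] [Fintype G] {N : Subgroup G} [Fintype N] {P : Subgroup N} {D : Set N} {q : ℕ}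

def JJ (P : Subgroup N) (η : N → ℂ) : Prop := IsIrrCharacter N η ∧ ∃ z : P, η z ≠ η 1

def RR (D : Set N) (η η' : N → ℂ) : Prop := ∀ x : N, x ∉ D → η x = η' x

structure SSet (N : Subgroup G) [Fintype N] (P : Subgroup N) (D : Set N) (q : ℕ) : Prop where
  one : (1 : N) ∉ D
  res : ∀ ψ : N → ℂ, IsClassFunction N ψ → (∀ x, x ∉ D → ψ x = 0) → ∀ t : N, indFun N ψ t = ψ t
  F1 : ∀ η : N → ℂ, JJ P η → ∀ Φ : N → ℂ, IsCharacter N Φ → (∀ η', JJ P η' → RR D η η' → classInner Φ η' ≠ 0) → q ≤ charDegree Φ + 1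

def Small (P : Subgroup N) (q : ℕ) (Φ : G → ℂ) : Prop := IsIrrCharacter G Φ ∧ charDegree Φ + 1 < q ∧ ∃ z : P, Φ ((z : N) : G) ≠ Φ 1

theorem RR.symm {η η' : N → ℂ} (h : RR D η η') : RR D η' η := fun x hx => (h x hx).symm
theorem RR.trans {η η' η'' : N → ℂ} (h : RR D η η') (h' : RR D η' η'') : RR D η η'' := fun x hx => (h x hx).trans (h' x hx)

theorem SSet.iso (h : SSet N P D q) {ψ θ : N → ℂ} (hψ : IsClassFunction N ψ) (hθ : IsClassFunction N θ) (h1 : ∀ x, x ∉ D → ψ x = 0) (h2 : ∀ x, x ∉ D → θ x = 0) :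
    classInner (indFun N ψ) (indFun N θ) = classInner ψ θ := by
  rw [frobenius_reciprocity N ψ _ (indFun_isClassFunction N θ)]
  congr 1
  funext t
  exact h.res θ hθ h2 t

theorem cf_sub {K : Type u} [Group K] {a b : K → ℂ} (ha : IsClassFunction K a) (hb : IsClassFunction K b) : IsClassFunction K (a - b) := by
  intro g x
  rw [Pi.sub_apply, Pi.sub_apply, ha, hb]

theorem SSet.iso_diff (h : SSet N P D q) {a b c d : N → ℂ} (ha : JJ P a) (hb : JJ P b) (hc : JJ P c) (hd : JJ P d) (hab : RR D a b) (hcd : RR D c d) :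
    classInner (indFun N (a - b)) (indFun N (c - d)) = classInner (a - b) (c - d) :=
  h.iso (cf_sub (IsIrr.isClassFunction ha.1) (IsIrr.isClassFunction hb.1)) (cf_sub (IsIrr.isClassFunction hc.1) (IsIrr.isClassFunction hd.1))
    (fun x hx => by rw [Pi.sub_apply, hab x hx, sub_self]) (fun x hx => by rw [Pi.sub_apply, hcd x hx, sub_self])

theorem SSet.S1 (h : SSet N P D q) {Φ : G → ℂ} (hΦ : Small P q Φ) : ∃ η, JJ P η ∧ classInner (fun n : N => Φ n) η ≠ 0 := by
  classical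
  obtain ⟨m, hm1, hm2⟩ := IsChar.exists_mult (IsChar.restrict N (IsIrr.isCharacter hΦ.1))
  obtain ⟨z, hz⟩ := hΦ.2.2
  by_contra hcon
  push Not at hcon
  apply hz
  have h1 := hm2 z
  have h2 := hm2 1
  rw [Subgroup.coe_one] at h2
  rw [h1, h2]
  apply Finset.sum_congr rfl
  intro ψ _
  by_cases hψ : (ψ : N → ℂ) z = (ψ : N → ℂ) 1
  · rw [hψ]
  · have h3 := hcon ψ ⟨ψ.2, z, hψ⟩
    rw [hm1] at h3
    rw [h3]; simp

theorem SSet.S4 (h : SSet N P D q) {Φ : G → ℂ} (hΦ : Small P q Φ) {η : N → ℂ} (hη : JJ P η) :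
    ∃ η', JJ P η' ∧ RR D η η' ∧ classInner (fun n : N => Φ n) η' = 0 := by
  by_contra hcon
  push Not at hcon
  have h1 := h.F1 η hη (fun n : N => Φ n) (IsChar.restrict N (IsIrr.isCharacter hΦ.1)) hcon
  have h2 : charDegree (fun n : N => Φ n) = charDegree Φ := rfl
  have := hΦ.2.1
  omega

theorem SSet.diff (h : SSet N P D q) {Φ : G → ℂ} (hΦ : IsIrrCharacter G Φ) {η η' : N → ℂ} (hη : JJ P η) (hη' : JJ P η') (hr : RR D η η')
    (h1 : classInner (fun n : N => Φ n) η ≠ 0) (h2 : classInner (fun n : N => Φ n) η' = 0) :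
    classInner (fun n : N => Φ n) η = 1 ∧ ∃ Φ', IsIrrCharacter G Φ' ∧ Φ' ≠ Φ ∧ Φ' 1 = Φ 1 ∧ indFun N (η - η') = Φ - Φ' := by
  classical
  have hne : η ≠ η' := by
    rintro rfl
    exact h1 h2
  have hgen : IsGeneralizedCharacter G (indFun N (η - η')) := by
    rw [indFun_sub]
    exact ⟨_, _, IsChar.induce N η (IsIrr.isCharacter hη.1), IsChar.induce N η' (IsIrr.isCharacter hη'.1), rfl⟩
  have hone : indFun N (η - η') 1 = 0 := by
    rw [indFun_one, Pi.sub_apply, hr 1 h.one, sub_self, mul_zero]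
  have hnorm : classInner (indFun N (η - η')) (indFun N (η - η')) = 2 := by
    rw [h.iso_diff hη hη' hη hη' hr hr, H5.classInner_sub_left, H5.classInner_sub_right, H5.classInner_sub_right, inner_irr_eq hη.1 hη.1, inner_irr_eq hη.1 hη'.1,
      inner_irr_eq hη'.1 hη.1, inner_irr_eq hη'.1 hη'.1, if_pos rfl, if_pos rfl, if_neg hne, if_neg (Ne.symm hne)]
    ring
  obtain ⟨a, b, hab, htau⟩ := gen_norm_two _ hgen hone hnorm
  have h3 : classInner Φ (indFun N (η - η')) = classInner (fun n : N => Φ n) η := by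
    rw [frobenius_reciprocity' N (η - η') Φ (IsIrr.isClassFunction hΦ), H5.classInner_sub_right, h2, sub_zero]
  obtain ⟨m, hm⟩ := inner_nat (N := N) (IsIrr.isCharacter hΦ) hη.1
  rw [htau, H5.classInner_sub_right, inner_irr_eq hΦ a.2, inner_irr_eq hΦ b.2, hm] at h3
  have hm0 : m ≠ 0 := by
    rintro rfl
    apply h1
    rw [hm]; simp
  by_cases hΦa : Φ = (a : G → ℂ)
  · have hΦb : Φ ≠ (b : G → ℂ) := fun hb => hab (Subtype.ext (hΦa.symm.trans hb))
    rw [if_pos hΦa, if_neg hΦb, sub_zero] at h3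
    refine ⟨by rw [hm]; exact h3.symm, b, b.2, hΦb.symm, ?_, by rw [htau, ← hΦa]⟩
    have h4 := hone
    rw [htau, Pi.sub_apply, ← hΦa] at h4
    exact (sub_eq_zero.mp h4).symm
  · exfalso
    rw [if_neg hΦa] at h3
    by_cases hΦb : Φ = (b : G → ℂ)
    · rw [if_pos hΦb] at h3
      have h4 : ((m + 1 : ℕ) : ℂ) = 0 := by push_cast; rw [← h3]; ring
      have h5 : m + 1 = 0 := by exact_mod_cast h4
      omega
    · rw [if_neg hΦb, sub_zero] at h3
      have h4 : m = 0 := by exact_mod_cast h3.symm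
      exact hm0 h4

theorem SSet.S2 (h : SSet N P D q) {Φ : G → ℂ} (hΦ : Small P q Φ) {η η₁ : N → ℂ} (hη : JJ P η) (hη₁ : JJ P η₁)
    (h1 : classInner (fun n : N => Φ n) η ≠ 0) (h2 : classInner (fun n : N => Φ n) η₁ ≠ 0) : RR D η η₁ := by
  classical
  by_contra hcon
  obtain ⟨j, hj, hj1, hj2⟩ := h.S4 hΦ hη
  obtain ⟨j', hj', hj'1, hj'2⟩ := h.S4 hΦ hη₁
  obtain ⟨-, Φ', hΦ', hne', -, htau'⟩ := h.diff hΦ.1 hη hj hj1 h1 hj2
  obtain ⟨-, Φ'', hΦ'', hne'', -, htau''⟩ := h.diff hΦ.1 hη₁ hj' hj'1 h2 hj'2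
  have h3 := h.iso_diff hη hj hη₁ hj' hj1 hj'1
  rw [htau', htau'', H5.classInner_sub_left, H5.classInner_sub_right, H5.classInner_sub_right, H5.classInner_sub_left, H5.classInner_sub_right, H5.classInner_sub_right,
    inner_irr_eq hΦ.1 hΦ.1, inner_irr_eq hΦ.1 hΦ'', inner_irr_eq hΦ' hΦ.1, inner_irr_eq hΦ' hΦ'', inner_irr_eq hη.1 hη₁.1, inner_irr_eq hη.1 hj'.1, inner_irr_eq hj.1 hη₁.1, inner_irr_eq hj.1 hj'.1,
    if_pos rfl, if_neg (Ne.symm hne''), if_neg hne'] at h3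
  rw [if_neg (show η ≠ η₁ from by rintro rfl; exact hcon (fun _ _ => rfl)), if_neg (show η ≠ j' from by rintro rfl; exact hcon hj'1.symm),
    if_neg (show j ≠ η₁ from by rintro rfl; exact hcon hj1), if_neg (show j ≠ j' from by rintro rfl; exact hcon (hj1.trans hj'1.symm))] at h3
  split_ifs at h3 <;> norm_num at h3

/-- two small characters in the same family -/
theorem SSet.pair (h : SSet N P D q) {Φ Ψ : G → ℂ} (hΦ : Small P q Φ) (hΨ : Small P q Ψ) (hne : Φ ≠ Ψ) {η η₁ : N → ℂ} (hη : JJ P η) (hη₁ : JJ P η₁)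
    (h1 : classInner (fun n : N => Φ n) η ≠ 0) (h2 : classInner (fun n : N => Ψ n) η₁ ≠ 0) (hr : RR D η η₁) :
    ∃ i j : N → ℂ, JJ P i ∧ JJ P j ∧ classInner (fun n : N => Φ n) i = 1 ∧ classInner (fun n : N => Φ n) j = 0 ∧ ∀ n : N, Φ n - Ψ n = i n - j n := by
  classical
  -- neither contains the other
  have key : ∀ {Φ Ψ : G → ℂ}, Small P q Φ → Small P q Ψ → Φ ≠ Ψ → ∀ {η : N → ℂ}, JJ P η → classInner (fun n : N => Φ n) η ≠ 0 →
      ∃ i, JJ P i ∧ classInner (fun n : N => Φ n) i ≠ 0 ∧ classInner (fun n : N => Ψ n) i = 0 := by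
    intro Φ Ψ hΦ hΨ hne η hη h1
    by_contra hcon
    push Not at hcon
    have h3 := hcon η hη h1
    obtain ⟨j, hj, hj1, hj2⟩ := h.S4 hΨ hη
    have hj3 : classInner (fun n : N => Φ n) j = 0 := by
      by_contra h0
      exact hcon j hj h0 hj2
    obtain ⟨-, Φ', hΦ', hne', hd', htau'⟩ := h.diff hΦ.1 hη hj hj1 h1 hj3
    obtain ⟨-, Ψ', hΨ', hne'', hd'', htau''⟩ := h.diff hΨ.1 hη hj hj1 h3 hj2
    have h4 : Φ - Φ' = Ψ - Ψ' := htau'.symm.trans htau''
    have h5 : classInner (Φ - Φ') Φ = classInner (Ψ - Ψ') Φ := by rw [h4]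
    rw [H5.classInner_sub_left, H5.classInner_sub_left, inner_irr_eq hΦ.1 hΦ.1, inner_irr_eq hΦ' hΦ.1, inner_irr_eq hΨ.1 hΦ.1, inner_irr_eq hΨ' hΦ.1, if_pos rfl, if_neg hne',
      if_neg (Ne.symm hne)] at h5
    split_ifs at h5 <;> norm_num at h5
  obtain ⟨i, hi, hi1, hi2⟩ := key hΦ hΨ hne hη h1
  obtain ⟨j, hj, hj1, hj2⟩ := key hΨ hΦ (Ne.symm hne) hη₁ h2
  have hij : RR D i j := ((h.S2 hΦ hi hη hi1 h1).trans hr).trans (h.S2 hΨ hη₁ hj h2 hj1)
  obtain ⟨hi3, Φ', hΦ', hne', hd', htau'⟩ := h.diff hΦ.1 hi hj hij hi1 hj2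
  obtain ⟨-, Ψ', hΨ', hne'', hd'', htau''⟩ := h.diff hΨ.1 hj hi hij.symm hj1 hi2
  refine ⟨i, j, hi, hj, hi3, hj2, ?_⟩
  have h3 : indFun N (i - j) = - indFun N (j - i) := by
    rw [← indFun_neg]; congr 1; ring
  have h4 : Φ - Φ' = - (Ψ - Ψ') := by rw [← htau', ← htau'', h3]
  have h5 : classInner (Φ - Φ') Φ = classInner (- (Ψ - Ψ')) Φ := by rw [h4]
  have h6 : - (Ψ - Ψ') = Ψ' - Ψ := by ring
  rw [h6, H5.classInner_sub_left, H5.classInner_sub_left, inner_irr_eq hΦ.1 hΦ.1, inner_irr_eq hΦ' hΦ.1, inner_irr_eq hΨ.1 hΦ.1, inner_irr_eq hΨ' hΦ.1, if_pos rfl, if_neg hne',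
      if_neg (Ne.symm hne)] at h5
  have h7 : Ψ' = Φ := by
    by_contra h0
    rw [if_neg h0] at h5
    norm_num at h5
  have h8 : indFun N (i - j) = Φ - Ψ := by rw [h3, htau'', h7]; ring
  intro n
  have h9 := h.res (i - j) (cf_sub (IsIrr.isClassFunction hi.1) (IsIrr.isClassFunction hj.1)) (fun x hx => by rw [Pi.sub_apply, hij x hx, sub_self]) n
  rw [h8] at h9
  exact h9

end small

end Cfsg.Agent.H4
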