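import Cfsg.Agent.H4.SP3

set_option linter.all false
set_option autoImplicit false

/-! Characters of small degree: families of exceptional characters. -/

namespace Cfsg.Agent.H4

open Module Cfsg
open scoped ComplexConjugate Pointwise

universe u v w

section small
variable {G : Type u} [Group G] [Fintype G] {N : Subgroup G} [Fintype N] {P : Subgroup N} {D : Set N} {q : ℕ}

theorem SSet.gram (h : SSet N P D q) (x : IrrCharacter G → ℤ) (hx : ∀ Φ : IrrCharacter G, x Φ ≠ 0 → Small P q (Φ : G → ℂ)) (a : IrrCharacter G → IrrCharacter N → ℕ)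
    (ha : ∀ (Φ : IrrCharacter G) (η : IrrCharacter N), classInner (fun n : N => (Φ : G → ℂ) n) (η : N → ℂ) = a Φ η) :
    ∑ Φ : IrrCharacter G, x Φ ^ 2 ≤ ∑ η : IrrCharacter N, open Classical in (if JJ P (η : N → ℂ) then (∑ Φ : IrrCharacter G, x Φ * a Φ η) ^ 2 else 0) := by
  classical
  let S := {Φ : IrrCharacter G // Small P q (Φ : G → ℂ)}
  have hne : ∀ (Φ : IrrCharacter G) (η : IrrCharacter N), a Φ η ≠ 0 ↔ classInner (fun n : N => (Φ : G → ℂ) n) (η : N → ℂ) ≠ 0 := by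
    intro Φ η
    rw [ha]
    exact_mod_cast Iff.rfl
  let M : S → S → ℤ := fun Φ Ψ => ∑ η : IrrCharacter N, if JJ P (η : N → ℂ) then (a Φ.1 η : ℤ) * a Ψ.1 η else 0
  let r : S → S → Prop := fun Φ Ψ => ∃ η η₁ : N → ℂ, JJ P η ∧ JJ P η₁ ∧ classInner (fun n : N => (Φ.1 : G → ℂ) n) η ≠ 0 ∧ classInner (fun n : N => (Ψ.1 : G → ℂ) n) η₁ ≠ 0 ∧ RR D η η₁
  have hr : Equivalence r := by
    refine ⟨?_, ?_, ?_⟩
    · intro Φ
      obtain ⟨η, hη, h1⟩ := h.S1 Φ.2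
      exact ⟨η, η, hη, hη, h1, h1, fun _ _ => rfl⟩
    · rintro Φ Ψ ⟨η, η₁, hη, hη₁, h1, h2, h3⟩
      exact ⟨η₁, η, hη₁, hη, h2, h1, h3.symm⟩
    · rintro Φ Ψ Θ ⟨η, η₁, hη, hη₁, h1, h2, h3⟩ ⟨η', η₁', hη', hη₁', h1', h2', h3'⟩
      exact ⟨η, η₁', hη, hη₁', h1, h2', (h3.trans (h.S2 Ψ.2 hη₁ hη' h2 h1')).trans h3'⟩
  have h1 := psd_of_classes r hr M
    (by
      intro Φ Ψ hn
      apply Finset.sum_eq_zero
      intro η _
      split_ifs with hJ
      · by_contra h0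
        have h1 : a Φ.1 η ≠ 0 := by
          intro h; apply h0; rw [h]; simp
        have h2 : a Ψ.1 η ≠ 0 := by
          intro h; apply h0; rw [h]; simp
        exact hn ⟨η, η, hJ, hJ, (hne _ _).mp h1, (hne _ _).mp h2, fun _ _ => rfl⟩
      · rfl)
    (by
      rintro Φ Ψ ⟨η, η₁, hη, hη₁, h1, h2, h3⟩ hneq
      obtain ⟨i, j, hi, hj, hi1, hj1, hij⟩ := h.pair Φ.2 Ψ.2 (fun he => hneq (Subtype.ext (Subtype.ext he))) hη hη₁ h1 h2 h3
      have hdiff : ∀ η : IrrCharacter N, (a Ψ.1 η : ℤ) = a Φ.1 η - (if η = ⟨i, hi.1⟩ then 1 else 0) + (if η = ⟨j, hj.1⟩ then 1 else 0) := by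
        intro η
        have h4 : (fun n : N => (Ψ.1 : G → ℂ) n) = (fun n : N => (Φ.1 : G → ℂ) n) - i + j := by
          funext n
          have := hij n
          rw [Pi.add_apply, Pi.sub_apply, eq_comm, ← sub_eq_zero]
          linear_combination this
        have h5 := ha Ψ.1 η
        rw [h4, H5.classInner_add_left, H5.classInner_sub_left, ha, inner_irr_eq hi.1 η.2, inner_irr_eq hj.1 η.2] at h5
        have h6 : (if i = (η : N → ℂ) then (1 : ℂ) else 0) = (if η = ⟨i, hi.1⟩ then (1 : ℂ) else 0) := by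
          by_cases he : i = (η : N → ℂ)
          · rw [if_pos he, if_pos (Subtype.ext he.symm)]
          · rw [if_neg he, if_neg (fun h' => he (by rw [h']))]
        have h7 : (if j = (η : N → ℂ) then (1 : ℂ) else 0) = (if η = ⟨j, hj.1⟩ then (1 : ℂ) else 0) := by
          by_cases he : j = (η : N → ℂ)
          · rw [if_pos he, if_pos (Subtype.ext he.symm)]
          · rw [if_neg he, if_neg (fun h' => he (by rw [h']))]
        rw [h6, h7] at h5
        have h8 : ((a Φ.1 η - (if η = ⟨i, hi.1⟩ then 1 else 0) + (if η = ⟨j, hj.1⟩ then 1 else 0) : ℤ) : ℂ) = ((a Ψ.1 η : ℤ) : ℂ) := by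
          push_cast
          exact h5
        exact_mod_cast h8.symm
      have hai : a Φ.1 ⟨i, hi.1⟩ = 1 := by
        have := ha Φ.1 ⟨i, hi.1⟩
        rw [show (((⟨i, hi.1⟩ : IrrCharacter N) : N → ℂ)) = i from rfl, hi1] at this
        exact_mod_cast this.symm
      have haj : a Φ.1 ⟨j, hj.1⟩ = 0 := by
        have := ha Φ.1 ⟨j, hj.1⟩
        rw [show (((⟨j, hj.1⟩ : IrrCharacter N) : N → ℂ)) = j from rfl, hj1] at this
        exact_mod_cast this.symm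
      show ∑ η : IrrCharacter N, (if JJ P (η : N → ℂ) then (a Φ.1 η : ℤ) * a Ψ.1 η else 0) = (∑ η : IrrCharacter N, if JJ P (η : N → ℂ) then (a Φ.1 η : ℤ) * a Φ.1 η else 0) - 1
      have h9 : ∀ η : IrrCharacter N, (if JJ P (η : N → ℂ) then (a Φ.1 η : ℤ) * a Ψ.1 η else 0) = (if JJ P (η : N → ℂ) then (a Φ.1 η : ℤ) * a Φ.1 η else 0)
          - (if η = ⟨i, hi.1⟩ then (a Φ.1 η : ℤ) else 0) + (if η = ⟨j, hj.1⟩ then (a Φ.1 η : ℤ) else 0) := by
        intro η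
        rw [hdiff η]
        by_cases hJ : JJ P (η : N → ℂ)
        · rw [if_pos hJ, if_pos hJ]
          split_ifs <;> ring
        · rw [if_neg hJ, if_neg hJ, if_neg (fun he => hJ (by rw [he]; exact hi)), if_neg (fun he => hJ (by rw [he]; exact hj))]
          ring
      rw [Finset.sum_congr rfl (fun η _ => h9 η), Finset.sum_add_distrib, Finset.sum_sub_distrib, Finset.sum_ite_eq', Finset.sum_ite_eq', if_pos (Finset.mem_univ _), if_pos (Finset.mem_univ _), hai, haj]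
      simp)
    (by
      intro Φ
      obtain ⟨η, hη, h1⟩ := h.S1 Φ.2
      have h2 : a Φ.1 ⟨η, hη.1⟩ ≠ 0 := (hne _ _).mpr h1
      have h3 : (1 : ℤ) ≤ (if JJ P (((⟨η, hη.1⟩ : IrrCharacter N) : N → ℂ)) then (a Φ.1 ⟨η, hη.1⟩ : ℤ) * a Φ.1 ⟨η, hη.1⟩ else 0) := by
        rw [if_pos hη]
        have : 1 ≤ a Φ.1 ⟨η, hη.1⟩ := Nat.one_le_iff_ne_zero.mpr h2
        have h4 : 1 ≤ a Φ.1 ⟨η, hη.1⟩ * a Φ.1 ⟨η, hη.1⟩ := Nat.mul_pos this this
        exact_mod_cast h4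
      refine h3.trans (Finset.single_le_sum (f := fun η : IrrCharacter N => if JJ P (η : N → ℂ) then (a Φ.1 η : ℤ) * a Φ.1 η else 0) ?_ (Finset.mem_univ _))
      intro η _
      show (0 : ℤ) ≤ if _ then _ else _
      split_ifs <;> positivity)
    (by
      intro Φ Ψ
      apply Finset.sum_congr rfl
      intro η _
      rw [mul_comm])
    (fun Φ => x Φ.1)
  have hinj : Function.Injective (fun Φ : S => Φ.1) := Subtype.val_injective
  have h2 : ∑ Φ : IrrCharacter G, x Φ ^ 2 = ∑ Φ : S, x Φ.1 ^ 2 := by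
    symm
    apply Fintype.sum_of_injective (fun Φ : S => Φ.1) hinj
    · intro Φ hΦ
      by_contra h0
      apply hΦ
      refine ⟨⟨Φ, hx Φ ?_⟩, rfl⟩
      intro h0'; apply h0; rw [h0']; simp
    · intro Φ; rfl
  have h3 : ∀ η : IrrCharacter N, ∑ Φ : IrrCharacter G, x Φ * a Φ η = ∑ Φ : S, x Φ.1 * a Φ.1 η := by
    intro η
    symm
    apply Fintype.sum_of_injective (fun Φ : S => Φ.1) hinj
    · intro Φ hΦ
      by_contra h0
      apply hΦ
      refine ⟨⟨Φ, hx Φ ?_⟩, rfl⟩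
      intro h0'; apply h0; rw [h0']; simp
    · intro Φ; rfl
  rw [h2]
  refine h1.trans (le_of_eq ?_)
  have h4 : ∀ Φ Ψ : S, x Φ.1 * x Ψ.1 * M Φ Ψ = ∑ η : IrrCharacter N, if JJ P (η : N → ℂ) then (x Φ.1 * a Φ.1 η) * (x Ψ.1 * a Ψ.1 η) else 0 := by
    intro Φ Ψ
    show x Φ.1 * x Ψ.1 * (∑ η : IrrCharacter N, if JJ P (η : N → ℂ) then (a Φ.1 η : ℤ) * a Ψ.1 η else 0) = _
    rw [Finset.mul_sum]
    apply Finset.sum_congr rfl
    intro η _
    split_ifs <;> ring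
  have h5 : ∑ Φ : S, ∑ Ψ : S, x Φ.1 * x Ψ.1 * M Φ Ψ = ∑ Φ : S, ∑ Ψ : S, ∑ η : IrrCharacter N, if JJ P (η : N → ℂ) then (x Φ.1 * a Φ.1 η) * (x Ψ.1 * a Ψ.1 η) else 0 :=
    Finset.sum_congr rfl (fun Φ _ => Finset.sum_congr rfl (fun Ψ _ => h4 Φ Ψ))
  rw [h5]
  have h6 : ∑ Φ : S, ∑ Ψ : S, ∑ η : IrrCharacter N, (if JJ P (η : N → ℂ) then (x Φ.1 * a Φ.1 η) * (x Ψ.1 * a Ψ.1 η) else 0)
      = ∑ η : IrrCharacter N, ∑ Φ : S, ∑ Ψ : S, if JJ P (η : N → ℂ) then (x Φ.1 * a Φ.1 η) * (x Ψ.1 * a Ψ.1 η) else 0 := by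
    rw [Finset.sum_comm' (s := Finset.univ) (t := fun _ => Finset.univ) (t' := Finset.univ) (s' := fun _ => Finset.univ) (by simp)]
    rw [Finset.sum_comm]
    symm
    rw [Finset.sum_comm]
    apply Finset.sum_congr rfl
    intro Φ _
    rw [Finset.sum_comm]
  rw [h6]
  apply Finset.sum_congr rfl
  intro η _
  rw [h3]
  split_ifs with hJ
  · rw [pow_two, Finset.sum_mul_sum]
  · simp

end small

end Cfsg.Agent.H4
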