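import Cfsg.Agent.H4.SP4

set_option linter.all false
set_option autoImplicit false

/-! Characters of small degree: families of exceptional characters. -/

namespace Cfsg.Agent.H4

open Module Cfsg
open scoped ComplexConjugate Pointwise

universe u v w

section small
variable {G : Type u} [Group G] [Fintype G] {N : Subgroup G} [Fintype N] {P : Subgroup N} {D : Set N} {q : ℕ}

theorem SSet.main (h : SSet N P D q) [Fintype P] (hJ0 : ∀ η : N → ℂ, JJ P η → ∑ z : P, η z = 0)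
    (hno : ∀ Φ : G → ℂ, IsIrrCharacter G Φ → (Φ ≠ fun _ => 1) → ∃ z : P, Φ ((z : N) : G) ≠ Φ 1)
    {χ : G → ℂ} (hχ : IsIrrCharacter G χ) (hχ1 : χ ≠ fun _ => 1) (hdeg : charDegree χ ^ 2 + 1 < q) :
    ∃ η η' : N → ℂ, JJ P η ∧ JJ P η' ∧ classInner (fun z : P => η z) (fun z : P => χ ((z : N) : G)) - classInner (fun z : P => η' z) (fun z : P => χ ((z : N) : G)) = 1 := by
  classical
  have hdpos := IsIrr.degree_pos hχ
  have hsm : Small P q χ := ⟨hχ, by nlinarith, hno χ hχ hχ1⟩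
  obtain ⟨η, hη, hη1⟩ := h.S1 hsm
  obtain ⟨η', hη', hηη', hη'0⟩ := h.S4 hsm hη
  obtain ⟨-, χ', hχ', hne', hdeg', htau⟩ := h.diff hχ hη hη' hηη' hη1 hη'0
  refine ⟨η, η', hη, hη', ?_⟩
  have hcj : IsCharacter G (conjFun χ) := H4.IsChar.conj (IsIrr.isCharacter hχ)
  have hA : IsCharacter G (χ * conjFun χ) := IsChar.mul (IsIrr.isCharacter hχ) hcj
  have hB : IsCharacter G (χ' * conjFun χ) := IsChar.mul (IsIrr.isCharacter hχ') hcj
  obtain ⟨xa, hxa1, hxa2⟩ := IsChar.exists_mult hA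
  obtain ⟨xb, hxb1, hxb2⟩ := IsChar.exists_mult hB
  set X : G → ℂ := fun g => (χ g - χ' g) * conj (χ g) with hX
  have hXexp : ∀ g, X g = ∑ Φ : IrrCharacter G, (((xa Φ : ℤ) - xb Φ : ℤ) : ℂ) * (Φ : G → ℂ) g := by
    intro g
    have h1 : X g = (χ * conjFun χ) g - (χ' * conjFun χ) g := by
      show (χ g - χ' g) * conj (χ g) = χ g * conj (χ g) - χ' g * conj (χ g)
      ring
    rw [h1, hxa2, hxb2, ← Finset.sum_sub_distrib]
    apply Finset.sum_congr rfl
    intro Φ _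
    push_cast
    ring
  set x : IrrCharacter G → ℤ := fun Φ => (xa Φ : ℤ) - xb Φ with hx
  obtain ⟨hX1, hX2⟩ := gen_inner_self x hXexp
  set Δ : N → ℂ := fun n => (η n - η' n) * conj (χ n) with hΔ
  have hΔcl : IsClassFunction N Δ := by
    intro g y
    have h1 : χ (((y * g * y⁻¹ : N)) : G) = χ g := IsIrr.isClassFunction hχ (g : G) (y : G)
    have h2 : Δ (y * g * y⁻¹) = (η (y * g * y⁻¹) - η' (y * g * y⁻¹)) * conj (χ (((y * g * y⁻¹ : N)) : G)) := rfl
    rw [h2, h1, IsIrr.isClassFunction hη.1, IsIrr.isClassFunction hη'.1]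
  have hΔD : ∀ y, y ∉ D → Δ y = 0 := by
    intro y hy
    show (η y - η' y) * _ = 0
    rw [hηη' y hy, sub_self, zero_mul]
  have hind : indFun N Δ = X := by
    have h1 := indFun_mul_restrict N (η - η') (conjFun χ) (IsChar.isClassFunction hcj)
    have h2 : (fun n : N => (η - η') n * conjFun χ n) = Δ := rfl
    rw [h2, htau] at h1
    rw [h1]; rfl
  have hΔX : ∀ n : N, Δ n = X n := fun n => by rw [← hind, h.res Δ hΔcl hΔD]
  have hnormeq : classInner X X = classInner Δ Δ := by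
    rw [← h.iso hΔcl hΔcl hΔD hΔD, hind]
  choose a ha1 ha2 using fun Φ : IrrCharacter G => IsChar.exists_mult (IsChar.restrict N (IsIrr.isCharacter Φ.2))
  set c : IrrCharacter N → ℤ := fun ζ => ∑ Φ : IrrCharacter G, x Φ * a Φ ζ with hc
  have hΔexp : ∀ n, Δ n = ∑ ζ : IrrCharacter N, (c ζ : ℂ) * (ζ : N → ℂ) n := by
    intro n
    rw [hΔX, hXexp]
    have h1 : ∀ Φ : IrrCharacter G, (((xa Φ : ℤ) - xb Φ : ℤ) : ℂ) * (Φ : G → ℂ) n = ∑ ζ : IrrCharacter N, ((x Φ : ℂ) * a Φ ζ) * (ζ : N → ℂ) n := by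
      intro Φ
      rw [ha2 Φ n, Finset.mul_sum]
      apply Finset.sum_congr rfl
      intro ζ _
      rw [hx]; ring
    rw [Finset.sum_congr rfl (fun Φ _ => h1 Φ), Finset.sum_comm]
    apply Finset.sum_congr rfl
    intro ζ _
    rw [← Finset.sum_mul, hc]
    push_cast
    rfl
  obtain ⟨hΔ1, hΔ2⟩ := gen_inner_self c hΔexp
  have hsq : ∑ Φ : IrrCharacter G, x Φ ^ 2 = ∑ ζ : IrrCharacter N, c ζ ^ 2 := by
    have h1 := hX2.symm.trans (hnormeq.trans hΔ2)
    exact_mod_cast h1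
  let oG : IrrCharacter G := ⟨fun _ => 1, H5.isIrrCharacter_trivial⟩
  let oN : IrrCharacter N := ⟨fun _ => 1, H5.isIrrCharacter_trivial⟩
  have hx1 : x oG = 1 := by
    have h1 := hX1 oG
    have h2 : classInner X (oG : G → ℂ) = classInner χ χ - classInner χ' χ := by
      rw [← H5.classInner_sub_left, H5.classInner_def, H5.classInner_def]
      congr 1
      apply Finset.sum_congr rfl
      intro g _
      show (χ g - χ' g) * conj (χ g) * conj (1 : ℂ) = (χ - χ') g * conj (χ g)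
      rw [map_one, mul_one]; rfl
    rw [h2, inner_irr_eq hχ hχ, inner_irr_eq hχ' hχ, if_pos rfl, if_neg hne', sub_zero] at h1
    exact_mod_cast h1.symm
  have hc1 : c oN = 1 := by
    have h1 := hΔ1 oN
    have h2 := frobenius_reciprocity N Δ (oG : G → ℂ) (IsIrr.isClassFunction oG.2)
    rw [hind, hX1, hx1] at h2
    have h3 : classInner Δ (fun n : N => (oG : G → ℂ) n) = classInner Δ (oN : N → ℂ) := rfl
    rw [h3, h1] at h2
    exact_mod_cast h2.symm
  have hoN : ¬ JJ P (oN : N → ℂ) := by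
    rintro ⟨-, z, hz⟩
    exact hz rfl
  -- degrees
  have hdA : ∀ Φ : IrrCharacter G, x Φ ≠ 0 → charDegree (Φ : G → ℂ) ≤ charDegree χ ^ 2 := by
    intro Φ hΦ
    have hdd : ∀ ψ : G → ℂ, IsIrrCharacter G ψ → ψ 1 = χ 1 → charDegree (ψ * conjFun χ) = charDegree χ ^ 2 := by
      intro ψ hψ hψ1
      have h1 : (ψ * conjFun χ) 1 = (charDegree χ : ℂ) ^ 2 := by
        rw [Pi.mul_apply, hψ1, degree_char_conj (IsIrr.isCharacter hχ), IsChar.one_eq (IsIrr.isCharacter hχ)]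
        ring
      have h2 := IsChar.one_eq (IsChar.mul (IsIrr.isCharacter hψ) hcj)
      rw [h1] at h2
      exact_mod_cast h2.symm
    by_cases h1 : xa Φ = 0
    · have h2 : xb Φ ≠ 0 := by
        intro h2
        apply hΦ
        show (xa Φ : ℤ) - xb Φ = 0
        rw [h1, h2]; simp
      rw [← hdd χ' hχ' hdeg']
      exact IsChar.degree_le_of_mult hB xb hxb2 Φ h2
    · rw [← hdd χ hχ rfl]
      exact IsChar.degree_le_of_mult hA xa hxa2 Φ h1
  let x' : IrrCharacter G → ℤ := fun Φ => if Φ = oG then 0 else x Φ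
  have hgram := h.gram x' (by
    intro Φ hΦ
    have h1 : Φ ≠ oG := by
      intro h1
      apply hΦ
      show (if Φ = oG then (0 : ℤ) else x Φ) = 0
      rw [if_pos h1]
    have h2 : x Φ ≠ 0 := by
      have : x' Φ = x Φ := if_neg h1
      rwa [this] at hΦ
    exact ⟨Φ.2, lt_of_le_of_lt (Nat.add_le_add_right (hdA Φ h2) 1) hdeg, hno Φ Φ.2 (fun h3 => h1 (Subtype.ext h3))⟩) a ha1
  have hx'sq : ∑ Φ : IrrCharacter G, x' Φ ^ 2 = ∑ Φ : IrrCharacter G, x Φ ^ 2 - 1 := by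
    have h1 : ∀ Φ : IrrCharacter G, x' Φ ^ 2 = x Φ ^ 2 - (if Φ = oG then x Φ ^ 2 else 0) := by
      intro Φ
      show (if Φ = oG then (0 : ℤ) else x Φ) ^ 2 = _
      split_ifs <;> ring
    rw [Finset.sum_congr rfl (fun Φ _ => h1 Φ), Finset.sum_sub_distrib, Finset.sum_ite_eq', if_pos (Finset.mem_univ _), hx1]
    ring
  have ha0 : ∀ ζ : IrrCharacter N, JJ P (ζ : N → ℂ) → a oG ζ = 0 := by
    intro ζ hζ
    have h1 := ha1 oG ζ
    have h2 : classInner (fun n : N => (oG : G → ℂ) n) (ζ : N → ℂ) = classInner (oN : N → ℂ) (ζ : N → ℂ) := rfl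
    rw [h2, inner_irr_eq oN.2 ζ.2, if_neg (fun h3 => hoN (by rw [h3]; exact hζ))] at h1
    exact_mod_cast h1.symm
  have hcJ : ∀ ζ : IrrCharacter N, JJ P (ζ : N → ℂ) → ∑ Φ : IrrCharacter G, x' Φ * a Φ ζ = c ζ := by
    intro ζ hζ
    apply Finset.sum_congr rfl
    intro Φ _
    show (if Φ = oG then (0 : ℤ) else x Φ) * a Φ ζ = x Φ * a Φ ζ
    split_ifs with h1
    · rw [h1, ha0 ζ hζ]; simp
    · rfl
  have hgram' : ∑ ζ : IrrCharacter N, c ζ ^ 2 - 1 ≤ ∑ ζ : IrrCharacter N, if JJ P (ζ : N → ℂ) then c ζ ^ 2 else 0 := by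
    rw [← hsq, ← hx'sq]
    refine hgram.trans (le_of_eq ?_)
    apply Finset.sum_congr rfl
    intro ζ _
    split_ifs with hJ
    · rw [hcJ ζ hJ]
    · rfl
  have hout : ∑ ζ : IrrCharacter N, (if JJ P (ζ : N → ℂ) then 0 else c ζ ^ 2) ≤ 1 := by
    have h1 : ∑ ζ : IrrCharacter N, c ζ ^ 2 = ∑ ζ : IrrCharacter N, (if JJ P (ζ : N → ℂ) then c ζ ^ 2 else 0) + ∑ ζ : IrrCharacter N, (if JJ P (ζ : N → ℂ) then 0 else c ζ ^ 2) := by
      rw [← Finset.sum_add_distrib]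
      apply Finset.sum_congr rfl
      intro ζ _
      split_ifs <;> ring
    omega
  have hzero : ∀ ζ : IrrCharacter N, ¬ JJ P (ζ : N → ℂ) → ζ ≠ oN → c ζ = 0 := by
    intro ζ hζ hne
    by_contra h0
    have h1 : 0 < c ζ ^ 2 := by positivity
    have h2 : (if JJ P (ζ : N → ℂ) then (0 : ℤ) else c ζ ^ 2) + (if JJ P (oN : N → ℂ) then (0 : ℤ) else c oN ^ 2) ≤ ∑ ζ : IrrCharacter N, (if JJ P (ζ : N → ℂ) then 0 else c ζ ^ 2) := by
      rw [← Finset.sum_pair (f := fun ζ : IrrCharacter N => if JJ P (ζ : N → ℂ) then (0 : ℤ) else c ζ ^ 2) hne]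
      apply Finset.sum_le_sum_of_subset_of_nonneg (Finset.subset_univ _)
      intro y _ _
      show (0 : ℤ) ≤ if _ then _ else _
      split_ifs <;> positivity
    rw [if_neg hζ, if_neg hoN, hc1] at h2
    omega
  -- sum over P
  have hsum : ∑ z : P, Δ z = (Nat.card P : ℂ) := by
    have h1 : ∀ z : P, Δ z = ∑ ζ : IrrCharacter N, (c ζ : ℂ) * (ζ : N → ℂ) z := fun z => hΔexp z
    rw [Finset.sum_congr rfl (fun z _ => h1 z), Finset.sum_comm, Finset.sum_eq_single oN]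
    · rw [hc1]
      show ∑ z : P, ((1 : ℤ) : ℂ) * (1 : ℂ) = _
      simp [Nat.card_eq_fintype_card]
    · intro ζ _ hne
      rw [← Finset.mul_sum]
      by_cases hJ : JJ P (ζ : N → ℂ)
      · rw [hJ0 ζ hJ, mul_zero]
      · rw [hzero ζ hJ hne]; simp
    · intro h1; exact absurd (Finset.mem_univ _) h1
  rw [← H5.classInner_sub_left, H5.classInner_def]
  have h9 : ∑ z : P, ((fun z : P => η z) - (fun z : P => η' z)) z * conj (χ ((z : N) : G)) = ∑ z : P, Δ z := rfl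
  rw [h9, hsum]
  exact inv_mul_cancel₀ (card_ne_zero' P)

end small

end Cfsg.Agent.H4
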