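import Cfsg.Agent.H4.Glau13

set_option linter.all false
set_option autoImplicit false

/-! Degrees for fixed-point structure constant actions of `p`-groups. -/

namespace Cfsg.Agent.H4

open Module
open scoped ComplexConjugate Pointwise

universe u v w

section slice
variable {Γ : Type u} [Group Γ] [Fintype Γ]

theorem slice_char (C S : Subgroup Γ) [Fintype C] [Fintype S] (hCS : ∀ c ∈ C, ∀ s ∈ S, c * s = s * c) {χh : Γ → ℂ} (hχh : IsCharacter Γ χh)
    {γ : C → ℂ} (hγ : IsCharacter C γ) : ∃ m : IrrCharacter S → ℕ, ∀ t : S, (Nat.card C : ℂ)⁻¹ * ∑ c : C, χh ((c : Γ) * t) * conj (γ c) = ∑ ν : IrrCharacter S, (m ν : ℂ) * (ν : S → ℂ) t := by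
  classical
  let φ : C × S →* Γ :=
    { toFun := fun x => (x.1 : Γ) * (x.2 : Γ)
      map_one' := by simp
      map_mul' := by
        intro x y
        show ((x.1 * y.1 : C) : Γ) * ((x.2 * y.2 : S) : Γ) = (x.1 : Γ) * x.2 * ((y.1 : Γ) * y.2)
        rw [Subgroup.coe_mul, Subgroup.coe_mul]
        have := hCS y.1 y.1.2 x.2 x.2.2
        calc (x.1 : Γ) * y.1 * (x.2 * y.2) = (x.1 : Γ) * (y.1 * x.2) * y.2 := by group
          _ = (x.1 : Γ) * (x.2 * y.1) * y.2 := by rw [this]
          _ = _ := by group }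
  have hΨ : IsCharacter (C × S) (fun x => χh (φ x)) := IsChar.comp φ hχh
  have hγl : ∀ ν : IrrCharacter S, IsCharacter (C × S) ((fun x => γ ((MonoidHom.fst C S) x)) * (fun x => (ν : S → ℂ) ((MonoidHom.snd C S) x))) := by
    intro ν
    exact IsChar.mul (IsChar.comp (MonoidHom.fst C S) hγ) (IsChar.comp (MonoidHom.snd C S) (IsIrr.isCharacter ν.2))
  have ha : ∀ ν : IrrCharacter S, ∃ n : ℕ, classInner (fun x => χh (φ x)) ((fun x => γ ((MonoidHom.fst C S) x)) * (fun x => (ν : S → ℂ) ((MonoidHom.snd C S) x))) = n :=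
    fun ν => inner_char_nat hΨ (hγl ν)
  choose a ha using ha
  refine ⟨a, ?_⟩
  set f : S → ℂ := fun t => (Nat.card C : ℂ)⁻¹ * ∑ c : C, χh ((c : Γ) * t) * conj (γ c) with hf
  have hfcl : IsClassFunction S f := by
    intro g h
    show (Nat.card C : ℂ)⁻¹ * _ = (Nat.card C : ℂ)⁻¹ * _
    congr 1
    apply Finset.sum_congr rfl
    intro c _
    congr 1
    have h1 := IsChar.isClassFunction hχh ((c : Γ) * g) (h : Γ)
    rw [← h1]
    congr 1
    have h2 := hCS c c.2 h h.2
    show (c : Γ) * (h * g * (h : Γ)⁻¹) = h * (c * g) * (h : Γ)⁻¹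
    calc (c : Γ) * (h * g * (h : Γ)⁻¹) = (c * h) * g * (h : Γ)⁻¹ := by group
      _ = _ := by rw [h2]; group
  have hinner : ∀ ν : IrrCharacter S, classInner f (ν : S → ℂ) = a ν := by
    intro ν
    rw [← ha, H5.classInner_def, H5.classInner_def, Nat.card_prod, Fintype.sum_prod_type, Finset.sum_comm]
    push_cast
    rw [mul_inv, mul_comm (Nat.card C : ℂ)⁻¹, mul_assoc]
    congr 1
    rw [Finset.mul_sum]
    apply Finset.sum_congr rfl
    intro t _
    show (Nat.card C : ℂ)⁻¹ * (∑ c : C, χh ((c : Γ) * t) * conj (γ c)) * conj ((ν : S → ℂ) t) = _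
    rw [mul_assoc, Finset.sum_mul]
    congr 1
    apply Finset.sum_congr rfl
    intro c _
    show _ = χh ((c : Γ) * t) * conj (γ c * (ν : S → ℂ) t)
    rw [map_mul]; ring
  intro t
  have h1 := H5.classFun_expansion_apply hfcl t
  show f t = _
  rw [h1]
  apply Finset.sum_congr rfl
  intro ν _
  rw [hinner]

/-- values of canonical extensions on cosets. -/
theorem canon_value {G S : Subgroup Γ} (hnorm : ∀ s ∈ S, ∀ g ∈ G, s * g * s⁻¹ ∈ G) (hcop : (Nat.card G).Coprime (Nat.card S)) (htop : G ⊔ S = ⊤)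
    {χ : G → ℂ} (hχ : IsIrrCharacter G χ) (hinv : Inv S G χ) {χh : Γ → ℂ} (hχh : IsIrrCharacter Γ χh) (hext : ∀ g : G, χh g = χ g)
    (hdet : (detOrder χh).Coprime (Nat.card S)) {s : Γ} (hs : s ∈ S) {C : Subgroup Γ} (hC : C = G ⊓ Subgroup.centralizer ({s} : Set Γ)) :
    ∃ (β : IrrCharacter C) (ε : ℤ), (ε = 1 ∨ ε = -1) ∧ ∀ c : C, χh ((c : Γ) * s) = (ε : ℂ) * (β : C → ℂ) c := by
  classical
  set Z := Subgroup.zpowers s with hZ
  set L := G ⊔ Z with hL
  have hZS : Z ≤ S := by rw [hZ, Subgroup.zpowers_le]; exact hs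
  have hGL : G ≤ L := le_sup_left
  have hZL : Z ≤ L := le_sup_right
  have hCG : C ≤ G := by rw [hC]; exact inf_le_left
  have hCL : C ≤ L := hCG.trans hGL
  have hsL : s ∈ L := hZL (by rw [hZ]; exact Subgroup.mem_zpowers s)
  haveI : Fintype L := Fintype.ofFinite _
  haveI : Fintype (C.subgroupOf L) := Fintype.ofFinite _
  have hcG : Nat.card (G.subgroupOf L) = Nat.card G := Nat.card_congr (Subgroup.subgroupOfEquivOfLe hGL).toEquiv
  have hcZ : Nat.card (Z.subgroupOf L) = Nat.card Z := Nat.card_congr (Subgroup.subgroupOfEquivOfLe hZL).toEquiv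
  have hnorm' : ∀ s ∈ Z.subgroupOf L, ∀ g ∈ G.subgroupOf L, s * g * s⁻¹ ∈ G.subgroupOf L := by
    intro s hs g hg
    exact Subgroup.mem_subgroupOf.2 (hnorm s (hZS (Subgroup.mem_subgroupOf.1 hs)) g (Subgroup.mem_subgroupOf.1 hg))
  have hcop' : (Nat.card (G.subgroupOf L)).Coprime (Nat.card (Z.subgroupOf L)) := by
    rw [hcG, hcZ]
    exact hcop.coprime_dvd_right (Subgroup.card_dvd_of_le hZS)
  have htop' : G.subgroupOf L ⊔ Z.subgroupOf L = ⊤ := by
    rw [← Subgroup.subgroupOf_sup hGL hZL, hL, Subgroup.subgroupOf_self]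
  have hcyc : IsCyclic (Z.subgroupOf L) := by
    haveI : IsCyclic Z := by rw [hZ]; infer_instance
    exact isCyclic_of_surjective (Subgroup.subgroupOfEquivOfLe hZL).symm (Subgroup.subgroupOfEquivOfLe hZL).symm.surjective
  have hmC : ∀ x : Γ, x ∈ C ↔ x ∈ G ∧ s * x * s⁻¹ = x := by
    intro x
    rw [hC, Subgroup.mem_inf, Subgroup.mem_centralizer_singleton_iff]
    constructor
    · rintro ⟨h1, h2⟩
      exact ⟨h1, by rw [← h2]; group⟩
    · rintro ⟨h1, h2⟩
      refine ⟨h1, ?_⟩
      symm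
      calc s * x = (s * x * s⁻¹) * s := by group
        _ = x * s := by rw [h2]
  have hzpL : Subgroup.zpowers (⟨s, hsL⟩ : L) = Z.subgroupOf L := by
    apply le_antisymm
    · rw [Subgroup.zpowers_le]
      exact Subgroup.mem_subgroupOf.2 (by rw [hZ]; exact Subgroup.mem_zpowers s)
    · intro x hx
      obtain ⟨k, hk⟩ := Subgroup.mem_zpowers_iff.mp (Subgroup.mem_subgroupOf.1 hx)
      exact Subgroup.mem_zpowers_iff.mpr ⟨k, Subtype.ext hk⟩
  have hC' : C.subgroupOf L = G.subgroupOf L ⊓ Subgroup.centralizer ((Z.subgroupOf L : Subgroup L) : Set L) := by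
    ext x
    rw [Subgroup.mem_subgroupOf, Subgroup.mem_inf, Subgroup.mem_subgroupOf, mem_cent_iff', hmC]
    constructor
    · rintro ⟨h1, h2⟩
      refine ⟨h1, ?_⟩
      intro t ht
      have h3 : t ∈ Subgroup.centralizer ({x} : Set L) := by
        have h4 : Subgroup.zpowers (⟨s, hsL⟩ : L) ≤ Subgroup.centralizer ({x} : Set L) := by
          rw [Subgroup.zpowers_le, Subgroup.mem_centralizer_singleton_iff]
          apply Subtype.ext
          show s * (x : Γ) = x * s
          calc s * (x : Γ) = (s * x * s⁻¹) * s := by group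
            _ = x * s := by rw [h2]
        exact h4 (by rw [hzpL]; exact ht)
      rw [Subgroup.mem_centralizer_singleton_iff] at h3
      rw [h3]; group
    · rintro ⟨h1, h2⟩
      exact ⟨h1, congrArg Subtype.val (h2 ⟨s, hsL⟩ (by rw [← hzpL]; exact Subgroup.mem_zpowers _))⟩
  have hC'G : C.subgroupOf L ≤ G.subgroupOf L := fun x hx => Subgroup.mem_subgroupOf.2 (hCG (Subgroup.mem_subgroupOf.1 hx))
  -- the restriction to L
  have hχL : IsIrrCharacter L (fun x : L => χh x) := by
    obtain ⟨d, ρ, hρ, hρχ⟩ := hχh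
    have hχG : IsIrrCharacter G (fun g : G => χh g) := by
      have : (fun g : G => χh g) = χ := by funext g; exact hext g
      rw [this]; exact hχ
    rw [H5.isIrrCharacter_iff_inner]
    refine ⟨⟨d, ρ.comp L.subtype, by rw [← hρχ]; rfl⟩, ?_⟩
    -- norm one: it is a character whose restriction to G is irreducible
    have hLc : IsCharacter L (fun x : L => χh x) := ⟨d, ρ.comp L.subtype, by rw [← hρχ]; rfl⟩
    obtain ⟨ξ, hξ⟩ : ∃ ξ : IrrCharacter L, classInner (fun x : L => χh x) (ξ : L → ℂ) ≠ 0 := by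
      by_contra hcon
      push Not at hcon
      have h1 := H5.classFun_expansion_apply (IsChar.isClassFunction hLc) 1
      rw [Finset.sum_eq_zero (fun θ _ => by rw [hcon θ, zero_mul])] at h1
      have h2 := hext 1
      have h3 := charDeg_eq (IsIrr.isCharacter hχ)
      have h4 := IsIrr.degree_pos hχ
      have h5 : (charDegree χ : ℂ) ≠ 0 := by exact_mod_cast h4.ne'
      apply h5
      rw [← h3, ← h2]
      exact h1
    have hχG' : IsIrrCharacter (G.subgroupOf L) (fun x : G.subgroupOf L => χh x) := toSub_irr hGL hχG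
    -- expansion
    obtain ⟨m, hm1, hm2⟩ := IsChar.exists_mult hLc
    haveI : Fintype (G.subgroupOf L) := Fintype.ofFinite _
    have hnn : ∀ δ : IrrCharacter L, ∃ n : ℕ, classInner (fun x : G.subgroupOf L => (δ : L → ℂ) x) (fun x : G.subgroupOf L => χh x) = n := fun δ =>
      inner_char_nat (IsChar.restrict _ (IsIrr.isCharacter δ.2)) (IsIrr.isCharacter hχG')
    choose n hn using hnn
    have h1 : (1 : ℂ) = ((∑ δ : IrrCharacter L, m δ * n δ : ℕ) : ℂ) := by
      have h2 := (H5.isIrrCharacter_iff_inner.mp hχG').2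
      have h3 : (fun x : G.subgroupOf L => χh x) = ∑ δ : IrrCharacter L, (m δ : ℂ) • (fun x : G.subgroupOf L => (δ : L → ℂ) x) := by
        funext x
        rw [Finset.sum_apply]
        exact hm2 x
      have h4 : classInner (fun x : G.subgroupOf L => χh x) (fun x : G.subgroupOf L => χh x) = ∑ δ : IrrCharacter L, (m δ : ℂ) * (n δ : ℂ) := by
        conv_lhs => rw [h3]
        rw [H5.classInner_sum_left]
        apply Finset.sum_congr rfl
        intro δ _
        rw [H5.classInner_smul_left, ← hn]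
        congr 2
        exact h3.symm
      rw [← h2, h4]
      push_cast; rfl
    have h1' : ∑ δ : IrrCharacter L, m δ * n δ = 1 := by exact_mod_cast h1.symm
    -- every constituent restricts with positive multiplicity
    have hmn : ∀ δ : IrrCharacter L, m δ ≠ 0 → n δ ≠ 0 := by
      intro δ hδ h0
      -- the restriction of δ to G has a constituent, which is a constituent of χ restricted, thus χ
      obtain ⟨θ, hθ⟩ := exists_under (G.subgroupOf L) δ.2
      have h5 : classInner (fun x : G.subgroupOf L => χh x) (θ : (G.subgroupOf L) → ℂ) ≠ 0 := by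
        have h3 : (fun x : G.subgroupOf L => χh x) = ∑ δ : IrrCharacter L, (m δ : ℂ) • (fun x : G.subgroupOf L => (δ : L → ℂ) x) := by
          funext x
          rw [Finset.sum_apply]
          exact hm2 x
        have hkk : ∀ δ : IrrCharacter L, ∃ k : ℕ, classInner (fun x : G.subgroupOf L => (δ : L → ℂ) x) (θ : (G.subgroupOf L) → ℂ) = k := fun δ =>
          inner_char_nat (IsChar.restrict _ (IsIrr.isCharacter δ.2)) (IsIrr.isCharacter θ.2)
        choose k hk using hkk
        rw [h3, H5.classInner_sum_left]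
        have h6 : ∑ δ : IrrCharacter L, classInner ((m δ : ℂ) • (fun x : G.subgroupOf L => (δ : L → ℂ) x)) (θ : (G.subgroupOf L) → ℂ) = ((∑ δ : IrrCharacter L, m δ * k δ : ℕ) : ℂ) := by
          push_cast
          apply Finset.sum_congr rfl
          intro δ _
          rw [H5.classInner_smul_left, hk]
        rw [h6]
        have h7 : k δ ≠ 0 := by
          intro h
          apply hθ
          have := hk δ
          rw [h, Nat.cast_zero] at this
          exact this
        have h8 : m δ * k δ ≤ ∑ δ : IrrCharacter L, m δ * k δ := Finset.single_le_sum (f := fun δ : IrrCharacter L => m δ * k δ) (fun _ _ => Nat.zero_le _) (Finset.mem_univ _)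
        have h9 : 0 < m δ * k δ := Nat.mul_pos (Nat.pos_of_ne_zero hδ) (Nat.pos_of_ne_zero h7)
        exact_mod_cast (lt_of_lt_of_le h9 h8).ne'
      have h6 : (θ : (G.subgroupOf L) → ℂ) = fun x : G.subgroupOf L => χh x := by
        have h7 := inner_irr_eq hχG' θ.2
        by_contra hne
        rw [h7, if_neg (fun h => hne h.symm)] at h5
        exact h5 rfl
      apply hθ
      rw [h6, hn, h0, Nat.cast_zero]
    -- so exactly one constituent
    obtain ⟨δ₀, hδ₀⟩ : ∃ δ, m δ * n δ ≠ 0 := by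
      by_contra hcon
      push Not at hcon
      rw [Finset.sum_eq_zero (fun δ _ => hcon δ)] at h1'
      omega
    have h5 : m δ₀ * n δ₀ = 1 ∧ ∀ δ, δ ≠ δ₀ → m δ * n δ = 0 := by
      have h6 := Finset.add_sum_erase Finset.univ (fun δ => m δ * n δ) (Finset.mem_univ δ₀)
      have h6' : m δ₀ * n δ₀ + ∑ δ ∈ Finset.univ.erase δ₀, m δ * n δ = 1 := h6.trans h1'
      have h7 : ∑ δ ∈ Finset.univ.erase δ₀, m δ * n δ = 0 := by omega
      refine ⟨by omega, ?_⟩
      intro δ hδ
      exact (Finset.sum_eq_zero_iff.mp h7) δ (Finset.mem_erase.mpr ⟨hδ, Finset.mem_univ _⟩)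
    have h6 : m δ₀ = 1 := Nat.eq_one_of_mul_eq_one_right h5.1
    have h7 : ∀ δ, δ ≠ δ₀ → m δ = 0 := by
      intro δ hδ
      by_contra h0
      have := h5.2 δ hδ
      rcases Nat.mul_eq_zero.mp this with h8 | h8
      · exact h0 h8
      · exact hmn δ h0 h8
    have h8 : (fun x : L => χh x) = (δ₀ : L → ℂ) := by
      funext x
      have := hm2 x
      rw [Finset.sum_eq_single δ₀ (fun δ _ hδ => by rw [h7 δ hδ]; simp) (fun h => absurd (Finset.mem_univ _) h), h6] at this
      simpa using this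
    rw [h8]
    exact (H5.isIrrCharacter_iff_inner.mp δ₀.2).2
  have hdetL : (detOrder (fun x : L => χh x)).Coprime (Nat.card (Z.subgroupOf L)) := by
    rw [det_trivial_iff hnorm' hcop' htop' (IsIrr.isCharacter hχL)]
    intro t ht
    have h1 := detChar_comp (IsIrr.isCharacter hχh) L.subtype
    have h2 := congrFun h1 t
    have h3 : (fun x : L => χh (L.subtype x)) = fun x : L => χh x := rfl
    rw [h3] at h2
    rw [h2]
    exact (det_trivial_iff hnorm hcop htop (IsIrr.isCharacter hχh)).mp hdet t (hZS (Subgroup.mem_subgroupOf.1 ht))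
  have hχL' : IsIrrCharacter (G.subgroupOf L) (toSub χ) := toSub_irr hGL hχ
  obtain ⟨β, ε, hε, hval, _⟩ := cyc_main hnorm' hcop' htop' hcyc hC' hC'G hzpL (toSub χ) hχL' ((inv_toSub hGL hZL).mpr (inv_mono hZS hinv)) (fun x : L => χh x) hχL
    (fun g => hext ⟨g, Subgroup.mem_subgroupOf.1 g.2⟩) hdetL
  refine ⟨⟨frSub hCL (β : C.subgroupOf L → ℂ), frSub_irr hCL β.2⟩, ε, hε, ?_⟩
  intro c
  exact hval ⟨⟨c, hCL c.2⟩, Subgroup.mem_subgroupOf.2 c.2⟩

end slice

end Cfsg.Agent.H4
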