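import Cfsg.Agent.H4.TIp1

set_option linter.all false
set_option autoImplicit false

/-! Degrees for fixed-point structure constant actions of `p`-groups. -/

namespace Cfsg.Agent.H4

open Module
open scoped ComplexConjugate Pointwise

universe u v w

section tideg
variable {Γ : Type u} [Group Γ] [Fintype Γ] {G S : Subgroup Γ}

theorem centralizer_zpowers_eq (s : Γ) : Subgroup.centralizer ((Subgroup.zpowers s : Subgroup Γ) : Set Γ) = Subgroup.centralizer ({s} : Set Γ) := by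
  ext x
  rw [mem_cent_iff', Subgroup.mem_centralizer_singleton_iff]
  constructor
  · intro h
    have := h s (Subgroup.mem_zpowers s)
    calc x * s = (s * x * s⁻¹) * s := by rw [this]
      _ = s * x := by group
  · intro h t ht
    have h3 : t ∈ Subgroup.centralizer ({x} : Set Γ) := by
      have h4 : Subgroup.zpowers s ≤ Subgroup.centralizer ({x} : Set Γ) := by
        rw [Subgroup.zpowers_le, Subgroup.mem_centralizer_singleton_iff]
        exact h.symm
      exact h4 ht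
    rw [Subgroup.mem_centralizer_singleton_iff] at h3
    rw [h3]; group

/-- an irreducible character fixed by one nontrivial element of `S` is fixed by `S` -/
theorem inv_of_one (hnorm : ∀ s ∈ S, ∀ g ∈ G, s * g * s⁻¹ ∈ G) (hcop : (Nat.card G).Coprime (Nat.card S)) (hsolv : Group.IsSolvable S)
    {s : Γ} (hs : s ∈ S) (hfix : G ⊓ Subgroup.centralizer ({s} : Set Γ) = G ⊓ Subgroup.centralizer (S : Set Γ)) {θ : G → ℂ} (hθ : IsIrrCharacter G θ)
    (hinv : ∀ g g' : G, (g' : Γ) = s * g * s⁻¹ → θ g' = θ g) : Inv S G θ := by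
  classical
  haveI : Fintype G := Fintype.ofFinite _
  set Z := Subgroup.zpowers s with hZ
  have hZS : Z ≤ S := by rw [hZ, Subgroup.zpowers_le]; exact hs
  have hnZ : ∀ t ∈ Z, ∀ g ∈ G, t * g * t⁻¹ ∈ G := fun t ht => hnorm t (hZS ht)
  have hsZ : Group.IsSolvable Z := by
    haveI : IsCyclic Z := by rw [hZ]; infer_instance
    exact Group.isSolvable_of_comm (fun a b => by
      letI := IsCyclic.commGroup (α := Z)
      exact mul_comm a b)
  have h1 := card_inv_irr hsolv (Nat.card G) G le_rfl hnorm hcop _ rfl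
  have h2 := card_inv_irr hsZ (Nat.card G) G le_rfl hnZ (hcop.coprime_dvd_right (Subgroup.card_dvd_of_le hZS)) (G ⊓ Subgroup.centralizer (S : Set Γ)) (by
    rw [hZ, centralizer_zpowers_eq, hfix])
  have h3 : Function.Injective (fun χ : {χ : IrrCharacter G // Inv S G (χ : G → ℂ)} => (⟨χ.1, inv_mono hZS χ.2⟩ : {χ : IrrCharacter G // Inv Z G (χ : G → ℂ)})) := by
    intro a b h
    exact Subtype.ext (congrArg (fun x : {χ : IrrCharacter G // Inv Z G (χ : G → ℂ)} => x.1) h)
  have h4 : Function.Bijective (fun χ : {χ : IrrCharacter G // Inv S G (χ : G → ℂ)} => (⟨χ.1, inv_mono hZS χ.2⟩ : {χ : IrrCharacter G // Inv Z G (χ : G → ℂ)})) := by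
    rw [Fintype.bijective_iff_injective_and_card]
    refine ⟨h3, ?_⟩
    rw [← Nat.card_eq_fintype_card, ← Nat.card_eq_fintype_card, h1, h2]
  obtain ⟨χ, hχ⟩ := h4.2 ⟨⟨θ, hθ⟩, inv_zpowers hnZ rfl hinv⟩
  have h5 : (χ.1 : G → ℂ) = θ := congrArg (fun x => ((x.1 : IrrCharacter G) : G → ℂ)) hχ
  rw [← h5]
  exact χ.2

/-- sum of the multiplicities times degrees -/
theorem deg_eq_sum {C : Subgroup Γ} [Fintype C] {χ : Γ → ℂ} (hχ : IsCharacter Γ χ) : ∃ m : IrrCharacter C → ℕ,
    (∀ γ : IrrCharacter C, classInner (fun c : C => χ c) (γ : C → ℂ) = m γ) ∧ (∀ c : C, χ c = ∑ γ : IrrCharacter C, (m γ : ℂ) * (γ : C → ℂ) c) ∧ charDegree χ = ∑ γ : IrrCharacter C, m γ * charDegree (γ : C → ℂ) := by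
  classical
  obtain ⟨m, hm1, hm2⟩ := IsChar.exists_mult (IsChar.restrict C hχ)
  refine ⟨m, hm1, hm2, ?_⟩
  have h1 := hm2 1
  have h2 : χ ((1 : C) : Γ) = (charDegree χ : ℂ) := by
    rw [Subgroup.coe_one]; exact charDeg_eq hχ
  rw [h2] at h1
  have h3 : (charDegree χ : ℂ) = ((∑ γ : IrrCharacter C, m γ * charDegree (γ : C → ℂ) : ℕ) : ℂ) := by
    rw [h1]
    push_cast
    apply Finset.sum_congr rfl
    intro γ _
    rw [charDeg_eq (IsIrr.isCharacter γ.2)]
  exact_mod_cast h3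

/-- The multiplicity of a character of degree `≥ 2` -/
theorem slice_bound {p : ℕ} (hp : p.Prime) (hSp : IsPGroup p S) (hS1 : S ≠ ⊥) {C : Subgroup Γ} [Fintype C] (hCS : ∀ c ∈ C, ∀ s ∈ S, c * s = s * c)
    {χh : Γ → ℂ} (hχh : IsCharacter Γ χh)
    (hval : ∀ s ∈ S, s ≠ 1 → ∃ (β : IrrCharacter C) (ε : ℤ), (ε = 1 ∨ ε = -1) ∧ ∀ c : C, χh ((c : Γ) * s) = (ε : ℂ) * (β : C → ℂ) c) :
    Nat.card S < charDegree χh ^ 2 ∨ IsIrrCharacter C (fun c : C => χh c) := by
  classical
  haveI : Fintype S := Fintype.ofFinite _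
  have hC0 := card_ne_zero' C
  choose β ε hε hv using hval
  have hsl : ∀ γ : IrrCharacter C, ∃ m : IrrCharacter S → ℕ, ∀ t : S, (Nat.card C : ℂ)⁻¹ * ∑ c : C, χh ((c : Γ) * t) * conj ((γ : C → ℂ) c) = ∑ ν : IrrCharacter S, (m ν : ℂ) * (ν : S → ℂ) t :=
    fun γ => slice_char C S hCS hχh (IsIrr.isCharacter γ.2)
  choose m hm using hsl
  set f : IrrCharacter C → S → ℂ := fun γ t => (Nat.card C : ℂ)⁻¹ * ∑ c : C, χh ((c : Γ) * t) * conj ((γ : C → ℂ) c) with hf
  -- values
  have hfv : ∀ (γ : IrrCharacter C) (s : S) (hs : (s : Γ) ≠ 1), f γ s = (ε s s.2 hs : ℂ) * (if β s s.2 hs = γ then 1 else 0) := by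
    intro γ s hs
    have h1 : f γ s = (ε s s.2 hs : ℂ) * classInner (β s s.2 hs : C → ℂ) (γ : C → ℂ) := by
      rw [H5.classInner_def]
      show (Nat.card C : ℂ)⁻¹ * ∑ c : C, χh ((c : Γ) * s) * conj ((γ : C → ℂ) c) = _
      rw [Finset.sum_congr rfl (fun c _ => by rw [hv s s.2 hs c])]
      rw [mul_left_comm]
      congr 1
      rw [Finset.mul_sum]
      apply Finset.sum_congr rfl
      intro c _
      ring
    rw [h1, inner_irr_eq (β s s.2 hs).2 γ.2]
    congr 1
    by_cases h : β s s.2 hs = γ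
    · rw [if_pos h, if_pos (congrArg Subtype.val h)]
    · rw [if_neg h, if_neg (fun h' => h (Subtype.ext h'))]
  obtain ⟨n, hn1, hn2, hn3⟩ := deg_eq_sum (C := C) hχh
  have hf1 : ∀ γ, f γ 1 = n γ := by
    intro γ
    rw [← hn1, H5.classInner_def]
    show (Nat.card C : ℂ)⁻¹ * ∑ c : C, χh ((c : Γ) * ((1 : S) : Γ)) * conj ((γ : C → ℂ) c) = _
    simp
  -- integrality of the inner products
  have hfcl : ∀ γ, IsClassFunction S (f γ) := by
    intro γ g h
    rw [show f γ (h * g * h⁻¹) = _ from hm γ _, show f γ g = _ from hm γ _]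
    apply Finset.sum_congr rfl
    intro ν _
    rw [IsIrr.isClassFunction ν.2]
  have hinn : ∀ γ (ν : IrrCharacter S), classInner (f γ) (ν : S → ℂ) = m γ ν := by
    intro γ ν
    have h1 : f γ = ∑ ν : IrrCharacter S, (m γ ν : ℂ) • (ν : S → ℂ) := by
      funext t
      rw [Finset.sum_apply]
      exact hm γ t
    rw [h1, H5.classInner_sum_left, Finset.sum_eq_single ν]
    · rw [H5.classInner_smul_left, inner_irr_eq ν.2 ν.2, if_pos rfl, mul_one]
    · intro ν' _ hne
      rw [H5.classInner_smul_left, inner_irr_eq ν'.2 ν.2, if_neg (fun h => hne (Subtype.ext h)), mul_zero]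
    · intro h; exact absurd (Finset.mem_univ _) h
  have hself : ∀ γ, classInner (f γ) (f γ) = ((∑ ν : IrrCharacter S, m γ ν ^ 2 : ℕ) : ℂ) := by
    intro γ
    have h1 : f γ = ∑ ν : IrrCharacter S, (m γ ν : ℂ) • (ν : S → ℂ) := by
      funext t
      rw [Finset.sum_apply]
      exact hm γ t
    conv_lhs => rw [h1]
    rw [H5.classInner_sum_left]
    push_cast
    apply Finset.sum_congr rfl
    intro ν _
    rw [H5.classInner_smul_left, ← h1, ← H5.classInner_conj_symm, hinn]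
    simp [pow_two]
  -- congruences
  obtain ⟨M, hM⟩ := H5.exists_isPModular hp
  haveI := H5.isPrime_of_isPModular hM
  have hMt : M ≠ ⊤ := this.ne_top
  have hcong : ∀ γ (s : S) (δ : ℤ), f γ s = δ → (p : ℤ) ∣ δ - n γ := by
    intro γ s δ hδ
    rw [← H5.memLocI_intCast_iff hM]
    push_cast
    rw [← hδ, ← hf1, show f γ s = _ from hm γ s, show f γ 1 = _ from hm γ 1, ← Finset.sum_sub_distrib]
    apply H5.memLocI_sum
    intro ν _
    rw [← mul_sub]
    apply H5.memLocI_mul_left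
    · apply H5.memLocR_of_isIntegral hMt
      exact isIntegral_algebraMap (R := ℤ) (A := ℂ) (x := (m γ ν : ℤ))
    · obtain ⟨k, hk⟩ := hSp s
      obtain ⟨j, _, hj⟩ := (Nat.dvd_prime_pow hp).mp (orderOf_dvd_of_pow_eq_one hk)
      have h9 : IsPPart p s s := ⟨1, mul_one s, Commute.one_right s, ⟨j, hj⟩, by rw [orderOf_one]; exact hp.one_lt.ne' ∘ Nat.dvd_one.mp⟩
      have h10 := char_congr_ppart hM (IsIrr.isCharacter ν.2) h9
      rwa [inv_mul_cancel] at h10
  -- a nontrivial element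
  obtain ⟨s₀, hs₀, hs₀1⟩ : ∃ s₀ ∈ S, s₀ ≠ 1 := by
    by_contra hcon
    push Not at hcon
    exact hS1 ((Subgroup.eq_bot_iff_forall _).mpr hcon)
  set γ₀ := β s₀ hs₀ hs₀1 with hγ₀
  have hval0 : ∀ (s : S) (hs : (s : Γ) ≠ 1), β s s.2 hs = γ₀ := by
    intro s hs
    by_contra hne
    have h1 := hfv γ₀ ⟨s₀, hs₀⟩ hs₀1
    rw [if_pos rfl, mul_one] at h1
    have h2 := hcong γ₀ ⟨s₀, hs₀⟩ _ h1
    have h3 := hfv γ₀ s hs
    rw [if_neg hne, mul_zero] at h3
    have h4 := hcong γ₀ s 0 (by rw [h3]; simp)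
    have h5 := dvd_sub h2 h4
    have h6 : (p : ℤ) ∣ ε s₀ hs₀ hs₀1 := by
      have : ε s₀ hs₀ hs₀1 - (n γ₀ : ℤ) - (0 - (n γ₀ : ℤ)) = ε s₀ hs₀ hs₀1 := by ring
      rwa [this] at h5
    have h7 : (p : ℤ) ∣ 1 := by
      rcases hε s₀ hs₀ hs₀1 with h | h
      · rwa [h] at h6
      · rw [h] at h6; exact (dvd_neg.mp h6)
    have h8 := Int.le_of_dvd one_pos h7
    have := hp.one_lt
    omega
  have hcardS : 2 ≤ Nat.card S := by
    have h0 : 0 < Nat.card S := Nat.card_pos
    by_contra hlt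
    have : Nat.card S = 1 := by omega
    exact hS1 (Subgroup.card_eq_one.mp this)
  -- norm of f γ₀
  have hdeg_pos : ∀ γ : IrrCharacter C, 1 ≤ charDegree (γ : C → ℂ) := fun γ => IsIrr.degree_pos γ.2
  have hnle : ∀ γ, n γ ≤ charDegree χh := by
    intro γ
    rw [hn3]
    calc n γ = n γ * 1 := (mul_one _).symm
      _ ≤ n γ * charDegree (γ : C → ℂ) := Nat.mul_le_mul_left _ (hdeg_pos γ)
      _ ≤ _ := Finset.single_le_sum (f := fun γ : IrrCharacter C => n γ * charDegree (γ : C → ℂ)) (fun _ _ => Nat.zero_le _) (Finset.mem_univ _)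
  have hnorm0 : ((Nat.card S * ∑ ν : IrrCharacter S, m γ₀ ν ^ 2 : ℕ) : ℂ) = ((n γ₀ ^ 2 + (Nat.card S - 1) : ℕ) : ℂ) := by
    have h1 := hself γ₀
    rw [H5.classInner_def] at h1
    have hS0 := card_ne_zero' S
    have h2 : ∑ t : S, f γ₀ t * conj (f γ₀ t) = ((n γ₀ ^ 2 + (Nat.card S - 1) : ℕ) : ℂ) := by
      rw [← Finset.add_sum_erase Finset.univ _ (Finset.mem_univ (1 : S)), hf1]
      have h3 : ∀ t ∈ (Finset.univ : Finset S).erase 1, f γ₀ t * conj (f γ₀ t) = 1 := by
        intro t ht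
        have ht1 : (t : Γ) ≠ 1 := by
          intro h
          exact (Finset.ne_of_mem_erase ht) (Subtype.ext h)
        rw [hfv γ₀ t ht1, if_pos (hval0 t ht1), mul_one]
        rcases hε t t.2 ht1 with h | h <;> rw [h] <;> simp
      rw [Finset.sum_congr rfl h3, Finset.sum_const, Finset.card_erase_of_mem (Finset.mem_univ _), Finset.card_univ, ← Nat.card_eq_fintype_card]
      simp [pow_two]
    rw [h2] at h1
    push_cast
    push_cast at h1
    rw [← h1, ← mul_assoc, mul_inv_cancel₀ hS0, one_mul]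
  have hnorm0' : Nat.card S * ∑ ν : IrrCharacter S, m γ₀ ν ^ 2 = n γ₀ ^ 2 + (Nat.card S - 1) := by exact_mod_cast hnorm0
  -- other γ
  have hother : ∀ γ, γ ≠ γ₀ → Nat.card S ∣ n γ := by
    intro γ hγ
    have h1 := hinn γ ⟨fun _ => 1, H5.isIrrCharacter_trivial⟩
    rw [H5.classInner_def, ← Finset.add_sum_erase Finset.univ _ (Finset.mem_univ (1 : S)), hf1, Finset.sum_eq_zero] at h1
    · have hS0 := card_ne_zero' S
      have h2 : (n γ : ℂ) = (Nat.card S : ℂ) * (m γ ⟨fun _ => 1, H5.isIrrCharacter_trivial⟩ : ℂ) := by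
        rw [← h1]
        simp only [map_one, mul_one, add_zero]
        rw [← mul_assoc, mul_inv_cancel₀ hS0, one_mul]
      have h3 : n γ = Nat.card S * m γ ⟨fun _ => 1, H5.isIrrCharacter_trivial⟩ := by exact_mod_cast h2
      exact Dvd.intro _ h3.symm
    · intro t ht
      have ht1 : (t : Γ) ≠ 1 := by
        intro h
        exact (Finset.ne_of_mem_erase ht) (Subtype.ext h)
      rw [hfv γ t ht1, if_neg, mul_zero, zero_mul]
      rw [hval0 t ht1]
      exact fun h => hγ h.symm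
  by_cases hbig : Nat.card S < charDegree χh ^ 2
  · exact Or.inl hbig
  · right
    push Not at hbig
    have hn0 : n γ₀ ^ 2 ≤ Nat.card S := le_trans (Nat.pow_le_pow_left (hnle γ₀) 2) hbig
    have hn0' : n γ₀ = 1 := by
      set sm := ∑ ν : IrrCharacter S, m γ₀ ν ^ 2 with hsm
      have h1 : sm = 1 := by
        have h2 : Nat.card S * sm < Nat.card S * 2 := by rw [hnorm0']; omega
        have h3 : sm < 2 := Nat.lt_of_mul_lt_mul_left h2
        have h4 : sm ≠ 0 := by
          intro h0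
          rw [h0, mul_zero] at hnorm0'
          omega
        omega
      rw [h1, mul_one] at hnorm0'
      have h2 : n γ₀ ^ 2 = 1 := by omega
      nlinarith
    have hz : ∀ γ, γ ≠ γ₀ → n γ = 0 := by
      intro γ hγ
      by_contra h0
      have h1 := Nat.le_of_dvd (Nat.pos_of_ne_zero h0) (hother γ hγ)
      have h2 := h1.trans (hnle γ)
      have h3 : Nat.card S ^ 2 ≤ charDegree χh ^ 2 := Nat.pow_le_pow_left h2 2
      have h4 : Nat.card S < Nat.card S ^ 2 := by nlinarith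
      omega
    have h1 : (fun c : C => χh c) = (γ₀ : C → ℂ) := by
      funext c
      rw [hn2 c, Finset.sum_eq_single γ₀ (fun γ _ hγ => by rw [hz γ hγ]; simp) (fun h => absurd (Finset.mem_univ _) h), hn0']
      simp
    rw [h1]
    exact γ₀.2

end tideg

end Cfsg.Agent.H4
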