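import Cfsg.Agent.H4.TIp2
import Cfsg.Agent.H4.Gallagher
import Cfsg.Agent.H4.Glau12

set_option linter.all false
set_option autoImplicit false

/-! Degrees for fixed-point structure constant actions of `p`-groups. -/

namespace Cfsg.Agent.H4

open Module
open scoped ComplexConjugate Pointwise

universe u v w

/-- a representation whose character is irreducible is irreducible -/
theorem irreducible_of_char {H : Type u} [Group H] [Finite H] {n : ℕ} (ρ : Representation ℂ H (Fin n → ℂ)) (h : IsIrrCharacter H ρ.character) : ρ.IsIrreducible := by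
  obtain ⟨m, σ, hσ, hh⟩ := h
  obtain ⟨e⟩ := equiv_of_char_eq σ ρ hh
  refine irreducible_of_linearEquiv e.toLinearEquiv ?_ hσ
  intro g v
  exact e.isIntertwining _ _ g v

/-- if `χ` stays irreducible on a subgroup centralised by `s` then `[g,s]` lies in the kernel -/
theorem comm_ker_of_irr {Γ : Type u} [Group Γ] [Finite Γ] {C : Subgroup Γ} {χ : Γ → ℂ} (hχ : IsCharacter Γ χ) (hC : IsIrrCharacter C (fun c : C => χ c))
    {s : Γ} (hs : ∀ c ∈ C, c * s = s * c) (g : Γ) : χ (g * s * g⁻¹ * s⁻¹) = χ 1 := by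
  obtain ⟨n, ρ, rfl⟩ := hχ
  have h1 : (Representation.IsIrreducible (ρ.comp C.subtype : Representation ℂ C (Fin n → ℂ))) := irreducible_of_char (ρ.comp C.subtype : Representation ℂ C (Fin n → ℂ)) hC
  obtain ⟨c, hc⟩ := H5.schur_scalar _ h1 (ρ s) (by
    intro x v
    show ρ s (ρ x v) = ρ x (ρ s v)
    rw [← Module.End.mul_apply, ← Module.End.mul_apply, ← map_mul, ← map_mul, hs x x.2])
  have h2 : ∀ v, ρ (g * s * g⁻¹ * s⁻¹) v = v := by
    intro v
    have h3 : g * s * g⁻¹ * s⁻¹ = g * (s * (g⁻¹ * s⁻¹)) := by group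
    rw [h3, map_mul, map_mul, Module.End.mul_apply, Module.End.mul_apply, hc, map_smul, ← Module.End.mul_apply, ← map_mul, mul_inv_cancel_left, ← hc, ← Module.End.mul_apply, ← map_mul, mul_inv_cancel, map_one]
    rfl
  show LinearMap.trace ℂ _ (ρ _) = LinearMap.trace ℂ _ (ρ _)
  congr 1
  apply LinearMap.ext
  intro v
  rw [h2, map_one]
  rfl

section tideg
variable {Γ : Type u} [Group Γ] [Fintype Γ] {G S : Subgroup Γ}

theorem ti_degree {p : ℕ} (hp : p.Prime) (hSp : IsPGroup p S) (hS1 : S ≠ ⊥) (hnorm : ∀ s ∈ S, ∀ g ∈ G, s * g * s⁻¹ ∈ G) (hcop : (Nat.card G).Coprime (Nat.card S))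
    (htop : G ⊔ S = ⊤) (hfix : ∀ s ∈ S, s ≠ 1 → G ⊓ Subgroup.centralizer ({s} : Set Γ) = G ⊓ Subgroup.centralizer (S : Set Γ))
    {χ : Γ → ℂ} (hχ : IsIrrCharacter Γ χ) {g s : Γ} (hg : g ∈ G) (hs : s ∈ S) (hne : χ (g * s * g⁻¹ * s⁻¹) ≠ χ 1) : Nat.card S < charDegree χ ^ 2 := by
  classical
  haveI : Fintype G := Fintype.ofFinite _
  haveI hGn := glau_normal hnorm htop
  haveI : Fact p.Prime := ⟨hp⟩
  have hsolv : Group.IsSolvable S := by
    haveI := hSp.isNilpotent
    infer_instance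
  have hcardS : 2 ≤ Nat.card S := by
    have h0 : 0 < Nat.card S := Nat.card_pos
    by_contra hlt
    have : Nat.card S = 1 := by omega
    exact hS1 (Subgroup.card_eq_one.mp this)
  obtain ⟨θ, hθ⟩ := exists_under G hχ
  by_cases hinv : Inv S G (θ : G → ℂ)
  · obtain ⟨χh, h1, h2, h3, h4⟩ := canon_exists hnorm hcop htop (θ : G → ℂ) θ.2 hinv
    obtain ⟨β, hβ, hβG, hχβ⟩ := gallagher hGn (θ : G → ℂ) θ.2 χh h1 h2 χ hχ hθ
    set C := G ⊓ Subgroup.centralizer (S : Set Γ) with hC
    haveI : Fintype C := Fintype.ofFinite _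
    have hCS : ∀ c ∈ C, ∀ s ∈ S, c * s = s * c := fun c hc s hs => ((Subgroup.mem_centralizer_iff.mp hc.2) s hs).symm
    have h5 := slice_bound (C := C) hp hSp hS1 hCS (IsIrr.isCharacter h1) (by
      intro t ht ht1
      exact canon_value hnorm hcop htop θ.2 hinv h1 h2 h3 ht (hfix t ht ht1).symm)
    have hdeg : charDegree χ = charDegree β * charDegree χh := by
      have h6 := congrFun hχβ 1
      rw [Pi.mul_apply, charDeg_eq (IsIrr.isCharacter hχ), charDeg_eq (IsIrr.isCharacter hβ), charDeg_eq (IsIrr.isCharacter h1)] at h6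
      exact_mod_cast h6
    rcases h5 with h5 | h5
    · calc Nat.card S < charDegree χh ^ 2 := h5
        _ ≤ charDegree χ ^ 2 := by
          apply Nat.pow_le_pow_left
          rw [hdeg]
          exact Nat.le_mul_of_pos_left _ (IsIrr.degree_pos hβ)
    · exfalso
      apply hne
      have h6 := comm_ker_of_irr (IsIrr.isCharacter h1) h5 (s := s) (fun c hc => hCS c hc s hs) g
      have h7 : g * s * g⁻¹ * s⁻¹ ∈ G := by
        have : g * s * g⁻¹ * s⁻¹ = g * (s * g⁻¹ * s⁻¹) := by group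
        rw [this]
        exact G.mul_mem hg (hnorm s hs _ (G.inv_mem hg))
      rw [hχβ, Pi.mul_apply, Pi.mul_apply, h6, hβG ⟨_, h7⟩]
  · have hin : inertia hGn (θ : G → ℂ) ≤ G := by
      intro x hx
      obtain ⟨a, ha, t, ht, rfl⟩ := glau_decomp hnorm htop x
      by_cases ht1 : t = 1
      · rw [ht1, mul_one]; exact ha
      · exfalso
        apply hinv
        apply inv_of_one hnorm hcop hsolv ht (hfix t ht ht1) θ.2
        intro b b' hb
        have h1 := congrFun (show conjBy hGn (a * t) (θ : G → ℂ) = θ from hx) b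
        rw [← h1]
        have h2 := IsIrr.isClassFunction θ.2 b' ⟨a, ha⟩
        rw [← h2]
        apply congrArg (θ : G → ℂ)
        apply Subtype.ext
        show a * (b' : Γ) * a⁻¹ = a * t * b * (a * t)⁻¹
        rw [hb]; group
    have h1 := clifford_degree hGn χ hχ θ θ.2 hθ
    obtain ⟨m, hm⟩ := inner_nat (N := G) (IsIrr.isCharacter hχ) θ.2
    rw [hm, charDeg_eq (IsIrr.isCharacter hχ), charDeg_eq (IsIrr.isCharacter θ.2)] at h1
    have h2 : charDegree χ = m * (inertia hGn (θ : G → ℂ)).index * charDegree (θ : G → ℂ) := by exact_mod_cast h1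
    have hm0 : m ≠ 0 := by
      intro h0
      rw [hm, h0] at hθ
      exact hθ (by simp)
    have h3 : Nat.card S ≤ (inertia hGn (θ : G → ℂ)).index := by
      rw [← glau_index hnorm hcop htop]
      exact Nat.le_of_dvd (Nat.pos_of_ne_zero Subgroup.index_ne_zero_of_finite) (Subgroup.index_dvd_of_le hin)
    have h4 : Nat.card S ≤ charDegree χ := by
      rw [h2]
      calc Nat.card S ≤ (inertia hGn (θ : G → ℂ)).index := h3
        _ ≤ m * (inertia hGn (θ : G → ℂ)).index := Nat.le_mul_of_pos_left _ (Nat.pos_of_ne_zero hm0)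
        _ ≤ _ := Nat.le_mul_of_pos_right _ (IsIrr.degree_pos θ.2)
    nlinarith

end tideg

end Cfsg.Agent.H4
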