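import Cfsg.Agent.H4.TIp3
import Cfsg.Agent.L0.Core

set_option linter.all false
set_option autoImplicit false

/-! Degrees for fixed-point structure constant actions of `p`-groups: TI Sylow subgroups. -/

namespace Cfsg.Agent.H4

open Module Cfsg
open scoped ComplexConjugate Pointwise

universe u v w

/-- dual of Hall–Higman Lemma 1.2.3. -/
theorem psolv_centralizer_le' {G : Type u} [Group G] [Finite G] {p : ℕ} (hp : p.Prime) (hs : IsPSolvable p G) (hcore : pCore p G = ⊥) :
    Subgroup.centralizer ((pPrimeCore p G) : Set G) ≤ pPrimeCore p G := by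
  haveI : Fact p.Prime := ⟨hp⟩
  obtain ⟨n, H, h0, hn, hmono, hnorm, hstep⟩ := hs
  have hPn : (pPrimeCore p G).Normal := inferInstance
  have hCn : (Subgroup.centralizer ((pPrimeCore p G) : Set G)).Normal := inferInstance
  have hPcop : (Nat.card (pPrimeCore p G)).Coprime p := Cfsg.Agent.L0.pPrimeCore_coprime p G
  have key : ∀ i : Fin (n + 1), Subgroup.centralizer ((pPrimeCore p G) : Set G) ⊓ H i ≤ pPrimeCore p G := by
    intro i
    induction i using Fin.induction with
    | zero => rw [h0, inf_bot_eq]; exact bot_le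
    | succ i ih =>
      have hn1 := hnorm i.succ
      have hn0 := hnorm i.castSucc
      obtain ⟨K, hK⟩ : ∃ K, K = Subgroup.centralizer ((pPrimeCore p G) : Set G) ⊓ H i.succ := ⟨_, rfl⟩
      have hKn : K.Normal := by rw [hK]; exact inferInstance
      rw [← hK]
      have hle : H i.castSucc ≤ H i.succ := hmono (Fin.castSucc_le_succ i)
      obtain ⟨Z, hZ⟩ : ∃ Z, Z = Subgroup.centralizer ((pPrimeCore p G) : Set G) ⊓ H i.castSucc := ⟨_, rfl⟩
      rw [← hZ] at ih
      have hZK : Z ≤ K := by rw [hZ, hK]; exact inf_le_inf_left _ hle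
      have hZn : (Z.subgroupOf K).Normal := by
        have : Z.Normal := by rw [hZ]; exact inferInstance
        exact inferInstance
      have hZp : (Nat.card Z).Coprime p := hPcop.coprime_dvd_left (Subgroup.card_dvd_of_le ih)
      have hidx : Z.relIndex K ∣ (H i.castSucc).relIndex (H i.succ) := by
        have h1 : Z = H i.castSucc ⊓ K := by
          rw [hZ, hK]
          ext g
          constructor
          · rintro ⟨h1, h2⟩; exact ⟨h2, h1, hle h2⟩
          · rintro ⟨h1, h2, -⟩; exact ⟨h2, h1⟩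
        rw [h1, Subgroup.inf_relIndex_right]
        have h2 : K ⊔ H i.castSucc ≤ H i.succ := sup_le (by rw [hK]; exact inf_le_right) hle
        rw [← Subgroup.relIndex_mul_relIndex (H i.castSucc) (K ⊔ H i.castSucc) (H i.succ) le_sup_right h2,
          Subgroup.relIndex_sup_right]
        exact Dvd.intro _ rfl
      have hcardK : Nat.card Z * Z.relIndex K = Nat.card K := by
        have h1 := (Z.subgroupOf K).card_mul_index
        rwa [← Cfsg.Agent.L0.card_map_subtype K (Z.subgroupOf K), Subgroup.subgroupOf_map_subtype, inf_eq_left.mpr hZK] at h1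
      rcases hstep i with ⟨m, hm⟩ | hcop
      · -- p-step
        rw [hm] at hidx
        obtain ⟨j, -, hj⟩ := (Nat.dvd_prime_pow hp).mp hidx
        have hcardZ : Nat.card (Z.subgroupOf K) = Nat.card Z := by
          rw [← Cfsg.Agent.L0.card_map_subtype K (Z.subgroupOf K), Subgroup.subgroupOf_map_subtype, inf_eq_left.mpr hZK]
        have hcopr : Nat.Coprime (Nat.card (Z.subgroupOf K)) (Z.subgroupOf K).index := by
          rw [hcardZ]
          show (Nat.card Z).Coprime (Z.relIndex K)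
          rw [hj]
          exact Nat.Coprime.pow_right j hZp
        obtain ⟨L, hL⟩ := Subgroup.exists_right_complement'_of_coprime hcopr
        have hZc : ∀ z ∈ Z, ∀ k ∈ K, z * k = k * z := by
          intro z hz k hk
          rw [hK] at hk
          exact Subgroup.mem_centralizer_iff.mp hk.1 z (ih hz)
        have hLn : L.Normal := by
          constructor
          intro l hl k
          have h1 : k ∈ (Z.subgroupOf K) ⊔ L := by rw [hL.sup_eq_top]; exact Subgroup.mem_top k
          rw [Subgroup.mem_sup_of_normal_left] at h1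
          obtain ⟨z, hz, l', hl', rfl⟩ := h1
          have h2 : ∀ k' : K, z * k' = k' * z := fun k' => Subtype.ext (hZc z (Subgroup.mem_subgroupOf.mp hz) k' k'.2)
          have h3 : z * l' * l * (z * l')⁻¹ = l' * l * l'⁻¹ := by
            calc z * l' * l * (z * l')⁻¹ = (z * (l' * l)) * (l'⁻¹ * z⁻¹) := by rw [mul_inv_rev, mul_assoc z l' l]
              _ = l' * l * (z * l'⁻¹) * z⁻¹ := by rw [h2 (l' * l)]; group
              _ = l' * l * l'⁻¹ := by rw [h2 l'⁻¹]; group
          rw [h3]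
          exact L.mul_mem (L.mul_mem hl' hl) (L.inv_mem hl')
        have hLp : IsPGroup p L := by
          apply IsPGroup.of_card (n := j)
          have h1 := hL.card_mul_card
          have h2 := (Z.subgroupOf K).card_mul_index
          rw [← h1] at h2
          have h3 := Nat.eq_of_mul_eq_mul_left Nat.card_pos h2
          rw [← h3]
          exact hj
        have hLbot : L = ⊥ := by
          have h1 : L ≤ pCore p K := Cfsg.Agent.L0.le_pCore hLp
          have h2 := Cfsg.Agent.L0.pCore_subgroup_le p K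
          rw [hcore, le_bot_iff, Subgroup.map_eq_bot_iff_of_injective _ (Subgroup.subtype_injective K)] at h2
          rw [h2] at h1
          exact le_bot_iff.mp h1
        have h1 := hL.sup_eq_top
        rw [hLbot, sup_bot_eq, Subgroup.subgroupOf_eq_top] at h1
        exact h1.trans ih
      · apply Cfsg.Agent.L0.le_pPrimeCore
        rw [← hcardK]
        exact Nat.Coprime.mul_left hZp (hcop.coprime_dvd_left hidx)
  have h1 := key (Fin.last n)
  rw [hn, inf_top_eq] at h1
  exact h1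

section tideg
variable {Γ : Type u} [Group Γ] [Fintype Γ] {G S : Subgroup Γ}

theorem ti_degree_char {p : ℕ} (hp : p.Prime) (hSp : IsPGroup p S) (hS1 : S ≠ ⊥) (hnorm : ∀ s ∈ S, ∀ g ∈ G, s * g * s⁻¹ ∈ G) (hcop : (Nat.card G).Coprime (Nat.card S))
    (htop : G ⊔ S = ⊤) (hfix : ∀ s ∈ S, s ≠ 1 → G ⊓ Subgroup.centralizer ({s} : Set Γ) = G ⊓ Subgroup.centralizer (S : Set Γ))
    {χ : Γ → ℂ} (hχ : IsCharacter Γ χ) {g s : Γ} (hg : g ∈ G) (hs : s ∈ S) (hne : χ (g * s * g⁻¹ * s⁻¹) ≠ χ 1) : Nat.card S < charDegree χ ^ 2 := by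
  classical
  obtain ⟨m, hm1, hm2⟩ := IsChar.exists_mult hχ
  obtain ⟨ψ, hψ⟩ : ∃ ψ : IrrCharacter Γ, (m ψ : ℂ) * (ψ : Γ → ℂ) (g * s * g⁻¹ * s⁻¹) ≠ (m ψ : ℂ) * (ψ : Γ → ℂ) 1 := by
    by_contra hcon
    push Not at hcon
    apply hne
    rw [hm2, hm2]
    exact Finset.sum_congr rfl (fun ψ _ => hcon ψ)
  have hmψ : m ψ ≠ 0 := by
    intro h0
    apply hψ
    rw [h0]; simp
  have hne' : (ψ : Γ → ℂ) (g * s * g⁻¹ * s⁻¹) ≠ (ψ : Γ → ℂ) 1 := fun h => hψ (by rw [h])
  have h1 := ti_degree hp hSp hS1 hnorm hcop htop hfix ψ.2 hg hs hne'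
  have h2 : charDegree (ψ : Γ → ℂ) ≤ charDegree χ := by
    have h3 := hm2 1
    rw [charDeg_eq hχ] at h3
    have h4 : charDegree χ = ∑ ψ : IrrCharacter Γ, m ψ * charDegree (ψ : Γ → ℂ) := by
      have : (charDegree χ : ℂ) = ((∑ ψ : IrrCharacter Γ, m ψ * charDegree (ψ : Γ → ℂ) : ℕ) : ℂ) := by
        rw [h3]; push_cast
        apply Finset.sum_congr rfl
        intro ψ _
        rw [charDeg_eq (IsIrr.isCharacter ψ.2)]
      exact_mod_cast this
    rw [h4]
    calc charDegree (ψ : Γ → ℂ) ≤ m ψ * charDegree (ψ : Γ → ℂ) := Nat.le_mul_of_pos_left _ (Nat.pos_of_ne_zero hmψ)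
      _ ≤ _ := Finset.single_le_sum (f := fun ψ : IrrCharacter Γ => m ψ * charDegree (ψ : Γ → ℂ)) (fun _ _ => Nat.zero_le _) (Finset.mem_univ _)
  exact lt_of_lt_of_le h1 (Nat.pow_le_pow_left h2 2)

theorem ti_degree_sub {p : ℕ} (hp : p.Prime) (hSp : IsPGroup p S) (hS1 : S ≠ ⊥) (hnorm : ∀ s ∈ S, ∀ g ∈ G, s * g * s⁻¹ ∈ G) (hcop : (Nat.card G).Coprime (Nat.card S))
    (hfix : ∀ s ∈ S, s ≠ 1 → G ⊓ Subgroup.centralizer ({s} : Set Γ) = G ⊓ Subgroup.centralizer (S : Set Γ))
    {χ : Γ → ℂ} (hχ : IsCharacter Γ χ) {g s : Γ} (hg : g ∈ G) (hs : s ∈ S) (hne : χ (g * s * g⁻¹ * s⁻¹) ≠ χ 1) : Nat.card S < charDegree χ ^ 2 := by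
  classical
  set L := G ⊔ S with hL
  haveI : Fintype L := Fintype.ofFinite _
  have hGL : G ≤ L := le_sup_left
  have hSL : S ≤ L := le_sup_right
  have hcS : Nat.card (S.subgroupOf L) = Nat.card S := by
    rw [← Cfsg.Agent.L0.card_map_subtype L (S.subgroupOf L), Subgroup.subgroupOf_map_subtype, inf_eq_left.mpr hSL]
  have hcG : Nat.card (G.subgroupOf L) = Nat.card G := by
    rw [← Cfsg.Agent.L0.card_map_subtype L (G.subgroupOf L), Subgroup.subgroupOf_map_subtype, inf_eq_left.mpr hGL]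
  have h1 := ti_degree_char (Γ := L) (G := G.subgroupOf L) (S := S.subgroupOf L) hp
    (by
      rintro ⟨⟨x, hxL⟩, hx⟩
      obtain ⟨k, hk⟩ := hSp ⟨x, Subgroup.mem_subgroupOf.mp hx⟩
      refine ⟨k, ?_⟩
      apply Subtype.ext
      apply Subtype.ext
      have := congrArg Subtype.val hk
      exact this)
    (by
      intro h
      apply hS1
      rw [← Subgroup.card_eq_one, ← hcS, h, Subgroup.card_bot])
    (by
      intro a ha b hb
      exact Subgroup.mem_subgroupOf.mpr (hnorm a (Subgroup.mem_subgroupOf.mp ha) b (Subgroup.mem_subgroupOf.mp hb)))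
    (by rw [hcS, hcG]; exact hcop)
    (by
      rw [← Subgroup.subgroupOf_sup hGL hSL, ← hL, Subgroup.subgroupOf_self])
    (by
      intro t ht ht1
      have h2 := hfix t (Subgroup.mem_subgroupOf.mp ht) (fun h => ht1 (Subtype.ext h))
      ext x
      have h3 : (x : Γ) ∈ G ⊓ Subgroup.centralizer ({(t : Γ)} : Set Γ) ↔ (x : Γ) ∈ G ⊓ Subgroup.centralizer (S : Set Γ) := by rw [h2]
      rw [Subgroup.mem_inf, Subgroup.mem_inf, Subgroup.mem_centralizer_singleton_iff, Subgroup.mem_centralizer_iff] at h3 ⊢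
      rw [Subgroup.mem_subgroupOf]
      constructor
      · rintro ⟨hx, hxt⟩
        obtain ⟨h4, h5⟩ := h3.mp ⟨hx, congrArg Subtype.val hxt⟩
        exact ⟨h4, fun y hy => Subtype.ext (h5 y (Subgroup.mem_subgroupOf.mp hy))⟩
      · rintro ⟨hx, hxt⟩
        obtain ⟨h4, h5⟩ := h3.mpr ⟨hx, fun y hy => congrArg Subtype.val (hxt ⟨y, hSL hy⟩ (Subgroup.mem_subgroupOf.mpr hy))⟩
        exact ⟨h4, Subtype.ext h5⟩)
    (χ := fun x : L => χ x) (IsChar.restrict L hχ) (g := ⟨g, hGL hg⟩) (s := ⟨s, hSL hs⟩) (Subgroup.mem_subgroupOf.mpr hg) (Subgroup.mem_subgroupOf.mpr hs) hne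
  rw [hcS] at h1
  exact h1

end tideg

theorem ti_sylow_normal {G : Type u} [Group G] [Finite G] (p : ℕ) [Fact p.Prime] (hsolv : IsPSolvable p G) (P : Sylow p G)
    (hTI : ∀ g : G, g ∉ Subgroup.normalizer ((P : Subgroup G) : Set G) → (P : Subgroup G) ⊓ (MulAut.conj g • (P : Subgroup G)) = ⊥)
    (χ : G → ℂ) (hχ : IsCharacter G χ) (hfaith : ∀ g : G, χ g = χ 1 → g = 1) (hdeg : charDegree χ ^ 2 ≤ Nat.card ↥(P : Subgroup G)) : (P : Subgroup G).Normal := by
  classical
  haveI : Fintype G := Fintype.ofFinite _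
  have hp : p.Prime := Fact.out
  by_contra hnn
  have hPbot : (P : Subgroup G) ≠ ⊥ := by
    intro h
    apply hnn
    rw [h]; infer_instance
  obtain ⟨g₁, hg₁⟩ : ∃ g : G, g ∉ Subgroup.normalizer ((P : Subgroup G) : Set G) := by
    by_contra hcon
    push Not at hcon
    apply hnn
    rw [← Subgroup.normalizer_eq_top_iff, eq_top_iff]
    exact fun x _ => hcon x
  have hcore : pCore p G = ⊥ := by
    rw [← le_bot_iff, ← hTI g₁ hg₁]
    have h1 : pCore p G ≤ (P : Subgroup G) := Cfsg.Agent.L0.pCore_le_sylow P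
    refine le_inf h1 ?_
    intro x hx
    rw [Subgroup.mem_pointwise_smul_iff_inv_smul_mem]
    apply h1
    have h2 : (MulAut.conj g₁)⁻¹ • x = g₁⁻¹ * x * g₁⁻¹⁻¹ := by
      rw [← map_inv]; rfl
    rw [h2]
    exact Subgroup.Normal.conj_mem inferInstance x hx _
  set K := pPrimeCore p G with hK
  have hKn : K.Normal := by rw [hK]; infer_instance
  have hCK := psolv_centralizer_le' hp hsolv hcore
  have hPp : IsPGroup p (P : Subgroup G) := P.isPGroup'
  have hKcop : (Nat.card K).Coprime p := Cfsg.Agent.L0.pPrimeCore_coprime p G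
  obtain ⟨n, hn⟩ := IsPGroup.iff_card.mp hPp
  have hcop : (Nat.card K).Coprime (Nat.card (P : Subgroup G)) := by
    rw [hn]; exact Nat.Coprime.pow_right n hKcop
  have hinf : K ⊓ (P : Subgroup G) = ⊥ := L0.inf_eq_bot_of_coprime' hcop
  -- fixed points
  have hfix : ∀ s ∈ (P : Subgroup G), s ≠ 1 → K ⊓ Subgroup.centralizer ({s} : Set G) = K ⊓ Subgroup.centralizer (((P : Subgroup G)) : Set G) := by
    intro s hs hs1
    apply le_antisymm
    · rintro k ⟨hk1, hk2⟩
 
      rw [Subgroup.mem_inf]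
      refine ⟨hk1, ?_⟩
      have hk2' : k * s = s * k := Subgroup.mem_centralizer_singleton_iff.mp hk2
      have hkN : k ∈ Subgroup.normalizer ((P : Subgroup G) : Set G) := by
        by_contra hcon
        have h1 := hTI k hcon
        have h2 : s ∈ (P : Subgroup G) ⊓ (MulAut.conj k • (P : Subgroup G)) := by
          rw [Subgroup.mem_inf]
          refine ⟨hs, ?_⟩
          rw [Subgroup.mem_pointwise_smul_iff_inv_smul_mem]
          have h2 : (MulAut.conj k)⁻¹ • s = k⁻¹ * s * k⁻¹⁻¹ := by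
            rw [← map_inv]; rfl
          rw [h2, inv_inv, mul_assoc, ← hk2', inv_mul_cancel_left]
          exact hs
        rw [h1] at h2
        exact hs1 (Subgroup.mem_bot.mp h2)
      rw [Subgroup.mem_centralizer_iff]
      intro x hx
      have h1 : k * x * k⁻¹ * x⁻¹ ∈ K ⊓ (P : Subgroup G) := by
        refine ⟨?_, ?_⟩
        · have : k * x * k⁻¹ * x⁻¹ = k * (x * k⁻¹ * x⁻¹) := by group
          rw [this]
          exact K.mul_mem hk1 (hKn.conj_mem _ (K.inv_mem hk1) _)
        · exact (P : Subgroup G).mul_mem (norm_mem hkN hx) ((P : Subgroup G).inv_mem hx)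
      rw [hinf, Subgroup.mem_bot] at h1
      have h2 : k * x = x * k := by
        calc k * x = (k * x * k⁻¹ * x⁻¹) * (x * k) := by group
          _ = x * k := by rw [h1, one_mul]
      exact h2.symm
    · exact inf_le_inf_left _ (Subgroup.centralizer_le (by
        intro x hx
        rw [Set.mem_singleton_iff] at hx
        rw [hx]; exact hs))
  -- P does not centralise K
  obtain ⟨s, hs, hsK⟩ : ∃ s ∈ (P : Subgroup G), s ∉ Subgroup.centralizer ((K : Subgroup G) : Set G) := by
    by_contra hcon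
    push Not at hcon
    apply hPbot
    rw [← le_bot_iff, ← hinf]
    exact le_inf (fun x hx => hCK (hcon x hx)) le_rfl
  rw [Subgroup.mem_centralizer_iff] at hsK
  push Not at hsK
  obtain ⟨g, hg, hgs⟩ := hsK
  have hne : χ (g * s * g⁻¹ * s⁻¹) ≠ χ 1 := by
    intro h
    have h1 := hfaith _ h
    apply hgs
    calc g * s = (g * s * g⁻¹ * s⁻¹) * (s * g) := by group
      _ = s * g := by rw [h1, one_mul]
  have := ti_degree_sub (G := K) (S := (P : Subgroup G)) hp hPp hPbot (fun a _ b hb => hKn.conj_mem b hb a) hcop hfix hχ hg hs hne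
  omega

end Cfsg.Agent.H4
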